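import Groth.Agent.GModLib.Cocompact

/-!
# Borel subgroups: existence, conjugacy, properness of the quotient
-/

set_option autoImplicit false
set_option backward.isDefEq.respectTransparency false
set_option backward.isDefEq.respectTransparency.types false

universe u

open CategoryTheory Limits AlgebraicGeometry MonoidalCategory CartesianMonoidalCategory MonObj GrpObj

namespace Groth.Agent.GModLib

open GrpSchLib GrpSchLib.Kunneth GrpFieldLib

variable {k : Type u} [Field k] {G : Over (Spec (CommRingCat.of k))} [GrpObj G]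

/-- The inner automorphism of a rational point. -/
noncomputable def inner (g : 𝟙_ (Over (Spec (CommRingCat.of k))) ⟶ G) : G ⟶ G :=
  AGF.conjBy g (𝟙 G)

theorem comp_inner {T : Over (Spec (CommRingCat.of k))} (g : 𝟙_ (Over (Spec (CommRingCat.of k))) ⟶ G) (f : T ⟶ G) :
    f ≫ inner g = (toUnit T ≫ g) * f * (toUnit T ≫ g)⁻¹ := by
  simp only [inner, AGF.conjBy, MonObj.comp_mul, GrpObj.comp_inv, Category.comp_id, ← Category.assoc]
  rw [toUnit_unique (f ≫ toUnit G) (toUnit T)]

theorem conjBy_eq {H : Over (Spec (CommRingCat.of k))} (g : 𝟙_ (Over (Spec (CommRingCat.of k))) ⟶ G) (i : H ⟶ G) :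
    AGF.conjBy g i = i ≫ inner g := (comp_inner g i).symm

theorem inner_inner (g h : 𝟙_ (Over (Spec (CommRingCat.of k))) ⟶ G) : inner g ≫ inner h = inner (h * g) := by
  rw [comp_inner, inner, inner, AGF.conjBy, AGF.conjBy, MonObj.comp_mul, _root_.mul_inv_rev]
  simp only [_root_.mul_assoc]

theorem inner_one : inner (1 : 𝟙_ (Over (Spec (CommRingCat.of k))) ⟶ G) = 𝟙 G := by
  rw [inner, AGF.conjBy, MonObj.comp_one, _root_.one_mul, _root_.inv_one, _root_.mul_one]

instance isMonHom_inner (g : 𝟙_ (Over (Spec (CommRingCat.of k))) ⟶ G) : IsMonHom (inner g) where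
  one_hom := by
    rw [comp_inner, MonObj.one_eq_one, _root_.mul_one, mul_inv_cancel]
  mul_hom := by
    rw [comp_inner, show μ[G] = fst G G * snd G G by rw [Hom.mul_def, lift_fst_snd, Category.id_comp], MonObj.comp_mul,
      tensorHom_fst, tensorHom_snd, comp_inner, comp_inner]
    group

instance isIso_inner (g : 𝟙_ (Over (Spec (CommRingCat.of k))) ⟶ G) : IsIso (inner g) :=
  ⟨inner g⁻¹, by rw [inner_inner, inv_mul_cancel, inner_one], by rw [inner_inner, mul_inv_cancel, inner_one]⟩

instance isIso_inner_left (g : 𝟙_ (Over (Spec (CommRingCat.of k))) ⟶ G) : IsIso (inner g).left :=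
  inferInstanceAs (IsIso ((Over.forget _).map (inner g)))

/-- An endomorphism of a reduced scheme of finite type which is a closed immersion is an isomorphism. -/
theorem isIso_of_isClosedImmersion_endo {H : Over (Spec (CommRingCat.of k))} [IsReduced H.left]
    [LocallyOfFiniteType H.hom] [QuasiCompact H.hom] (e : H ⟶ H) [IsClosedImmersion e.left] : IsIso e := by
  haveI : IsLocallyNoetherian H.left := LocallyOfFiniteType.isLocallyNoetherian H.hom
  haveI : CompactSpace H.left := (quasiCompact_iff_compactSpace H.hom).mp inferInstance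
  haveI : IsNoetherian H.left := {}
  have hcl : ∀ n : ℕ, IsClosed (Set.range (e.left : H.left → H.left)^[n]) := by
    intro n
    induction n with
    | zero => simp
    | succ n ih =>
      rw [Function.iterate_succ', Set.range_comp]
      exact e.left.isClosedEmbedding.isClosedMap _ ih
  let C : ℕ → TopologicalSpace.Closeds H.left := fun n => ⟨_, hcl n⟩
  obtain ⟨_, ⟨n, rfl⟩, hmin⟩ := wellFounded_lt.has_min (Set.range C) (Set.range_nonempty C)
  have hle : C (n + 1) ≤ C n := by
    show Set.range (e.left : H.left → H.left)^[n + 1] ⊆ Set.range (e.left : H.left → H.left)^[n]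
    rw [Function.iterate_succ]
    exact Set.range_comp_subset_range _ _
  have heq : C (n + 1) = C n := hle.eq_of_not_lt (hmin _ ⟨n + 1, rfl⟩)
  haveI : Surjective e.left := ⟨fun p => by
    obtain ⟨v, hv⟩ : (e.left : H.left → H.left)^[n] p ∈ (C (n + 1) : Set H.left) := by
      rw [heq]; exact ⟨p, rfl⟩
    rw [Function.iterate_succ_apply] at hv
    exact ⟨v, e.left.isClosedEmbedding.injective.iterate n hv⟩⟩
  haveI : IsIso e.left := isIso_of_isClosedImmersion_of_surjective e.left
  haveI : IsIso ((Over.forget _).map e) := ‹IsIso e.left›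
  exact isIso_of_reflects_iso e (Over.forget _)

variable [IsAlgClosed k]

/-- A connected solvable subgroup lies in a conjugate of every subgroup with proper quotient. -/
theorem exists_conj_factor {H B : Over (Spec (CommRingCat.of k))} [GrpObj H] [GrpObj B] (iH : H ⟶ G)
    (hH : Cocompact iH) [IsAffine G.left] [LocallyOfFiniteType G.hom] (iB : B ⟶ G) [IsMonHom iB] [IsClosedImmersion iB.left] [Smooth B.hom]
    [ConnectedSpace B.left] (hB : Red.IsSolvableGrp B) :
    ∃ (g : 𝟙_ (Over (Spec (CommRingCat.of k))) ⟶ G) (h : B ⟶ H), iB = h ≫ iH ≫ inner g := by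
  obtain ⟨X, a, o, hX, hXp⟩ := hH
  haveI := hXp; haveI := hX.1; haveI := hX.2.2.1
  haveI : IsAffine B.left := isAffine_of_isAffineHom iB.left
  haveI : Nonempty X.left := ⟨o.left (IsLocalRing.closedPoint k)⟩
  haveI : Group.IsSolvable (𝟙_ (Over (Spec (CommRingCat.of k))) ⟶ B) := by
    obtain ⟨n, hn⟩ := hB
    exact ⟨⟨n, hn _⟩⟩
  let aB : AlgGrp.Action B X :=
    { act := (iB ▷ X) ≫ a.act
      one_act := by rw [← comp_whiskerRight_assoc, IsMonHom.one_hom iB, a.one_act]
      mul_act := by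
        have h1 : (μ[B] ▷ X) ≫ (iB ▷ X) =
            lift (((fst (B ⊗ B) X ≫ fst B B) ≫ iB) * ((fst (B ⊗ B) X ≫ snd B B) ≫ iB)) (snd (B ⊗ B) X) := by
          rw [← MonObj.mul_comp, ← MonObj.comp_mul,
            show fst B B * snd B B = μ[B] by rw [Hom.mul_def, lift_fst_snd, Category.id_comp]]
          apply CartesianMonoidalCategory.hom_ext <;> simp
        have h2 : (α_ B B X).hom ≫ (B ◁ ((iB ▷ X) ≫ a.act)) ≫ (iB ▷ X) = lift ((fst (B ⊗ B) X ≫ fst B B) ≫ iB)
            (lift ((fst (B ⊗ B) X ≫ snd B B) ≫ iB) (snd (B ⊗ B) X) ≫ a.act) := by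
          apply CartesianMonoidalCategory.hom_ext
          · simp
          · simp only [Category.assoc, whiskerRight_snd, whiskerLeft_snd, lift_snd]
            rw [← Category.assoc (snd B (B ⊗ X)), ← Category.assoc, ← Category.assoc]
            congr 1
            apply CartesianMonoidalCategory.hom_ext <;> simp
        rw [← Category.assoc, h1, ← act_mul, ← h2]
        simp only [Category.assoc] }
  obtain ⟨x, hx⟩ := S3276.result k B X aB
  let π := a.orbitMap o
  haveI : LocallyOfFiniteType (π.left ≫ X.hom) := by rw [Over.w π]; infer_instance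
  haveI : LocallyOfFiniteType π.left := locallyOfFiniteType_of_comp π.left X.hom
  haveI : Surjective π.left := hX.2.2.1
  obtain ⟨g₀, hg₀⟩ := exists_point_lift (K := k) π (toUnit (VecGrp.pt k k) ≫ x)
  let g : 𝟙_ (Over (Spec (CommRingCat.of k))) ⟶ G := toPt _ ≫ g₀
  have hg : g ≫ π = x := by
    rw [Category.assoc, hg₀, ← Category.assoc, toUnit_unique (toPt _ ≫ toUnit _) (𝟙 _), Category.id_comp]
  have hfix : lift iB (toUnit B ≫ x) ≫ a.act = toUnit B ≫ x := by
    have h := hx B (𝟙 B)
    rw [show aB.act = (iB ▷ X) ≫ a.act from rfl, ← Category.assoc, lift_whiskerRight, Category.id_comp] at h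
    exact h
  obtain ⟨h, hh⟩ := (QuotTower.orbit_eq_iff iH X a o hX (toUnit B ≫ g) (iB * (toUnit B ≫ g))).mp (by
    rw [Category.assoc, hg, comp_orbitMap, ← act_mul, ← comp_orbitMap, Category.assoc, hg, hfix])
  refine ⟨g, h, ?_⟩
  rw [← Category.assoc, comp_inner, hh, mul_inv_cancel_right]

theorem isIso_of_comp_inner {H : Over (Spec (CommRingCat.of k))} [Smooth H.hom] [QuasiCompact H.hom] (iH : H ⟶ G)
    [IsClosedImmersion iH.left] (g : 𝟙_ (Over (Spec (CommRingCat.of k))) ⟶ G) (e : H ⟶ H) (he : e ≫ iH ≫ inner g = iH) :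
    IsIso e := by
  haveI : IsClosedImmersion (e.left ≫ (iH ≫ inner g).left) := by
    rw [← Over.comp_left, he]; infer_instance
  haveI : IsSeparated (iH ≫ inner g).left := by rw [Over.comp_left]; infer_instance
  haveI : IsClosedImmersion e.left := IsClosedImmersion.of_comp e.left (iH ≫ inner g).left
  haveI : IsReduced H.left := GrpSchLib.isReduced_of_smooth_field H.hom
  exact isIso_of_isClosedImmersion_endo e

variable [IsAffine G.left] [Smooth G.hom] [ConnectedSpace G.left]

omit [ConnectedSpace G.left] in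
/-- A connected solvable subgroup with proper quotient is a Borel subgroup. -/
theorem isBorelOver_of_cocompact {H : Over (Spec (CommRingCat.of k))} [GrpObj H] (iH : H ⟶ G) [IsMonHom iH]
    [IsClosedImmersion iH.left] [Smooth H.hom] [ConnectedSpace H.left] (hH : Red.IsSolvableGrp H)
    (hco : Cocompact iH) : Red.IsBorelOver k iH := by
  refine ⟨inferInstance, inferInstance, inferInstance, inferInstance, hH, fun B' _ i' _ f hcl hsm hconn hsol hf => ?_⟩
  haveI := hcl; haveI := hsm; haveI := hconn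
  haveI : QuasiCompact G.hom := inferInstance
  haveI : QuasiCompact H.hom := by rw [← Over.w iH]; infer_instance
  obtain ⟨g, h, hh⟩ := exists_conj_factor iH hco i' hsol
  haveI := isIso_of_comp_inner iH g (f ≫ h) (by rw [Category.assoc, ← hh, hf])
  haveI : Mono i' := Over.mono_of_mono_left i'
  haveI : Mono (h ≫ iH ≫ inner g) := hh ▸ (inferInstance : Mono i')
  haveI : Mono h := mono_of_mono h (iH ≫ inner g)
  haveI : IsSplitEpi h := IsSplitEpi.mk' ⟨inv (f ≫ h) ≫ f, by rw [Category.assoc, IsIso.inv_hom_id]⟩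
  haveI : IsIso h := isIso_of_mono_of_isSplitEpi h
  exact IsIso.of_isIso_comp_right f h

/-- Borel subgroups exist, with proper quotient. -/
theorem exists_borel : ∃ (H : Over (Spec (CommRingCat.of k))) (_ : GrpObj H) (i : H ⟶ G),
    Red.IsBorelOver k i ∧ Cocompact i := by
  obtain ⟨H, _, i, _, hi, hs, hc, hsol, hco⟩ := exists_solvable_cocompact G
  haveI := hi; haveI := hs; haveI := hc
  exact ⟨H, inferInstance, i, isBorelOver_of_cocompact i hsol hco, hco⟩

/-- A Borel subgroup is conjugate to any solvable subgroup with proper quotient. -/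
theorem exists_conj_iso {H B : Over (Spec (CommRingCat.of k))} [GrpObj H] [GrpObj B] (iH : H ⟶ G) [IsMonHom iH]
    [IsClosedImmersion iH.left] [Smooth H.hom] [ConnectedSpace H.left] (hH : Red.IsSolvableGrp H)
    (hco : Cocompact iH) (iB : B ⟶ G) (hB : Red.IsBorelOver k iB) :
    ∃ (g : 𝟙_ (Over (Spec (CommRingCat.of k))) ⟶ G) (e : B ≅ H), e.hom ≫ iH ≫ inner g = iB := by
  obtain ⟨hmon, hcl, hsm, hconn, hsol, hmax⟩ := hB
  haveI := hmon; haveI := hcl; haveI := hsm; haveI := hconn
  obtain ⟨g, h, hh⟩ := exists_conj_factor iH hco iB hsol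
  haveI : IsClosedImmersion (iH ≫ inner g).left := by rw [Over.comp_left]; infer_instance
  haveI := hmax H (iH ≫ inner g) h inferInstance inferInstance inferInstance hH hh.symm
  exact ⟨g, asIso h, hh.symm⟩

/-- Borel subgroups are conjugate. -/
theorem borel_conj {B B' : Over (Spec (CommRingCat.of k))} [GrpObj B] [GrpObj B'] (iB : B ⟶ G) (iB' : B' ⟶ G)
    (hB : Red.IsBorelOver k iB) (hB' : Red.IsBorelOver k iB') :
    ∃ (g : 𝟙_ (Over (Spec (CommRingCat.of k))) ⟶ G) (e : B ≅ B'), e.hom ≫ iB' = iB ≫ inner g := by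
  obtain ⟨H, _, i, hi, hco⟩ := exists_borel (G := G)
  obtain ⟨hmon, hcl, hsm, hconn, hsol, -⟩ := hi
  haveI := hmon; haveI := hcl; haveI := hsm; haveI := hconn
  obtain ⟨g₁, e₁, h₁⟩ := exists_conj_iso i hsol hco iB hB
  obtain ⟨g₂, e₂, h₂⟩ := exists_conj_iso i hsol hco iB' hB'
  refine ⟨g₂ * g₁⁻¹, e₁ ≪≫ e₂.symm, ?_⟩
  rw [← h₂, ← h₁]
  simp only [Iso.trans_hom, Iso.symm_hom, Category.assoc, Iso.inv_hom_id_assoc, inner_inner, inv_mul_cancel_right]

/-- The quotient by a Borel subgroup is proper. -/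
theorem borel_cocompact {B : Over (Spec (CommRingCat.of k))} [GrpObj B] (iB : B ⟶ G) (hB : Red.IsBorelOver k iB) :
    Cocompact iB := by
  obtain ⟨H, _, i, hi, hco⟩ := exists_borel (G := G)
  obtain ⟨hmon, hcl, hsm, hconn, hsol, -⟩ := hi
  haveI := hmon; haveI := hcl; haveI := hsm; haveI := hconn
  obtain ⟨g, e, he⟩ := exists_conj_iso i hsol hco iB hB
  haveI := hB.1
  haveI : IsClosedImmersion iB.left := hB.2.1
  haveI : Mono iB := Over.mono_of_mono_left iB
  obtain ⟨Y, b, y, hY, hYp⟩ := hco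
  haveI := hY.1; haveI := hY.2.1; haveI := hY.2.2.1
  let y' := g ≫ b.orbitMap y
  let R : G ⟶ G := 𝟙 G * (toUnit G ≫ g)
  let R' : G ⟶ G := 𝟙 G * (toUnit G ≫ g⁻¹)
  have hR : ∀ {T : Over (Spec (CommRingCat.of k))} (t : T ⟶ G), t ≫ R = t * (toUnit T ≫ g) := fun {T} t => by
    rw [MonObj.comp_mul, Category.comp_id, ← Category.assoc, toUnit_unique (t ≫ toUnit G) (toUnit T)]
  have hR' : ∀ {T : Over (Spec (CommRingCat.of k))} (t : T ⟶ G), t ≫ R' = t * (toUnit T ≫ g⁻¹) := fun {T} t => by
    rw [MonObj.comp_mul, Category.comp_id, ← Category.assoc, toUnit_unique (t ≫ toUnit G) (toUnit T)]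
  haveI : IsIso R := ⟨R', (hR' R).trans (by rw [GrpObj.comp_inv]; exact mul_inv_cancel_right _ _),
    (hR R').trans (by
      show 𝟙 G * (toUnit G ≫ g⁻¹) * (toUnit G ≫ g) = 𝟙 G
      rw [GrpObj.comp_inv, inv_mul_cancel_right])⟩
  haveI : IsIso R.left := inferInstanceAs (IsIso ((Over.forget _).map R))
  have hπ : b.orbitMap y' = R ≫ b.orbitMap y := by
    rw [comp_orbitMap, ← act_mul, ← comp_orbitMap, Category.assoc]
    rfl
  refine ⟨Y, b, y', ⟨hY.1, ?_, ?_, ?_⟩, hYp⟩
  · rw [hπ, Over.comp_left]; infer_instance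
  · rw [hπ, Over.comp_left]; infer_instance
  · have key : ∀ {T : Over (Spec (CommRingCat.of k))} (t t' : T ⟶ G),
        t ≫ b.orbitMap y' = t' ≫ b.orbitMap y' ↔ ∃ j : T ⟶ B, t * (j ≫ iB) = t' := fun {T} t t' => by
      rw [hπ, ← Category.assoc, ← Category.assoc, hR, hR, QuotTower.orbit_eq_iff i Y b y hY]
      constructor
      · rintro ⟨j, hj⟩
        refine ⟨j ≫ e.inv, ?_⟩
        rw [← he, Category.assoc, Iso.inv_hom_id_assoc, ← Category.assoc, comp_inner, ← _root_.mul_assoc,
          ← _root_.mul_assoc, hj, mul_inv_cancel_right]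
      · rintro ⟨j, hj⟩
        refine ⟨j ≫ e.hom, ?_⟩
        rw [← hj, ← he, ← Category.assoc j, ← Category.assoc (j ≫ e.hom), comp_inner, ← _root_.mul_assoc,
          ← _root_.mul_assoc, inv_mul_cancel_right]
    have hw : ∀ {T : Over (Spec (CommRingCat.of k))} (m : T ⟶ G ⊗ B), m ≫ (G ◁ iB) ≫ μ[G] =
        (m ≫ fst G B) * ((m ≫ snd G B) ≫ iB) := fun {T} m => by
      rw [Hom.mul_def, ← lift_whiskerLeft_assoc, ← comp_lift_assoc, lift_fst_snd, Category.id_comp]
    choose j hj using fun c : PullbackCone (b.orbitMap y') (b.orbitMap y') => (key c.fst c.snd).mp c.condition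
    refine ⟨⟨?_⟩, ⟨PullbackCone.IsLimit.mk _ (fun c => lift c.fst (j c)) (fun c => lift_fst _ _) (fun c => ?_)
      (fun c m h₁ h₂ => ?_)⟩⟩
    · refine (key _ _).mpr ⟨snd G B, ?_⟩
      have h := hw (𝟙 (G ⊗ B))
      simpa using h.symm
    · rw [hw, lift_fst, lift_snd, hj]
    · rw [hw] at h₂
      apply CartesianMonoidalCategory.hom_ext
      · rw [lift_fst, h₁]
      · rw [lift_snd, ← cancel_mono iB]
        exact mul_left_cancel (a := m ≫ fst G B) (h₂.trans (by rw [h₁, hj]))

end Groth.Agent.GModLib
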