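import Groth.Agent.GModLib.ConjBorel

/-!
# A point centralizing a connected solvable subgroup lies with it in a common Borel subgroup
-/

set_option autoImplicit false
set_option backward.isDefEq.respectTransparency false
set_option backward.isDefEq.respectTransparency.types false

universe u

open CategoryTheory Limits AlgebraicGeometry MonoidalCategory CartesianMonoidalCategory MonObj GrpObj

namespace Groth.Agent.GModLib

open GrpSchLib GrpSchLib.Kunneth GrpFieldLib

variable {k : Type u} [Field k] [IsAlgClosed k]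
variable {G : Over (Spec (CommRingCat.of k))} [GrpObj G]

/-- Conjugates of Borel subgroups are Borel subgroups. -/
theorem isBorelOver_inner {B : Over (Spec (CommRingCat.of k))} [GrpObj B] (iB : B ⟶ G)
    (hB : Red.IsBorelOver k iB) (g : 𝟙_ (Over (Spec (CommRingCat.of k))) ⟶ G) :
    Red.IsBorelOver k (iB ≫ inner g) := by
  obtain ⟨h1, h2, h3, h4, h5, h6⟩ := hB
  haveI := h1; haveI := h2
  refine ⟨inferInstance, by rw [Over.comp_left]; infer_instance, h3, h4, h5,
    fun B' _ i' _ f hcl hsm hcn hsol hf => ?_⟩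
  haveI := hcl
  exact h6 B' (i' ≫ inner g⁻¹) f (by rw [Over.comp_left]; infer_instance) hsm hcn hsol
    (by rw [← Category.assoc, hf, Category.assoc, inner_inner, inv_mul_cancel, inner_one, Category.comp_id])

variable [IsAffine G.left] [Smooth G.hom] [ConnectedSpace G.left]

set_option maxHeartbeats 1000000 in
/-- A point centralizing a connected solvable subgroup lies in a Borel subgroup containing it. -/
theorem exists_borel_centralizing {S : Over (Spec (CommRingCat.of k))} [GrpObj S] [IsAffine S.left] [Smooth S.hom]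
    [ConnectedSpace S.left] (hsol : Red.IsSolvableGrp S) (iS : S ⟶ G) [IsMonHom iS] (c : VecGrp.pt k k ⟶ G)
    (hc : ∀ s : VecGrp.pt k k ⟶ S, Commute (s ≫ iS) c) :
    ∃ (B : Over (Spec (CommRingCat.of k))) (_ : GrpObj B) (iB : B ⟶ G) (_ : Red.IsBorelOver k iB) (t : S ⟶ B)
      (b : VecGrp.pt k k ⟶ B), t ≫ iB = iS ∧ b ≫ iB = c := by
  obtain ⟨B, _, iB, hB, -⟩ := exists_borel (G := G)
  haveI := hB.1
  obtain ⟨x₀, b₀, hxb⟩ := exists_conj_mem_borel iB hB c
  obtain ⟨X, a, o, hX, hXp⟩ := borel_cocompact iB hB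
  haveI := hXp; haveI := hX.1; haveI := hX.2.2.1
  let π := a.orbitMap o
  haveI : LocallyOfFiniteType (π.left ≫ X.hom) := by rw [Over.w π]; infer_instance
  haveI : LocallyOfFiniteType π.left := locallyOfFiniteType_of_comp π.left X.hom
  haveI : Surjective π.left := hX.2.2.1
  haveI : X.left.IsSeparated := by
    haveI : IsSeparated X.hom := inferInstance
    exact ⟨by rw [Limits.terminal.hom_ext (terminal.from X.left) (X.hom ≫ terminal.from _)]; infer_instance⟩
  -- the fixed points of `c`
  let ac : X ⟶ X := lift (toPt X ≫ c) (𝟙 X) ≫ a.act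
  let ι₀ := equalizer.ι ac.left (𝟙 X : X ⟶ X).left
  haveI hι₀ : IsClosedImmersion ι₀ := inferInstance
  have hcl₀ : IsClosed (Set.range ι₀) := ι₀.isClosedEmbedding.isClosed_range
  obtain ⟨W, j, hj, hred, hrange⟩ := H23.RedSub.exists_reduced_subscheme X.left hcl₀.isLocallyClosed
  haveI : IsClosedImmersion j := .of_isPreimmersion j (by rw [hrange]; exact hcl₀)
  let F : Over (Spec (CommRingCat.of k)) := Over.mk (j ≫ X.hom)
  let i : F ⟶ X := Over.homMk j rfl
  haveI : IsReduced F.left := hred
  haveI : IsClosedImmersion i.left := inferInstanceAs (IsClosedImmersion j)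
  haveI : Mono i := Over.mono_of_mono_left i
  haveI : IsProper F.hom := inferInstanceAs (IsProper (j ≫ X.hom))
  have hac : ∀ x : VecGrp.pt k k ⟶ X, x ≫ ac = lift c x ≫ a.act := fun x => by
    simp only [ac, ← Category.assoc, comp_lift, Category.comp_id]
    rw [comp_toPt, Category.id_comp]
  have hlift : ∀ x : VecGrp.pt k k ⟶ X, lift c x ≫ a.act = x → ∃ z, z ≫ i = x := fun x hx => by
    refine exists_lift_point i x ?_
    show _ ∈ Set.range j
    rw [hrange]
    refine ⟨(equalizer.lift x.left (by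
      rw [← Over.comp_left, ← Over.comp_left, hac, hx, Category.comp_id])) (IsLocalRing.closedPoint k), ?_⟩
    rw [← Scheme.Hom.comp_apply, equalizer.lift_ι]
  haveI : LocallyOfFiniteType (VecGrp.pt k k).hom := by
    show LocallyOfFiniteType (Spec.map (CommRingCat.ofHom (algebraMap k k)))
    rw [show CommRingCat.ofHom (algebraMap k k) = 𝟙 _ from rfl, Spec.map_id]
    infer_instance
  have hmem : ∀ z : VecGrp.pt k k ⟶ F, lift c (z ≫ i) ≫ a.act = z ≫ i := fun z => by
    haveI : LocallyOfFiniteType (Over.mk (ι₀ ≫ X.hom)).hom :=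
      inferInstanceAs (LocallyOfFiniteType (ι₀ ≫ X.hom))
    obtain ⟨q, hq⟩ := exists_point_of_mem_range (X := Over.mk (ι₀ ≫ X.hom)) (Over.homMk ι₀ rfl) (z ≫ i) (by
      show (z ≫ i).left _ ∈ Set.range ι₀
      rw [← hrange, Over.comp_left, Scheme.Hom.comp_apply]
      exact ⟨_, rfl⟩)
    rw [← hac, ← hq, Category.assoc]
    congr 1
    refine Over.OverMorphism.ext ?_
    show ι₀ ≫ ac.left = ι₀
    exact (equalizer.condition ac.left (𝟙 X : X ⟶ X).left).trans (Category.comp_id ι₀)
  haveI : Nonempty F.left := by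
    obtain ⟨z, -⟩ := hlift (x₀ ≫ π) (by
      rw [comp_orbitMap, act_mul, ← comp_orbitMap]
      refine Eq.trans ?_ (comp_orbitMap a o x₀)
      exact ((QuotTower.orbit_eq_iff iB X a o hX x₀ (c * x₀)).mpr
        ⟨b₀, by rw [← hxb, inv_mul_cancel_right]⟩).symm)
    exact ⟨z.left (IsLocalRing.closedPoint k)⟩
  haveI : IsReduced S.left := GrpSchLib.isReduced_of_smooth_field S.hom
  haveI : IsReduced (S ⊗ F).left := GrpSchLib.isReduced_pullback_of_perfectField S.hom F.hom
  haveI : LocallyOfFiniteType (S ⊗ F).hom :=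
    inferInstanceAs (LocallyOfFiniteType (pullback.fst S.hom F.hom ≫ S.hom))
  obtain ⟨m, hm⟩ := exists_factor_of_points i (lift (fst S F ≫ iS) (snd S F ≫ i) ≫ a.act) fun p => hlift _ (by
    rw [← Category.assoc p, comp_lift, ← Category.assoc, ← Category.assoc, act_mul, ← (hc (p ≫ fst S F)).eq,
      ← act_mul, hmem])
  let aF : AlgGrp.Action S F :=
    { act := m
      one_act := by
        rw [← cancel_mono i, Category.assoc, hm, comp_lift_assoc, whiskerRight_fst_assoc, whiskerRight_snd_assoc,
          IsMonHom.one_hom iS, MonObj.one_eq_one, MonObj.comp_one, act_one, leftUnitor_hom]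
      mul_act := by
        rw [← cancel_mono i]
        simp only [Category.assoc, hm, comp_lift_assoc, whiskerRight_fst_assoc, whiskerRight_snd_assoc,
          whiskerLeft_fst_assoc, whiskerLeft_snd_assoc, associator_hom_fst_assoc]
        rw [show μ[S] ≫ iS = (fst S S ≫ iS) * (snd S S ≫ iS) by
            rw [← MonObj.mul_comp, show fst S S * snd S S = μ[S] by rw [Hom.mul_def, lift_fst_snd, Category.id_comp]],
          MonObj.comp_mul, act_mul]
        congr 2
        all_goals simp only [associator_hom_snd_fst_assoc, associator_hom_snd_snd_assoc] }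
  haveI : Group.IsSolvable (𝟙_ (Over (Spec (CommRingCat.of k))) ⟶ S) := by
    obtain ⟨n, hn⟩ := hsol
    exact ⟨⟨n, hn _⟩⟩
  obtain ⟨y, hy⟩ := S3276.result k S F aF
  obtain ⟨g, hg⟩ := exists_point_lift (K := k) π ((toUnit (VecGrp.pt k k) ≫ y) ≫ i)
  let x : 𝟙_ (Over (Spec (CommRingCat.of k))) ⟶ G := toPt _ ≫ g
  have hx : ∀ T : Over (Spec (CommRingCat.of k)), (toUnit T ≫ x) ≫ π = (toUnit T ≫ y) ≫ i := fun T => by
    rw [Category.assoc, Category.assoc, hg, ← Category.assoc (toPt _), ← Category.assoc (toPt _),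
      toUnit_unique (toPt _ ≫ toUnit _) (𝟙 _), Category.id_comp, Category.assoc]
  obtain ⟨t, ht⟩ := (QuotTower.orbit_eq_iff iB X a o hX (toUnit S ≫ x) (iS * (toUnit S ≫ x))).mp (by
    rw [comp_orbitMap (g := iS * _), ← act_mul, ← comp_orbitMap, hx]
    have e := congrArg (· ≫ i) (hy S (𝟙 S))
    simp only [aF, Category.assoc, hm, comp_lift_assoc, lift_fst_assoc, lift_snd_assoc, Category.id_comp] at e
    simpa only [Category.assoc] using e.symm)
  obtain ⟨b, hb⟩ := (QuotTower.orbit_eq_iff iB X a o hX g (c * g)).mp (by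
    rw [comp_orbitMap (g := c * g), ← act_mul, ← comp_orbitMap, hg, hmem])
  refine ⟨B, inferInstance, iB ≫ inner x, isBorelOver_inner iB hB x, t, b, ?_, ?_⟩
  · rw [← Category.assoc, comp_inner, ht, mul_inv_cancel_right]
  · rw [← Category.assoc, comp_inner, ← Category.assoc, toUnit_toPt, Category.id_comp, hb, mul_inv_cancel_right]

end Groth.Agent.GModLib
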