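import Groth.Agent.GModLib.TorusBasic
import Groth.Agent.GrpSchLib.MultTypeBC
import Groth.Prelude.Def_AGF

/-!
# Maximal tori over an algebraically closed field and on the geometric fibre
-/

set_option autoImplicit false
set_option backward.isDefEq.respectTransparency false
set_option backward.isDefEq.respectTransparency.types false

universe u

open CategoryTheory Limits AlgebraicGeometry MonoidalCategory CartesianMonoidalCategory MonObj GrpObj

namespace Groth.Agent.GModLib

/-- Tori are stable under base change along isomorphisms. -/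
theorem isTorus_bc_of_isIso {S U : Scheme.{u}} (φ : U ⟶ S) [IsIso φ] (T : Over S) [GrpObj T] (hT : Red.IsTorus T) :
    Red.IsTorus (Red.bc φ T) := by
  obtain ⟨S', f, a1, a2, a3, a4⟩ := hT
  haveI := a1; haveI := a2
  refine ⟨S', f ≫ inv φ, inferInstance, inferInstance, fun V hV => ?_, fun s' => ?_⟩
  · obtain ⟨W, hW, hWV⟩ := a3 ((inv φ) ⁻¹ᵁ V) (hV.preimage_of_isIso (inv φ))
    refine ⟨W, hW, ?_⟩
    show (f ≫ inv φ) '' (W : Set S') = _
    rw [Scheme.Hom.comp_base, TopCat.coe_comp, Set.image_comp, hWV]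
    exact Set.image_preimage_eq _ (inv φ).surjective
  · obtain ⟨W, hW, r, ⟨e⟩⟩ := a4 s'
    obtain ⟨e₁⟩ := GrpSchLib.MultTypeBC.bc_bc (W.ι ≫ f ≫ inv φ) φ T
    obtain ⟨e₂⟩ := GrpSchLib.MultTypeBC.bc_congr
      (show (W.ι ≫ f ≫ inv φ) ≫ φ = W.ι ≫ f by simp) T
    exact ⟨W, hW, r, ⟨e₁ ≪≫ e₂ ≪≫ e⟩⟩

variable {k : Type u} [Field k] [IsAlgClosed k]

/-- The geometric point of the spectrum of an algebraically closed field is the whole spectrum. -/
theorem isIso_geomPt (s : ↥(Spec (CommRingCat.of k))) : IsIso (Red.geomPt s) := by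
  let φ := (Spec (CommRingCat.of k)).fromSpecResidueField s
  haveI : Subsingleton (Spec (CommRingCat.of k) : Scheme.{u}) := inferInstanceAs (Subsingleton (PrimeSpectrum k))
  haveI : IsClosedImmersion φ := .of_isPreimmersion φ (Set.subsingleton_of_subsingleton.isClosed)
  haveI : Surjective φ := ⟨fun z => ⟨IsLocalRing.closedPoint _, Subsingleton.elim _ _⟩⟩
  haveI : IsReduced (Spec (CommRingCat.of k)) := inferInstance
  haveI : IsIso φ := isIso_of_isClosedImmersion_of_surjective φ
  obtain ⟨r, hr⟩ := Spec.map_surjective φ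
  haveI : IsIso (Spec.map r) := hr ▸ ‹IsIso φ›
  haveI : IsIso r := by
    haveI : IsIso (Scheme.Spec.map r.op) := ‹IsIso (Spec.map r)›
    exact (isIso_op_iff r).mp (isIso_of_reflects_iso r.op Scheme.Spec)
  haveI : IsAlgClosed ((Spec (CommRingCat.of k)).residueField s) :=
    IsAlgClosed.of_ringEquiv k _ (asIso r).commRingCatIsoToRingEquiv
  haveI : IsIso (CommRingCat.ofHom (algebraMap ((Spec (CommRingCat.of k)).residueField s)
      (AlgebraicClosure ((Spec (CommRingCat.of k)).residueField s)))) :=
    (ConcreteCategory.isIso_iff_bijective _).mpr IsAlgClosed.algebraMap_bijective_of_isIntegral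
  infer_instance

/-- A maximal torus in the fibrewise sense is maximal among subtori. -/
theorem isMaxTorus_of_isMaximalTorus {T G : Over (Spec (CommRingCat.of k))} [GrpObj T] [GrpObj G] {i : T ⟶ G}
    (h : Red.IsMaximalTorus i) : AGF.IsMaxTorus i := by
  obtain ⟨h1, h2, h3, h4⟩ := h
  refine ⟨h1, h2, h3, fun T' _ j _ _ f hT' hf => ?_⟩
  let s : ↥(Spec (CommRingCat.of k)) := IsLocalRing.closedPoint k
  let φ := Red.geomPt s
  haveI : IsIso φ := isIso_geomPt s
  haveI hi : IsIso ((Over.pullback φ).map f) :=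
    h4 s (Red.bc φ T') ((Over.pullback φ).map j) ((Over.pullback φ).map f) (isTorus_bc_of_isIso φ T' hT')
      (by rw [← Functor.map_comp, hf])
  haveI : IsIso ((Over.pullback φ).map f).left := inferInstanceAs (IsIso ((Over.forget _).map ((Over.pullback φ).map f)))
  haveI : IsIso (pullback.fst T.hom φ ≫ f.left) := (show ((Over.pullback φ).map f).left ≫ pullback.fst T'.hom φ = pullback.fst T.hom φ ≫ f.left from pullback.lift_fst _ _ _) ▸ inferInstance
  haveI : IsIso f.left := IsIso.of_isIso_comp_left (pullback.fst T.hom φ) f.left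
  haveI : IsIso ((Over.forget _).map f) := ‹IsIso f.left›
  exact isIso_of_reflects_iso f (Over.forget _)

end Groth.Agent.GModLib
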