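import Groth.Agent.GModLib.CentralizerBorel
import Groth.Agent.GModLib.MaxTorusGeom
import Groth.Agent.GModLib.BorelCentralizing
import Groth.Agent.AssLib.FlatField

/-!
# The centralizer of a maximal torus lies in every Borel subgroup containing the torus
-/

set_option autoImplicit false
set_option backward.isDefEq.respectTransparency false
set_option backward.isDefEq.respectTransparency.types false

universe u

open CategoryTheory Limits AlgebraicGeometry MonoidalCategory CartesianMonoidalCategory MonObj GrpObj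

namespace Groth.Agent.GModLib

open GrpSchLib GrpSchLib.Kunneth

/-- The centralizer of a maximal torus is solvable. -/
theorem isSolvableGrp_centralizer {k : Type u} [Field k] [IsAlgClosed k] {G T C : Over (Spec (CommRingCat.of k))}
    [GrpObj G] [IsAffine G.left] [Smooth G.hom] [ConnectedSpace G.left] [GrpObj T] [GrpObj C] (iT : T ⟶ G)
    (hT : AGF.IsMaxTorus iT) (c : C ⟶ G) (hc : Red.IsCentralizerOf iT c) : Red.IsSolvableGrp C := by
  haveI := hT.1; haveI := hT.2.1; haveI := hc.1; haveI := hc.2.1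
  obtain ⟨hs, hcl, hn⟩ := centralizer_smooth_connected iT hT.2.2.1 c hc
  haveI := hs; haveI := hcl; haveI := hn
  obtain ⟨C₀, _, _, _, _, i₀, hi₀, d, M, hM, iS, -, ⟨n, hsol⟩, -, -, -, -, -, huniv⟩ := exists_cartan iT hT
  haveI := hi₀
  obtain ⟨u, hu⟩ := huniv C c fun p s => by
    have e := (hc.2.2 _ (p ≫ c)).mp ⟨p, rfl⟩ _ (𝟙 _) s
    rw [Category.id_comp] at e
    exact e.symm
  refine ⟨n, fun X => eq_bot_iff.mpr fun a ha => ?_⟩
  haveI : Mono (u ≫ i₀) := hu ▸ hc.2.1
  haveI : Mono u := mono_of_mono u i₀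
  haveI : IsMonHom (u ≫ i₀) := hu ▸ hc.1
  let φ : (X ⟶ C) →* (X ⟶ G) :=
    { toFun := fun y => y ≫ c, map_one' := MonObj.one_comp c, map_mul' := fun p q => MonObj.mul_comp p q c }
  let ψ : (X ⟶ C₀) →* (X ⟶ G) :=
    { toFun := fun y => y ≫ i₀, map_one' := MonObj.one_comp i₀, map_mul' := fun p q => MonObj.mul_comp p q i₀ }
  have h1 : derivedSeries φ.range n ≤ ⊥ := by
    intro x hx
    have hle : φ.range ≤ ψ.range := by
      rintro _ ⟨y, rfl⟩
      exact ⟨y ≫ u, by show (y ≫ u) ≫ i₀ = y ≫ c; rw [Category.assoc, hu]⟩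
    let j := (Subgroup.inclusion hle)
    have h2 := map_derivedSeries_le_derivedSeries j n (Subgroup.mem_map_of_mem _ hx)
    have h3 : derivedSeries ψ.range n = ⊥ := by
      rw [← map_derivedSeries_eq (MonoidHom.rangeRestrict_surjective ψ), hsol, Subgroup.map_bot]
    rw [h3, Subgroup.mem_bot] at h2
    rw [Subgroup.mem_bot]
    exact Subgroup.inclusion_injective hle (h2.trans (map_one j).symm)
  have h4 := h1 (map_derivedSeries_le_derivedSeries φ.rangeRestrict n (Subgroup.mem_map_of_mem _ ha))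
  rw [Subgroup.mem_bot] at h4 ⊢
  have h5 : φ a = 1 := congrArg Subtype.val h4
  rw [← cancel_mono c]
  exact h5.trans (MonObj.one_comp c).symm

set_option maxHeartbeats 1000000 in
theorem centralizer_le_borel_algClosed {k : Type u} [Field k] [IsAlgClosed k]
    {G T C B : Over (Spec (CommRingCat.of k))} [GrpObj G] [IsAffine G.left] [Smooth G.hom] [ConnectedSpace G.left]
    [GrpObj T] [GrpObj C] [GrpObj B] (iT : T ⟶ G) (hT : AGF.IsMaxTorus iT) (c : C ⟶ G)
    (hc : Red.IsCentralizerOf iT c) (iB : B ⟶ G) (hB : Red.IsBorelOver k iB) (t : T ⟶ B) (ht : t ≫ iB = iT)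
    {D : Over (Spec (CommRingCat.of k))} [GrpObj D] (dC : D ⟶ C) [IsMonHom dC] (dB : D ⟶ B)
    (hD : IsPullback dC dB c iB) : IsIso dC := by
  subst ht
  haveI := hT.1; haveI := hT.2.1; haveI := hc.1; haveI := hc.2.1
  haveI := hB.1; haveI := hB.2.1
  haveI : Mono iB := Over.mono_of_mono_left iB
  haveI : IsMonHom t := isMonHom_of_comp t iB
  haveI : Mono t := mono_of_mono t iB
  have hsol := isSolvableGrp_centralizer (t ≫ iB) hT c hc
  obtain ⟨hs, -, hn⟩ := centralizer_smooth_connected (t ≫ iB) hT.2.2.1 c hc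
  have hBor := isBorelOver_centralizer_inter iB hB hT.2.2.1 t c hc dC dB hD
  exact hBor.2.2.2.2.2 C (𝟙 C) dC (inferInstanceAs (IsClosedImmersion (𝟙 C.left))) hs hn hsol (Category.comp_id _)

/-- The fibre product of two subgroups is a subgroup of each. -/
theorem exists_grp_pullback {S : Scheme.{u}} {G C B : Over S} [GrpObj G] [GrpObj C] [GrpObj B] (c : C ⟶ G) [IsMonHom c]
    (i : B ⟶ G) [IsMonHom i] [Mono i] :
    ∃ (D : Over S) (_ : GrpObj D) (dC : D ⟶ C) (_ : IsMonHom dC) (dB : D ⟶ B), IsPullback dC dB c i := by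
  let D := pullback c i
  let a : D ⟶ C := pullback.fst c i
  let b : D ⟶ B := pullback.snd c i
  have hab : a ≫ c = b ≫ i := pullback.condition
  obtain ⟨η', hη⟩ : ∃ η' : 𝟙_ (Over S) ⟶ D, η' ≫ a = η[C] :=
    ⟨pullback.lift η[C] η[B] (by rw [IsMonHom.one_hom c, IsMonHom.one_hom i]), pullback.lift_fst _ _ _⟩
  obtain ⟨μ', hμ⟩ : ∃ μ' : D ⊗ D ⟶ D, μ' ≫ a = (fst D D ≫ a) * (snd D D ≫ a) :=
    ⟨pullback.lift ((fst D D ≫ a) * (snd D D ≫ a)) ((fst D D ≫ b) * (snd D D ≫ b)) (by
      rw [MonObj.mul_comp, MonObj.mul_comp]; simp only [Category.assoc, hab]), pullback.lift_fst _ _ _⟩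
  obtain ⟨ι', hι⟩ : ∃ ι' : D ⟶ D, ι' ≫ a = a⁻¹ :=
    ⟨pullback.lift a⁻¹ b⁻¹ (by rw [GrpObj.inv_comp, GrpObj.inv_comp, hab]), pullback.lift_fst _ _ _⟩
  obtain ⟨str, h⟩ := GrpSchLib.exists_grpObj_of_mono a η' hη μ' hμ ι' hι
  exact ⟨D, str, a, h, b, IsPullback.of_hasPullback c i⟩

/-- The centralizer of a maximal torus lies in every Borel subgroup containing the torus. -/
theorem centralizer_le_borel {k : Type u} [Field k] {G T C B : Over (Spec (CommRingCat.of k))} [GrpObj G]
    [IsAffine G.left] [Smooth G.hom] [ConnectedSpace G.left] [GrpObj T] [GrpObj C] [GrpObj B] (iT : T ⟶ G)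
    (hT : Red.IsMaximalTorus iT) (c : C ⟶ G) (hc : Red.IsCentralizerOf iT c) (iB : B ⟶ G) (hB : Red.IsBorel iB)
    (t : T ⟶ B) (ht : t ≫ iB = iT) : ∃ f : C ⟶ B, f ≫ iB = c := by
  haveI := hT.1; haveI := hT.2.1; haveI := hc.1; haveI := hc.2.1
  haveI := hB.1; haveI := hB.2.1
  haveI : Mono iB := Over.mono_of_mono_left iB
  obtain ⟨D, _, dC, _, dB, hD⟩ := exists_grp_pullback c iB
  let s : Spec (CommRingCat.of k) := IsLocalRing.closedPoint k
  let σ := Red.geomPt s
  haveI : IsAffine (Red.bc σ G).left := inferInstanceAs (IsAffine (pullback G.hom σ))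
  haveI : Smooth (Red.bc σ G).hom := inferInstanceAs (Smooth (pullback.snd G.hom σ))
  haveI : ConnectedSpace (Red.bc σ G).left := by
    have h := GrpSchLib.AntiAffine.connectedSpace_bc G (Spec.preimage σ).hom
    rwa [CommRingCat.ofHom_hom, Spec.map_preimage] at h
  have hTm : AGF.IsMaxTorus ((Over.pullback σ).map iT) :=
    ⟨inferInstance, inferInstance, isTorus_bc σ hT.2.2.1, fun T' _ j _ _ f hT' hf => hT.2.2.2 s T' j f hT' hf⟩
  haveI : IsIso ((Over.pullback σ).map dC) := centralizer_le_borel_algClosed ((Over.pullback σ).map iT) hTm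
    ((Over.pullback σ).map c) (BC.isCentralizerOf_bc σ hc) ((Over.pullback σ).map iB) (hB.2.2.2 s)
    ((Over.pullback σ).map t) (by rw [← Functor.map_comp, ht]) ((Over.pullback σ).map dC)
    ((Over.pullback σ).map dB) (hD.map (Over.pullback σ))
  haveI : IsIso ((Over.pullback σ).map dC).left := inferInstanceAs (IsIso ((Over.forget _).map ((Over.pullback σ).map dC)))
  haveI : Surjective σ := ⟨fun x => ⟨IsLocalRing.closedPoint _, @Subsingleton.elim (PrimeSpectrum k) _ _ _⟩⟩
  haveI : Flat σ := AssLib.flat_over_field σ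
  have hpb : IsPullback (pullback.fst D.hom σ) ((Over.pullback σ).map dC).left dC.left (pullback.fst C.hom σ) := by
    refine IsPullback.of_bot ?_ (by simp) (IsPullback.of_hasPullback C.hom σ)
    rw [show dC.left ≫ C.hom = D.hom from Over.w dC,
      show ((Over.pullback σ).map dC).left ≫ pullback.snd C.hom σ = pullback.snd D.hom σ from Over.w _]
    exact IsPullback.of_hasPullback D.hom σ
  haveI : IsIso (pullback.snd dC.left (pullback.fst C.hom σ)) := by
    rw [← IsPullback.isoPullback_inv_snd hpb]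
    infer_instance
  haveI : IsIso dC.left := MorphismProperty.of_pullback_snd_of_descendsAlong
    (P := MorphismProperty.isomorphisms Scheme) (Q := @Surjective ⊓ @Flat ⊓ @QuasiCompact) (g := pullback.fst C.hom σ)
    ⟨⟨inferInstance, inferInstance⟩, inferInstance⟩ ‹IsIso (pullback.snd dC.left (pullback.fst C.hom σ))›
  haveI : IsIso ((Over.forget _).map dC) := ‹IsIso dC.left›
  haveI : IsIso dC := isIso_of_reflects_iso dC (Over.forget _)
  exact ⟨inv dC ≫ dB, by rw [Category.assoc, ← hD.w, IsIso.inv_hom_id_assoc]⟩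

end Groth.Agent.GModLib
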