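import Groth.Agent.GModLib.MaxTorusGeom
import Groth.Agent.GModLib.TorusBC

/-!
# Maximal tori among subtori are maximal tori
-/

set_option autoImplicit false
set_option backward.isDefEq.respectTransparency false
set_option backward.isDefEq.respectTransparency.types false

universe u

open CategoryTheory Limits AlgebraicGeometry MonoidalCategory CartesianMonoidalCategory MonObj GrpObj

namespace Groth.Agent.GModLib

/-- Over an algebraically closed field a torus which is maximal among subtori is a maximal torus. -/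
theorem isMaximalTorus_of_isMaxTorus {k : Type u} [Field k] [IsAlgClosed k] {T G : Over (Spec (CommRingCat.of k))}
    [GrpObj T] [GrpObj G] {i : T ⟶ G} (h : AGF.IsMaxTorus i) : Red.IsMaximalTorus i := by
  obtain ⟨h1, h2, h3, h4⟩ := h
  refine ⟨h1, h2, h3, fun s T' _ j _ _ f hT' hf => ?_⟩
  haveI := h1; haveI := h2
  let σ := Red.geomPt s
  haveI : IsIso σ := isIso_geomPt s
  let τ := inv σ
  let α : Over.pullback σ ⋙ Over.pullback τ ≅ 𝟭 (Over (Spec (CommRingCat.of k))) :=
    (Over.pullbackComp τ σ).symm ≪≫ eqToIso (congrArg (fun e => Over.pullback e) (IsIso.inv_hom_id σ)) ≪≫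
      Over.pullbackId
  let E : (Over.pullback σ).mapGrp ⋙ (Over.pullback τ).mapGrp ≅ 𝟭 (Grp (Over (Spec (CommRingCat.of k)))) :=
    Functor.mapGrpCompIso.symm ≪≫ Functor.mapGrpNatIso α ≪≫ Functor.mapGrpIdIso
  let G₂ : Over (Spec (CommRingCat.of k)) := Red.bc τ (Red.bc σ G)
  let a : G₂ ⟶ G := (E.hom.app (Grp.mk G)).hom.hom
  let b : T ⟶ Red.bc τ (Red.bc σ T) := (E.inv.app (Grp.mk T)).hom.hom
  haveI : IsMonHom a := inferInstanceAs (IsMonHom (E.hom.app (Grp.mk G)).hom.hom)
  haveI : IsIso a := inferInstanceAs (IsIso ((Grp.forget _).map (E.hom.app (Grp.mk G))))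
  haveI : IsIso b := inferInstanceAs (IsIso ((Grp.forget _).map (E.inv.app (Grp.mk T))))
  let iG : Grp.mk T ⟶ Grp.mk G := Grp.homMk' ⟨i⟩
  have hnat : b ≫ (Over.pullback τ).map ((Over.pullback σ).map i) ≫ a = i := by
    have e := congrArg (fun φ => φ.hom.hom) (E.hom.naturality iG)
    have e' := congrArg (fun φ => φ.hom.hom) (E.inv_hom_id_app (Grp.mk T))
    rw [show (Over.pullback τ).map ((Over.pullback σ).map i) ≫ a = (E.hom.app (Grp.mk T)).hom.hom ≫ i from e,
      ← Category.assoc, show b ≫ (E.hom.app (Grp.mk T)).hom.hom = 𝟙 T from e', Category.id_comp]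
  haveI : IsIso (b ≫ (Over.pullback τ).map f) := h4 (Red.bc τ T') ((Over.pullback τ).map j ≫ a)
    (b ≫ (Over.pullback τ).map f) (isTorus_bc τ hT')
    (by rw [Category.assoc, ← Category.assoc ((Over.pullback τ).map f), ← Functor.map_comp, hf, hnat])
  haveI : IsIso ((Over.pullback τ).map f) := IsIso.of_isIso_comp_left b _
  haveI : IsIso ((Over.pullback τ).map f).left :=
    inferInstanceAs (IsIso ((Over.forget _).map ((Over.pullback τ).map f)))
  haveI : IsIso (pullback.fst (Red.bc σ T).hom τ ≫ f.left) :=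
    (show ((Over.pullback τ).map f).left ≫ pullback.fst T'.hom τ = pullback.fst (Red.bc σ T).hom τ ≫ f.left from
      pullback.lift_fst _ _ _) ▸ inferInstance
  haveI : IsIso f.left := IsIso.of_isIso_comp_left (pullback.fst (Red.bc σ T).hom τ) f.left
  haveI : IsIso ((Over.forget _).map f) := ‹IsIso f.left›
  exact isIso_of_reflects_iso f (Over.forget _)

end Groth.Agent.GModLib
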