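import Groth.Agent.GModLib.SolvTorus
import Groth.Agent.MultConjLib.Closed

/-!
# Conjugacy of maximal tori
-/

set_option autoImplicit false
set_option backward.isDefEq.respectTransparency false
set_option backward.isDefEq.respectTransparency.types false

universe u

open CategoryTheory Limits AlgebraicGeometry MonoidalCategory CartesianMonoidalCategory MonObj GrpObj

namespace Groth.Agent.GModLib

open GrpSchLib GrpSchLib.Kunneth

variable {k : Type u} [Field k] {G : Over (Spec (CommRingCat.of k))} [GrpObj G]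

theorem torus_isClosedImmersion [IsAffine G.left] {T : Over (Spec (CommRingCat.of k))} [GrpObj T]
    (hT : Red.IsTorus T) (iT : T ⟶ G) [IsMonHom iT] [Mono iT] : IsClosedImmersion iT.left := by
  haveI : IsAffineHom G.hom := inferInstance
  exact MultConjLib.isClosedImmersion_of_mono
    (MultConjLib.isLocDS_of_multTypeFT (RankOne.isMultTypeFT_of_isTorus hT)) iT

theorem isSolvableGrp_of_torus {T : Over (Spec (CommRingCat.of k))} [GrpObj T] (hT : Red.IsTorus T) :
    Red.IsSolvableGrp T :=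
  ⟨1, fun X => by
    rw [derivedSeries_one]
    refine eq_bot_iff.mpr (Subgroup.commutator_le.mpr fun a _ b _ => ?_)
    rw [Subgroup.mem_bot, commutatorElement_eq_one_iff_mul_comm]
    exact TorusBilin.comm_of_isTorus hT _ _ _⟩

variable [IsAlgClosed k] [IsAffine G.left] [Smooth G.hom] [ConnectedSpace G.left]

/-- A torus is conjugate into every Borel subgroup. -/
theorem exists_torus_into_borel {B : Over (Spec (CommRingCat.of k))} [GrpObj B] (iB : B ⟶ G)
    (hB : Red.IsBorelOver k iB) {T : Over (Spec (CommRingCat.of k))} [GrpObj T] (hT : Red.IsTorus T)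
    (iT : T ⟶ G) [IsMonHom iT] [Mono iT] :
    ∃ (g : 𝟙_ (Over (Spec (CommRingCat.of k))) ⟶ G) (h : T ⟶ B), h ≫ iB = iT ≫ inner g := by
  haveI := torus_isClosedImmersion hT iT
  obtain ⟨h1, h2, h3, -, -⟩ := TorusBasic.torus_props hT
  haveI := h1; haveI := h2; haveI := h3
  obtain ⟨g, h, hh⟩ := exists_conj_factor iB (borel_cocompact iB hB) iT (isSolvableGrp_of_torus hT)
  exact ⟨g⁻¹, h, by rw [hh, Category.assoc, Category.assoc, inner_inner, inv_mul_cancel, inner_one, Category.comp_id]⟩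

omit [IsAlgClosed k] [IsAffine G.left] [Smooth G.hom] [ConnectedSpace G.left] in
/-- A maximal torus conjugated into a torus is isomorphic to it. -/
theorem isIso_of_maxTorus {T T₀ : Over (Spec (CommRingCat.of k))} [GrpObj T] [GrpObj T₀] (iT : T ⟶ G)
    (hT : AGF.IsMaxTorus iT) (j : T₀ ⟶ G) [IsMonHom j] [Mono j] (hT₀ : Red.IsTorus T₀) (e : T ⟶ T₀)
    (x : 𝟙_ (Over (Spec (CommRingCat.of k))) ⟶ G) (he : e ≫ j = iT ≫ inner x) : IsIso e :=
  hT.2.2.2 T₀ (j ≫ inner x⁻¹) e hT₀
    (by rw [← Category.assoc, he, Category.assoc, inner_inner, inv_mul_cancel, inner_one, Category.comp_id])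

/-- In a Borel subgroup there is a torus to which all maximal tori are conjugate. -/
theorem exists_torus_all_conj {B : Over (Spec (CommRingCat.of k))} [GrpObj B] (iB : B ⟶ G)
    (hB : Red.IsBorelOver k iB) :
    ∃ (T₀ : Over (Spec (CommRingCat.of k))) (_ : GrpObj T₀) (iT₀ : T₀ ⟶ B) (_ : IsMonHom iT₀),
      IsClosedImmersion iT₀.left ∧ Red.IsTorus T₀ ∧
      ∀ (T : Over (Spec (CommRingCat.of k))) [GrpObj T] (iT : T ⟶ G), AGF.IsMaxTorus iT →
        ∃ (g : 𝟙_ (Over (Spec (CommRingCat.of k))) ⟶ G) (e : T ≅ T₀), e.hom ≫ iT₀ ≫ iB = iT ≫ inner g := by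
  haveI := hB.1
  haveI : IsClosedImmersion iB.left := hB.2.1
  haveI : Smooth B.hom := hB.2.2.1
  haveI : ConnectedSpace B.left := hB.2.2.2.1
  haveI : IsAffine B.left := isAffine_of_isAffineHom iB.left
  obtain ⟨T₀, _, iT₀, hm, hcl, hT₀, hconj⟩ := exists_torus_conj_solvable hB.2.2.2.2.1
  refine ⟨T₀, inferInstance, iT₀, hm, hcl, hT₀, fun T _ iT hT => ?_⟩
  haveI := hm; haveI := hcl
  haveI := hT.1; haveI := hT.2.1
  obtain ⟨g, h, hg⟩ := exists_torus_into_borel iB hB hT.2.2.1 iT
  haveI : Mono iB := Over.mono_of_mono_left iB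
  haveI : Mono iT₀ := Over.mono_of_mono_left iT₀
  haveI : IsMonHom h :=
    { one_hom := by rw [← cancel_mono iB, Category.assoc, hg, IsMonHom.one_hom (iT ≫ inner g), IsMonHom.one_hom iB]
      mul_hom := by
        rw [← cancel_mono iB, Category.assoc, hg, IsMonHom.mul_hom (iT ≫ inner g), Category.assoc,
          IsMonHom.mul_hom iB, ← Category.assoc (_ ⊗ₘ _), MonoidalCategory.tensorHom_comp_tensorHom, hg] }
  obtain ⟨x, e, he⟩ := hconj T h hT.2.2.1
  have heq : e ≫ iT₀ ≫ iB = iT ≫ inner ((x ≫ iB) * g) := by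
    rw [← Category.assoc, he, Category.assoc, inner_comp, ← Category.assoc, hg, Category.assoc, inner_inner]
  haveI := isIso_of_maxTorus iT hT (iT₀ ≫ iB) hT₀ e _ heq
  exact ⟨_, asIso e, heq⟩

end Groth.Agent.GModLib
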