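import Groth.Agent.GModLib.SolvTorus

/-!
# Characters and unipotent points
-/

set_option autoImplicit false
set_option backward.isDefEq.respectTransparency false
set_option backward.isDefEq.respectTransparency.types false

universe u

open CategoryTheory Limits AlgebraicGeometry MonoidalCategory CartesianMonoidalCategory MonObj GrpObj

namespace Groth.Agent.GModLib

open GrpSchLib GrpSchLib.Kunneth

variable {k : Type u} [Field k] [IsAlgClosed k] {G : Over (Spec (CommRingCat.of k))} [GrpObj G] [IsAffine G.left]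
  [Smooth G.hom] {d : ℕ} {M : Matrix (Fin d) (Fin d) (Fn G)}

/-- In positive characteristic unipotent points are killed by a power of the characteristic. -/
theorem pow_charP_eq_one (p : ℕ) [CharP k p] (hM : IsTriangular M) {u : VecGrp.pt k k ⟶ G} (hu : u ∈ uni hM) :
    u ^ p ^ d = 1 := by
  have hlev : ∀ m, Lev (1 + m) (matHom hM (u ^ p ^ m)) := fun m => by
    induction m with
    | zero => rw [pow_zero, pow_one]; exact (lev_one_iff hM u).mp hu
    | succ m ih =>
      intro i j hij
      rw [pow_succ, pow_mul, map_pow, (sub_pow (by omega) ih p).2 i j (by omega), CharP.cast_eq_zero,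
        MulZeroClass.zero_mul]
  exact eq_one_of_lev hM (by omega) (hlev d)

/-- Characters are trivial on unipotent points. -/
theorem char_eq_one_of_uni (hM : IsTriangular M) {χ : Fn G} (hχ : IsChar χ) {u : VecGrp.pt k k ⟶ G}
    (hu : u ∈ uni hM) : pullFn u χ = 1 := by
  let c : (VecGrp.pt k k ⟶ G) →* k := { toFun := fun g => pullFn g χ, map_one' := hχ.2, map_mul' := hχ.1 }
  obtain ⟨p, hp⟩ := CharP.exists k
  rcases CharP.char_is_prime_or_zero k p with hpp | rfl
  · haveI : Fact p.Prime := ⟨hpp⟩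
    have h1 : pullFn u χ ^ p ^ d = 1 := by
      show c u ^ p ^ d = 1
      rw [← map_pow, pow_charP_eq_one p hM hu, map_one]
    have h2 : (pullFn u χ - 1) ^ p ^ d = 0 := by rw [sub_pow_char_pow, h1, _root_.one_pow, sub_self]
    exact sub_eq_zero.mp (eq_zero_of_pow_eq_zero h2)
  · haveI : CharP k 0 := hp
    haveI : CharZero k := CharP.charP_to_charZero k
    obtain ⟨Θ, hΘ⟩ := exists_oneParam hM hu
    have hne : ∀ t, (Θ χ).eval t ≠ 0 := fun t => by
      obtain ⟨z, hz⟩ := exists_point_of_algHom ((Polynomial.aeval (R := k) t).comp Θ)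
      have h1 : pullFn z χ * pullFn z⁻¹ χ = 1 := by rw [← hχ.1, mul_inv_cancel, hχ.2]
      have h2 : pullFn z χ = (Θ χ).eval t := by rw [hz, AlgHom.comp_apply, Polynomial.coe_aeval_eq_eval]
      exact h2 ▸ left_ne_zero_of_mul_eq_one h1
    have hdeg : (Θ χ).degree ≤ 0 := by
      by_contra h
      obtain ⟨t, ht⟩ := IsAlgClosed.exists_root (Θ χ) (fun e => h (le_of_eq e))
      exact hne t ht
    have h3 := hΘ 1 χ
    have h4 := hΘ 0 χ
    rw [pow_one] at h3
    rw [pow_zero, hχ.2] at h4
    rw [← h3, ← h4, Polynomial.eq_C_of_degree_le_zero hdeg]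
    simp

/-- Characters agreeing on a full subgroup agree. -/
theorem char_eq_of_full (hM : IsTriangular M) {T : Over (Spec (CommRingCat.of k))} (iT : T ⟶ G)
    (hfull : Full hM iT) {χ χ' : Fn G} (hχ : IsChar χ) (hχ' : IsChar χ')
    (h : ∀ t : VecGrp.pt k k ⟶ T, pullFn (t ≫ iT) χ = pullFn (t ≫ iT) χ') (g : VecGrp.pt k k ⟶ G) :
    pullFn g χ = pullFn g χ' := by
  obtain ⟨t, ht⟩ := hfull g
  have hu := (diagHom_eq_iff hM _ _).mp ht
  rw [← mul_inv_cancel_left (t ≫ iT) g, hχ.1, hχ'.1, char_eq_one_of_uni hM hχ hu, char_eq_one_of_uni hM hχ' hu, h]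

end Groth.Agent.GModLib
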