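import Groth.Agent.GModLib.Parabolic
import Groth.Agent.GModLib.MaxTorus
import Groth.Agent.GModLib.UniPart
import Groth.Agent.GModLib.MaxTorusGeom

/-!
# Images of maximal tori
-/

set_option autoImplicit false
set_option backward.isDefEq.respectTransparency false
set_option backward.isDefEq.respectTransparency.types false

universe u

open CategoryTheory Limits AlgebraicGeometry MonoidalCategory CartesianMonoidalCategory MonObj GrpObj

namespace Groth.Agent.GModLib

open GrpSchLib GrpSchLib.Kunneth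

variable {k : Type u} [Field k] [IsAlgClosed k]

/-- A full subgroup of a solvable group maps to a full subgroup of a quotient. -/
theorem full_comp {B B₁ T : Over (Spec (CommRingCat.of k))} [GrpObj B] [IsAffine B.left] [Smooth B.hom] [GrpObj B₁]
    [IsAffine B₁.left] [Smooth B₁.hom] {d d₁ : ℕ} {M : Matrix (Fin d) (Fin d) (Fn B)} (hM : IsTriangular M)
    {M₁ : Matrix (Fin d₁) (Fin d₁) (Fn B₁)} (hM₁ : IsTriangular M₁) (p : B ⟶ B₁) [IsMonHom p] [Surjective p.left]
    (h : T ⟶ B) (hf : Full hM h) : Full hM₁ (h ≫ p) := by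
  intro g
  haveI : LocallyOfFiniteType p.left := by
    haveI : LocallyOfFiniteType (p.left ≫ B₁.hom) := by rw [Over.w p]; infer_instance
    exact locallyOfFiniteType_of_comp p.left B₁.hom
  obtain ⟨b, rfl⟩ := exists_point_lift (K := k) p g
  obtain ⟨t, ht⟩ := hf b
  refine ⟨t, funext fun i => ?_⟩
  have χ : IsChar (ev p (M₁ i i)) :=
    ⟨fun a c => by rw [pullFn_ev, MonObj.mul_comp, (isChar_diag hM₁ i).1, pullFn_ev, pullFn_ev],
      by rw [pullFn_ev, MonObj.one_comp, (isChar_diag hM₁ i).2]⟩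
  have hu := (diagHom_eq_iff hM _ _).mp ht
  show pullFn (t ≫ h ≫ p) (M₁ i i) = pullFn (b ≫ p) (M₁ i i)
  rw [← Category.assoc, ← pullFn_ev (t ≫ h) p, ← pullFn_ev b p]
  conv_rhs => rw [← mul_inv_cancel_left (t ≫ h) b]
  rw [χ.1, char_eq_one_of_uni hM χ hu, _root_.mul_one]

variable {G Q : Over (Spec (CommRingCat.of k))} [GrpObj G] [IsAffine G.left] [Smooth G.hom] [ConnectedSpace G.left]
  [GrpObj Q] [IsAffine Q.left] [Smooth Q.hom] [ConnectedSpace Q.left]

set_option maxHeartbeats 1000000 in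
/-- A maximal torus maps onto a torus into which all tori of the quotient can be conjugated. -/
theorem exists_maxTorus_onto (q : G ⟶ Q) [IsMonHom q] [Surjective q.left]
    {T : Over (Spec (CommRingCat.of k))} [GrpObj T] (iT : T ⟶ G) (hT : AGF.IsMaxTorus iT) :
    ∃ (M : Over (Spec (CommRingCat.of k))) (_ : GrpObj M) (iM : M ⟶ Q) (e : T ⟶ M)
      (y : 𝟙_ (Over (Spec (CommRingCat.of k))) ⟶ Q),
      IsMonHom iM ∧ IsClosedImmersion iM.left ∧ Red.IsTorus M ∧ Surjective e.left ∧ e ≫ iM = (iT ≫ q) ≫ inner y ∧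
      ∀ (T'' : Over (Spec (CommRingCat.of k))) [GrpObj T''] (j : T'' ⟶ Q) [IsMonHom j] [Mono j], Red.IsTorus T'' →
        ∃ (z : 𝟙_ (Over (Spec (CommRingCat.of k))) ⟶ Q) (e₂ : T'' ⟶ M), e₂ ≫ iM = j ≫ inner z := by
  haveI := hT.1; haveI := hT.2.1
  obtain ⟨q1, q2, q3, -, -⟩ := TorusBasic.torus_props hT.2.2.1
  haveI := q1; haveI := q2; haveI := q3
  obtain ⟨B, _, iB, hB, -⟩ := exists_borel (G := G)
  obtain ⟨B₁, _, iB₁, p₁, hB₁, hp₁, hp₁m, hp₁s, -⟩ := exists_borel_image_affine q iB hB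
  haveI := hp₁m; haveI := hp₁s
  haveI := hB.1; haveI : IsClosedImmersion iB.left := hB.2.1
  haveI : Smooth B.hom := hB.2.2.1
  haveI : ConnectedSpace B.left := hB.2.2.2.1
  haveI : IsAffine B.left := isAffine_of_isAffineHom iB.left
  haveI := hB₁.1; haveI : IsClosedImmersion iB₁.left := hB₁.2.1
  haveI : Smooth B₁.hom := hB₁.2.2.1
  haveI : ConnectedSpace B₁.left := hB₁.2.2.2.1
  haveI : IsAffine B₁.left := isAffine_of_isAffineHom iB₁.left
  haveI : Mono iB := Over.mono_of_mono_left iB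
  haveI : Mono iB₁ := Over.mono_of_mono_left iB₁
  obtain ⟨g, h, hg⟩ := exists_torus_into_borel iB hB hT.2.2.1 iT
  haveI : IsMonHom (h ≫ iB) := hg ▸ inferInstance
  haveI : IsMonHom h := isMonHom_of_comp h iB
  obtain ⟨d, MB, hMB⟩ := exists_triangular hB.2.2.2.2.1
  obtain ⟨T₁, _, i₁, hT₁⟩ := exists_fullTorus hMB
  obtain ⟨x, e₀, he₀⟩ := exists_conj_into_fullTorus hMB i₁ hT₁ hT.2.2.1 h
  haveI := hT₁.1
  haveI : IsClosedImmersion i₁.left := hT₁.2.1
  haveI : Mono i₁ := Over.mono_of_mono_left i₁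
  haveI : IsIso e₀ := isIso_of_maxTorus iT hT (i₁ ≫ iB) hT₁.2.2.1 e₀ ((x ≫ iB) * g) (by
    rw [reassoc_of% he₀, inner_comp, reassoc_of% hg, inner_inner])
  have hfull : Full hMB h := fun b => by
    obtain ⟨s, hs⟩ := hT₁.2.2.2.1 b
    refine ⟨s ≫ inv e₀, ?_⟩
    rw [show s ≫ i₁ = (s ≫ inv e₀) ≫ e₀ ≫ i₁ by simp, he₀, ← Category.assoc (s ≫ inv e₀), comp_inner,
      diagHom_conj] at hs
    exact hs
  obtain ⟨d₁, M₁, hM₁⟩ := exists_triangular hB₁.2.2.2.2.1
  obtain ⟨M, _, iM, hMf⟩ := exists_fullTorus hM₁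
  obtain ⟨x₁, e₁, he₁⟩ := exists_conj_into_fullTorus hM₁ iM hMf hT.2.2.1 (h ≫ p₁)
  have hfull₁ := full_comp hMB hM₁ p₁ h hfull
  haveI := hMf.1
  haveI : IsClosedImmersion iM.left := hMf.2.1
  haveI : Mono iM := Over.mono_of_mono_left iM
  haveI : IsMonHom (e₁ ≫ iM) := he₁ ▸ inferInstance
  haveI : IsMonHom e₁ := isMonHom_of_comp e₁ iM
  have hpts : ∀ m : VecGrp.pt k k ⟶ M, ∃ t, t ≫ e₁ = m := fun m => by
    obtain ⟨t, ht⟩ := hfull₁ (m ≫ iM)
    refine ⟨t, inv_mul_eq_one.mp (hMf.2.2.2.2 _ ((mem_uni_iff_diagHom hM₁ _).mpr ?_))⟩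
    have ht' : diagHom hM₁ ((t ≫ e₁) ≫ iM) = diagHom hM₁ (m ≫ iM) := by
      rw [Category.assoc, he₁, ← Category.assoc t, comp_inner, diagHom_conj, ht]
    rw [MonObj.mul_comp, GrpObj.inv_comp, map_mul, ← ht', ← map_mul, inv_mul_cancel, map_one]
  obtain ⟨r1, r2, r3, -, -⟩ := TorusBasic.torus_props hMf.2.2.1
  haveI := r1; haveI := r2; haveI := r3
  haveI : Surjective e₁.left := ⟨fun z => Set.eq_univ_iff_forall.mp (torus_eq_univ hMf.2.2.1
    (GrpSchLib.HomClosedRange.isClosed_range e₁) fun m _ => by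
      obtain ⟨t, rfl⟩ := hpts m
      rw [Over.comp_left, Scheme.Hom.comp_apply]
      exact ⟨_, rfl⟩) z⟩
  haveI : IsClosedImmersion (iM ≫ iB₁).left := by rw [Over.comp_left]; infer_instance
  refine ⟨M, inferInstance, iM ≫ iB₁, e₁, (x₁ ≫ iB₁) * (g ≫ q), inferInstance, inferInstance, hMf.2.2.1,
    inferInstance, ?_, fun T'' _ j _ _ hT'' => ?_⟩
  · rw [reassoc_of% he₁, inner_comp, reassoc_of% hp₁, reassoc_of% hg, ← Category.assoc (inner g) q, inner_comp,
      Category.assoc q, inner_inner, Category.assoc]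
  · obtain ⟨g₂, h₂, hg₂⟩ := exists_torus_into_borel iB₁ hB₁ hT'' j
    obtain ⟨s1, s2, s3, -, -⟩ := TorusBasic.torus_props hT''
    haveI := s1; haveI := s2; haveI := s3
    haveI : IsMonHom (h₂ ≫ iB₁) := hg₂ ▸ inferInstance
    haveI : IsMonHom h₂ := isMonHom_of_comp h₂ iB₁
    obtain ⟨x₂, e₂, he₂⟩ := exists_conj_into_fullTorus hM₁ iM hMf hT'' h₂
    exact ⟨(x₂ ≫ iB₁) * g₂, e₂, by rw [reassoc_of% he₂, inner_comp, reassoc_of% hg₂, inner_inner]⟩

set_option maxHeartbeats 1000000 in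
/-- The image of a maximal torus under a surjection is a maximal torus. -/
theorem isMaxTorus_image (q : G ⟶ Q) [IsMonHom q] [Surjective q.left]
    {T T' : Over (Spec (CommRingCat.of k))} [GrpObj T] [GrpObj T'] (iT : T ⟶ G) (hT : AGF.IsMaxTorus iT)
    (iT' : T' ⟶ Q) [IsMonHom iT'] [IsClosedImmersion iT'.left] [IsReduced T'.left] (p : T ⟶ T') [Surjective p.left]
    (hp : p ≫ iT' = iT ≫ q) : AGF.IsMaxTorus iT' := by
  obtain ⟨M, _, iM, e, y, hMm, hMcl, hMt, hes, he, hall⟩ := exists_maxTorus_onto q iT hT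
  haveI := hMm; haveI := hMcl; haveI := hes
  obtain ⟨r1, r2, r3, -, -⟩ := TorusBasic.torus_props hMt
  haveI := r1; haveI := r2; haveI := r3
  haveI : IsReduced M.left := GrpSchLib.isReduced_of_smooth_field M.hom
  haveI : Mono iM := Over.mono_of_mono_left iM
  haveI : Mono iT' := Over.mono_of_mono_left iT'
  let i' := iT' ≫ inner y
  haveI hin : IsIso (inner (G := Q) y) :=
    ⟨inner y⁻¹, by rw [inner_inner, inv_mul_cancel, inner_one], by rw [inner_inner, mul_inv_cancel, inner_one]⟩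
  haveI : IsIso (inner (G := Q) y).left := inferInstanceAs (IsIso ((Over.forget _).map (inner y)))
  haveI : IsClosedImmersion i'.left := by rw [Over.comp_left]; infer_instance
  have hi' : p ≫ i' = e ≫ iM := by rw [he, ← hp, Category.assoc]
  haveI : Mono i' := inferInstance
  have hr : Set.range i'.left = Set.range iM.left := by
    have h1 : Set.range (p ≫ i').left = Set.range i'.left := by
      rw [Over.comp_left, Scheme.Hom.comp_base, TopCat.coe_comp, Set.range_comp, p.left.surjective.range_eq,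
        Set.image_univ]
    have h2 : Set.range (e ≫ iM).left = Set.range iM.left := by
      rw [Over.comp_left, Scheme.Hom.comp_base, TopCat.coe_comp, Set.range_comp, e.left.surjective.range_eq,
        Set.image_univ]
    rw [← h1, hi', h2]
  obtain ⟨a, ha⟩ := H23.RedSub.exists_lift_closed i'.left iM.left hr.le
  obtain ⟨b, hb⟩ := H23.RedSub.exists_lift_closed iM.left i'.left hr.ge
  let φ : T' ≅ M :=
    { hom := Over.homMk a (by rw [← Over.w iM, reassoc_of% ha, Over.w i'])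
      inv := Over.homMk b (by rw [← Over.w i', reassoc_of% hb, Over.w iM])
      hom_inv_id := by
        rw [← cancel_mono i']
        exact Over.OverMorphism.ext (by simp [hb, ha])
      inv_hom_id := by
        rw [← cancel_mono iM]
        exact Over.OverMorphism.ext (by simp [hb, ha]) }
  have hφ : φ.hom ≫ iM = i' := Over.OverMorphism.ext ha
  haveI : IsMonHom i' := inferInstance
  haveI : IsMonHom (φ.hom ≫ iM) := hφ ▸ inferInstance
  haveI : IsMonHom φ.hom := isMonHom_of_comp φ.hom iM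
  refine ⟨inferInstance, inferInstance, TorusBasic.isTorus_of_iso (Grp.mkIso φ (IsMonHom.one_hom φ.hom) (IsMonHom.mul_hom φ.hom)).symm hMt,
    fun T'' _ j _ _ f hT'' hf => ?_⟩
  obtain ⟨z, e₂, he₂⟩ := hall T'' j hT''
  have hw : (φ.inv ≫ f ≫ e₂) ≫ iM = iM ≫ inner (z * y⁻¹) := by
    rw [Category.assoc, Category.assoc, he₂, reassoc_of% hf,
      show iT' = i' ≫ inner y⁻¹ by rw [Category.assoc, inner_inner, inv_mul_cancel, inner_one, Category.comp_id],
      ← hφ, Category.assoc, Category.assoc, φ.inv_hom_id_assoc, inner_inner]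
  haveI hin' : IsIso (inner (G := Q) (z * y⁻¹)) :=
    ⟨inner (z * y⁻¹)⁻¹, by rw [inner_inner, inv_mul_cancel, inner_one], by rw [inner_inner, mul_inv_cancel, inner_one]⟩
  haveI : IsIso (inner (G := Q) (z * y⁻¹)).left := inferInstanceAs (IsIso ((Over.forget _).map (inner (z * y⁻¹))))
  haveI : IsClosedImmersion (φ.inv ≫ f ≫ e₂).left := by
    haveI : IsClosedImmersion ((φ.inv ≫ f ≫ e₂).left ≫ iM.left) := by
      rw [← Over.comp_left, hw, Over.comp_left]; infer_instance
    exact IsClosedImmersion.of_comp _ iM.left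
  haveI : QuasiCompact M.hom := inferInstance
  haveI := isIso_of_isClosedImmersion_endo (φ.inv ≫ f ≫ e₂)
  haveI : IsIso φ.inv := φ.isIso_inv
  haveI : IsIso (f ≫ e₂) := IsIso.of_isIso_comp_left φ.inv _
  haveI : IsSplitEpi e₂ := ⟨⟨⟨inv (f ≫ e₂) ≫ f, by simp⟩⟩⟩
  haveI : Mono (e₂ ≫ iM) := by
    haveI : IsIso (inner (G := Q) z) :=
      ⟨inner z⁻¹, by rw [inner_inner, inv_mul_cancel, inner_one], by rw [inner_inner, mul_inv_cancel, inner_one]⟩
    rw [he₂]; infer_instance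
  haveI : Mono e₂ := mono_of_mono e₂ iM
  haveI : IsIso e₂ := isIso_of_mono_of_isSplitEpi e₂
  exact IsIso.of_isIso_comp_right f e₂

end Groth.Agent.GModLib
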