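import Groth.Agent.GModLib.BorelNonAffine
import Groth.Agent.GModLib.MaxTorusImage
import Groth.Agent.GModLib.MaxTorusGeomConv
import Groth.Agent.GModLib.CartanBorel
import Groth.Agent.Chevalley.BC.NonConn
import Groth.Agent.Chevalley.BC.AffLib
import Groth.Agent.TransLib.Centralizer

/-!
# Conjugacy of Borel subgroups and maximal tori of smooth algebraic groups
-/

set_option autoImplicit false
set_option backward.isDefEq.respectTransparency false
set_option backward.isDefEq.respectTransparency.types false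

universe u

open CategoryTheory Limits AlgebraicGeometry MonoidalCategory CartesianMonoidalCategory MonObj GrpObj

namespace Groth.Agent.GModLib

open GrpSchLib GrpSchLib.Kunneth

variable {k : Type u} [Field k] [IsAlgClosed k]

/-- A subgroup of a solvable group is solvable. -/
theorem isSolvableGrp_of_mono_hom {S : Scheme.{u}} {L B : Over S} [GrpObj L] [GrpObj B] (l : L ⟶ B) [IsMonHom l]
    [Mono l] (hB : Red.IsSolvableGrp B) : Red.IsSolvableGrp L := by
  obtain ⟨n, hn⟩ := hB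
  refine ⟨n, fun X => eq_bot_iff.mpr fun a ha => ?_⟩
  let φ : (X ⟶ L) →* (X ⟶ B) :=
    { toFun := fun y => y ≫ l, map_one' := MonObj.one_comp l, map_mul' := fun p q => MonObj.mul_comp p q l }
  have h := map_derivedSeries_le_derivedSeries φ n (Subgroup.mem_map_of_mem _ ha)
  rw [hn, Subgroup.mem_bot] at h
  rw [Subgroup.mem_bot, ← cancel_mono l]
  exact h.trans (MonObj.one_comp l).symm

/-- Homomorphisms commute with inner automorphisms. -/
theorem inner_comp_hom {P H : Over (Spec (CommRingCat.of k))} [GrpObj P] [GrpObj H] (q : P ⟶ H) [IsMonHom q]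
    (x : 𝟙_ (Over (Spec (CommRingCat.of k))) ⟶ P) : inner x ≫ q = q ≫ inner (x ≫ q) := by
  rw [comp_inner, inner, AGF.conjBy, MonObj.mul_comp, MonObj.mul_comp, GrpObj.inv_comp, Category.id_comp, Category.assoc]

theorem comp_inner_point' {T H : Over (Spec (CommRingCat.of k))} [GrpObj H] (x : VecGrp.pt k k ⟶ H) (f : T ⟶ H)
    (p : VecGrp.pt k k ⟶ T) : p ≫ f ≫ inner (toPt _ ≫ x) = x * (p ≫ f) * x⁻¹ := by
  rw [← Category.assoc, comp_inner, ← Category.assoc, toUnit_toPt, Category.id_comp]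

variable {G : Over (Spec (CommRingCat.of k))} [GrpObj G] [Smooth G.hom] [QuasiCompact G.hom] [ConnectedSpace G.left]

/-- Smooth connected solvable subgroups are conjugate into every Borel subgroup. -/
theorem exists_solvable_into_borel {B : Over (Spec (CommRingCat.of k))} [GrpObj B] (iB : B ⟶ G)
    (hB : Red.IsBorelOver k iB) {D : Over (Spec (CommRingCat.of k))} [GrpObj D] [Smooth D.hom] [QuasiCompact D.hom]
    [ConnectedSpace D.left] (hD : Red.IsSolvableGrp D) (i : D ⟶ G) [IsMonHom i] :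
    ∃ (x : 𝟙_ (Over (Spec (CommRingCat.of k))) ⟶ G) (h : D ⟶ B), h ≫ iB = i ≫ inner x := by
  obtain ⟨I, _, hIa, hIs, hIc, p, hp, hfl, hs, K, _, κ, eK, B₁, _, iB₁, r, hk, heK, hB₁, hr, hrm, hrf, hrs, hrq⟩ :=
    exists_borel_image iB hB
  haveI := hIa; haveI := hIs; haveI := hIc; haveI := hp; haveI := hfl; haveI := hs
  haveI := hrm; haveI := hrs; haveI := hB.1; haveI := hB.2.1; haveI := hB.2.2.1
  haveI := hB₁.1; haveI := hB₁.2.1; haveI := hB₁.2.2.1
  obtain ⟨D', _, p', j, hp', hj, hpj, hjc, hjf, hjs, hjl, hjq⟩ := ImageFactor.exists_image (i ≫ p)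
  haveI := hp'; haveI := hj; haveI := hjc; haveI := hjf; haveI := hjs; haveI := hjl; haveI := hjq
  haveI : Smooth D'.hom := (S7983.result k D D' p').2.1 inferInstance
  haveI : ConnectedSpace D'.left := (S7983.result k D D' p').2.2 inferInstance
  obtain ⟨g₀, e₀, he₀⟩ := exists_conj_factor iB₁ (borel_cocompact iB₁ hB₁) j (S7997.result k D D' p' hD)
  haveI : LocallyOfFiniteType p.left := by
    haveI : LocallyOfFiniteType (p.left ≫ I.hom) := by rw [Over.w p]; infer_instance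
    exact locallyOfFiniteType_of_comp p.left I.hom
  haveI : LocallyOfFiniteType r.left := by
    haveI : LocallyOfFiniteType (r.left ≫ B₁.hom) := by rw [Over.w r]; infer_instance
    exact locallyOfFiniteType_of_comp r.left B₁.hom
  obtain ⟨x₀, hx₀⟩ := exists_point_lift (K := k) p (toUnit (VecGrp.pt k k) ≫ g₀⁻¹)
  obtain ⟨x, hxdef⟩ : ∃ x : 𝟙_ (Over (Spec (CommRingCat.of k))) ⟶ G, x = toPt _ ≫ x₀ := ⟨_, rfl⟩
  have hxp : x ≫ p = g₀⁻¹ := by
    rw [hxdef, Category.assoc, hx₀, ← Category.assoc, toUnit_unique (toPt _ ≫ toUnit _) (𝟙 _), Category.id_comp]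
  haveI : IsReduced D.left := GrpSchLib.isReduced_of_smooth_field D.hom
  obtain ⟨h, hh⟩ := exists_factor_of_points iB (i ≫ inner x) fun d => by
    obtain ⟨b₀, hb₀⟩ := exists_point_lift (K := k) r (d ≫ p' ≫ e₀)
    have e : (d ≫ i ≫ inner x) ≫ p = (b₀ ≫ iB) ≫ p := by
      rw [Category.assoc b₀, ← hr, reassoc_of% hb₀, Category.assoc, Category.assoc, inner_comp_hom, hxp, ← reassoc_of% hpj]
      conv_lhs => rw [he₀]
      simp only [Category.assoc]
      rw [inner_inner, inv_mul_cancel, inner_one, Category.comp_id]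
    let z := hk.lift ((d ≫ i ≫ inner x) * (b₀ ≫ iB)⁻¹) (toUnit _) (by
      rw [MonObj.mul_comp, GrpObj.inv_comp, e, mul_inv_cancel, Hom.one_def])
    refine ⟨(z ≫ eK) * b₀, ?_⟩
    rw [MonObj.mul_comp, Category.assoc, heK, show z ≫ κ = _ from hk.lift_fst _ _ _, inv_mul_cancel_right]
  exact ⟨x, h, hh⟩

/-- Borel subgroups of a smooth connected group are conjugate. -/
theorem borel_conj_nonaffine {B₁ B₂ : Over (Spec (CommRingCat.of k))} [GrpObj B₁] [GrpObj B₂] (b₁ : B₁ ⟶ G)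
    (b₂ : B₂ ⟶ G) (h₁ : Red.IsBorelOver k b₁) (h₂ : Red.IsBorelOver k b₂) :
    ∃ (x : 𝟙_ (Over (Spec (CommRingCat.of k))) ⟶ G) (e : B₁ ≅ B₂), e.hom ≫ b₂ = b₁ ≫ inner x := by
  haveI := h₁.1; haveI := h₁.2.1; haveI := h₁.2.2.1; haveI := h₁.2.2.2.1
  haveI : QuasiCompact B₁.hom := by rw [← Over.w b₁]; infer_instance
  obtain ⟨x, h, hh⟩ := exists_solvable_into_borel b₂ h₂ h₁.2.2.2.2.1 b₁
  haveI := h₂.1; haveI := h₂.2.1
  haveI : IsClosedImmersion (b₂ ≫ inner x⁻¹).left := by rw [Over.comp_left]; infer_instance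
  haveI : IsIso h := h₁.2.2.2.2.2 B₂ (b₂ ≫ inner x⁻¹) h inferInstance h₂.2.2.1 h₂.2.2.2.1 h₂.2.2.2.2.1
    (by rw [← Category.assoc, hh, Category.assoc, inner_inner, inv_mul_cancel, inner_one, Category.comp_id])
  exact ⟨x, asIso h, hh⟩

set_option maxHeartbeats 1000000 in
/-- A maximal torus of a Borel subgroup is maximal in the group. -/
theorem isMaxTorus_of_borel {B T : Over (Spec (CommRingCat.of k))} [GrpObj B] [GrpObj T] (iB : B ⟶ G)
    (hB : Red.IsBorelOver k iB) (t : T ⟶ B) (hT : AGF.IsMaxTorus t) : AGF.IsMaxTorus (t ≫ iB) := by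
  haveI := hB.1; haveI := hB.2.1; haveI := hB.2.2.1; haveI := hB.2.2.2.1
  haveI := hT.1; haveI := hT.2.1
  haveI : Mono iB := Over.mono_of_mono_left iB
  haveI : QuasiCompact B.hom := by rw [← Over.w iB]; infer_instance
  refine ⟨inferInstance, inferInstance, hT.2.2.1, fun T' _ j _ _ f hT' hf => ?_⟩
  obtain ⟨q1, q2, q3, -, -⟩ := TorusBasic.torus_props hT.2.2.1
  obtain ⟨r1, r2, r3, -, -⟩ := TorusBasic.torus_props hT'
  haveI := q1; haveI := q2; haveI := q3; haveI := r1; haveI := r2; haveI := r3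
  haveI : QuasiCompact T.hom := inferInstance
  haveI : QuasiCompact T'.hom := inferInstance
  obtain ⟨x, h, hh⟩ := exists_solvable_into_borel iB hB (isSolvableGrp_of_torus hT') j
  haveI : IsMonHom (h ≫ iB) := hh ▸ inferInstance
  haveI : IsMonHom h := isMonHom_of_comp h iB
  obtain ⟨L, _, l, hl, hfac⟩ := Chevalley.BC.exists_affPart B
  haveI := hl.hom; haveI := hl.closed; haveI := hl.smooth; haveI := hl.conn
  haveI : IsAffine L.left := hl.prop
  haveI : Mono l := Over.mono_of_mono_left l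
  obtain ⟨eT, heT⟩ := hfac T t
  obtain ⟨eh, heh⟩ := hfac T' h
  haveI : IsMonHom (eT ≫ l) := heT ▸ inferInstance
  haveI : IsMonHom eT := isMonHom_of_comp eT l
  haveI : IsMonHom (eh ≫ l) := heh ▸ inferInstance
  haveI : IsMonHom eh := isMonHom_of_comp eh l
  haveI : Mono (eT ≫ l) := heT ▸ inferInstance
  haveI : Mono eT := mono_of_mono eT l
  have hTL : AGF.IsMaxTorus eT := ⟨inferInstance, inferInstance, hT.2.2.1, fun T'' _ j' _ _ f' hT'' hf' =>
    hT.2.2.2 T'' (j' ≫ l) f' hT'' (by rw [← Category.assoc, hf', heT])⟩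
  obtain ⟨T₀, _, i₀, hi₀, hi₀c, hT₀, hconj⟩ :=
    exists_torus_conj_solvable (G := L) (isSolvableGrp_of_mono_hom l hB.2.2.2.2.1)
  haveI := hi₀; haveI := hi₀c
  haveI : Mono i₀ := Over.mono_of_mono_left i₀
  obtain ⟨x₁, e₁, he₁⟩ := hconj T eT hT.2.2.1
  haveI : IsIso e₁ := isIso_of_maxTorus eT hTL i₀ hT₀ e₁ x₁ he₁
  obtain ⟨x₂, e₂, he₂⟩ := hconj T' eh hT'
  haveI := torus_isClosedImmersion hT.2.2.1 eT
  haveI : IsClosedImmersion (t ≫ iB).left := by
    rw [← heT, Over.comp_left, Over.comp_left]; infer_instance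
  obtain ⟨y₁, hy₁⟩ : ∃ y, y = (x₁ ≫ l) ≫ iB := ⟨_, rfl⟩
  obtain ⟨y₂, hy₂⟩ : ∃ y, y = (x₂ ≫ l) ≫ iB := ⟨_, rfl⟩
  have h1 : (e₂ ≫ inv e₁) ≫ t ≫ iB = j ≫ inner (y₁⁻¹ * (y₂ * x)) := by
    have a1 : e₁ ≫ i₀ ≫ l ≫ iB = (t ≫ iB) ≫ inner y₁ := by
      rw [reassoc_of% he₁, ← Category.assoc (inner x₁) l, inner_comp_hom, Category.assoc l, inner_comp_hom, ← hy₁,
        ← heT]
      simp only [Category.assoc]
    have a2 : e₂ ≫ i₀ ≫ l ≫ iB = j ≫ inner (y₂ * x) := by
      rw [reassoc_of% he₂, ← Category.assoc (inner x₂) l, inner_comp_hom, Category.assoc l, inner_comp_hom, ← hy₂,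
        ← inner_inner, reassoc_of% heh, ← Category.assoc, hh, Category.assoc]
    have a3 : i₀ ≫ l ≫ iB ≫ inner y₁⁻¹ = inv e₁ ≫ t ≫ iB := by
      rw [← cancel_epi e₁, IsIso.hom_inv_id_assoc, reassoc_of% a1, inner_inner, inv_mul_cancel, inner_one,
        Category.comp_id]
    rw [Category.assoc, ← a3, reassoc_of% a2, inner_inner]
  obtain ⟨w, hw⟩ : ∃ w, w = y₁⁻¹ * (y₂ * x) := ⟨_, rfl⟩
  rw [← hw] at h1
  have hcomp : (f ≫ e₂ ≫ inv e₁) ≫ t ≫ iB = (t ≫ iB) ≫ inner w := by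
    rw [Category.assoc, h1, reassoc_of% hf, Category.assoc]
  haveI : IsClosedImmersion (f ≫ e₂ ≫ inv e₁).left := by
    haveI : IsClosedImmersion ((f ≫ e₂ ≫ inv e₁).left ≫ (t ≫ iB).left) := by
      rw [← Over.comp_left, hcomp, Over.comp_left]; infer_instance
    exact IsClosedImmersion.of_comp _ (t ≫ iB).left
  haveI : IsReduced T.left := GrpSchLib.isReduced_of_smooth_field T.hom
  haveI := isIso_of_isClosedImmersion_endo (f ≫ e₂ ≫ inv e₁)
  haveI : IsSplitEpi (e₂ ≫ inv e₁) := ⟨⟨⟨inv (f ≫ e₂ ≫ inv e₁) ≫ f, by simp⟩⟩⟩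
  haveI : Mono ((e₂ ≫ inv e₁) ≫ t ≫ iB) := by rw [h1]; infer_instance
  haveI : Mono (e₂ ≫ inv e₁) := mono_of_mono (e₂ ≫ inv e₁) (t ≫ iB)
  haveI : IsIso (e₂ ≫ inv e₁) := isIso_of_mono_of_isSplitEpi (e₂ ≫ inv e₁)
  exact IsIso.of_isIso_comp_right f (e₂ ≫ inv e₁)

set_option maxHeartbeats 1000000 in
/-- In a smooth connected group the centralizer of a maximal torus of a Borel subgroup lies in it. -/
theorem centralizer_point_mem_borel {B T : Over (Spec (CommRingCat.of k))} [GrpObj B] [GrpObj T] (iB : B ⟶ G)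
    (hB : Red.IsBorelOver k iB) (t : T ⟶ B) [IsMonHom t] (hT : AGF.IsMaxTorus (t ≫ iB)) (g : VecGrp.pt k k ⟶ G)
    (hg : ∀ s : VecGrp.pt k k ⟶ T, Commute g (s ≫ t ≫ iB)) : ∃ b, b ≫ iB = g := by
  obtain ⟨I, _, hIa, hIs, hIc, p, hp, hfl, hs, K, _, κ, eK, B₁, _, iB₁, r, hk, heK, hB₁, hr, hrm, hrf, hrs, hrq⟩ :=
    exists_borel_image iB hB
  haveI := hIa; haveI := hIs; haveI := hIc; haveI := hp; haveI := hfl; haveI := hs
  haveI := hrm; haveI := hrs; haveI := hB.1; haveI := hB.2.1; haveI := hB.2.2.1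
  haveI := hB₁.1; haveI := hB₁.2.1; haveI := hB₁.2.2.1
  haveI := hT.1; haveI := hT.2.1
  obtain ⟨q1, q2, q3, -, -⟩ := TorusBasic.torus_props hT.2.2.1
  haveI := q1; haveI := q2; haveI := q3
  -- the affine part surjects onto the affine quotient
  obtain ⟨L, _, l, hl, hfac⟩ := Chevalley.BC.exists_affPart G
  haveI := hl.hom; haveI := hl.closed; haveI := hl.smooth; haveI := hl.conn
  haveI : IsAffine L.left := hl.prop
  haveI : Mono l := Over.mono_of_mono_left l
  obtain ⟨Q, _, q, hq, hqs, hqf, hkq, hQp, -, -⟩ :=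
    Chevalley.BC.exists_quot_of_max l fun N' _ i' _ _ _ _ _ _ => hfac N' i'
  haveI := hq; haveI := hqs; haveI := hqf; haveI := hQp
  haveI : QuasiCompact I.hom := inferInstance
  haveI := Chevalley.BC.surjective_comp_affine l hl.normal q hkq p
  obtain ⟨eT, heT⟩ := hfac T (t ≫ iB)
  haveI : IsMonHom (eT ≫ l) := heT ▸ inferInstance
  haveI : IsMonHom eT := isMonHom_of_comp eT l
  haveI : Mono (eT ≫ l) := heT ▸ inferInstance
  haveI : Mono eT := mono_of_mono eT l
  have hTL : AGF.IsMaxTorus eT := ⟨inferInstance, inferInstance, hT.2.2.1, fun T'' _ j' _ _ f' hT'' hf' =>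
    hT.2.2.2 T'' (j' ≫ l) f' hT'' (by rw [← Category.assoc, hf', heT])⟩
  obtain ⟨M, _, iM₀, e, y, hMm, hMcl, hMt, hes, he, -⟩ := exists_maxTorus_onto (l ≫ p) eT hTL
  haveI := hMm; haveI := hMcl; haveI := hes
  obtain ⟨iM, hiM⟩ : ∃ i : M ⟶ I, i = iM₀ ≫ inner y⁻¹ := ⟨_, rfl⟩
  haveI : IsMonHom iM := hiM ▸ inferInstance
  haveI : IsClosedImmersion iM.left := by rw [hiM, Over.comp_left]; infer_instance
  have hee : e ≫ iM = eT ≫ l ≫ p := by
    rw [hiM, ← Category.assoc, he, Category.assoc, inner_inner, inv_mul_cancel, inner_one, Category.comp_id]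
  obtain ⟨r1, r2, r3, -, -⟩ := TorusBasic.torus_props hMt
  haveI := r1; haveI := r2; haveI := r3
  haveI : IsReduced M.left := GrpSchLib.isReduced_of_smooth_field M.hom
  have hM : AGF.IsMaxTorus iM := isMaxTorus_image (l ≫ p) eT hTL iM e hee
  haveI := hM.2.1
  haveI : LocallyOfFiniteType e.left := by
    haveI : LocallyOfFiniteType (e.left ≫ M.hom) := by rw [Over.w e]; infer_instance
    exact locallyOfFiniteType_of_comp e.left M.hom
  have hpts : ∀ m : VecGrp.pt k k ⟶ M, ∃ s : VecGrp.pt k k ⟶ T, m ≫ iM = s ≫ t ≫ iB ≫ p := fun m => by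
    obtain ⟨s, hs⟩ := exists_point_lift (K := k) e m
    exact ⟨s, by rw [← hs, Category.assoc, hee, reassoc_of% heT]⟩
  obtain ⟨m₁, hm₁⟩ := exists_factor_of_points iB₁ iM fun m => by
    obtain ⟨s, hs⟩ := hpts m
    exact ⟨s ≫ t ≫ r, by rw [hs]; simp only [Category.assoc, hr]⟩
  -- the centralizer of its image
  obtain ⟨C, _, c, hcm, hcc, hcu⟩ := TransLib.exists_centralizer iM
  haveI := hcm; haveI := hcc
  haveI : Mono c := Over.mono_of_mono_left c
  have hc : Red.IsCentralizerOf iM c := ⟨inferInstance, inferInstance, hcu⟩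
  haveI : Mono iB₁ := Over.mono_of_mono_left iB₁
  obtain ⟨E, _, dC, hdC, dB, hE⟩ := exists_grp_pullback c iB₁
  haveI := hdC
  haveI := centralizer_le_borel_algClosed iM hM c hc iB₁ hB₁ m₁ hm₁ dC dB hE
  obtain ⟨g', hg'⟩ : ∃ g' : 𝟙_ (Over (Spec (CommRingCat.of k))) ⟶ I, g' = toPt _ ≫ g ≫ p := ⟨_, rfl⟩
  have hinv : iM ≫ inner g' = iM := hom_ext_points fun m => by
    obtain ⟨s, hs⟩ := hpts m
    rw [hg', comp_inner_point', hs, ← Category.assoc t iB p, ← Category.assoc s, ← MonObj.mul_comp, (hg s).eq,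
      MonObj.mul_comp, mul_inv_cancel_right]
  obtain ⟨z, hz⟩ := (hcu _ (g ≫ p)).mpr fun X' x m => by
    have e1 := comp_inner g' (m ≫ iM)
    rw [Category.assoc m, hinv, show toUnit X' ≫ g' = x ≫ g ≫ p by
      rw [hg', ← Category.assoc, show toUnit X' ≫ toPt _ = x by conv_rhs => rw [← Category.comp_id x, ← toUnit_toPt, ← Category.assoc, comp_toUnit]]] at e1
    exact (eq_mul_inv_iff_mul_eq.mp e1).symm
  obtain ⟨b₁, hb₁⟩ : ∃ b₁, b₁ ≫ iB₁ = g ≫ p :=
    ⟨z ≫ inv dC ≫ dB, by rw [Category.assoc, Category.assoc, ← hE.w, IsIso.inv_hom_id_assoc, hz]⟩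
  haveI : LocallyOfFiniteType r.left := by
    haveI : LocallyOfFiniteType (r.left ≫ B₁.hom) := by rw [Over.w r]; infer_instance
    exact locallyOfFiniteType_of_comp r.left B₁.hom
  obtain ⟨b₀, hb₀⟩ := exists_point_lift (K := k) r b₁
  let a := hk.lift (g * (b₀ ≫ iB)⁻¹) (toUnit _) (by
    rw [MonObj.mul_comp, GrpObj.inv_comp, Category.assoc b₀, ← hr, reassoc_of% hb₀, hb₁, mul_inv_cancel, Hom.one_def])
  exact ⟨(a ≫ eK) * b₀, by
    rw [MonObj.mul_comp, Category.assoc, heK, show a ≫ κ = _ from hk.lift_fst _ _ _, inv_mul_cancel_right]⟩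

set_option maxHeartbeats 1000000 in
/-- The centralizer of a maximal torus of a Borel subgroup lies in it. -/
theorem centralizer_le_borel_nonaffine {B T : Over (Spec (CommRingCat.of k))} [GrpObj B] [GrpObj T] (iB : B ⟶ G)
    (hB : Red.IsBorelOver k iB) (t : T ⟶ B) [IsMonHom t] (hT : AGF.IsMaxTorus (t ≫ iB))
    {X : Over (Spec (CommRingCat.of k))} (g : X ⟶ G)
    (hg : ∀ (X' : Over (Spec (CommRingCat.of k))) (x : X' ⟶ X) (s : X' ⟶ T),
      Commute (x ≫ g) (s ≫ t ≫ iB)) : ∃ b, b ≫ iB = g := by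
  haveI := hT.1; haveI := hT.2.1; haveI := hB.1; haveI := hB.2.1
  obtain ⟨C, _, c, hcm, hcc, hcu⟩ := TransLib.exists_centralizer (t ≫ iB)
  haveI := hcm; haveI := hcc
  haveI : Mono c := Over.mono_of_mono_left c
  have hc : Red.IsCentralizerOf (t ≫ iB) c := ⟨inferInstance, inferInstance, hcu⟩
  obtain ⟨hsm, -⟩ := centralizer_smooth_connected_nonaffine (t ≫ iB) hT.2.2.1 c hc
  haveI := hsm
  haveI : IsReduced C.left := GrpSchLib.isReduced_of_smooth_field C.hom
  obtain ⟨f, hf⟩ := exists_factor_of_points iB c fun p => by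
    refine centralizer_point_mem_borel iB hB t hT _ fun s => ?_
    have h := (hcu _ (p ≫ c)).mp ⟨p, rfl⟩ _ (𝟙 _) s
    rwa [Category.id_comp] at h
  obtain ⟨z, hz⟩ := (hcu _ g).mpr hg
  exact ⟨z ≫ f, by rw [Category.assoc, hf, hz]⟩

end Groth.Agent.GModLib
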