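import Groth.Agent.GModLib.Parabolic
import Groth.Agent.GrpSchLib.AntiAffineHom
import Groth.Agent.GrpSchLib.SmoothQuot

/-!
# Images of Borel subgroups over a field
-/

set_option autoImplicit false
set_option backward.isDefEq.respectTransparency false
set_option backward.isDefEq.respectTransparency.types false

universe u

open CategoryTheory Limits AlgebraicGeometry MonoidalCategory CartesianMonoidalCategory MonObj GrpObj

namespace Groth.Agent.GModLib

open GrpSchLib GrpSchLib.Kunneth GrpFieldLib

/-- A morphism lifts through a monomorphism if it does so after a faithfully flat quasi-compact cover. -/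
theorem factor_of_cover {S : Scheme.{u}} {A B Z G : Over S} (c : A ⟶ B) [Flat c.left] [Surjective c.left]
    [QuasiCompact c.left] (i : Z ⟶ G) [Mono i] (f : B ⟶ G) (z : A ⟶ Z) (h : z ≫ i = c ≫ f) :
    ∃ u : B ⟶ Z, u ≫ i = f := by
  obtain ⟨e, he⟩ := QuotTower.exists_desc c z fun a a' ha => by
    rw [← cancel_mono i, Category.assoc, Category.assoc, h, ← Category.assoc, ha, Category.assoc]
  haveI : Epi c := Over.epi_of_epi_left _
  exact ⟨e, by rw [← cancel_epi c, ← Category.assoc, he, h]⟩

/-- The property of being a Borel subgroup is transported by isomorphisms. -/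
theorem isBorelOver_of_iso {k : Type u} [Field k] {G B B' : Over (Spec (CommRingCat.of k))} [GrpObj G] [GrpObj B]
    [GrpObj B'] (iB : B ⟶ G) (hB : Red.IsBorelOver k iB) (iB' : B' ⟶ G) [IsMonHom iB'] (e : B' ≅ B)
    (he : e.hom ≫ iB = iB') : Red.IsBorelOver k iB' := by
  obtain ⟨h1, h2, h3, h4, ⟨n, hn⟩, -⟩ := id hB
  haveI := h1; haveI := h2; haveI := h3; haveI := h4
  haveI : IsIso e.hom.left := inferInstanceAs (IsIso ((Over.forget _).map e.hom))
  haveI : Mono iB := Over.mono_of_mono_left iB
  haveI : IsMonHom (e.hom ≫ iB) := he ▸ inferInstance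
  haveI : IsMonHom e.hom := isMonHom_of_comp e.hom iB
  refine ⟨inferInstance, by rw [← he, Over.comp_left]; infer_instance, by rw [← Over.w e.hom]; infer_instance,
    e.inv.left.surjective.connectedSpace e.inv.left.continuous, ⟨n, fun X => eq_bot_iff.mpr fun a ha => ?_⟩,
    fun D _ i' _ f hc hs hc' hl hf => ?_⟩
  · let φ : (X ⟶ B') →* (X ⟶ B) :=
      { toFun := fun y => y ≫ e.hom, map_one' := MonObj.one_comp e.hom, map_mul' := fun p q => MonObj.mul_comp p q e.hom }
    have h1 := map_derivedSeries_le_derivedSeries φ n (Subgroup.mem_map_of_mem _ ha)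
    rw [hn, Subgroup.mem_bot] at h1
    rw [Subgroup.mem_bot, ← cancel_mono e.hom]
    show φ a = φ 1
    rw [h1, map_one]
  · haveI : IsIso (e.inv ≫ f) := hB.2.2.2.2.2 D i' (e.inv ≫ f) hc hs hc' hl (by rw [Category.assoc, hf, ← he, e.inv_hom_id_assoc])
    exact IsIso.of_isIso_comp_left e.inv f

set_option maxHeartbeats 1000000 in
/-- The image of a Borel subgroup is a Borel subgroup, over any field. -/
theorem isBorel_image {k : Type u} [Field k] {G Q B B' : Over (Spec (CommRingCat.of k))} [GrpObj G] [IsAffine G.left]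
    [Smooth G.hom] [ConnectedSpace G.left] [GrpObj Q] [IsAffine Q.left] [Smooth Q.hom]
    (q : G ⟶ Q) [IsMonHom q] [Surjective q.left] [GrpObj B] (iB : B ⟶ G) (hB : Red.IsBorel iB) [GrpObj B']
    (iB' : B' ⟶ Q) [IsMonHom iB'] [IsClosedImmersion iB'.left] [IsReduced B'.left] (p : B ⟶ B') [Surjective p.left]
    (hp : p ≫ iB' = iB ≫ q) : Red.IsBorel iB' := by
  obtain ⟨hm, hcl, hsm, hgeo⟩ := hB
  haveI := hm; haveI := hcl; haveI := hsm
  haveI : Mono iB' := Over.mono_of_mono_left iB'
  haveI : QuasiCompact Q.hom := inferInstance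
  haveI : QuasiCompact B.hom := by rw [← Over.w iB]; infer_instance
  haveI : QuasiCompact B'.hom := by rw [← Over.w iB']; infer_instance
  haveI : LocallyOfFiniteType B'.hom := by rw [← Over.w iB']; infer_instance
  haveI : IsMonHom (p ≫ iB') := hp ▸ inferInstance
  haveI : IsMonHom p := isMonHom_of_comp p iB'
  haveI : LocallyOfFiniteType p.left := by
    haveI : LocallyOfFiniteType (p.left ≫ B'.hom) := by rw [Over.w p]; infer_instance
    exact locallyOfFiniteType_of_comp p.left B'.hom
  haveI : IsSeparated B'.hom := by rw [← Over.w iB']; infer_instance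
  haveI : QuasiCompact p.left := by
    haveI : QuasiCompact (p.left ≫ B'.hom) := by rw [Over.w p]; infer_instance
    exact QuasiCompact.of_comp p.left B'.hom
  haveI : Flat p.left := GrpSchLib.flat_of_surjective_hom p
  haveI : Smooth B'.hom := by
    haveI : Smooth (p.left ≫ B'.hom) := by rw [Over.w p]; infer_instance
    exact GrpSchLib.smooth_of_flat_surjective p.left B'.hom
  refine ⟨inferInstance, inferInstance, inferInstance, fun s => ?_⟩
  let σ := Red.geomPt s
  haveI : IsAffine (Red.bc σ G).left := inferInstanceAs (IsAffine (pullback G.hom σ))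
  haveI : Smooth (Red.bc σ G).hom := inferInstanceAs (Smooth (pullback.snd G.hom σ))
  haveI : IsAffine (Red.bc σ Q).left := inferInstanceAs (IsAffine (pullback Q.hom σ))
  haveI : Smooth (Red.bc σ Q).hom := inferInstanceAs (Smooth (pullback.snd Q.hom σ))
  haveI : ConnectedSpace (Red.bc σ G).left := by
    have h := GrpSchLib.AntiAffine.connectedSpace_bc G (Spec.preimage σ).hom
    rwa [CommRingCat.ofHom_hom, Spec.map_preimage] at h
  have hsq : ∀ {X Y : Over (Spec (CommRingCat.of k))} (f : X ⟶ Y),
      IsPullback (pullback.fst X.hom σ) ((Over.pullback σ).map f).left f.left (pullback.fst Y.hom σ) := fun {X Y} f => by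
    refine IsPullback.of_bot ?_ (by simp) (IsPullback.of_hasPullback Y.hom σ)
    rw [show f.left ≫ Y.hom = X.hom from Over.w f,
      show ((Over.pullback σ).map f).left ≫ pullback.snd Y.hom σ = pullback.snd X.hom σ from Over.w _]
    exact IsPullback.of_hasPullback X.hom σ
  let pσ : Red.bc σ B ⟶ Red.bc σ B' := (Over.pullback σ).map p
  let qσ : Red.bc σ G ⟶ Red.bc σ Q := (Over.pullback σ).map q
  haveI : Surjective qσ.left := MorphismProperty.of_isPullback (P := @Surjective) (hsq q) ‹_›
  haveI : Surjective pσ.left := MorphismProperty.of_isPullback (P := @Surjective) (hsq p) ‹_›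
  haveI : Flat pσ.left := MorphismProperty.of_isPullback (P := @Flat) (hsq p) ‹_›
  haveI : QuasiCompact pσ.left := MorphismProperty.of_isPullback (P := @QuasiCompact) (hsq p) ‹_›
  obtain ⟨B₁, _, j, p₁, hB₁, hp₁, -, hp₁s, hp₁f⟩ :=
    exists_borel_image_affine qσ ((Over.pullback σ).map iB) (hgeo s)
  haveI := hB₁.2.1; haveI := hp₁s; haveI := hp₁f
  haveI : Mono j := Over.mono_of_mono_left j
  haveI : Smooth (Red.bc σ B').hom := inferInstanceAs (Smooth (pullback.snd B'.hom σ))
  haveI : QuasiCompact (Red.bc σ B).hom := inferInstanceAs (QuasiCompact (pullback.snd B.hom σ))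
  haveI : QuasiCompact p₁.left := by
    haveI : IsAffine B₁.left := isAffine_of_isAffineHom j.left
    haveI : IsSeparated B₁.hom := inferInstance
    haveI : QuasiCompact (p₁.left ≫ B₁.hom) := by rw [Over.w p₁]; infer_instance
    exact QuasiCompact.of_comp p₁.left B₁.hom
  have hp' : pσ ≫ (Over.pullback σ).map iB' = (Over.pullback σ).map iB ≫ qσ := by
    rw [← Functor.map_comp, hp, Functor.map_comp]
  obtain ⟨u, hu⟩ := factor_of_cover p₁ ((Over.pullback σ).map iB') j pσ (by rw [hp', hp₁])
  obtain ⟨v, hv⟩ := factor_of_cover pσ j ((Over.pullback σ).map iB') p₁ (by rw [hp', hp₁])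
  exact isBorelOver_of_iso j hB₁ _ ⟨v, u,
    by rw [← cancel_mono ((Over.pullback σ).map iB'), Category.assoc, hu, hv, Category.id_comp],
    by rw [← cancel_mono j, Category.assoc, hv, hu, Category.id_comp]⟩ hv

end Groth.Agent.GModLib
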