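import Groth.Agent.GModLib.ConjBorel
import Groth.Agent.GrpSchLib.AntiAffineRosenlicht
import Groth.Agent.S11412
import Groth.Agent.S7983
import Groth.Agent.S7997

/-!
# Borel subgroups of a smooth connected group from those of its affinization
-/

set_option autoImplicit false
set_option backward.isDefEq.respectTransparency false
set_option backward.isDefEq.respectTransparency.types false

universe u

open CategoryTheory Limits AlgebraicGeometry MonoidalCategory CartesianMonoidalCategory MonObj GrpObj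

namespace Groth.Agent.GModLib

open GrpSchLib GrpSchLib.Kunneth

variable {k : Type u} [Field k] [IsAlgClosed k]

/-- A subgroup of points which is the set of points in a closed set is given by a smooth closed subgroup. -/
theorem exists_subgroup_of_isClosed {G : Over (Spec (CommRingCat.of k))} [GrpObj G] [LocallyOfFiniteType G.hom]
    (H : Subgroup (VecGrp.pt k k ⟶ G)) {S : Set G.left} (hS : IsClosed S)
    (hH : ∀ g : VecGrp.pt k k ⟶ G, g.left (IsLocalRing.closedPoint k) ∈ S ↔ g ∈ H) :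
    ∃ (C : Over (Spec (CommRingCat.of k))) (_ : GrpObj C) (i : C ⟶ G) (_ : IsMonHom i),
      IsClosedImmersion i.left ∧ Smooth C.hom ∧ ∀ g, (∃ c : VecGrp.pt k k ⟶ C, c ≫ i = g) ↔ g ∈ H := by
  obtain ⟨W, j, hj, hred, hrange⟩ := H23.RedSub.exists_reduced_subscheme G.left hS.isLocallyClosed
  haveI : IsClosedImmersion j := .of_isPreimmersion j (by rw [hrange]; exact hS)
  let Z : Over (Spec (CommRingCat.of k)) := Over.mk (j ≫ G.hom)
  let i : Z ⟶ G := Over.homMk j rfl
  haveI : IsReduced Z.left := hred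
  haveI : LocallyOfFiniteType Z.hom := inferInstanceAs (LocallyOfFiniteType (j ≫ G.hom))
  haveI : IsClosedImmersion i.left := inferInstanceAs (IsClosedImmersion j)
  haveI : Mono i := Over.mono_of_mono_left i
  haveI : IsReduced (𝟙_ (Over (Spec (CommRingCat.of k)))).left := inferInstanceAs (IsReduced (Spec (CommRingCat.of k)))
  haveI : LocallyOfFiniteType (𝟙_ (Over (Spec (CommRingCat.of k)))).hom :=
    inferInstanceAs (LocallyOfFiniteType (𝟙 (Spec (CommRingCat.of k))))
  haveI : IsReduced (Z ⊗ Z).left := GrpSchLib.isReduced_pullback_of_perfectField Z.hom Z.hom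
  haveI : LocallyOfFiniteType (Z ⊗ Z).hom :=
    inferInstanceAs (LocallyOfFiniteType (pullback.fst Z.hom Z.hom ≫ Z.hom))
  have hmem : ∀ z : VecGrp.pt k k ⟶ Z, z ≫ i ∈ H := fun z => (hH _).1 (hrange ▸ ⟨_, rfl⟩)
  have hlift : ∀ g ∈ H, ∃ z : VecGrp.pt k k ⟶ Z, z ≫ i = g := fun g hg =>
    exists_lift_point i g (by show _ ∈ Set.range j; rw [hrange]; exact (hH g).2 hg)
  obtain ⟨e, he⟩ := exists_factor_of_points i η[G] fun p => hlift _ (by
    rw [MonObj.one_eq_one, MonObj.comp_one]; exact one_mem H)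
  obtain ⟨m, hm⟩ := exists_factor_of_points i ((fst Z Z ≫ i) * (snd Z Z ≫ i)) fun p => hlift _ (by
    rw [MonObj.comp_mul, ← Category.assoc, ← Category.assoc]
    exact mul_mem (hmem _) (hmem _))
  obtain ⟨v, hv⟩ := exists_factor_of_points i i⁻¹ fun p => hlift _ (by
    rw [GrpObj.comp_inv]; exact inv_mem (hmem p))
  obtain ⟨str, hi⟩ := GrpSchLib.exists_grpObj_of_mono i e he m hm v hv
  refine ⟨Z, str, i, hi, inferInstance, GrpSchLib.smooth_of_perfectField_of_isReduced Z, fun g => ⟨?_, hlift g⟩⟩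
  rintro ⟨c, rfl⟩
  exact hmem c

/-- The affinization of a smooth connected group: a smooth connected affine quotient with connected commutative
kernel on points. -/
theorem exists_affine_quotient (G : Over (Spec (CommRingCat.of k))) [GrpObj G] [Smooth G.hom] [QuasiCompact G.hom]
    [ConnectedSpace G.left] :
    ∃ (I : Over (Spec (CommRingCat.of k))) (_ : GrpObj I) (_ : IsAffine I.left) (_ : Smooth I.hom)
      (_ : ConnectedSpace I.left) (p : G ⟶ I) (_ : IsMonHom p) (_ : Flat p.left) (_ : Surjective p.left)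
      (K : Over (Spec (CommRingCat.of k))) (_ : GrpObj K) (_ : ConnectedSpace K.left) (κ : K ⟶ G) (_ : IsMonHom κ),
      LocallyOfFiniteType K.hom ∧ IsReduced K.left ∧ κ ≫ p = 1 ∧
        ∀ x : VecGrp.pt k k ⟶ G, x ≫ p = 1 ↔ ∃ z : VecGrp.pt k k ⟶ K, z ≫ κ = x ∧ ∀ g, Commute x g := by
  obtain ⟨I, _, p, K, _, κ, hp, hI, hIl, hIq, hfl, hs, hκ, hκc, hk, hbij⟩ :=
    Rosenlicht.exists_antiAffine_kernel G
  haveI := hp; haveI := hI; haveI := hIl; haveI := hIq; haveI := hfl; haveI := hs; haveI := hκ; haveI := hκc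
  haveI : LocallyOfFiniteType K.hom := by rw [← Over.w κ]; infer_instance
  haveI : QuasiCompact K.hom := by rw [← Over.w κ]; infer_instance
  have hO := (AntiAffine.bijective_appTop_iff K.hom).mpr hbij
  haveI : ConnectedSpace K.left := (S3293.result k K hO).1
  haveI : Smooth I.hom := (S7983.result k G I p).2.1 inferInstance
  haveI : ConnectedSpace I.left := (S7983.result k G I p).2.2 inferInstance
  haveI : Smooth K.hom := (S11412.result k K hO).1
  refine ⟨I, inferInstance, hI, inferInstance, inferInstance, p, hp, hfl, hs, K, inferInstance, inferInstance, κ, hκ,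
    inferInstance, GrpSchLib.isReduced_of_smooth_field K.hom,
    by rw [hk.w, ← Hom.one_def], fun x => ⟨fun hx => ?_, ?_⟩⟩
  · let z := hk.lift x (toUnit _) (by rw [hx, Hom.one_def])
    refine ⟨z, hk.lift_fst _ _ _, fun g => ?_⟩
    have h := S7996.result k K G hO κ (VecGrp.pt k k) z (VecGrp.pt k k) (𝟙 _) g
    rw [Category.id_comp, hk.lift_fst] at h
    exact h
  · rintro ⟨z, rfl, -⟩
    rw [Category.assoc, hk.w, ← Hom.one_def, MonObj.comp_one]

set_option maxHeartbeats 1000000 in
/-- Every rational point lies in a Borel subgroup. -/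
theorem exists_borel_mem {G : Over (Spec (CommRingCat.of k))} [GrpObj G] [Smooth G.hom] [QuasiCompact G.hom]
    [ConnectedSpace G.left] (g : VecGrp.pt k k ⟶ G) :
    ∃ (B : Over (Spec (CommRingCat.of k))) (_ : GrpObj B) (iB : B ⟶ G), Red.IsBorelOver k iB ∧
      ∃ b : VecGrp.pt k k ⟶ B, b ≫ iB = g := by
  obtain ⟨I, _, hIa, hIs, hIc, p, hp, hfl, hs, K, _, hKc, κ, hκ, hKl, hKr, hκp, hker⟩ := exists_affine_quotient G
  haveI := hIa; haveI := hIs; haveI := hIc; haveI := hp; haveI := hfl; haveI := hs; haveI := hKc; haveI := hκ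
  haveI := hKl
  obtain ⟨B₀, _, iB₀, hB₀, -⟩ := exists_borel (G := I)
  obtain ⟨x, b₀, hxb⟩ := exists_conj_mem_borel iB₀ hB₀ (g ≫ p)
  obtain ⟨iB₁, hiB₁⟩ : ∃ j : B₀ ⟶ I, j = iB₀ ≫ inner (toPt _ ≫ x) := ⟨_, rfl⟩
  have hB₁m : IsMonHom iB₀ := hB₀.1
  haveI : IsClosedImmersion iB₀.left := hB₀.2.1
  haveI : Smooth B₀.hom := hB₀.2.2.1
  haveI : ConnectedSpace B₀.left := hB₀.2.2.2.1
  haveI : IsMonHom iB₁ := hiB₁ ▸ inferInstance
  haveI : IsClosedImmersion iB₁.left := by
    rw [hiB₁, Over.comp_left]; infer_instance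
  haveI : IsAffine B₀.left := isAffine_of_isAffineHom iB₀.left
  haveI : LocallyOfFiniteType p.left := by
    haveI : LocallyOfFiniteType (p.left ≫ I.hom) := by rw [Over.w p]; infer_instance
    exact locallyOfFiniteType_of_comp p.left I.hom
  have hgp : g ≫ p ∈ (pushPt iB₁).range := ⟨b₀, by
    rw [pushPt_apply, hiB₁, ← Category.assoc, comp_inner, ← Category.assoc, toUnit_toPt, Category.id_comp, hxb]⟩
  let H : Subgroup (VecGrp.pt k k ⟶ G) := (pushPt iB₁).range.comap (pushPt p)
  obtain ⟨Z, _, iZ, hiZ, hZc, hZs, hZ⟩ := exists_subgroup_of_isClosed H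
    (S := p.left ⁻¹' Set.range iB₁.left) (iB₁.left.isClosedEmbedding.isClosed_range.preimage p.left.continuous)
    fun y => by
      show p.left (y.left (IsLocalRing.closedPoint k)) ∈ Set.range iB₁.left ↔ _
      rw [← Scheme.Hom.comp_apply, ← Over.comp_left]
      constructor
      · exact fun h => exists_lift_point iB₁ _ h
      · rintro ⟨z, hz⟩
        rw [pushPt_apply, pushPt_apply] at hz
        rw [← hz, Over.comp_left, Scheme.Hom.comp_apply]
        exact ⟨_, rfl⟩
  haveI := hiZ; haveI := hZc; haveI := hZs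
  haveI : Mono iZ := Over.mono_of_mono_left iZ
  haveI : Mono iB₁ := Over.mono_of_mono_left iB₁
  haveI : QuasiCompact Z.hom := by rw [← Over.w iZ]; infer_instance
  haveI : IsReduced Z.left := GrpSchLib.isReduced_of_smooth_field Z.hom
  haveI : IsReduced B₀.left := GrpSchLib.isReduced_of_smooth_field B₀.hom
  -- the preimage maps onto the Borel subgroup of the quotient
  obtain ⟨r, hr⟩ := exists_factor_of_points iB₁ (iZ ≫ p) fun z => by
    obtain ⟨b, hb⟩ := (hZ (z ≫ iZ)).1 ⟨z, rfl⟩
    exact ⟨b, by rw [← Category.assoc]; exact hb⟩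
  haveI : IsMonHom (r ≫ iB₁) := hr ▸ inferInstance
  haveI : IsMonHom r := isMonHom_of_comp r iB₁
  have hrsurj : ∀ b : VecGrp.pt k k ⟶ B₀, ∃ z, z ≫ r = b := fun b => by
    obtain ⟨y, hy⟩ := exists_point_lift (K := k) p (b ≫ iB₁)
    obtain ⟨z, hz⟩ := (hZ y).2 ⟨b, hy.symm⟩
    exact ⟨z, by rw [← cancel_mono iB₁, Category.assoc, hr, ← Category.assoc, hz, hy]⟩
  haveI : LocallyOfFiniteType r.left := by
    haveI : LocallyOfFiniteType (r.left ≫ B₀.hom) := by rw [Over.w r]; infer_instance
    exact locallyOfFiniteType_of_comp r.left B₀.hom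
  haveI : QuasiCompact r.left := by
    haveI : QuasiCompact (r.left ≫ B₀.hom) := by rw [Over.w r]; infer_instance
    exact QuasiCompact.of_comp r.left B₀.hom
  haveI : Surjective r.left := by
    refine ⟨fun y => ?_⟩
    by_contra hy
    haveI : LocallyOfFiniteType B₀.hom := inferInstance
    obtain ⟨q, hq⟩ := exists_point_mem (D := B₀) (U := (Set.range r.left)ᶜ)
      (GrpSchLib.HomClosedRange.isClosed_range r).isOpen_compl ⟨y, hy⟩
    obtain ⟨z, hz⟩ := hrsurj q
    refine hq ?_
    rw [← hz, Over.comp_left, Scheme.Hom.comp_apply]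
    exact ⟨_, rfl⟩
  haveI : Flat r.left := GrpSchLib.flat_of_surjective_hom r
  haveI : LocallyOfFinitePresentation r.left := by
    haveI : IsLocallyNoetherian B₀.left := LocallyOfFiniteType.isLocallyNoetherian B₀.hom
    infer_instance
  -- it is connected
  haveI : ConnectedSpace Z.left := by
    haveI : Nonempty Z.left := ⟨(η[Z] : _ ⟶ Z).left (IsLocalRing.closedPoint k)⟩
    haveI : PreconnectedSpace Z.left := by
      rw [preconnectedSpace_iff_clopen]
      intro U hU
      rw [or_iff_not_imp_left, ← ne_eq, ← Set.nonempty_iff_ne_empty]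
      intro hne
      by_contra hU'
      have hne' : Uᶜ.Nonempty := Set.nonempty_compl.mpr hU'
      have hop := r.left.isOpenMap
      obtain ⟨q, ⟨hq1, hq2⟩⟩ := exists_point_mem (D := B₀) (U := r.left '' U ∩ r.left '' Uᶜ)
        ((hop _ hU.isOpen).inter (hop _ hU.compl.isOpen)) (by
          haveI : IrreducibleSpace B₀.left := GrpFieldLib.SmoothDense.irreducibleSpace_of_connected B₀.hom
          exact nonempty_preirreducible_inter (hop _ hU.isOpen) (hop _ hU.compl.isOpen) (hne.image _) (hne'.image _))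
      have hpts : ∀ V : Set Z.left, IsClopen V → q.left (IsLocalRing.closedPoint k) ∈ r.left '' V →
          ∃ z : VecGrp.pt k k ⟶ Z, z ≫ r = q ∧ z.left (IsLocalRing.closedPoint k) ∈ V := by
        rintro V hV ⟨w, hwV, hwq⟩
        let W : Over (Spec (CommRingCat.of k)) := Over.mk (Scheme.Opens.ι (X := Z.left) ⟨V, hV.isOpen⟩ ≫ Z.hom)
        haveI : LocallyOfFiniteType W.hom :=
          inferInstanceAs (LocallyOfFiniteType (Scheme.Opens.ι (X := Z.left) ⟨V, hV.isOpen⟩ ≫ Z.hom))
        let w₁ : W ⟶ Z := Over.homMk (Scheme.Opens.ι (X := Z.left) ⟨V, hV.isOpen⟩) rfl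
        obtain ⟨z, hz⟩ := exists_point_of_mem_range (w₁ ≫ r) q ⟨⟨w, hwV⟩, by
          rw [Over.comp_left, Scheme.Hom.comp_apply]; exact hwq⟩
        exact ⟨z ≫ w₁, by rw [Category.assoc, hz], by
          rw [Over.comp_left, Scheme.Hom.comp_apply]
          exact (z.left (IsLocalRing.closedPoint k)).2⟩
      obtain ⟨z₁, hz₁, hm₁⟩ := hpts U hU hq1
      obtain ⟨z₂, hz₂, hm₂⟩ := hpts Uᶜ hU.compl hq2
      -- they differ by the connected kernel
      haveI : IsReduced K.left := hKr
      obtain ⟨κZ, hκZ⟩ := exists_factor_of_points iZ κ fun a => (hZ _).2 (by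
        show (a ≫ κ) ≫ p ∈ (pushPt iB₁).range
        rw [Category.assoc, hκp, MonObj.comp_one]
        exact one_mem _)
      obtain ⟨c, hc, -⟩ := (hker ((z₁ ≫ iZ)⁻¹ * (z₂ ≫ iZ))).1 (by
        rw [MonObj.mul_comp, GrpObj.inv_comp, Category.assoc, Category.assoc, ← hr, ← Category.assoc, hz₁,
          ← Category.assoc, hz₂, inv_mul_cancel])
      let f : K ⟶ Z := (toPt K ≫ z₁) * κZ
      have hf : ∀ a : VecGrp.pt k k ⟶ K, a ≫ f = z₁ * (a ≫ κZ) := fun a => by
        rw [MonObj.comp_mul, ← Category.assoc, comp_toPt, Category.id_comp]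
      have h1 : (1 : VecGrp.pt k k ⟶ K) ≫ f = z₁ := by
        rw [hf, ← cancel_mono iZ, MonObj.mul_comp, Category.assoc, hκZ, MonObj.one_comp, _root_.mul_one]
      have h2 : c ≫ f = z₂ := by
        rw [hf, ← cancel_mono iZ, MonObj.mul_comp, Category.assoc, hκZ, hc, mul_inv_cancel_left]
      have hall := IsClopen.eq_univ (s := f.left ⁻¹' U)
        ⟨hU.isClosed.preimage f.left.continuous, hU.isOpen.preimage f.left.continuous⟩
        ⟨(1 : VecGrp.pt k k ⟶ K).left (IsLocalRing.closedPoint k), by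
          show f.left _ ∈ U
          rw [← Scheme.Hom.comp_apply, ← Over.comp_left, h1]; exact hm₁⟩
      refine hm₂ ?_
      rw [← h2, Over.comp_left, Scheme.Hom.comp_apply]
      exact Set.eq_univ_iff_forall.mp hall (c.left (IsLocalRing.closedPoint k))
    exact ⟨inferInstance⟩
  -- it is solvable
  obtain ⟨n, hn⟩ := hB₀.2.2.2.2.1
  have hZsol : Red.IsSolvableGrp Z := by
    refine isSolvableGrp_of_points (n := n + 1) (eq_bot_iff.mpr ?_)
    rw [derivedSeries_succ, Subgroup.commutator_le]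
    intro a ha b hb
    have hker' : ∀ a ∈ derivedSeries (VecGrp.pt k k ⟶ Z) n, ∀ y, Commute (a ≫ iZ) y := fun a ha => by
      have h1 := map_derivedSeries_le_derivedSeries (pushPt r) n (Subgroup.mem_map_of_mem _ ha)
      rw [hn, Subgroup.mem_bot, pushPt_apply] at h1
      obtain ⟨-, -, hcm⟩ := (hker (a ≫ iZ)).1 (by rw [Category.assoc, ← hr, ← Category.assoc, h1, MonObj.one_comp])
      exact hcm
    rw [Subgroup.mem_bot, commutatorElement_eq_one_iff_mul_comm, ← cancel_mono iZ, MonObj.mul_comp, MonObj.mul_comp]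
    exact (hker' a ha _).eq
  refine ⟨Z, inferInstance, iZ, ⟨inferInstance, inferInstance, inferInstance, inferInstance, hZsol, ?_⟩,
    (hZ g).2 hgp⟩
  -- it is maximal
  intro B' _ i' _ f hcl' hsm' hcn' hsol' hf
  haveI := hcl'; haveI := hsm'; haveI := hcn'
  haveI : QuasiCompact B'.hom := by rw [← Over.w i']; infer_instance
  haveI : Mono i' := Over.mono_of_mono_left i'
  haveI : QuasiCompact I.hom := inferInstance
  obtain ⟨B'', _, p', j, hp', hj, hpj, hjc, hjf, hjs, hjl, hjq⟩ := ImageFactor.exists_image (i' ≫ p)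
  haveI := hp'; haveI := hj; haveI := hjc; haveI := hjf; haveI := hjs; haveI := hjl; haveI := hjq
  haveI : Smooth B''.hom := (S7983.result k B' B'' p').2.1 inferInstance
  haveI : ConnectedSpace B''.left := (S7983.result k B' B'' p').2.2 inferInstance
  have hsol'' := S7997.result k B' B'' p' hsol'
  haveI : Mono j := Over.mono_of_mono_left j
  obtain ⟨φ, hφ⟩ := exists_factor_of_points j iB₁ fun b => by
    obtain ⟨z, rfl⟩ := hrsurj b
    exact ⟨z ≫ f ≫ p', by rw [Category.assoc, Category.assoc, hpj, reassoc_of% hf, ← hr, Category.assoc]⟩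
  have hB₁ : Red.IsBorelOver k iB₁ := by
    obtain ⟨h1, h2, h3, h4, h5, h6⟩ := hB₀
    refine ⟨inferInstance, inferInstance, h3, h4, h5, fun B₃ _ i₃ _ f₃ hc₃ hs₃ hn₃ hl₃ hf₃ => ?_⟩
    haveI := hc₃
    exact h6 B₃ (i₃ ≫ inner (toPt _ ≫ x)⁻¹) f₃ (by rw [Over.comp_left]; infer_instance) hs₃ hn₃ hl₃
      (by rw [← Category.assoc, hf₃, hiB₁, Category.assoc, inner_inner, inv_mul_cancel, inner_one, Category.comp_id])
  haveI : IsIso φ := hB₁.2.2.2.2.2 B'' j φ inferInstance inferInstance inferInstance hsol'' hφ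
  haveI : IsReduced B'.left := GrpSchLib.isReduced_of_smooth_field B'.hom
  obtain ⟨ψ, hψ⟩ := exists_factor_of_points iZ i' fun b => (hZ _).2 ⟨(b ≫ p') ≫ inv φ, by
    rw [pushPt_apply, pushPt_apply, Category.assoc, Category.assoc, Category.assoc, ← hφ, IsIso.inv_hom_id_assoc, hpj]⟩
  exact ⟨ψ, by rw [← cancel_mono iZ, Category.assoc, hψ, hf, Category.id_comp],
    by rw [← cancel_mono i', Category.assoc, hf, hψ, Category.id_comp]⟩

end Groth.Agent.GModLib
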