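import Groth.Agent.GModLib.CentralizerTorus
import Groth.Agent.GModLib.BorelPreimage
import Groth.Agent.SmoothGrpTors.EtalePow
import Groth.Agent.S3006
import Groth.Agent.S3036
import Groth.Agent.S3293

/-!
# Centralizers of tori in smooth connected groups
-/

set_option autoImplicit false
set_option backward.isDefEq.respectTransparency false
set_option backward.isDefEq.respectTransparency.types false

universe u

open CategoryTheory Limits AlgebraicGeometry MonoidalCategory CartesianMonoidalCategory MonObj GrpObj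

namespace Groth.Agent.GModLib

open GrpSchLib GrpSchLib.Kunneth

variable {k : Type u} [Field k] [IsAlgClosed k]

/-- A morphism from a connected variety taking finitely many values on points is constant on points. -/
theorem const_of_finite_values {D Y : Over (Spec (CommRingCat.of k))} [LocallyOfFiniteType D.hom] [ConnectedSpace D.left]
    [IsSeparated Y.hom] (f : D ⟶ Y) {V : Set (VecGrp.pt k k ⟶ Y)} (hV : V.Finite)
    (h : ∀ p : VecGrp.pt k k ⟶ D, p ≫ f ∈ V) (p q : VecGrp.pt k k ⟶ D) : p ≫ f = q ≫ f := by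
  haveI := hV.to_subtype
  have hcl : ∀ v : VecGrp.pt k k ⟶ Y, IsClosedImmersion v.left := fun v => by
    haveI : IsClosedImmersion (v.left ≫ Y.hom) := by
      rw [Over.w v]
      show IsClosedImmersion (Spec.map (CommRingCat.ofHom (algebraMap k k)))
      rw [show CommRingCat.ofHom (algebraMap k k) = 𝟙 _ from rfl, Spec.map_id]
      infer_instance
    exact IsClosedImmersion.of_comp v.left Y.hom
  let E : V → Set D.left := fun v => f.left ⁻¹' Set.range v.1.left
  have hEc : ∀ v, IsClosed (E v) := fun v => by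
    haveI := hcl v.1
    exact (v.1.left.isClosedEmbedding.isClosed_range).preimage f.left.continuous
  have hval : ∀ (r : VecGrp.pt k k ⟶ D) (v : V), r.left (IsLocalRing.closedPoint k) ∈ E v ↔ r ≫ f = v.1 := fun r v => by
    haveI := hcl v.1
    constructor
    · intro hr
      obtain ⟨z, hz⟩ := exists_lift_point v.1 (r ≫ f) (by rw [Over.comp_left, Scheme.Hom.comp_apply]; exact hr)
      rw [← hz, show z = 𝟙 _ from S11188.pt_end_eq _, Category.id_comp]
    · intro hr
      show f.left (r.left (IsLocalRing.closedPoint k)) ∈ Set.range v.1.left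
      rw [← Scheme.Hom.comp_apply, ← Over.comp_left, hr]
      exact ⟨_, rfl⟩
  have hcov : ∀ x, ∃ v, x ∈ E v := fun x => by
    by_contra hx
    push_neg at hx
    obtain ⟨r, hr⟩ := exists_point_mem (D := D) (isClosed_iUnion_of_finite hEc).isOpen_compl
      ⟨x, by simp only [Set.mem_compl_iff, Set.mem_iUnion]; exact fun ⟨v, hv⟩ => hx v hv⟩
    exact hr (Set.mem_iUnion.mpr ⟨⟨_, h r⟩, (hval r ⟨_, h r⟩).2 rfl⟩)
  have hopen : ∀ v, IsOpen (E v) := fun v => by
    have e : E v = (⋃ w : {w : V // w ≠ v}, E w.1)ᶜ := by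
      ext x
      simp only [Set.mem_compl_iff, Set.mem_iUnion, Subtype.exists, exists_prop, not_exists, not_and]
      constructor
      · intro hx a ha hne hxw
        obtain ⟨r, hr⟩ : ∃ r : VecGrp.pt k k ⟶ D, r.left (IsLocalRing.closedPoint k) ∈ E v ∩ E ⟨a, ha⟩ := by
          haveI : JacobsonSpace D.left := LocallyOfFiniteType.jacobsonSpace D.hom
          obtain ⟨w, hw, hwc⟩ := nonempty_inter_closedPoints (Z := E v ∩ E ⟨a, ha⟩) ⟨x, hx, hxw⟩
            ((hEc v).inter (hEc ⟨a, ha⟩)).isLocallyClosed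
          obtain ⟨s, hs⟩ := exists_point_of_isClosed (K := k) D hwc
          exact ⟨s, hs.symm ▸ hw⟩
        exact hne (Subtype.ext (((hval r ⟨a, ha⟩).1 hr.2).symm.trans ((hval r v).1 hr.1)))
      · intro hx
        obtain ⟨⟨a, ha⟩, hv⟩ := hcov x
        by_cases hva : (⟨a, ha⟩ : V) = v
        · exact hva ▸ hv
        · exact absurd hv (hx a ha hva)
    rw [e]
    haveI : Finite {w : V // w ≠ v} := Subtype.finite
    exact (isClosed_iUnion_of_finite (s := fun w : {w : V // w ≠ v} => E w.1) fun w => hEc w.1).isOpen_compl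
  have hall := IsClopen.eq_univ (s := E ⟨_, h q⟩) ⟨hEc _, hopen _⟩ ⟨_, (hval q ⟨_, h q⟩).2 rfl⟩
  exact (hval p ⟨_, h q⟩).1 (Set.eq_univ_iff_forall.mp hall _)

/-- Morphisms from a reduced variety to a separated scheme agreeing on points agree. -/
theorem hom_ext_points_sep {X Y : Over (Spec (CommRingCat.of k))} [LocallyOfFiniteType X.hom] [IsReduced X.left]
    [IsSeparated Y.hom] {f f' : X ⟶ Y} (h : ∀ p : VecGrp.pt k k ⟶ X, p ≫ f = p ≫ f') : f = f' := by
  let d : Y ⟶ Y ⊗ Y := lift (𝟙 Y) (𝟙 Y)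
  haveI : IsClosedImmersion d.left := by
    have e : d.left = pullback.diagonal Y.hom := by
      apply pullback.hom_ext
      · rw [pullback.diagonal_fst]
        exact congrArg CommaMorphism.left (lift_fst (𝟙 Y) (𝟙 Y))
      · rw [pullback.diagonal_snd]
        exact congrArg CommaMorphism.left (lift_snd (𝟙 Y) (𝟙 Y))
    rw [e]
    infer_instance
  obtain ⟨u, hu⟩ := exists_factor_of_points d (lift f f') fun p => ⟨p ≫ f, by
    rw [comp_lift, comp_lift, Category.comp_id, h]⟩
  have h1 := congrArg (· ≫ fst Y Y) hu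
  have h2 := congrArg (· ≫ snd Y Y) hu
  simp only [d, Category.assoc, lift_fst, lift_snd, Category.comp_id] at h1 h2
  exact h1.symm.trans h2

/-- The torsion of invertible order in a smooth commutative group of finite type is finite. -/
theorem finite_torsion_comm {K : Over (Spec (CommRingCat.of k))} [GrpObj K] [IsCommMonObj K] [Smooth K.hom]
    [QuasiCompact K.hom] {n : ℕ} (hn : (n : k) ≠ 0) : {z : VecGrp.pt k k ⟶ K | z ^ n = 1}.Finite := by
  have hu : IsUnit (n : Γ(Spec (CommRingCat.of k), ⊤)) := by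
    have h := (IsUnit.mk0 _ hn).map (Scheme.ΓSpecIso (CommRingCat.of k)).inv.hom
    rwa [map_natCast] at h
  haveI := SmoothGrpTors.etale_pow (X := K) n hu
  let m : K ⟶ K := 𝟙 K ^ n
  haveI : IsSeparated K.hom := AntiAffine.isSeparated_grp K
  haveI : QuasiCompact m.left := by
    haveI : QuasiCompact (m.left ≫ K.hom) := by rw [Over.w m]; infer_instance
    exact QuasiCompact.of_comp m.left K.hom
  have hfin := m.left.finite_preimage_singleton ((1 : VecGrp.pt k k ⟶ K).left (IsLocalRing.closedPoint k))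
  let pc : (VecGrp.pt k k ⟶ K) → K.left := fun z => z.left (IsLocalRing.closedPoint k)
  refine (hfin.preimage (f := pc) ?_).subset fun z (hz : z ^ n = 1) => ?_
  · intro a _ b _ hab
    haveI : IsClosedImmersion b.left := by
      haveI : IsClosedImmersion (b.left ≫ K.hom) := by
        rw [Over.w b]
        show IsClosedImmersion (Spec.map (CommRingCat.ofHom (algebraMap k k)))
        rw [show CommRingCat.ofHom (algebraMap k k) = 𝟙 _ from rfl, Spec.map_id]
        infer_instance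
      exact IsClosedImmersion.of_comp b.left K.hom
    obtain ⟨w, hw⟩ := exists_lift_point b a (by show pc a ∈ _; rw [hab]; exact ⟨_, rfl⟩)
    rw [← hw, show w = 𝟙 _ from S11188.pt_end_eq _, Category.id_comp]
  · show m.left (z.left _) = _
    rw [← Scheme.Hom.comp_apply, ← Over.comp_left, show z ≫ m = z ^ n by simp [m, MonObj.comp_pow], hz]

set_option maxHeartbeats 1000000 in
/-- The preimage of a connected subgroup under a quotient by a connected kernel is connected. -/
theorem exists_connected_preimage {G I B₀ K : Over (Spec (CommRingCat.of k))} [GrpObj G] [GrpObj I] [GrpObj B₀]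
    [GrpObj K] [LocallyOfFiniteType G.hom] [QuasiCompact G.hom] [LocallyOfFiniteType I.hom] [LocallyOfFiniteType K.hom]
    [IsReduced K.left] [ConnectedSpace K.left] (p : G ⟶ I) [IsMonHom p] [Surjective p.left] [Smooth B₀.hom]
    [QuasiCompact B₀.hom] [ConnectedSpace B₀.left] (iB₁ : B₀ ⟶ I) [IsMonHom iB₁] [IsClosedImmersion iB₁.left]
    (κ : K ⟶ G) (hκp : κ ≫ p = 1)
    (hker : ∀ x : VecGrp.pt k k ⟶ G, x ≫ p = 1 → ∃ z : VecGrp.pt k k ⟶ K, z ≫ κ = x) :
    ∃ (Z : Over (Spec (CommRingCat.of k))) (_ : GrpObj Z) (i : Z ⟶ G) (_ : IsMonHom i),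
      IsClosedImmersion i.left ∧ Smooth Z.hom ∧ ConnectedSpace Z.left ∧
        ∀ g, (∃ z : VecGrp.pt k k ⟶ Z, z ≫ i = g) ↔ ∃ b : VecGrp.pt k k ⟶ B₀, b ≫ iB₁ = g ≫ p := by
  haveI : LocallyOfFiniteType p.left := by
    haveI : LocallyOfFiniteType (p.left ≫ I.hom) := by rw [Over.w p]; infer_instance
    exact locallyOfFiniteType_of_comp p.left I.hom
  let H : Subgroup (VecGrp.pt k k ⟶ G) := (pushPt iB₁).range.comap (pushPt p)
  obtain ⟨Z, _, iZ, hiZ, hZc, hZs, hZ⟩ := exists_subgroup_of_isClosed H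
    (S := p.left ⁻¹' Set.range iB₁.left) (iB₁.left.isClosedEmbedding.isClosed_range.preimage p.left.continuous)
    fun y => by
      show p.left (y.left (IsLocalRing.closedPoint k)) ∈ Set.range iB₁.left ↔ _
      rw [← Scheme.Hom.comp_apply, ← Over.comp_left]
      constructor
      · exact fun h => exists_lift_point iB₁ _ h
      · rintro ⟨z, hz⟩
        rw [pushPt_apply, pushPt_apply] at hz
        rw [← hz, Over.comp_left, Scheme.Hom.comp_apply]
        exact ⟨_, rfl⟩
  haveI := hiZ; haveI := hZc; haveI := hZs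
  haveI : Mono iZ := Over.mono_of_mono_left iZ
  haveI : Mono iB₁ := Over.mono_of_mono_left iB₁
  haveI : QuasiCompact Z.hom := by rw [← Over.w iZ]; infer_instance
  haveI : IsReduced Z.left := GrpSchLib.isReduced_of_smooth_field Z.hom
  haveI : IsReduced B₀.left := GrpSchLib.isReduced_of_smooth_field B₀.hom
  obtain ⟨r, hr⟩ := exists_factor_of_points iB₁ (iZ ≫ p) fun z => by
    obtain ⟨b, hb⟩ := (hZ (z ≫ iZ)).1 ⟨z, rfl⟩
    exact ⟨b, by rw [← Category.assoc]; exact hb⟩
  haveI : IsMonHom (r ≫ iB₁) := hr ▸ inferInstance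
  haveI : IsMonHom r := isMonHom_of_comp r iB₁
  have hrsurj : ∀ b : VecGrp.pt k k ⟶ B₀, ∃ z, z ≫ r = b := fun b => by
    obtain ⟨y, hy⟩ := exists_point_lift (K := k) p (b ≫ iB₁)
    obtain ⟨z, hz⟩ := (hZ y).2 ⟨b, hy.symm⟩
    exact ⟨z, by rw [← cancel_mono iB₁, Category.assoc, hr, ← Category.assoc, hz, hy]⟩
  haveI : LocallyOfFiniteType r.left := by
    haveI : LocallyOfFiniteType (r.left ≫ B₀.hom) := by rw [Over.w r]; infer_instance
    exact locallyOfFiniteType_of_comp r.left B₀.hom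
  haveI : QuasiCompact r.left := by
    haveI : QuasiCompact (r.left ≫ B₀.hom) := by rw [Over.w r]; infer_instance
    haveI : IsSeparated B₀.hom := AntiAffine.isSeparated_grp B₀
    exact QuasiCompact.of_comp r.left B₀.hom
  haveI : Surjective r.left := by
    refine ⟨fun y => ?_⟩
    by_contra hy
    obtain ⟨q, hq⟩ := exists_point_mem (D := B₀) (U := (Set.range r.left)ᶜ)
      (GrpSchLib.HomClosedRange.isClosed_range r).isOpen_compl ⟨y, hy⟩
    obtain ⟨z, hz⟩ := hrsurj q
    refine hq ?_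
    rw [← hz, Over.comp_left, Scheme.Hom.comp_apply]
    exact ⟨_, rfl⟩
  haveI : Flat r.left := GrpSchLib.flat_of_surjective_hom r
  haveI : LocallyOfFinitePresentation r.left := by
    haveI : IsLocallyNoetherian B₀.left := LocallyOfFiniteType.isLocallyNoetherian B₀.hom
    infer_instance
  refine ⟨Z, inferInstance, iZ, hiZ, hZc, hZs, ?_, fun g => hZ g⟩
  haveI : Nonempty Z.left := ⟨(η[Z] : _ ⟶ Z).left (IsLocalRing.closedPoint k)⟩
  haveI : PreconnectedSpace Z.left := by
    rw [preconnectedSpace_iff_clopen]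
    intro U hU
    rw [or_iff_not_imp_left, ← ne_eq, ← Set.nonempty_iff_ne_empty]
    intro hne
    by_contra hU'
    have hne' : Uᶜ.Nonempty := Set.nonempty_compl.mpr hU'
    have hop := r.left.isOpenMap
    obtain ⟨q, ⟨hq1, hq2⟩⟩ := exists_point_mem (D := B₀) (U := r.left '' U ∩ r.left '' Uᶜ)
      ((hop _ hU.isOpen).inter (hop _ hU.compl.isOpen)) (by
        haveI : IrreducibleSpace B₀.left := GrpFieldLib.SmoothDense.irreducibleSpace_of_connected B₀.hom
        exact nonempty_preirreducible_inter (hop _ hU.isOpen) (hop _ hU.compl.isOpen) (hne.image _) (hne'.image _))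
    have hpts : ∀ V : Set Z.left, IsClopen V → q.left (IsLocalRing.closedPoint k) ∈ r.left '' V →
        ∃ z : VecGrp.pt k k ⟶ Z, z ≫ r = q ∧ z.left (IsLocalRing.closedPoint k) ∈ V := by
      rintro V hV ⟨w, hwV, hwq⟩
      let W : Over (Spec (CommRingCat.of k)) := Over.mk (Scheme.Opens.ι (X := Z.left) ⟨V, hV.isOpen⟩ ≫ Z.hom)
      haveI : LocallyOfFiniteType W.hom :=
        inferInstanceAs (LocallyOfFiniteType (Scheme.Opens.ι (X := Z.left) ⟨V, hV.isOpen⟩ ≫ Z.hom))
      let w₁ : W ⟶ Z := Over.homMk (Scheme.Opens.ι (X := Z.left) ⟨V, hV.isOpen⟩) rfl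
      obtain ⟨z, hz⟩ := exists_point_of_mem_range (w₁ ≫ r) q ⟨⟨w, hwV⟩, by
        rw [Over.comp_left, Scheme.Hom.comp_apply]; exact hwq⟩
      exact ⟨z ≫ w₁, by rw [Category.assoc, hz], by
        rw [Over.comp_left, Scheme.Hom.comp_apply]
        exact (z.left (IsLocalRing.closedPoint k)).2⟩
    obtain ⟨z₁, hz₁, hm₁⟩ := hpts U hU hq1
    obtain ⟨z₂, hz₂, hm₂⟩ := hpts Uᶜ hU.compl hq2
    obtain ⟨κZ, hκZ⟩ := exists_factor_of_points iZ κ fun a => (hZ _).2 (by
      show (a ≫ κ) ≫ p ∈ (pushPt iB₁).range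
      rw [Category.assoc, hκp, MonObj.comp_one]
      exact one_mem _)
    obtain ⟨c, hc⟩ := hker ((z₁ ≫ iZ)⁻¹ * (z₂ ≫ iZ)) (by
      rw [MonObj.mul_comp, GrpObj.inv_comp, Category.assoc, Category.assoc, ← hr, ← Category.assoc, hz₁,
        ← Category.assoc, hz₂, inv_mul_cancel])
    obtain ⟨c₀, hc₀⟩ := hker 1 (MonObj.one_comp p)
    let f : K ⟶ Z := (toPt K ≫ z₁) * κZ
    have hf : ∀ a : VecGrp.pt k k ⟶ K, a ≫ f = z₁ * (a ≫ κZ) := fun a => by
      rw [MonObj.comp_mul, ← Category.assoc, comp_toPt, Category.id_comp]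
    have h1 : c₀ ≫ f = z₁ := by
      rw [hf, ← cancel_mono iZ, MonObj.mul_comp, Category.assoc, hκZ, hc₀, _root_.mul_one]
    have h2 : c ≫ f = z₂ := by
      rw [hf, ← cancel_mono iZ, MonObj.mul_comp, Category.assoc, hκZ, hc, mul_inv_cancel_left]
    have hall := IsClopen.eq_univ (s := f.left ⁻¹' U)
      ⟨hU.isClosed.preimage f.left.continuous, hU.isOpen.preimage f.left.continuous⟩
      ⟨c₀.left (IsLocalRing.closedPoint k), by
        show f.left _ ∈ U
        rw [← Scheme.Hom.comp_apply, ← Over.comp_left, h1]; exact hm₁⟩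
    refine hm₂ ?_
    rw [← h2, Over.comp_left, Scheme.Hom.comp_apply]
    exact Set.eq_univ_iff_forall.mp hall (c.left (IsLocalRing.closedPoint k))
  exact ⟨inferInstance⟩

set_option maxHeartbeats 1000000 in
/-- The centralizer of a torus in a smooth connected group is smooth and connected. -/
theorem centralizer_smooth_connected_nonaffine {G T C : Over (Spec (CommRingCat.of k))} [GrpObj G] [Smooth G.hom]
    [QuasiCompact G.hom] [ConnectedSpace G.left] [GrpObj T] [GrpObj C] (j : T ⟶ G) [IsMonHom j] [Mono j]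
    (hT : Red.IsTorus T) (c : C ⟶ G) (hC : Red.IsCentralizerOf j c) : Smooth C.hom ∧ ConnectedSpace C.left := by
  obtain ⟨q1, q2, q3, -, -⟩ := TorusBasic.torus_props hT
  haveI := q1; haveI := q2; haveI := q3
  haveI : IsReduced T.left := GrpSchLib.isReduced_of_smooth_field T.hom
  haveI : IsSeparated G.hom := AntiAffine.isSeparated_grp G
  haveI : QuasiCompact j.left := by
    haveI : QuasiCompact (j.left ≫ G.hom) := by rw [Over.w j]; infer_instance
    exact QuasiCompact.of_comp j.left G.hom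
  haveI hjcl : IsClosedImmersion j.left := S3036.result k T G j
  obtain ⟨⟨Z₁, _, z₁, hz₁, -, hz₁s⟩, -⟩ := S3006.result (Spec (CommRingCat.of k)) G T j hjcl hT
  haveI := hC.1; haveI := hC.2.1; haveI := hz₁.2.1
  haveI hCs : Smooth C.hom := by
    obtain ⟨a, ha⟩ := (hz₁.2.2 C c).mpr ((hC.2.2 C c).mp ⟨𝟙 C, Category.id_comp c⟩)
    obtain ⟨b, hb⟩ := (hC.2.2 Z₁ z₁).mpr ((hz₁.2.2 Z₁ z₁).mp ⟨𝟙 Z₁, Category.id_comp z₁⟩)
    haveI : IsIso a := ⟨b, by rw [← cancel_mono c, Category.assoc, hb, ha, Category.id_comp],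
      by rw [← cancel_mono z₁, Category.assoc, ha, hb, Category.id_comp]⟩
    haveI : IsIso a.left := inferInstanceAs (IsIso ((Over.forget _).map a))
    haveI := hz₁s
    rw [← Over.w a]; infer_instance
  refine ⟨hCs, ?_⟩
  -- the affinization
  obtain ⟨I, _, p, K, _, κ, hp, hI, hIl, hIq, hfl, hs, hκ, hκc, hk, hbij⟩ := Rosenlicht.exists_antiAffine_kernel G
  haveI := hp; haveI := hI; haveI := hIl; haveI := hIq; haveI := hfl; haveI := hs; haveI := hκ; haveI := hκc
  haveI : LocallyOfFiniteType K.hom := by rw [← Over.w κ]; infer_instance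
  haveI : QuasiCompact K.hom := by rw [← Over.w κ]; infer_instance
  haveI : Mono κ := Over.mono_of_mono_left κ
  have hO := (AntiAffine.bijective_appTop_iff K.hom).mpr hbij
  obtain ⟨hKn, hKcomm⟩ := S3293.result k K hO
  haveI := hKn; haveI := hKcomm
  haveI : Smooth I.hom := (S7983.result k G I p).2.1 inferInstance
  haveI : ConnectedSpace I.left := (S7983.result k G I p).2.2 inferInstance
  haveI : Smooth K.hom := (S11412.result k K hO).1
  haveI : IsReduced K.left := GrpSchLib.isReduced_of_smooth_field K.hom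
  have hκp : κ ≫ p = 1 := by rw [hk.w, ← Hom.one_def]
  have hker : ∀ x : VecGrp.pt k k ⟶ G, x ≫ p = 1 → ∃ z : VecGrp.pt k k ⟶ K, z ≫ κ = x := fun x hx =>
    ⟨hk.lift x (toUnit _) (by rw [hx, Hom.one_def]), hk.lift_fst _ _ _⟩
  have hcen : ∀ (z : VecGrp.pt k k ⟶ K) (g : VecGrp.pt k k ⟶ G), Commute (z ≫ κ) g := fun z g => by
    have h := S7996.result k K G hO κ (VecGrp.pt k k) z (VecGrp.pt k k) (𝟙 _) g
    rw [Category.id_comp] at h
    exact h
  obtain ⟨C₀, _, i₀, hi₀, hcl₀, hsm₀, hcn₀, hmem₀, hall₀, -⟩ := exists_torus_centralizer_connected hT (j ≫ p)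
  haveI := hi₀; haveI := hcl₀; haveI := hsm₀; haveI := hcn₀
  haveI : IsAffine C₀.left := isAffine_of_isAffineHom i₀.left
  obtain ⟨Z, _, iZ, hiZ, hZc, hZs, hZn, hZ⟩ := exists_connected_preimage p i₀ κ hκp hker
  haveI := hiZ; haveI := hZc; haveI := hZs; haveI := hZn
  haveI : IsReduced Z.left := GrpSchLib.isReduced_of_smooth_field Z.hom
  -- it centralizes the torus
  have htors : ∀ (t : VecGrp.pt k k ⟶ T) (n : ℕ), (n : k) ≠ 0 → t ^ n = 1 →
      ∀ z : VecGrp.pt k k ⟶ Z, Commute (t ≫ j) (z ≫ iZ) := fun t n hn htn z => by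
    let f : Z ⟶ G := iZ * (toPt Z ≫ t ≫ j) * iZ⁻¹ * (toPt Z ≫ t ≫ j)⁻¹
    have hf : ∀ r : VecGrp.pt k k ⟶ Z, r ≫ f = (r ≫ iZ) * (t ≫ j) * (r ≫ iZ)⁻¹ * (t ≫ j)⁻¹ := fun r => by
      simp only [f, MonObj.comp_mul, GrpObj.comp_inv, ← Category.assoc, comp_toPt, Category.id_comp]
    have hV : ∀ r : VecGrp.pt k k ⟶ Z, r ≫ f ∈ (fun w => w ≫ κ) '' {w : VecGrp.pt k k ⟶ K | w ^ n = 1} := fun r => by
      obtain ⟨b, hb⟩ := (hZ (r ≫ iZ)).1 ⟨r, rfl⟩
      obtain ⟨w, hw⟩ := hker (r ≫ f) (by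
        rw [hf, MonObj.mul_comp, MonObj.mul_comp, MonObj.mul_comp, GrpObj.inv_comp, GrpObj.inv_comp, ← hb,
          Category.assoc t j p, ← (hmem₀ b t).eq, mul_inv_cancel_right, mul_inv_cancel])
      refine ⟨w, ?_, hw⟩
      show w ^ n = 1
      have htj : (t ≫ j) ^ n = 1 := by rw [← MonObj.pow_comp, htn, MonObj.one_comp]
      have e : ((r ≫ iZ) * (t ≫ j) * (r ≫ iZ)⁻¹) ^ n = ((r ≫ f) * (t ≫ j)) ^ n := by
        rw [hf, inv_mul_cancel_right]
      rw [conj_pow, htj, _root_.mul_one, mul_inv_cancel, ← hw, (hcen w (t ≫ j)).mul_pow, htj, _root_.mul_one,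
        ← MonObj.pow_comp] at e
      rw [← cancel_mono κ, ← e, MonObj.one_comp]
    have e := const_of_finite_values f ((finite_torsion_comm hn).image _) hV z 1
    rw [hf, hf, MonObj.one_comp, _root_.one_mul, inv_one, _root_.mul_one, mul_inv_cancel] at e
    show _ * _ = _ * _
    rw [mul_inv_eq_one, mul_inv_eq_iff_eq_mul] at e
    exact e.symm
  have hcomm : ∀ (s : VecGrp.pt k k ⟶ T) (z : VecGrp.pt k k ⟶ Z), Commute (s ≫ j) (z ≫ iZ) := fun s z => by
    let ψ : T ⟶ G := j * (toPt T ≫ z ≫ iZ) * j⁻¹ * (toPt T ≫ z ≫ iZ)⁻¹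
    have hψ : ∀ r : VecGrp.pt k k ⟶ T, r ≫ ψ = (r ≫ j) * (z ≫ iZ) * (r ≫ j)⁻¹ * (z ≫ iZ)⁻¹ := fun r => by
      simp only [ψ, MonObj.comp_mul, GrpObj.comp_inv, ← Category.assoc, comp_toPt, Category.id_comp]
    let e₁ : VecGrp.pt k k ⟶ G := 1
    haveI : IsClosedImmersion e₁.left := by
      haveI : IsClosedImmersion (e₁.left ≫ G.hom) := by
        rw [Over.w e₁]
        show IsClosedImmersion (Spec.map (CommRingCat.ofHom (algebraMap k k)))
        rw [show CommRingCat.ofHom (algebraMap k k) = 𝟙 _ from rfl, Spec.map_id]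
        infer_instance
      exact IsClosedImmersion.of_comp e₁.left G.hom
    have hu := torus_eq_univ hT (S := ψ.left ⁻¹' Set.range e₁.left)
      (e₁.left.isClosedEmbedding.isClosed_range.preimage ψ.left.continuous) fun t ⟨m, hm, htm⟩ => by
        obtain ⟨n, hn, htn⟩ := exists_invertible_order hT hm htm
        show ψ.left (t.left (IsLocalRing.closedPoint k)) ∈ Set.range e₁.left
        rw [← Scheme.Hom.comp_apply, ← Over.comp_left, hψ, (htors t n hn htn z).eq, mul_inv_cancel_right, mul_inv_cancel]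
        exact ⟨_, rfl⟩
    obtain ⟨w, hw⟩ := exists_lift_point e₁ (s ≫ ψ) (by
      rw [Over.comp_left, Scheme.Hom.comp_apply]; exact Set.eq_univ_iff_forall.mp hu _)
    rw [show w = 𝟙 _ from S11188.pt_end_eq _, Category.id_comp, hψ, eq_comm, mul_inv_eq_one, mul_inv_eq_iff_eq_mul] at hw
    exact hw
  haveI : IsReduced (Z ⊗ T).left := GrpSchLib.isReduced_pullback_of_perfectField Z.hom T.hom
  haveI : LocallyOfFiniteType (Z ⊗ T).hom :=
    inferInstanceAs (LocallyOfFiniteType (pullback.fst Z.hom T.hom ≫ Z.hom))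
  have hkey : (fst Z T ≫ iZ) * (snd Z T ≫ j) = (snd Z T ≫ j) * (fst Z T ≫ iZ) := by
    refine hom_ext_points_sep fun q => ?_
    simp only [MonObj.comp_mul]
    rw [← Category.assoc, ← Category.assoc]
    exact (hcomm (q ≫ snd Z T) (q ≫ fst Z T)).eq.symm
  obtain ⟨u, hu⟩ := (hC.2.2 Z iZ).mpr fun X' x h => by
    have e := congrArg (lift x h ≫ ·) hkey
    simp only [MonObj.comp_mul, lift_fst_assoc, lift_snd_assoc] at e
    exact e
  have hpts : ∀ z : VecGrp.pt k k ⟶ C, ∃ q : VecGrp.pt k k ⟶ Z, q ≫ u = z := fun z => by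
    obtain ⟨b, hb⟩ := hall₀ ((z ≫ c) ≫ p) fun s => by
      have h := (hC.2.2 _ (z ≫ c)).mp ⟨z, rfl⟩ _ (𝟙 _) s
      rw [Category.id_comp] at h
      show _ * _ = _ * _
      rw [← Category.assoc s, ← MonObj.mul_comp, ← MonObj.mul_comp, h]
    obtain ⟨q, hq⟩ := (hZ (z ≫ c)).2 ⟨b, hb⟩
    exact ⟨q, by rw [← cancel_mono c, Category.assoc, hu, hq]⟩
  have hdense : closure (Set.range u.left) = Set.univ := by
    by_contra hne
    obtain ⟨y, hy⟩ := (Set.ne_univ_iff_exists_notMem _).mp hne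
    obtain ⟨z, hz⟩ := exists_point_mem (D := C) isClosed_closure.isOpen_compl ⟨y, hy⟩
    obtain ⟨q, hq⟩ := hpts z
    refine hz (subset_closure ⟨q.left (IsLocalRing.closedPoint k), ?_⟩)
    rw [← Scheme.Hom.comp_apply, ← Over.comp_left, hq]
  refine connectedSpace_iff_univ.mpr ⟨?_, ?_⟩
  · exact ⟨(η[C] : _ ⟶ C).left (IsLocalRing.closedPoint k), trivial⟩
  · rw [← hdense]
    exact (isPreconnected_range u.left.continuous).closure

end Groth.Agent.GModLib
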