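import Groth.Agent.GModLib.BorelNormalizer
import Groth.Agent.GModLib.BorelPreimage
import Groth.Agent.GModLib.CentralizerNonAffine
import Groth.Agent.GrpFieldLib.QuotTower

/-!
# Borel subgroups of smooth connected groups
-/

set_option autoImplicit false
set_option backward.isDefEq.respectTransparency false
set_option backward.isDefEq.respectTransparency.types false

universe u

open CategoryTheory Limits AlgebraicGeometry MonoidalCategory CartesianMonoidalCategory MonObj GrpObj

namespace Groth.Agent.GModLib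

open GrpSchLib GrpSchLib.Kunneth GrpFieldLib

/-- A morphism lifts through a monomorphism if it does so after a faithfully flat quasi-compact cover. -/
theorem exists_factor_of_cover {S : Scheme.{u}} {A B Z G : Over S} (c : A ⟶ B) [Flat c.left] [Surjective c.left]
    [QuasiCompact c.left] (i : Z ⟶ G) [Mono i] (f : B ⟶ G) (z : A ⟶ Z) (h : z ≫ i = c ≫ f) :
    ∃ u : B ⟶ Z, u ≫ i = f := by
  obtain ⟨e, he⟩ := QuotTower.exists_desc c z fun a a' ha => by
    rw [← cancel_mono i, Category.assoc, Category.assoc, h, ← Category.assoc, ha, Category.assoc]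
  haveI : Epi c := Over.epi_of_epi_left _
  exact ⟨e, by rw [← cancel_epi c, ← Category.assoc, he, h]⟩

/-- A point normalizes a subgroup as soon as conjugation carries a cover of the subgroup into it. -/
theorem conj_factor_of_cover {S : Scheme.{u}} {N A B G : Over S} [GrpObj G] (c : A ⟶ B) [Flat c.left] [Surjective c.left]
    [QuasiCompact c.left] (i : B ⟶ G) [Mono i] (g : N ⟶ G)
    (z z' : N ⊗ A ⟶ B)
    (h : z ≫ i = (fst N A ≫ g) * (snd N A ≫ c ≫ i) * (fst N A ≫ g)⁻¹)
    (h' : z' ≫ i = (fst N A ≫ g)⁻¹ * (snd N A ≫ c ≫ i) * (fst N A ≫ g))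
    (X' : Over S) (x : X' ⟶ N) (b : X' ⟶ B) :
    (∃ b', (x ≫ g) * (b ≫ i) * (x ≫ g)⁻¹ = b' ≫ i) ∧ (∃ b', (x ≫ g)⁻¹ * (b ≫ i) * (x ≫ g) = b' ≫ i) := by
  let W : Over S := Over.mk (pullback.fst b.left c.left ≫ X'.hom)
  let w : W ⟶ X' := Over.homMk (pullback.fst b.left c.left) rfl
  let a : W ⟶ A := Over.homMk (pullback.snd b.left c.left) (by
    show pullback.snd b.left c.left ≫ A.hom = pullback.fst b.left c.left ≫ X'.hom
    rw [← Over.w b, ← Over.w c, pullback.condition_assoc])
  have hwa : w ≫ b = a ≫ c := Over.OverMorphism.ext pullback.condition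
  haveI : Flat w.left := inferInstanceAs (Flat (pullback.fst b.left c.left))
  haveI : Surjective w.left := inferInstanceAs (Surjective (pullback.fst b.left c.left))
  haveI : QuasiCompact w.left := inferInstanceAs (QuasiCompact (pullback.fst b.left c.left))
  constructor
  · obtain ⟨u, hu⟩ := exists_factor_of_cover w i ((x ≫ g) * (b ≫ i) * (x ≫ g)⁻¹) (lift (w ≫ x) a ≫ z) (by
      rw [Category.assoc, h]
      simp only [MonObj.comp_mul, GrpObj.comp_inv, lift_fst_assoc, lift_snd_assoc, reassoc_of% hwa, Category.assoc])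
    exact ⟨u, hu.symm⟩
  · obtain ⟨u, hu⟩ := exists_factor_of_cover w i ((x ≫ g)⁻¹ * (b ≫ i) * (x ≫ g)) (lift (w ≫ x) a ≫ z') (by
      rw [Category.assoc, h']
      simp only [MonObj.comp_mul, GrpObj.comp_inv, lift_fst_assoc, lift_snd_assoc, reassoc_of% hwa, Category.assoc])
    exact ⟨u, hu.symm⟩

variable {k : Type u} [Field k] [IsAlgClosed k]

set_option maxHeartbeats 1000000 in
/-- A Borel subgroup of a smooth connected group is the preimage of one of the affinization. -/
theorem exists_borel_image {G : Over (Spec (CommRingCat.of k))} [GrpObj G] [Smooth G.hom] [QuasiCompact G.hom]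
    [ConnectedSpace G.left] {B : Over (Spec (CommRingCat.of k))} [GrpObj B] (iB : B ⟶ G) (hB : Red.IsBorelOver k iB) :
    ∃ (I : Over (Spec (CommRingCat.of k))) (_ : GrpObj I) (_ : IsAffine I.left) (_ : Smooth I.hom)
      (_ : ConnectedSpace I.left) (p : G ⟶ I) (_ : IsMonHom p) (_ : Flat p.left) (_ : Surjective p.left)
      (K : Over (Spec (CommRingCat.of k))) (_ : GrpObj K) (κ : K ⟶ G) (eK : K ⟶ B)
      (B₁ : Over (Spec (CommRingCat.of k))) (_ : GrpObj B₁) (iB₁ : B₁ ⟶ I) (r : B ⟶ B₁),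
      AlgGrp.IsKernel κ p ∧ eK ≫ iB = κ ∧ Red.IsBorelOver k iB₁ ∧ r ≫ iB₁ = iB ≫ p ∧ IsMonHom r ∧ Flat r.left ∧
        Surjective r.left ∧ QuasiCompact r.left := by
  obtain ⟨hBm, hBcl, hBsm, hBconn, hBsol, hBmax⟩ := id hB
  haveI := hBm; haveI := hBcl; haveI := hBsm; haveI := hBconn
  haveI : IsPreimmersion iB.left := inferInstance
  haveI : Mono iB.left := IsPreimmersion.instMonoScheme _
  haveI : Mono iB := Over.mono_of_mono_left iB
  haveI : QuasiCompact B.hom := by rw [← Over.w iB]; infer_instance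
  haveI : IsReduced B.left := GrpSchLib.isReduced_of_smooth_field B.hom
  obtain ⟨I, _, p, K, _, κ, hp, hI, hIl, hIq, hfl, hs, hκ, hκc, hk, hbij⟩ := Rosenlicht.exists_antiAffine_kernel G
  haveI := hp; haveI := hI; haveI := hIl; haveI := hIq; haveI := hfl; haveI := hs; haveI := hκ; haveI := hκc
  haveI : LocallyOfFiniteType K.hom := by rw [← Over.w κ]; infer_instance
  haveI : QuasiCompact K.hom := by rw [← Over.w κ]; infer_instance
  have hO := (AntiAffine.bijective_appTop_iff K.hom).mpr hbij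
  obtain ⟨hKn, -⟩ := S3293.result k K hO
  haveI := hKn
  haveI : Smooth I.hom := (S7983.result k G I p).2.1 inferInstance
  haveI : ConnectedSpace I.left := (S7983.result k G I p).2.2 inferInstance
  haveI : Smooth K.hom := (S11412.result k K hO).1
  haveI : IsReduced K.left := GrpSchLib.isReduced_of_smooth_field K.hom
  have hκp : κ ≫ p = 1 := by rw [hk.w, ← Hom.one_def]
  have hker : ∀ x : VecGrp.pt k k ⟶ G, x ≫ p = 1 → ∃ z : VecGrp.pt k k ⟶ K, z ≫ κ = x := fun x hx =>
    ⟨hk.lift x (toUnit _) (by rw [hx, Hom.one_def]), hk.lift_fst _ _ _⟩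
  have hcen : ∀ (z : VecGrp.pt k k ⟶ K) (g : VecGrp.pt k k ⟶ G), Commute (z ≫ κ) g := fun z g => by
    have h := S7996.result k K G hO κ (VecGrp.pt k k) z (VecGrp.pt k k) (𝟙 _) g
    rw [Category.id_comp] at h
    exact h
  -- the image lies in a Borel subgroup
  obtain ⟨B'', _, p', j, hp', hj, hpj, hjc, hjf, hjs, hjl, hjq⟩ := ImageFactor.exists_image (iB ≫ p)
  haveI := hp'; haveI := hj; haveI := hjc; haveI := hjf; haveI := hjs; haveI := hjl; haveI := hjq
  haveI : Smooth B''.hom := (S7983.result k B B'' p').2.1 inferInstance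
  haveI : ConnectedSpace B''.left := (S7983.result k B B'' p').2.2 inferInstance
  have hsol'' := S7997.result k B B'' p' hBsol
  haveI : Mono j := Over.mono_of_mono_left j
  obtain ⟨B₀, _, iB₀, hB₀, -⟩ := exists_borel (G := I)
  obtain ⟨g₀, e₀, he₀⟩ := exists_conj_factor iB₀ (borel_cocompact iB₀ hB₀) j hsol''
  obtain ⟨iB₁, hiB₁⟩ : ∃ i : B₀ ⟶ I, i = iB₀ ≫ inner g₀ := ⟨_, rfl⟩
  have hB₁ : Red.IsBorelOver k iB₁ := hiB₁ ▸ isBorelOver_inner iB₀ hB₀ g₀
  obtain ⟨h1, h2, h3, h4, h5, -⟩ := id hB₁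
  haveI := h1; haveI := h2; haveI := h3; haveI := h4
  haveI : Mono iB₁ := Over.mono_of_mono_left iB₁
  haveI : IsAffine B₀.left := isAffine_of_isAffineHom iB₁.left
  obtain ⟨Z, _, iZ, hiZ, hZc, hZs, hZn, hZ⟩ := exists_connected_preimage p iB₁ κ hκp hker
  haveI := hiZ; haveI := hZc; haveI := hZs; haveI := hZn
  haveI : Mono iZ := Over.mono_of_mono_left iZ
  haveI : QuasiCompact Z.hom := by rw [← Over.w iZ]; infer_instance
  have hZsol : Red.IsSolvableGrp Z := by
    obtain ⟨n, hn⟩ := h5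
    refine isSolvableGrp_of_points (n := n + 1) (eq_bot_iff.mpr ?_)
    rw [derivedSeries_succ, Subgroup.commutator_le]
    intro a ha b hb
    haveI : IsReduced Z.left := GrpSchLib.isReduced_of_smooth_field Z.hom
    obtain ⟨r, hr⟩ := exists_factor_of_points iB₁ (iZ ≫ p) fun z => by
      obtain ⟨b, hb⟩ := (hZ (z ≫ iZ)).1 ⟨z, rfl⟩
      exact ⟨b, by rw [← Category.assoc]; exact hb⟩
    haveI : IsMonHom (r ≫ iB₁) := hr ▸ inferInstance
    haveI : IsMonHom r := isMonHom_of_comp r iB₁
    have h1 := map_derivedSeries_le_derivedSeries (pushPt r) n (Subgroup.mem_map_of_mem _ ha)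
    rw [hn, Subgroup.mem_bot, pushPt_apply] at h1
    obtain ⟨z, hz⟩ := hker (a ≫ iZ) (by
      rw [Category.assoc, ← hr, ← Category.assoc, h1, MonObj.one_comp])
    rw [Subgroup.mem_bot, commutatorElement_eq_one_iff_mul_comm, ← cancel_mono iZ, MonObj.mul_comp, MonObj.mul_comp,
      ← hz]
    exact (hcen z _).eq
  obtain ⟨f, hf⟩ := exists_factor_of_points iZ iB fun b => (hZ _).2 ⟨(b ≫ p') ≫ e₀, by
    rw [hiB₁, Category.assoc, ← he₀, Category.assoc, hpj, Category.assoc]⟩
  haveI : IsIso f := hBmax Z iZ f hZc hZs hZn hZsol hf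
  obtain ⟨κZ, hκZ⟩ := exists_factor_of_points iZ κ fun a => (hZ _).2 ⟨1, by
    rw [MonObj.one_comp, Category.assoc, hκp, MonObj.comp_one]⟩
  obtain ⟨r, hr⟩ := exists_factor_of_points iB₁ (iB ≫ p) fun b => by
    obtain ⟨c, hc⟩ := (hZ (b ≫ iB)).1 ⟨b ≫ f, by rw [Category.assoc, hf]⟩
    exact ⟨c, by rw [← Category.assoc]; exact hc⟩
  haveI : IsMonHom (r ≫ iB₁) := hr ▸ inferInstance
  haveI : IsMonHom r := isMonHom_of_comp r iB₁
  haveI : LocallyOfFiniteType r.left := by
    haveI : LocallyOfFiniteType (r.left ≫ B₀.hom) := by rw [Over.w r]; infer_instance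
    exact locallyOfFiniteType_of_comp r.left B₀.hom
  haveI : QuasiCompact r.left := by
    haveI : QuasiCompact (r.left ≫ B₀.hom) := by rw [Over.w r]; infer_instance
    exact QuasiCompact.of_comp r.left B₀.hom
  haveI : LocallyOfFiniteType p.left := by
    haveI : LocallyOfFiniteType (p.left ≫ I.hom) := by rw [Over.w p]; infer_instance
    exact locallyOfFiniteType_of_comp p.left I.hom
  haveI : IsReduced B₀.left := GrpSchLib.isReduced_of_smooth_field B₀.hom
  haveI : Surjective r.left := by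
    refine ⟨fun y => ?_⟩
    by_contra hy
    obtain ⟨q, hq⟩ := exists_point_mem (D := B₀) (U := (Set.range r.left)ᶜ)
      (GrpSchLib.HomClosedRange.isClosed_range r).isOpen_compl ⟨y, hy⟩
    obtain ⟨x, hx⟩ := exists_point_lift (K := k) p (q ≫ iB₁)
    obtain ⟨z, hz⟩ := (hZ x).2 ⟨q, hx.symm⟩
    have hzq : (z ≫ inv f) ≫ r = q := by
      rw [← cancel_mono iB₁, Category.assoc, Category.assoc, hr, ← hf, Category.assoc, IsIso.inv_hom_id_assoc,
        ← Category.assoc, hz, hx]
    refine hq ?_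
    rw [← hzq, Over.comp_left, Scheme.Hom.comp_apply]
    exact ⟨_, rfl⟩
  haveI : Flat r.left := GrpSchLib.flat_of_surjective_hom r
  exact ⟨I, inferInstance, hI, inferInstance, inferInstance, p, hp, hfl, hs, K, inferInstance, κ, κZ ≫ inv f,
    B₀, inferInstance, iB₁, r, hk, by rw [← hf, Category.assoc, IsIso.inv_hom_id_assoc, hκZ], hB₁, hr,
    inferInstance, inferInstance, inferInstance, inferInstance⟩

set_option maxHeartbeats 1000000 in
/-- The normalizer of a Borel subgroup of a smooth connected group is contained in it. -/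
theorem normalizer_borel_factors_nonaffine {G : Over (Spec (CommRingCat.of k))} [GrpObj G] [Smooth G.hom]
    [QuasiCompact G.hom] [ConnectedSpace G.left] {B : Over (Spec (CommRingCat.of k))} [GrpObj B] (iB : B ⟶ G)
    (hB : Red.IsBorelOver k iB) {N : Over (Spec (CommRingCat.of k))} [GrpObj N] (n : N ⟶ G)
    (hn : Red.IsNormalizerOf iB n) : ∃ u : N ⟶ B, u ≫ iB = n := by
  obtain ⟨I, _, hIa, hIs, hIc, p, hp, hfl, hs, K, _, κ, eK, B₁, _, iB₁, r, hk, heK, hB₁, hr, hrm, hrf, hrs, hrq⟩ :=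
    exists_borel_image iB hB
  haveI := hIa; haveI := hIs; haveI := hIc; haveI := hp; haveI := hfl; haveI := hs
  haveI := hrm; haveI := hrf; haveI := hrs; haveI := hrq
  obtain ⟨h1, h2, h3, h4, -, -⟩ := id hB₁
  haveI := h1; haveI := h2; haveI := h3; haveI := h4
  haveI := hB.1; haveI := hB.2.1
  haveI : Mono iB := Over.mono_of_mono_left iB
  haveI : Mono iB₁ := Over.mono_of_mono_left iB₁
  haveI : IsAffine B₁.left := isAffine_of_isAffineHom iB₁.left
  have hconn : SGA3x.neutralSet B₁ = Set.univ := Neutral.neutralSet_eq_univ (G := B₁) fun t => by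
    rw [show B₁.hom ⁻¹' {t} = Set.univ from Set.eq_univ_of_forall fun y => @Subsingleton.elim (PrimeSpectrum k) _ _ _]
    exact isPreconnected_univ
  obtain ⟨N₁, _, n₁, hn₁, hn₁c, -⟩ := Jet.exists_normalizer (i := iB₁) hconn
  haveI := hn₁c
  haveI : LocallyOfFiniteType N₁.hom := by rw [← Over.w n₁]; infer_instance
  obtain ⟨u₁, hu₁⟩ := normalizer_borel_factors iB₁ hB₁ n₁ hn₁
  haveI := hn.1
  have hnorm := (hn.2.2 N n).mp ⟨𝟙 N, Category.id_comp n⟩ (N ⊗ B) (fst N B) (snd N B)
  obtain ⟨⟨z, hz⟩, z', hz'⟩ := hnorm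
  obtain ⟨m, hm⟩ := (hn₁.2.2 N (n ≫ p)).mpr (conj_factor_of_cover r iB₁ (n ≫ p) (z ≫ r) (z' ≫ r)
    (by rw [Category.assoc, hr, ← Category.assoc z iB p, ← hz, MonObj.mul_comp, MonObj.mul_comp, GrpObj.inv_comp,
          Category.assoc, Category.assoc])
    (by rw [Category.assoc, hr, ← Category.assoc z' iB p, ← hz', MonObj.mul_comp, MonObj.mul_comp, GrpObj.inv_comp,
          Category.assoc, Category.assoc]))
  -- lift along the cover
  let y : N ⟶ B₁ := m ≫ u₁
  have hy : y ≫ iB₁ = n ≫ p := by rw [Category.assoc, hu₁, hm]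
  let W : Over (Spec (CommRingCat.of k)) := Over.mk (pullback.fst y.left r.left ≫ N.hom)
  let w : W ⟶ N := Over.homMk (pullback.fst y.left r.left) rfl
  let a : W ⟶ B := Over.homMk (pullback.snd y.left r.left) (by
    show pullback.snd y.left r.left ≫ B.hom = pullback.fst y.left r.left ≫ N.hom
    rw [← Over.w y, ← Over.w r, pullback.condition_assoc])
  have hwa : w ≫ y = a ≫ r := Over.OverMorphism.ext pullback.condition
  haveI : Flat w.left := inferInstanceAs (Flat (pullback.fst y.left r.left))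
  haveI : Surjective w.left := inferInstanceAs (Surjective (pullback.fst y.left r.left))
  haveI : QuasiCompact w.left := inferInstanceAs (QuasiCompact (pullback.fst y.left r.left))
  have hd : ((a ≫ iB)⁻¹ * (w ≫ n)) ≫ p = 1 := by
    rw [MonObj.mul_comp, GrpObj.inv_comp, Category.assoc, Category.assoc, ← hr, ← hy, ← Category.assoc a,
      ← hwa, Category.assoc, inv_mul_cancel]
  let d : W ⟶ K := hk.lift ((a ≫ iB)⁻¹ * (w ≫ n)) (toUnit _) (by rw [hd, Hom.one_def])
  have hdκ : d ≫ κ = (a ≫ iB)⁻¹ * (w ≫ n) := hk.lift_fst _ _ _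
  exact exists_factor_of_cover w iB n (a * (d ≫ eK)) (by
    rw [MonObj.mul_comp, Category.assoc, heK, hdκ, mul_inv_cancel_left])

end Groth.Agent.GModLib
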