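import Groth.Agent.DSPtsLib.Basic
import Groth.Prelude.Def_Red2

/-!
# Centralizers and normalizers commute with base change
-/

set_option autoImplicit false
set_option backward.isDefEq.respectTransparency false
set_option backward.isDefEq.respectTransparency.types false

universe u

open CategoryTheory Limits AlgebraicGeometry MonoidalCategory CartesianMonoidalCategory MonObj GrpObj

namespace Groth.Agent.GModLib.BC

variable {S U : Scheme.{u}} (g : U ⟶ S) {G H Z : Over S} [GrpObj G] [GrpObj H] [GrpObj Z] {i : H ⟶ G} {j : Z ⟶ G}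

theorem theta_map {A B : Over S} (v : A ⟶ B) {Y : Over U} (a : Y ⟶ Red.bc g A) :
    DSPtsLib.theta g (a ≫ (Over.pullback g).map v) = DSPtsLib.theta g a ≫ v :=
  (Over.mapPullbackAdj g).homEquiv_naturality_right_symm a v

theorem theta_inv {Y : Over U} (a : Y ⟶ Red.bc g G) : DSPtsLib.theta g a⁻¹ = (DSPtsLib.theta g a)⁻¹ := by
  have h1 : DSPtsLib.theta g (1 : Y ⟶ Red.bc g G) = 1 := by
    have h := DSPtsLib.theta_mul g (1 : Y ⟶ Red.bc g G) 1
    rwa [_root_.one_mul, eq_comm, mul_eq_left] at h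
  exact eq_inv_of_mul_eq_one_left (by rw [← DSPtsLib.theta_mul, inv_mul_cancel, h1])

/-- A point over the old base over a point of the new one comes from a point of the new one. -/
theorem exists_lift {X : Over U} {X'' : Over S} (x : X'' ⟶ (Over.map g).obj X) :
    ∃ (X' : Over U) (x' : X' ⟶ X) (e : X'' ⟶ (Over.map g).obj X') (_ : IsIso e), e ≫ (Over.map g).map x' = x := by
  let e : X'' ⟶ (Over.map g).obj (Over.mk (x.left ≫ X.hom)) := Over.homMk (𝟙 _) (by
    show 𝟙 _ ≫ (x.left ≫ X.hom) ≫ g = X''.hom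
    rw [Category.id_comp, Category.assoc]
    exact Over.w x)
  haveI : IsIso ((Over.forget S).map e) := inferInstanceAs (IsIso (𝟙 X''.left))
  exact ⟨_, Over.homMk x.left rfl, e, isIso_of_reflects_iso e (Over.forget S), Over.OverMorphism.ext (Category.id_comp _)⟩

theorem exists_factor_iff {X : Over U} (a : X ⟶ Red.bc g G) :
    (∃ z, z ≫ (Over.pullback g).map j = a) ↔ ∃ z', z' ≫ j = DSPtsLib.theta g a := by
  constructor
  · rintro ⟨z, rfl⟩
    exact ⟨_, (theta_map g j z).symm⟩
  · rintro ⟨z', hz'⟩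
    obtain ⟨z, rfl⟩ := (DSPtsLib.theta_bijective g).2 z'
    exact ⟨z, (DSPtsLib.theta_bijective g).1 (by rw [theta_map, hz'])⟩

theorem theta_conj {X X' : Over U} (a : X ⟶ Red.bc g G) (x : X' ⟶ X) (b : X' ⟶ Red.bc g H) :
    DSPtsLib.theta g ((x ≫ a) * (b ≫ (Over.pullback g).map i)) =
        ((Over.map g).map x ≫ DSPtsLib.theta g a) * (DSPtsLib.theta g b ≫ i) ∧
      DSPtsLib.theta g ((b ≫ (Over.pullback g).map i) * (x ≫ a)) =
        (DSPtsLib.theta g b ≫ i) * ((Over.map g).map x ≫ DSPtsLib.theta g a) := by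
  rw [DSPtsLib.theta_mul, DSPtsLib.theta_mul, theta_map g i b, DSPtsLib.theta_comp g x a]
  exact ⟨rfl, rfl⟩

/-- The base change of a centralizer is the centralizer of the base change. -/
theorem isCentralizerOf_bc [IsMonHom i] (h : Red.IsCentralizerOf i j) :
    Red.IsCentralizerOf ((Over.pullback g).map i) ((Over.pullback g).map j) := by
  obtain ⟨hm, hmo, hj⟩ := h
  haveI := hm; haveI := hmo
  refine ⟨inferInstance, inferInstance, fun X a => ?_⟩
  rw [exists_factor_iff, hj]
  constructor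
  · intro hc X' x b
    refine (DSPtsLib.theta_bijective g).1 ?_
    rw [(theta_conj g a x b).1, (theta_conj g a x b).2]
    exact hc _ _ _
  · intro hc X'' x h'
    obtain ⟨X', x', e, _, rfl⟩ := exists_lift g x
    obtain ⟨b, hb⟩ := (DSPtsLib.theta_bijective g).2 (inv e ≫ h')
    have hh : h' = e ≫ DSPtsLib.theta g b := by rw [hb, IsIso.hom_inv_id_assoc]
    have := congrArg (DSPtsLib.theta g) (hc X' x' b)
    rw [(theta_conj g a x' b).1, (theta_conj g a x' b).2] at this
    rw [hh]
    simp only [Category.assoc, ← MonObj.comp_mul, this]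

/-- The base change of a normalizer is the normalizer of the base change. -/
theorem isNormalizerOf_bc [IsMonHom i] (h : Red.IsNormalizerOf i j) :
    Red.IsNormalizerOf ((Over.pullback g).map i) ((Over.pullback g).map j) := by
  obtain ⟨hm, hmo, hj⟩ := h
  haveI := hm; haveI := hmo
  refine ⟨inferInstance, inferInstance, fun X a => ?_⟩
  rw [exists_factor_iff, hj]
  constructor
  · intro hc X' x b
    obtain ⟨⟨c₁, h₁⟩, c₂, h₂⟩ := hc _ ((Over.map g).map x) (DSPtsLib.theta g b)
    obtain ⟨b₁, rfl⟩ := (DSPtsLib.theta_bijective g).2 c₁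
    obtain ⟨b₂, rfl⟩ := (DSPtsLib.theta_bijective g).2 c₂
    constructor
    · refine ⟨b₁, (DSPtsLib.theta_bijective g).1 ?_⟩
      rw [DSPtsLib.theta_mul, DSPtsLib.theta_mul, theta_inv, theta_map, theta_map, DSPtsLib.theta_comp g x a]
      exact h₁
    · refine ⟨b₂, (DSPtsLib.theta_bijective g).1 ?_⟩
      rw [DSPtsLib.theta_mul, DSPtsLib.theta_mul, theta_inv, theta_map, theta_map, DSPtsLib.theta_comp g x a]
      exact h₂
  · intro hc X'' x h'
    obtain ⟨X', x', e, _, rfl⟩ := exists_lift g x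
    obtain ⟨b, hb⟩ := (DSPtsLib.theta_bijective g).2 (inv e ≫ h')
    have hh : h' = e ≫ DSPtsLib.theta g b := by rw [hb, IsIso.hom_inv_id_assoc]
    obtain ⟨⟨b₁, h₁⟩, b₂, h₂⟩ := hc X' x' b
    replace h₁ := congrArg (DSPtsLib.theta g) h₁
    replace h₂ := congrArg (DSPtsLib.theta g) h₂
    rw [DSPtsLib.theta_mul, DSPtsLib.theta_mul, theta_inv, theta_map, theta_map, DSPtsLib.theta_comp g x' a] at h₁ h₂
    subst hh
    exact ⟨⟨e ≫ DSPtsLib.theta g b₁, by rw [Category.assoc, Category.assoc, Category.assoc, ← GrpObj.comp_inv, ← MonObj.comp_mul, ← MonObj.comp_mul, h₁]⟩,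
      ⟨e ≫ DSPtsLib.theta g b₂, by rw [Category.assoc, Category.assoc, Category.assoc, ← GrpObj.comp_inv, ← MonObj.comp_mul, ← MonObj.comp_mul, h₂]⟩⟩

end Groth.Agent.GModLib.BC
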