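import Groth.Agent.GModLib.NormalizerPoints
import Groth.Agent.GModLib.BorelCentralizing
import Groth.Agent.GModLib.CentralizerBC
import Groth.Agent.GrpFieldLib.JetTransporter
import Groth.Agent.GrpSchLib.Neutral
import Groth.Agent.AssLib.FlatField
import Groth.Agent.GrpSchLib.AntiAffineHom
import Groth.Agent.GrpSchLib.RankOneNonComm
import Groth.Agent.S7993
import Groth.Agent.S18816
import Groth.Agent.S8416
import Groth.Agent.S3913

/-!
# A Borel subgroup is its own normalizer
-/

set_option autoImplicit false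
set_option backward.isDefEq.respectTransparency false
set_option backward.isDefEq.respectTransparency.types false

universe u

open CategoryTheory Limits AlgebraicGeometry MonoidalCategory CartesianMonoidalCategory MonObj GrpObj

namespace Groth.Agent.GModLib

open GrpSchLib GrpSchLib.Kunneth GrpFieldLib

variable {k : Type u} [Field k] [IsAlgClosed k]

/-- A morphism to a smooth scheme with finitely many rational points is constant if it is constant on points. -/
theorem eq_const_of_finite {N F : Over (Spec (CommRingCat.of k))} [LocallyOfFiniteType N.hom] [Smooth F.hom]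
    [IsSeparated F.hom] [Finite (VecGrp.pt k k ⟶ F)] (z : N ⟶ F) (z₀ : VecGrp.pt k k ⟶ F)
    (h : ∀ p : VecGrp.pt k k ⟶ N, p ≫ z = z₀) : z = toPt N ≫ z₀ := by
  haveI : IsReduced F.left := GrpSchLib.isReduced_of_smooth_field F.hom
  haveI : JacobsonSpace F.left := LocallyOfFiniteType.jacobsonSpace F.hom
  let pc : (VecGrp.pt k k ⟶ F) → F.left := fun p => p.left (IsLocalRing.closedPoint k)
  haveI hcl₀ : IsClosedImmersion z₀.left := by
    haveI : IsClosedImmersion (z₀.left ≫ F.hom) := by
      rw [Over.w z₀]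
      show IsClosedImmersion (Spec.map (CommRingCat.ofHom (algebraMap k k)))
      rw [show CommRingCat.ofHom (algebraMap k k) = 𝟙 _ from rfl, Spec.map_id]
      infer_instance
    exact IsClosedImmersion.of_comp z₀.left F.hom
  have hclp : ∀ p : VecGrp.pt k k ⟶ F, IsClosed ({pc p} : Set F.left) := fun p => by
    haveI : IsClosedImmersion (p.left ≫ F.hom) := by
      rw [Over.w p]
      show IsClosedImmersion (Spec.map (CommRingCat.ofHom (algebraMap k k)))
      rw [show CommRingCat.ofHom (algebraMap k k) = 𝟙 _ from rfl, Spec.map_id]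
      infer_instance
    haveI : IsClosedImmersion p.left := IsClosedImmersion.of_comp p.left F.hom
    have e : ({pc p} : Set F.left) = Set.range p.left := by
      ext y
      constructor
      · rintro rfl; exact ⟨_, rfl⟩
      · rintro ⟨q, rfl⟩
        rw [@Subsingleton.elim (Spec (CommRingCat.of k)) _ q (IsLocalRing.closedPoint k)]
        rfl
    rw [e]
    exact p.left.isClosedEmbedding.isClosed_range
  let U : F.left.Opens := ⟨(⋃ p ∈ {p | pc p ≠ pc z₀}, ({pc p} : Set F.left))ᶜ,
    ((Set.toFinite _).isClosed_biUnion fun p _ => hclp p).isOpen_compl⟩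
  have hU : ∀ y, y ∈ U → y = pc z₀ := fun y hy => by
    by_contra hne
    obtain ⟨p, hp⟩ := exists_point_mem (D := F) (U.isOpen.inter (hclp z₀).isOpen_compl) ⟨y, hy, hne⟩
    exact hp.1 (Set.mem_biUnion (x := p) hp.2 rfl)
  have hz₀U : Set.range z₀.left ⊆ (U : Set F.left) := by
    rintro _ ⟨q, rfl⟩
    rw [@Subsingleton.elim (Spec (CommRingCat.of k)) _ q (IsLocalRing.closedPoint k)]
    simp only [U, pc, TopologicalSpace.Opens.coe_mk, Set.mem_compl_iff, Set.mem_iUnion, not_exists,
      Set.mem_singleton_iff]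
    exact fun p hp hh => hp hh.symm
  have hzU : Set.range z.left ⊆ (U : Set F.left) := by
    rintro _ ⟨y, rfl⟩
    by_contra hy
    obtain ⟨p, hp⟩ := exists_point_mem (D := N) (U := z.left ⁻¹' ({pc z₀} : Set F.left)ᶜ)
      ((hclp z₀).isOpen_compl.preimage z.left.continuous) ⟨y, fun hh : z.left y = pc z₀ => by
        rw [hh] at hy; exact hy (hz₀U ⟨_, rfl⟩)⟩
    refine hp ?_
    show z.left (p.left _) = pc z₀
    rw [← Scheme.Hom.comp_apply, ← Over.comp_left, h]
  let l := IsOpenImmersion.lift U.ι z₀.left (by rw [Scheme.Opens.range_ι]; exact hz₀U)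
  have hl : l ≫ U.ι = z₀.left := IsOpenImmersion.lift_fac _ _ _
  haveI : IsClosedImmersion (l ≫ U.ι) := hl ▸ hcl₀
  haveI : IsClosedImmersion l := IsClosedImmersion.of_comp l U.ι
  haveI : Surjective l := ⟨fun y => ⟨IsLocalRing.closedPoint k, Subtype.ext (by
    show U.ι (l _) = U.ι y
    rw [← Scheme.Hom.comp_apply, hl]
    exact (hU _ y.2).symm)⟩⟩
  haveI : IsIso l := isIso_of_isClosedImmersion_of_surjective l
  let m := IsOpenImmersion.lift U.ι z.left (by rw [Scheme.Opens.range_ι]; exact hzU)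
  have hm : m ≫ U.ι = z.left := IsOpenImmersion.lift_fac _ _ _
  have he : z.left = (m ≫ inv l) ≫ z₀.left := by
    rw [← hl, Category.assoc, IsIso.inv_hom_id_assoc, hm]
  let w : N ⟶ VecGrp.pt k k := Over.homMk (m ≫ inv l) (by
    show (m ≫ inv l) ≫ (VecGrp.pt k k).hom = N.hom
    rw [← Over.w z₀, ← Category.assoc, ← he, Over.w z])
  have hw : w = toPt N := Over.OverMorphism.ext (by
    show m ≫ inv l = N.hom
    have e := Over.w w
    rw [show (VecGrp.pt k k).hom = 𝟙 _ by
      show Spec.map (CommRingCat.ofHom (algebraMap k k)) = 𝟙 _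
      rw [show CommRingCat.ofHom (algebraMap k k) = 𝟙 _ from rfl, Spec.map_id]] at e
    exact (Category.comp_id _).symm.trans e)
  calc z = w ≫ z₀ := Over.OverMorphism.ext he
    _ = _ := by rw [hw]

set_option maxHeartbeats 1000000 in
/-- The normalizer of a Borel subgroup is contained in it. -/
theorem normalizer_borel_factors {G : Over (Spec (CommRingCat.of k))} [GrpObj G] [IsAffine G.left] [Smooth G.hom]
    [ConnectedSpace G.left] {B : Over (Spec (CommRingCat.of k))} [GrpObj B] (iB : B ⟶ G) (hB : Red.IsBorelOver k iB)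
    {N : Over (Spec (CommRingCat.of k))} [GrpObj N] [LocallyOfFiniteType N.hom] (n : N ⟶ G)
    (hn : Red.IsNormalizerOf iB n) : ∃ u : N ⟶ B, u ≫ iB = n := by
  obtain ⟨hBm, hBcl, hBsm, hBconn, hBsol, -⟩ := id hB
  haveI := hBm; haveI := hBcl; haveI := hBsm; haveI := hBconn
  haveI : Mono iB := Over.mono_of_mono_left iB
  obtain ⟨X, a, o, hX, hXp⟩ := borel_cocompact iB hB
  haveI := hXp; haveI := hX.1; haveI := hX.2.2.1
  haveI : Smooth X.hom := S7993.result k G B X iB a o hX
  obtain ⟨T₀, _, iT₀, hT₀⟩ := exists_maxTorus G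
  haveI := hT₀.1; haveI := hT₀.2.1
  have hT := hT₀.2.2.1
  obtain ⟨q1, q2, q3, -, -⟩ := TorusBasic.torus_props hT
  haveI := q1; haveI := q2; haveI := q3
  haveI : IsReduced T₀.left := GrpSchLib.isReduced_of_smooth_field T₀.hom
  obtain ⟨g₀, iT, hiT⟩ := exists_torus_into_borel iB hB hT iT₀
  have hjT : AGF.IsMaxTorus (iT ≫ iB) := hiT ▸ isMaxTorus_inner hT₀ g₀
  haveI := hjT.1; haveI := hjT.2.1
  let aT := restrictAct a (iT ≫ iB)
  obtain ⟨F, j, hj, hjfix, hjuniv⟩ := S18816.result k X T₀ aT.act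
  haveI := hj
  haveI : Mono j := Over.mono_of_mono_left j
  have hF : ∀ (T : Over (Spec (CommRingCat.of k))) (x : T ⟶ X), (∃ y : T.left ⟶ F.left, y ≫ j.left = x.left) ↔
      ∀ (T' : Over (Spec (CommRingCat.of k))) (t : T' ⟶ T) (g : T' ⟶ T₀), lift g (t ≫ x) ≫ aT.act = t ≫ x := by
    intro T x
    constructor
    · rintro ⟨y, hy⟩ T' t g
      let z : T ⟶ F := Over.homMk y (by rw [← Over.w j, ← Category.assoc, hy, Over.w x])
      have hz : z ≫ j = x := Over.OverMorphism.ext hy
      rw [← hz, ← Category.assoc t, ← lift_whiskerLeft_assoc, hjfix, lift_snd_assoc]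
    · intro h
      obtain ⟨z, hz⟩ := hjuniv T x (by
        have e := h (T₀ ⊗ T) (snd T₀ T) (fst T₀ T)
        have : T₀ ◁ x = lift (fst T₀ T) (snd T₀ T ≫ x) := by apply CartesianMonoidalCategory.hom_ext <;> simp
        rw [this, e])
      exact ⟨z.left, congrArg CommaMorphism.left hz⟩
  haveI : Smooth F.hom := by
    rw [← Over.w j]
    exact S8416.result _ T₀ (RankOne.isMultTypeFT_of_isTorus hT) X aT F.left j.left hj hF
  haveI : IsSeparated F.hom := by rw [← Over.w j]; infer_instance
  let π := a.orbitMap o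
  haveI : LocallyOfFiniteType (π.left ≫ X.hom) := by rw [Over.w π]; infer_instance
  haveI : LocallyOfFiniteType π.left := locallyOfFiniteType_of_comp π.left X.hom
  haveI : Surjective π.left := hX.2.2.1
  -- finitely many fixed points
  choose g hg using fun z : VecGrp.pt k k ⟶ F => exists_point_lift (K := k) π (z ≫ j)
  have hgT : ∀ z, ∃ t : T₀ ⟶ B, t ≫ iB ≫ inner (toPt _ ≫ g z) = iT ≫ iB := fun z => by
    obtain ⟨w, hw⟩ := exists_factor_of_points iB ((iT ≫ iB) ≫ inner (toPt _ ≫ g z)⁻¹) fun s => by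
      have e : (lift s (z ≫ j) ≫ aT.act) = z ≫ j := by
        rw [← lift_whiskerLeft_assoc, hjfix, lift_snd_assoc]
      rw [restrictAct_act, ← hg, comp_orbitMap, act_mul, ← comp_orbitMap, ← comp_orbitMap] at e
      obtain ⟨b, hb⟩ := (QuotTower.orbit_eq_iff iB X a o hX _ _).mp e.symm
      refine ⟨b, ?_⟩
      rw [← GrpObj.comp_inv, comp_inner_point, _root_.inv_inv,
        show b ≫ iB = (g z)⁻¹ * ((s ≫ iT ≫ iB) * g z) by rw [← hb, inv_mul_cancel_left]]
      group
    exact ⟨w, by rw [← Category.assoc, hw, Category.assoc, inner_inner, mul_inv_cancel, inner_one, Category.comp_id]⟩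
  haveI : Finite (VecGrp.pt k k ⟶ F) := by
    haveI : ∀ z, Mono (iB ≫ inner (toPt _ ≫ g z)) := fun z => inferInstance
    haveI := (S3913.result k G T₀ (iT ≫ iB) hjT).to_subtype
    let Φ : (VecGrp.pt k k ⟶ F) → {P : Subobject G | ∃ (B : Over (Spec (CommRingCat.of k))) (_ : GrpObj B) (iB' : B ⟶ G)
        (_ : Mono iB'), Red.IsBorelOver k iB' ∧ (∃ t : T₀ ⟶ B, t ≫ iB' = iT ≫ iB) ∧ P = Subobject.mk iB'} :=
      fun z => ⟨Subobject.mk (iB ≫ inner (toPt _ ≫ g z)), B, inferInstance, iB ≫ inner (toPt _ ≫ g z), inferInstance,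
        isBorelOver_inner iB hB _, hgT z, rfl⟩
    refine Finite.of_injective Φ fun z z' hzz => ?_
    have he : Subobject.mk (iB ≫ inner (toPt _ ≫ g z)) = Subobject.mk (iB ≫ inner (toPt _ ≫ g z')) :=
      congrArg Subtype.val hzz
    have e₁ := Subobject.ofMkLEMk_comp he.le
    have e₂ := Subobject.ofMkLEMk_comp he.ge
    obtain ⟨b, hb⟩ := mem_borel_of_normalizes iB hB ((g z')⁻¹ * g z) (fun b => ⟨b ≫ Subobject.ofMkLEMk _ _ he.le, by
        have h1 := congrArg (b ≫ ·) e₁
        simp only [← Category.assoc b, comp_inner_point] at h1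
        rw [Category.assoc b iB, comp_inner_point] at h1
        rw [show ((b ≫ Subobject.ofMkLEMk _ _ he.le) ≫ iB) = (g z')⁻¹ * (g z * (b ≫ iB) * (g z)⁻¹) * g z' by
          rw [← h1]; group]
        group⟩)
      (fun b => ⟨b ≫ Subobject.ofMkLEMk _ _ he.ge, by
        have h1 := congrArg (b ≫ ·) e₂
        simp only [← Category.assoc b, comp_inner_point] at h1
        rw [Category.assoc b iB, comp_inner_point] at h1
        rw [show ((b ≫ Subobject.ofMkLEMk _ _ he.ge) ≫ iB) = (g z)⁻¹ * (g z' * (b ≫ iB) * (g z')⁻¹) * g z by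
          rw [← h1]; group]
        group⟩)
    rw [← cancel_mono j, ← hg, ← hg]
    exact ((QuotTower.orbit_eq_iff iB X a o hX (g z') (g z)).mpr ⟨b, by rw [hb, mul_inv_cancel_left]⟩).symm
  -- the normalizer maps into the fixed points
  obtain ⟨zn, hzn⟩ := hjuniv N (n ≫ π) (by
    rw [show T₀ ◁ (n ≫ π) = lift (fst T₀ N) ((snd T₀ N ≫ n) ≫ π) by
        apply CartesianMonoidalCategory.hom_ext <;> simp,
      restrictAct_act, comp_orbitMap, act_mul, ← comp_orbitMap]
    obtain ⟨-, ⟨b, hb⟩⟩ := (hn.2.2 _ n).mp ⟨𝟙 N, Category.id_comp n⟩ (T₀ ⊗ N) (snd T₀ N) (fst T₀ N ≫ iT)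
    refine ((QuotTower.orbit_eq_iff iB X a o hX _ _).mpr ⟨b, ?_⟩).symm.trans (Category.assoc _ _ _)
    rw [← hb, Category.assoc (fst T₀ N)]
    group)
  haveI : IsMonHom n := hn.1
  have h1o : (1 : VecGrp.pt k k ⟶ G) ≫ π = toUnit _ ≫ o := by rw [comp_orbitMap, act_one]
  let z₀ := (1 : VecGrp.pt k k ⟶ N) ≫ zn
  have hz₀ : z₀ ≫ j = toUnit _ ≫ o := by
    rw [Category.assoc, hzn, ← Category.assoc, MonObj.one_comp, h1o]
  have hconst := eq_const_of_finite zn z₀ fun p => by
    rw [← cancel_mono j, hz₀, Category.assoc, hzn, ← Category.assoc, ← h1o]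
    obtain ⟨b, hb⟩ := mem_borel_of_normalizes iB hB (p ≫ n) (fun b => by
        have h := ((hn.2.2 _ (p ≫ n)).mp ⟨p, rfl⟩ _ (𝟙 _) b).1
        rwa [Category.id_comp] at h)
      (fun b => by
        have h := ((hn.2.2 _ (p ≫ n)).mp ⟨p, rfl⟩ _ (𝟙 _) b).2
        rwa [Category.id_comp] at h)
    exact ((QuotTower.orbit_eq_iff iB X a o hX 1 (p ≫ n)).mpr ⟨b, by rw [hb, _root_.one_mul]⟩).symm
  obtain ⟨u, hu⟩ := (QuotTower.orbit_eq_iff iB X a o hX 1 n).mp (by
    rw [← hzn, hconst, Category.assoc, hz₀, comp_orbitMap, act_one, ← Category.assoc,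
      toUnit_unique (toPt N ≫ toUnit _) (toUnit N)])
  exact ⟨u, by rw [← hu, _root_.one_mul]⟩

omit [IsAlgClosed k] in
/-- A Borel subgroup is its own normalizer. -/
theorem borel_isNormalizerOf_self {G : Over (Spec (CommRingCat.of k))} [GrpObj G] [IsAffine G.left] [Smooth G.hom]
    [ConnectedSpace G.left] {B : Over (Spec (CommRingCat.of k))} [GrpObj B] (iB : B ⟶ G) (hB : Red.IsBorel iB) :
    Red.IsNormalizerOf iB iB := by
  obtain ⟨hm, hcl, hsm, hgeo⟩ := hB
  haveI := hm; haveI := hcl; haveI := hsm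
  haveI : Mono iB := Over.mono_of_mono_left iB
  haveI : IsAffine B.left := isAffine_of_isAffineHom iB.left
  let s : Spec (CommRingCat.of k) := IsLocalRing.closedPoint k
  let σ := Red.geomPt s
  have hBo := hgeo s
  haveI : Surjective σ := ⟨fun x => ⟨IsLocalRing.closedPoint _, @Subsingleton.elim (PrimeSpectrum k) _ _ _⟩⟩
  haveI : Flat σ := AssLib.flat_over_field σ
  haveI : QuasiCompact σ := inferInstance
  haveI : ConnectedSpace ↥(pullback B.hom σ) := hBo.2.2.2.1
  haveI : Surjective (pullback.fst B.hom σ) := inferInstance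
  haveI : ConnectedSpace B.left :=
    Function.Surjective.connectedSpace (pullback.fst B.hom σ).surjective (pullback.fst B.hom σ).continuous
  have hconn : SGA3x.neutralSet B = Set.univ := Neutral.neutralSet_eq_univ (G := B) fun t => by
    rw [show B.hom ⁻¹' {t} = Set.univ from Set.eq_univ_of_forall fun y => @Subsingleton.elim (PrimeSpectrum k) _ _ _]
    exact isPreconnected_univ
  obtain ⟨N, _, n, hn, hnc, -⟩ := Jet.exists_normalizer (i := iB) hconn
  haveI := hn.1; haveI := hn.2.1; haveI := hnc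
  haveI : LocallyOfFiniteType N.hom := by rw [← Over.w n]; infer_instance
  obtain ⟨b, hb⟩ := (hn.2.2 B iB).mpr fun X' x h =>
    ⟨⟨x * h * x⁻¹, by rw [MonObj.mul_comp, MonObj.mul_comp, GrpObj.inv_comp]⟩,
      ⟨x⁻¹ * h * x, by rw [MonObj.mul_comp, MonObj.mul_comp, GrpObj.inv_comp]⟩⟩
  haveI : IsAffine (Red.bc σ G).left := inferInstanceAs (IsAffine (pullback G.hom σ))
  haveI : Smooth (Red.bc σ G).hom := inferInstanceAs (Smooth (pullback.snd G.hom σ))
  haveI : ConnectedSpace (Red.bc σ G).left := by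
    have h := GrpSchLib.AntiAffine.connectedSpace_bc G (Spec.preimage σ).hom
    rwa [CommRingCat.ofHom_hom, Spec.map_preimage] at h
  haveI : LocallyOfFiniteType (Red.bc σ N).hom := inferInstanceAs (LocallyOfFiniteType (pullback.snd N.hom σ))
  obtain ⟨u, hu⟩ := normalizer_borel_factors ((Over.pullback σ).map iB) hBo ((Over.pullback σ).map n)
    (BC.isNormalizerOf_bc σ hn)
  let bσ := (Over.pullback σ).map b
  have hbσ : bσ ≫ (Over.pullback σ).map n = (Over.pullback σ).map iB := by rw [← Functor.map_comp, hb]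
  haveI : IsIso bσ := ⟨u, by rw [← cancel_mono ((Over.pullback σ).map iB), Category.assoc, hu, hbσ, Category.id_comp],
    by rw [← cancel_mono ((Over.pullback σ).map n), Category.assoc, hbσ, hu, Category.id_comp]⟩
  haveI : IsIso bσ.left := inferInstanceAs (IsIso ((Over.forget _).map bσ))
  have hpb : IsPullback (pullback.fst B.hom σ) bσ.left b.left (pullback.fst N.hom σ) := by
    refine IsPullback.of_bot ?_ (by simp [bσ]) (IsPullback.of_hasPullback N.hom σ)
    rw [show b.left ≫ N.hom = B.hom from Over.w b,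
      show bσ.left ≫ pullback.snd N.hom σ = pullback.snd B.hom σ from Over.w bσ]
    exact IsPullback.of_hasPullback B.hom σ
  haveI : IsIso (pullback.snd b.left (pullback.fst N.hom σ)) := by
    rw [← IsPullback.isoPullback_inv_snd hpb]
    infer_instance
  haveI : IsIso b.left := MorphismProperty.of_pullback_snd_of_descendsAlong
    (P := MorphismProperty.isomorphisms Scheme) (Q := @Surjective ⊓ @Flat ⊓ @QuasiCompact) (g := pullback.fst N.hom σ)
    ⟨⟨inferInstance, inferInstance⟩, inferInstance⟩ ‹IsIso (pullback.snd b.left (pullback.fst N.hom σ))›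
  haveI : IsIso ((Over.forget _).map b) := ‹IsIso b.left›
  haveI : IsIso b := isIso_of_reflects_iso b (Over.forget _)
  refine ⟨inferInstance, inferInstance, fun X g => ⟨fun ⟨z, hz⟩ => ?_, fun h => ?_⟩⟩
  · exact (hn.2.2 X g).mp ⟨z ≫ b, by rw [Category.assoc, hb, hz]⟩
  · obtain ⟨z, hz⟩ := (hn.2.2 X g).mpr h
    exact ⟨z ≫ inv b, by rw [← hb, Category.assoc, IsIso.inv_hom_id_assoc, hz]⟩

end Groth.Agent.GModLib
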