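import Groth.Agent.GModLib.ObservableSubgroup
import Groth.Agent.LieKolchinLib.Abstract
import Groth.Agent.GrpFieldLib.SmoothDense
import Groth.Agent.GrpSchLib.IdentityComp
import Mathlib.AlgebraicGeometry.Morphisms.FlatMono

/-!
# Semi-invariant functions of connected solvable groups
-/

universe u

open CategoryTheory Limits AlgebraicGeometry MonoidalCategory CartesianMonoidalCategory MonObj GrpObj TensorProduct
open TopologicalSpace

set_option backward.isDefEq.respectTransparency false
set_option backward.isDefEq.respectTransparency.types false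

namespace Groth.Agent.GModLib

open GrpSchLib GrpSchLib.Kunneth

variable {k : Type u} [Field k]

/-- The structure map to the base point. -/
noncomputable def toPt (T : Over (Spec (CommRingCat.of k))) : T ⟶ VecGrp.pt k k := Over.homMk T.hom (by
  show T.hom ≫ Spec.map (CommRingCat.ofHom (algebraMap k k)) = T.hom
  rw [show CommRingCat.ofHom (algebraMap k k) = 𝟙 _ from rfl, Spec.map_id, Category.comp_id])

theorem comp_toPt {T : Over (Spec (CommRingCat.of k))} (p : VecGrp.pt k k ⟶ T) : p ≫ toPt T = 𝟙 _ :=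
  S11188.pt_end_eq _

variable {G : Over (Spec (CommRingCat.of k))} [GrpObj G] [IsAlgClosed k] [IsAffine G.left] [Smooth G.hom]

omit [GrpObj G] in
theorem isDomain_fn [Nonempty G.left] [ConnectedSpace G.left] : IsDomain (Fn G) := by
  haveI : IrreducibleSpace G.left := GrpFieldLib.SmoothDense.irreducibleSpace_of_connected G.hom
  haveI : IsReduced G.left := GrpSchLib.isReduced_of_smooth_field G.hom
  haveI : IsIntegral G.left := isIntegral_of_irreducibleSpace_of_isReduced G.left
  infer_instance

/-- The regular functions on the rational points of a connected group. -/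
noncomputable def regSystem [ConnectedSpace G.left] : LieKolchinLib.RegSystem k (VecGrp.pt k k ⟶ G) where
  F := {F | ∃ a : Fn G, ∀ g, F g = pullFn g a}
  mul_left f hf x := by
    obtain ⟨a, ha⟩ := hf
    exact ⟨ev ((toPt G ≫ x) * 𝟙 G) a, fun g => by
      rw [pullFn_ev, MonObj.comp_mul, ← Category.assoc, comp_toPt, Category.id_comp, Category.comp_id]; exact ha _⟩
  mul_right f hf x := by
    obtain ⟨a, ha⟩ := hf
    exact ⟨ev (𝟙 G * (toPt G ≫ x)) a, fun g => by
      rw [pullFn_ev, MonObj.comp_mul, ← Category.assoc, comp_toPt, Category.id_comp, Category.comp_id]; exact ha _⟩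
  conj f hf x := by
    obtain ⟨a, ha⟩ := hf
    exact ⟨ev (𝟙 G * (toPt G ≫ x) * (𝟙 G)⁻¹) a, fun g => by
      rw [pullFn_ev, MonObj.comp_mul, MonObj.comp_mul, GrpObj.comp_inv, ← Category.assoc, comp_toPt,
        Category.id_comp, Category.comp_id]; exact ha _⟩
  conn f hf hfin g := by
    classical
    obtain ⟨a, ha⟩ := hf
    haveI : Nonempty G.left := inferInstance
    haveI := isDomain_fn (G := G)
    haveI : IsReduced G.left := GrpSchLib.isReduced_of_smooth_field G.hom
    have h0 : ∏ r ∈ hfin.toFinset, (a - algebraMap k (Fn G) r) = 0 := eq_of_forall_point fun p => by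
      rw [map_prod, map_zero]
      exact Finset.prod_eq_zero (hfin.mem_toFinset.mpr ⟨p, rfl⟩) (by simp [ha p])
    obtain ⟨r, -, hr⟩ := Finset.prod_eq_zero_iff.mp h0
    rw [sub_eq_zero] at hr
    rw [ha, ha, hr, AlgHom.commutes, AlgHom.commutes]

/-- On a connected solvable group the span of the translates of a nonzero function contains a unit which is,
up to a constant, multiplicative. -/
theorem exists_eigen_unit [ConnectedSpace G.left] {n : ℕ}
    (hn : derivedSeries (VecGrp.pt k k ⟶ G) n = ⊥) {f : Fn G} (hf : f ≠ 0) :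
    ∃ F : Fn G, IsUnit F ∧
      F ∈ Submodule.span k (Set.range fun a : VecGrp.pt k k ⟶ G => ev ((toPt G ≫ a⁻¹) * 𝟙 G) f) ∧
      ∀ x y : VecGrp.pt k k ⟶ G,
        pullFn (x * y) F * pullFn (1 : VecGrp.pt k k ⟶ G) F = pullFn x F * pullFn y F := by
  classical
  haveI : IsAffineHom G.hom := inferInstance
  haveI : IsReduced G.left := GrpSchLib.isReduced_of_smooth_field G.hom
  obtain ⟨m, M, w, cv, hM, -, hcv, hE⟩ := exists_matrix_vec (G := G) f
  let T : (VecGrp.pt k k ⟶ G) → Fn G →ₗ[k] Fn G := fun a => (ev ((toPt G ≫ a⁻¹) * 𝟙 G)).toLinearMap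
  have hT : ∀ a y (F : Fn G), pullFn y (T a F) = pullFn (a⁻¹ * y) F := fun a y F => by
    simp only [T, AlgHom.toLinearMap_apply]
    rw [pullFn_ev, MonObj.comp_mul, ← Category.assoc, comp_toPt, Category.id_comp, Category.comp_id]
  let W : Submodule k (Fn G) := Submodule.span k (Set.range fun a => T a f)
  have hWle : W ≤ Submodule.span k (Set.range fun i => ∑ j, cv j • M i j) := by
    refine Submodule.span_le.mpr ?_
    rintro _ ⟨a, rfl⟩
    have e : T a f = ∑ i, pullFn (a⁻¹) (w i) • ∑ j, cv j • M i j := eq_of_forall_point fun y => by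
      have hb : ∀ j, pullFn (a⁻¹ * y) (w j) = ∑ i, pullFn (a⁻¹) (w i) * pullFn y (M i j) := fun j => by
        have := congrArg (fun z => (Scheme.ΓSpecIso (CommRingCat.of k)).hom z) (hE _ a⁻¹ y j)
        simp only [map_sum, map_mul] at this
        exact this
      rw [hT]
      conv_lhs => rw [← hcv]
      simp only [map_sum, map_smul, hb, smul_eq_mul, Finset.mul_sum]
      rw [Finset.sum_comm]
      exact Finset.sum_congr rfl fun i _ => Finset.sum_congr rfl fun j _ => by ring
    show T a f ∈ _
    rw [e]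
    exact Submodule.sum_mem _ fun i _ => Submodule.smul_mem _ _ (Submodule.subset_span ⟨i, rfl⟩)
  haveI : Module.Finite k (Submodule.span k (Set.range fun i => ∑ j, cv j • M i j)) :=
    Module.Finite.span_of_finite k (Set.finite_range _)
  haveI : Module.Finite k W := Submodule.finiteDimensional_of_le hWle
  have hTW : ∀ a, ∀ F ∈ W, T a F ∈ W := by
    intro a F hF
    induction hF using Submodule.span_induction with
    | mem F hF =>
      obtain ⟨b, rfl⟩ := hF
      refine Submodule.subset_span ⟨a * b, eq_of_forall_point fun y => ?_⟩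
      rw [hT, hT, hT, _root_.mul_inv_rev, _root_.mul_assoc]
    | zero => rw [map_zero]; exact W.zero_mem
    | add x y _ _ hx hy => rw [map_add]; exact W.add_mem hx hy
    | smul r x _ hx => rw [map_smul]; exact W.smul_mem r hx
  let ρ : (VecGrp.pt k k ⟶ G) →* Module.End k W :=
    { toFun := fun a => (T a).restrict (hTW a)
      map_one' := LinearMap.ext fun F => Subtype.ext (eq_of_forall_point fun y => by
        simp only [LinearMap.coe_restrict_apply, Module.End.one_apply, hT, _root_.inv_one, _root_.one_mul])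
      map_mul' := fun a b => LinearMap.ext fun F => Subtype.ext (eq_of_forall_point fun y => by
        simp only [LinearMap.coe_restrict_apply, Module.End.mul_apply, hT, _root_.mul_inv_rev, _root_.mul_assoc]) }
  have hreg : (regSystem (G := G)).Reg ρ := by
    intro φ v
    have hsp : φ ∈ Submodule.span k (Set.range fun y : VecGrp.pt k k ⟶ G => (pullFn y).toLinearMap ∘ₗ W.subtype) := by
      rw [← Subspace.dualCoannihilator_dualAnnihilator_eq (W := Submodule.span k _), Submodule.mem_dualAnnihilator]
      intro F hF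
      rw [show F = 0 from ?_, map_zero]
      refine Subtype.ext (eq_of_forall_point fun y => ?_)
      have := (Submodule.mem_dualCoannihilator _).mp hF _ (Submodule.subset_span ⟨y, rfl⟩)
      simpa using this
    induction hsp using Submodule.span_induction with
    | mem φ hφ =>
      obtain ⟨y, rfl⟩ := hφ
      exact ⟨ev ((𝟙 G)⁻¹ * (toPt G ≫ y)) v.1, fun g => by
        rw [pullFn_ev, MonObj.comp_mul, GrpObj.comp_inv, ← Category.assoc, comp_toPt, Category.id_comp,
          Category.comp_id]
        show pullFn y (T g v.1) = _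
        rw [hT]⟩
    | zero => exact ⟨0, fun g => by simp⟩
    | add φ ψ _ _ hφ hψ =>
      obtain ⟨a, ha⟩ := hφ
      obtain ⟨b, hb⟩ := hψ
      exact ⟨a + b, fun g => by rw [map_add, ← ha, ← hb]; rfl⟩
    | smul r φ _ hφ =>
      obtain ⟨a, ha⟩ := hφ
      exact ⟨r • a, fun g => by rw [map_smul, ← ha]; rfl⟩
  have hWne : (⊤ : Submodule k W) ≠ ⊥ := by
    intro h
    refine hf ?_
    have hmem : f ∈ W := by
      refine Submodule.subset_span ⟨1, eq_of_forall_point fun y => ?_⟩
      rw [hT, _root_.inv_one, _root_.one_mul]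
    have : (⟨f, hmem⟩ : W) = 0 := (Submodule.mem_bot k).mp (h ▸ Submodule.mem_top)
    exact congrArg Subtype.val this
  obtain ⟨F, -, hF0, hFe⟩ := LieKolchinLib.hasEigen (regSystem (G := G)) ρ hreg hn 0 ⊤
    (fun _ _ _ _ => Submodule.mem_top) hWne
  have hF : ∀ a, ∃ e : k, e ≠ 0 ∧ ∀ y, pullFn (a⁻¹ * y) F.1 = e * pullFn y F.1 := fun a => by
    obtain ⟨e, he⟩ := hFe a (by simp)
    refine ⟨e, fun h0 => hF0 ?_, fun y => ?_⟩
    · rw [h0, zero_smul] at he
      have := congrArg (ρ a⁻¹) he
      rwa [← Module.End.mul_apply, ← map_mul, inv_mul_cancel, map_one, map_zero] at this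
    · rw [← hT, ← smul_eq_mul, ← map_smul]
      exact congrArg (pullFn y) (congrArg Subtype.val he)
  have hFne : ∀ y : VecGrp.pt k k ⟶ G, pullFn y F.1 ≠ 0 := fun y hy => by
    refine hF0 (Subtype.ext (eq_of_forall_point fun z => ?_))
    obtain ⟨e, -, he⟩ := hF (y * z⁻¹)
    rw [show z = (y * z⁻¹)⁻¹ * y by simp, he y, hy, MulZeroClass.mul_zero]
    simp
  have hFu : IsUnit F.1 := by
    by_contra hu
    obtain ⟨P, hP, hFP⟩ := exists_max_ideal_of_mem_nonunits hu
    haveI := hP
    obtain ⟨z, hz⟩ := exists_point_of_isMaximal (G := G) P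
    exact hFne z (hz _ hFP)
  refine ⟨F.1, hFu, F.2, fun x y => ?_⟩
  obtain ⟨e, -, he⟩ := hF x⁻¹
  have h1 := he y
  have h2 := he 1
  rw [_root_.inv_inv] at h1 h2
  rw [_root_.mul_one] at h2
  rw [h1, h2]
  ring

/-- On a connected solvable group every weight of semi-invariant functions under a subgroup has a unit of
inverse weight. -/
theorem exists_inverse_weight_solvable [ConnectedSpace G.left] {n : ℕ}
    (hn : derivedSeries (VecGrp.pt k k ⟶ G) n = ⊥) {H : Over (Spec (CommRingCat.of k))} [GrpObj H] (i : H ⟶ G)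
    (c : (VecGrp.pt k k ⟶ H) → k) {f : Fn G} (hf : f ≠ 0)
    (hw : ∀ x h, pullFn (x * (h ≫ i)) f = c h * pullFn x f) :
    ∃ g : Fn G, pullFn (1 : VecGrp.pt k k ⟶ G) g ≠ 0 ∧ ∀ x h, c h * pullFn (x * (h ≫ i)) g = pullFn x g := by
  haveI : IsReduced G.left := GrpSchLib.isReduced_of_smooth_field G.hom
  obtain ⟨F, ⟨u, rfl⟩, hFW, -⟩ := exists_eigen_unit hn hf
  have hmem : ∀ F ∈ Submodule.span k (Set.range fun a : VecGrp.pt k k ⟶ G => ev ((toPt G ≫ a⁻¹) * 𝟙 G) f),
      ∀ x h, pullFn (x * (h ≫ i)) F = c h * pullFn x F := by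
    intro F hF
    induction hF using Submodule.span_induction with
    | mem F hF =>
      obtain ⟨a, rfl⟩ := hF
      intro x h
      simp only [pullFn_ev, MonObj.comp_mul, ← Category.assoc, comp_toPt, Category.id_comp, Category.comp_id]
      rw [← _root_.mul_assoc, hw]
    | zero => simp
    | add a b _ _ ha hb => intro x h; rw [map_add, map_add, ha, hb, mul_add]
    | smul r a _ ha => intro x h; rw [map_smul, map_smul, ha, smul_eq_mul, smul_eq_mul, mul_left_comm]
  have e1 : ∀ y : VecGrp.pt k k ⟶ G, pullFn y (u : Fn G) * pullFn y (↑u⁻¹ : Fn G) = 1 := fun y => by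
    rw [← map_mul, Units.mul_inv, map_one]
  refine ⟨(↑u⁻¹ : Fn G), ((u⁻¹).isUnit.map (pullFn (1 : VecGrp.pt k k ⟶ G))).ne_zero, fun x h => ?_⟩
  have e2 := e1 (x * (h ≫ i))
  rw [hmem _ hFW] at e2
  refine mul_left_cancel₀ ((u.isUnit.map (pullFn x)).ne_zero) ?_
  rw [e1, ← e2]
  ring

omit [IsAffine G.left] in
/-- The identity component as an open subgroup. -/
theorem exists_open_identityComponent : ∃ (G₀ : Over (Spec (CommRingCat.of k))) (_ : GrpObj G₀) (j : G₀ ⟶ G)
    (_ : IsMonHom j), IsOpenImmersion j.left ∧ IsClosedImmersion j.left ∧ ConnectedSpace G₀.left := by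
  obtain ⟨G₀, hG₀, j, hj, hcl, hflat, hr, -, -⟩ := GrpSchLib.exists_identityComponent (G := G)
  haveI : IsLocallyNoetherian G.left := LocallyOfFiniteType.isLocallyNoetherian G.hom
  haveI : LocallyOfFinitePresentation j.left := inferInstance
  haveI : IsOpenImmersion j.left := IsOpenImmersion.of_flat_of_mono j.left
  refine ⟨G₀, hG₀, j, hj, inferInstance, hcl, ?_⟩
  have : _root_.IsConnected (Set.range j.left) := hr ▸ isConnected_connectedComponent
  exact connectedSpace_iff_univ.mpr
    ⟨⟨(η[G₀] : _ ⟶ G₀).left (IsLocalRing.closedPoint k), trivial⟩,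
      j.left.isClosedEmbedding.isInducing.isPreconnected_image.mp (by rw [Set.image_univ]; exact this.isPreconnected)⟩

end Groth.Agent.GModLib
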