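import Groth.Agent.GModLib.InverseWeight
import Groth.Agent.GModLib.SolvableEigen
import Groth.Agent.GrpSchLib.RedSubgroup
import Groth.Agent.GrpSchLib.PerfectSmooth
import Groth.Agent.GrpSchLib.ReducedPoints
import Groth.Agent.H23.RedSub

/-!
# Subgroups of rational points cut out by functions
-/

set_option autoImplicit false
set_option backward.isDefEq.respectTransparency false
set_option backward.isDefEq.respectTransparency.types false

universe u

open CategoryTheory Limits AlgebraicGeometry MonoidalCategory CartesianMonoidalCategory MonObj GrpObj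

namespace Groth.Agent.GModLib

open GrpSchLib GrpSchLib.Kunneth

variable {k : Type u} [Field k]

/-- Composition with a homomorphism on rational points. -/
noncomputable def pushPt {P G : Over (Spec (CommRingCat.of k))} [GrpObj P] [GrpObj G] (i : P ⟶ G) [IsMonHom i] :
    (VecGrp.pt k k ⟶ P) →* (VecGrp.pt k k ⟶ G) where
  toFun p := p ≫ i
  map_one' := MonObj.one_comp i
  map_mul' p q := MonObj.mul_comp p q i

theorem pushPt_apply {P G : Over (Spec (CommRingCat.of k))} [GrpObj P] [GrpObj G] (i : P ⟶ G) [IsMonHom i]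
    (p : VecGrp.pt k k ⟶ P) : pushPt i p = p ≫ i := rfl

theorem toUnit_toPt : toUnit (VecGrp.pt k k) ≫ toPt (𝟙_ (Over (Spec (CommRingCat.of k)))) = 𝟙 _ :=
  comp_toPt _

theorem mem_basicOpen_iff {G : Over (Spec (CommRingCat.of k))} (p : VecGrp.pt k k ⟶ G) (f : Fn G) :
    p.left (IsLocalRing.closedPoint k) ∈ G.left.basicOpen f ↔ pullFn p f ≠ 0 := by
  show IsLocalRing.closedPoint k ∈ p.left ⁻¹ᵁ G.left.basicOpen f ↔ _
  rw [Scheme.preimage_basicOpen]
  show IsLocalRing.closedPoint k ∈ (Spec (CommRingCat.of k)).basicOpen (p.left.appTop f) ↔ _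
  rw [basicOpen_eq_of_affine']
  show (Scheme.ΓSpecIso (CommRingCat.of k)).hom (p.left.appTop f) ∉ IsLocalRing.maximalIdeal k ↔ _
  rw [IsLocalRing.notMem_maximalIdeal, isUnit_iff_ne_zero]
  rfl

variable [IsAlgClosed k]

/-- Every nonempty open set has a rational point. -/
theorem exists_point_mem {D : Over (Spec (CommRingCat.of k))} [LocallyOfFiniteType D.hom] {U : Set D.left}
    (hU : IsOpen U) (hne : U.Nonempty) : ∃ p : VecGrp.pt k k ⟶ D, p.left (IsLocalRing.closedPoint k) ∈ U := by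
  haveI : JacobsonSpace D.left := LocallyOfFiniteType.jacobsonSpace D.hom
  obtain ⟨w, hw, hwc⟩ := nonempty_inter_closedPoints (Z := U) hne hU.isLocallyClosed
  obtain ⟨s, hs⟩ := exists_point_of_isClosed (K := k) D hwc
  exact ⟨s, by show s.left (IsLocalRing.closedPoint k) ∈ U; rw [hs]; exact hw⟩

/-- A morphism from a reduced scheme factors through a closed subscheme as soon as its points do. -/
theorem exists_factor_of_points {D Z G : Over (Spec (CommRingCat.of k))} [LocallyOfFiniteType D.hom]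
    [IsReduced D.left] (i : Z ⟶ G) [IsClosedImmersion i.left] (f : D ⟶ G)
    (h : ∀ p : VecGrp.pt k k ⟶ D, ∃ z, z ≫ i = p ≫ f) : ∃ u, u ≫ i = f := by
  have hsub : Set.range f.left ⊆ Set.range i.left := by
    rintro _ ⟨x, rfl⟩
    by_contra hx
    obtain ⟨p, hp⟩ := exists_point_mem (D := D) (U := f.left ⁻¹' (Set.range i.left)ᶜ)
      (i.left.isClosedEmbedding.isClosed_range.isOpen_compl.preimage f.left.continuous) ⟨x, hx⟩
    obtain ⟨z, hz⟩ := h p
    refine hp ?_
    rw [← Scheme.Hom.comp_apply, ← Over.comp_left, ← hz, Over.comp_left, Scheme.Hom.comp_apply]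
    exact ⟨_, rfl⟩
  obtain ⟨g, hg⟩ := H23.RedSub.exists_lift_closed f.left i.left hsub
  exact ⟨Over.homMk g (by rw [← Over.w i, reassoc_of% hg, Over.w f]), Over.OverMorphism.ext hg⟩

/-- A rational point in the range of a closed immersion lifts. -/
theorem exists_lift_point {Z G : Over (Spec (CommRingCat.of k))} (i : Z ⟶ G) [IsClosedImmersion i.left]
    (p : VecGrp.pt k k ⟶ G) (h : p.left (IsLocalRing.closedPoint k) ∈ Set.range i.left) : ∃ z, z ≫ i = p := by
  haveI : IsReduced (VecGrp.pt k k).left := inferInstanceAs (IsReduced (Spec (CommRingCat.of k)))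
  obtain ⟨g, hg⟩ := H23.RedSub.exists_lift_closed p.left i.left (by
    rintro _ ⟨x, rfl⟩
    rw [show x = IsLocalRing.closedPoint k from @Subsingleton.elim (Spec (CommRingCat.of k)) _ x (IsLocalRing.closedPoint k)]
    exact h)
  exact ⟨Over.homMk g (by rw [← Over.w i, reassoc_of% hg, Over.w p]), Over.OverMorphism.ext hg⟩

variable {G : Over (Spec (CommRingCat.of k))} [GrpObj G] [IsAffine G.left] [LocallyOfFiniteType G.hom]

omit [IsAffine G.left] in
/-- A subgroup of points cut out by functions is given by a smooth closed subgroup. -/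
theorem exists_subgroup_of_functions (H : Subgroup (VecGrp.pt k k ⟶ G)) (F : Set (Fn G))
    (h : ∀ g, g ∈ H ↔ ∀ f ∈ F, pullFn g f = 0) :
    ∃ (C : Over (Spec (CommRingCat.of k))) (_ : GrpObj C) (i : C ⟶ G) (_ : IsMonHom i),
      IsClosedImmersion i.left ∧ Smooth C.hom ∧ ∀ g, (∃ c : VecGrp.pt k k ⟶ C, c ≫ i = g) ↔ g ∈ H := by
  let S : Set G.left := ⋂ f ∈ F, (G.left.basicOpen f : Set G.left)ᶜ
  have hS : IsClosed S := isClosed_biInter fun f _ => (G.left.basicOpen f).isOpen.isClosed_compl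
  have hH : ∀ g : VecGrp.pt k k ⟶ G, g.left (IsLocalRing.closedPoint k) ∈ S ↔ g ∈ H := fun g => by
    simp only [S, Set.mem_iInter, Set.mem_compl_iff, SetLike.mem_coe, mem_basicOpen_iff, not_not, h g]
  obtain ⟨W, j, hj, hred, hrange⟩ := H23.RedSub.exists_reduced_subscheme G.left hS.isLocallyClosed
  haveI : IsClosedImmersion j := .of_isPreimmersion j (by rw [hrange]; exact hS)
  let Z : Over (Spec (CommRingCat.of k)) := Over.mk (j ≫ G.hom)
  let i : Z ⟶ G := Over.homMk j rfl
  haveI : IsReduced Z.left := hred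
  haveI : LocallyOfFiniteType Z.hom := inferInstanceAs (LocallyOfFiniteType (j ≫ G.hom))
  haveI : IsClosedImmersion i.left := inferInstanceAs (IsClosedImmersion j)
  haveI : Mono i := Over.mono_of_mono_left i
  haveI : IsReduced (𝟙_ (Over (Spec (CommRingCat.of k)))).left := inferInstanceAs (IsReduced (Spec (CommRingCat.of k)))
  haveI : LocallyOfFiniteType (𝟙_ (Over (Spec (CommRingCat.of k)))).hom :=
    inferInstanceAs (LocallyOfFiniteType (𝟙 (Spec (CommRingCat.of k))))
  haveI : IsReduced (Z ⊗ Z).left := GrpSchLib.isReduced_pullback_of_perfectField Z.hom Z.hom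
  haveI : LocallyOfFiniteType (Z ⊗ Z).hom :=
    inferInstanceAs (LocallyOfFiniteType (pullback.fst Z.hom Z.hom ≫ Z.hom))
  have hmem : ∀ z : VecGrp.pt k k ⟶ Z, z ≫ i ∈ H := fun z => (hH _).1 (hrange ▸ ⟨_, rfl⟩)
  have hlift : ∀ g ∈ H, ∃ z : VecGrp.pt k k ⟶ Z, z ≫ i = g := fun g hg =>
    exists_lift_point i g (by show _ ∈ Set.range j; rw [hrange]; exact (hH g).2 hg)
  obtain ⟨e, he⟩ := exists_factor_of_points i η[G] fun p => hlift _ (by
    rw [MonObj.one_eq_one, MonObj.comp_one]; exact one_mem H)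
  obtain ⟨m, hm⟩ := exists_factor_of_points i ((fst Z Z ≫ i) * (snd Z Z ≫ i)) fun p => hlift _ (by
    rw [MonObj.comp_mul, ← Category.assoc, ← Category.assoc]
    exact mul_mem (hmem _) (hmem _))
  obtain ⟨v, hv⟩ := exists_factor_of_points i i⁻¹ fun p => hlift _ (by
    rw [GrpObj.comp_inv]; exact inv_mem (hmem p))
  obtain ⟨str, hi⟩ := GrpSchLib.exists_grpObj_of_mono i e he m hm v hv
  refine ⟨Z, str, i, hi, inferInstance, GrpSchLib.smooth_of_perfectField_of_isReduced Z, fun g => ⟨?_, hlift g⟩⟩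
  rintro ⟨c, rfl⟩
  exact hmem c

/-- The identity component of a subgroup of points cut out by functions. -/
theorem exists_connected_subgroup (H : Subgroup (VecGrp.pt k k ⟶ G)) (F : Set (Fn G))
    (h : ∀ g, g ∈ H ↔ ∀ f ∈ F, pullFn g f = 0) :
    ∃ (C : Over (Spec (CommRingCat.of k))) (_ : GrpObj C) (i : C ⟶ G) (_ : IsMonHom i),
      IsClosedImmersion i.left ∧ Smooth C.hom ∧ ConnectedSpace C.left ∧
      (∀ c : VecGrp.pt k k ⟶ C, c ≫ i ∈ H) ∧
      (∃ N : ℕ, 0 < N ∧ ∀ g ∈ H, ∃ c : VecGrp.pt k k ⟶ C, c ≫ i = g ^ N) ∧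
      (∃ R : Finset (VecGrp.pt k k ⟶ G), ∀ g ∈ H, ∃ r ∈ R, ∃ c : VecGrp.pt k k ⟶ C, r * (c ≫ i) = g) ∧
      ∀ (D : Over (Spec (CommRingCat.of k))) [GrpObj D] [Smooth D.hom] [ConnectedSpace D.left] (f : D ⟶ G)
        [IsMonHom f], (∀ p : VecGrp.pt k k ⟶ D, p ≫ f ∈ H) → ∃ u : D ⟶ C, u ≫ i = f := by
  classical
  obtain ⟨Z, _, i, _, hcl, hsm, hZ⟩ := exists_subgroup_of_functions H F h
  haveI := hcl; haveI := hsm
  haveI : IsAffine Z.left := isAffine_of_isAffineHom i.left
  haveI : CompactSpace Z.left := inferInstance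
  haveI : Mono i := Over.mono_of_mono_left i
  obtain ⟨C, _, j, _, hjo, hjc, hconn⟩ := exists_open_identityComponent (G := Z)
  haveI := hjo; haveI := hjc; haveI := hconn
  haveI : Smooth C.hom := by rw [← Over.w j]; infer_instance
  haveI : IsClosedImmersion (j ≫ i).left := by rw [Over.comp_left]; infer_instance
  suffices hboth : (∃ N : ℕ, 0 < N ∧ ∀ g ∈ H, ∃ c : VecGrp.pt k k ⟶ C, c ≫ j ≫ i = g ^ N) ∧
      (∃ R : Finset (VecGrp.pt k k ⟶ G), ∀ g ∈ H, ∃ r ∈ R, ∃ c : VecGrp.pt k k ⟶ C, r * (c ≫ j ≫ i) = g) by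
    refine ⟨C, inferInstance, j ≫ i, inferInstance, inferInstance, inferInstance, inferInstance, fun c => ?_,
      hboth.1, hboth.2, fun D _ _ _ f _ hf => ?_⟩
    · exact (hZ _).1 ⟨c ≫ j, Category.assoc c j i⟩
    · haveI : IsReduced D.left := GrpSchLib.isReduced_of_smooth_field D.hom
      obtain ⟨u, hu⟩ := exists_factor_of_points i f fun p => (hZ _).2 (hf p)
      have h1 : η[D] ≫ u = η[Z] := by
        rw [← cancel_mono i, Category.assoc, hu, IsMonHom.one_hom f, IsMonHom.one_hom i]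
      have huniv : u.left ⁻¹' Set.range j.left = Set.univ := by
        refine IsClopen.eq_univ ⟨j.left.isClosedEmbedding.isClosed_range.preimage u.left.continuous,
          j.left.isOpenEmbedding.isOpen_range.preimage u.left.continuous⟩
          ⟨(η[D] : _ ⟶ D).left (IsLocalRing.closedPoint k), ?_⟩
        show u.left ((η[D] : _ ⟶ D).left (IsLocalRing.closedPoint k)) ∈ Set.range j.left
        rw [← Scheme.Hom.comp_apply, ← Over.comp_left, h1, ← IsMonHom.one_hom j, Over.comp_left, Scheme.Hom.comp_apply]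
        exact ⟨_, rfl⟩
      obtain ⟨g, hg⟩ := H23.RedSub.exists_lift_closed u.left j.left (by
        rintro _ ⟨x, rfl⟩
        exact Set.eq_univ_iff_forall.mp huniv x)
      refine ⟨Over.homMk g (by rw [← Over.w j, reassoc_of% hg, Over.w u]), ?_⟩
      rw [← Category.assoc, ← hu]
      congr 1
      exact Over.OverMorphism.ext hg
  · -- finitely many translates cover
    let O : Set Z.left := Set.range j.left
    have hO : IsOpen O := j.left.isOpenEmbedding.isOpen_range
    let R : (VecGrp.pt k k ⟶ Z) → Set Z.left := fun c => ((toPt Z ≫ c⁻¹) * 𝟙 Z).left ⁻¹' O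
    have hR : ∀ c p : VecGrp.pt k k ⟶ Z, p.left (IsLocalRing.closedPoint k) ∈ R c ↔ c⁻¹ * p ∈ (pushPt j).range := by
      intro c p
      have e : p ≫ ((toPt Z ≫ c⁻¹) * 𝟙 Z) = c⁻¹ * p := by
        rw [MonObj.comp_mul, ← Category.assoc, comp_toPt, Category.id_comp, Category.comp_id]
      show (((toPt Z ≫ c⁻¹) * 𝟙 Z).left (p.left (IsLocalRing.closedPoint k))) ∈ O ↔ _
      rw [← Scheme.Hom.comp_apply, ← Over.comp_left, e]
      constructor
      · exact fun hp => exists_lift_point j _ hp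
      · rintro ⟨z, hz⟩
        rw [← hz, pushPt_apply, Over.comp_left, Scheme.Hom.comp_apply]
        exact ⟨_, rfl⟩
    have hcov : (Set.univ : Set Z.left) ⊆ ⋃ c, R c := by
      intro x _
      by_contra hx
      have hop : IsOpen (⋃ c, R c) := isOpen_iUnion fun c => hO.preimage (Scheme.Hom.continuous _)
      haveI : JacobsonSpace Z.left := LocallyOfFiniteType.jacobsonSpace Z.hom
      obtain ⟨w, hw, hwc⟩ := nonempty_inter_closedPoints (Z := (⋃ c, R c)ᶜ) ⟨x, hx⟩
        hop.isClosed_compl.isLocallyClosed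
      obtain ⟨p, hp⟩ := exists_point_of_isClosed (K := k) Z hwc
      have hp' : p.left (IsLocalRing.closedPoint k) = w := hp
      exact hw (Set.mem_iUnion.mpr ⟨p, hp' ▸ (hR p p).2 (by rw [inv_mul_cancel]; exact one_mem _)⟩)
    obtain ⟨s, hs⟩ := isCompact_univ.elim_finite_subcover R (fun c => hO.preimage (Scheme.Hom.continuous _)) hcov
    refine ⟨⟨s.card.factorial, Nat.factorial_pos _, fun g hg => ?_⟩, s.image (fun c => c ≫ i), fun g hg => ?_⟩
    swap
    · obtain ⟨z, rfl⟩ := (hZ g).2 hg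
      obtain ⟨c, hc, hmem⟩ := Set.mem_iUnion₂.mp (hs (Set.mem_univ (z.left (IsLocalRing.closedPoint k))))
      obtain ⟨e, he⟩ := (hR c z).1 hmem
      refine ⟨c ≫ i, Finset.mem_image_of_mem _ hc, e, ?_⟩
      rw [← Category.assoc, ← pushPt_apply j e, he, ← MonObj.mul_comp, mul_inv_cancel_left]
    obtain ⟨z, rfl⟩ := (hZ g).2 hg
    have hsel : ∀ a : Fin (s.card + 1), ∃ c : s, (c.1)⁻¹ * z ^ (a : ℕ) ∈ (pushPt j).range := fun a => by
      obtain ⟨c, hc, hmem⟩ := Set.mem_iUnion₂.mp (hs (Set.mem_univ ((z ^ (a : ℕ)).left (IsLocalRing.closedPoint k))))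
      exact ⟨⟨c, hc⟩, (hR c _).1 hmem⟩
    choose sel hsel using hsel
    obtain ⟨a, b, hab, heq⟩ := Fintype.exists_ne_map_eq_of_card_lt sel (by simp)
    wlog hlt : (a : ℕ) < b generalizing a b
    · exact this b a hab.symm heq.symm (lt_of_le_of_ne (not_lt.mp hlt) (Fin.val_injective.ne hab.symm))
    obtain ⟨m, hm, hme⟩ : ∃ m, 0 < m ∧ (b : ℕ) = a + m := ⟨b - a, by omega, by omega⟩
    have h1 : z ^ m ∈ (pushPt j).range := by
      have h2 := mul_mem (inv_mem (hsel a)) (heq ▸ hsel b)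
      rwa [hme, pow_add, _root_.mul_inv_rev, _root_.inv_inv, _root_.mul_assoc, mul_inv_cancel_left,
        inv_mul_cancel_left] at h2
    obtain ⟨t, ht⟩ := Nat.dvd_factorial hm (show m ≤ s.card by omega)
    obtain ⟨c, hc⟩ : z ^ s.card.factorial ∈ (pushPt j).range := by rw [ht, pow_mul]; exact pow_mem h1 t
    exact ⟨c, by rw [← Category.assoc, ← pushPt_apply j c, hc]; exact (map_pow (pushPt i) z _)⟩

end Groth.Agent.GModLib
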