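import Groth.Agent.GModLib.Borel
import Groth.Agent.GModLib.PtSubgroup

/-!
# Fixed points in closed stable subsets
-/

set_option autoImplicit false
set_option backward.isDefEq.respectTransparency false
set_option backward.isDefEq.respectTransparency.types false

universe u

open CategoryTheory Limits AlgebraicGeometry MonoidalCategory CartesianMonoidalCategory MonObj GrpObj

namespace Groth.Agent.GModLib

open GrpSchLib GrpSchLib.Kunneth

variable {k : Type u} [Field k]

/-- An action restricted along a homomorphism. -/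
noncomputable def restrictAct {H G X : Over (Spec (CommRingCat.of k))} [GrpObj H] [GrpObj G] (a : AlgGrp.Action G X)
    (i : H ⟶ G) [IsMonHom i] : AlgGrp.Action H X where
  act := (i ▷ X) ≫ a.act
  one_act := by rw [← comp_whiskerRight_assoc, IsMonHom.one_hom i, a.one_act]
  mul_act := by
    have h1 : (μ[H] ▷ X) ≫ (i ▷ X) =
        lift (((fst (H ⊗ H) X ≫ fst H H) ≫ i) * ((fst (H ⊗ H) X ≫ snd H H) ≫ i)) (snd (H ⊗ H) X) := by
      rw [← MonObj.mul_comp, ← MonObj.comp_mul,
        show fst H H * snd H H = μ[H] by rw [Hom.mul_def, lift_fst_snd, Category.id_comp]]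
      apply CartesianMonoidalCategory.hom_ext <;> simp
    have h2 : (α_ H H X).hom ≫ (H ◁ ((i ▷ X) ≫ a.act)) ≫ (i ▷ X) = lift ((fst (H ⊗ H) X ≫ fst H H) ≫ i)
        (lift ((fst (H ⊗ H) X ≫ snd H H) ≫ i) (snd (H ⊗ H) X) ≫ a.act) := by
      apply CartesianMonoidalCategory.hom_ext
      · simp
      · simp only [Category.assoc, whiskerRight_snd, whiskerLeft_snd, lift_snd]
        rw [← Category.assoc (snd H (H ⊗ X)), ← Category.assoc, ← Category.assoc]
        congr 1
        apply CartesianMonoidalCategory.hom_ext <;> simp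
    rw [← Category.assoc, h1, ← act_mul, ← h2]
    simp only [Category.assoc]

theorem restrictAct_act {H G X T : Over (Spec (CommRingCat.of k))} [GrpObj H] [GrpObj G] (a : AlgGrp.Action G X)
    (i : H ⟶ G) [IsMonHom i] (h : T ⟶ H) (x : T ⟶ X) :
    lift h x ≫ (restrictAct a i).act = lift (h ≫ i) x ≫ a.act :=
  (Category.assoc _ _ _).symm.trans (by rw [lift_whiskerRight])

variable [IsAlgClosed k]

/-- A connected solvable group has a fixed point in every nonempty stable closed set of a proper scheme. -/
theorem exists_fixed_in_closed {S X : Over (Spec (CommRingCat.of k))} [GrpObj S] [IsAffine S.left] [Smooth S.hom]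
    [ConnectedSpace S.left] (hsol : Red.IsSolvableGrp S) [IsProper X.hom] (a : AlgGrp.Action S X) {W : Set X.left}
    (hW : IsClosed W) (hne : W.Nonempty)
    (hst : ∀ (s : VecGrp.pt k k ⟶ S) (x : VecGrp.pt k k ⟶ X), x.left (IsLocalRing.closedPoint k) ∈ W →
      (lift s x ≫ a.act).left (IsLocalRing.closedPoint k) ∈ W) :
    ∃ x : 𝟙_ (Over (Spec (CommRingCat.of k))) ⟶ X, a.IsFixedPt x ∧ x.left (IsLocalRing.closedPoint k) ∈ W := by
  obtain ⟨W', j, hj, hred, hrange⟩ := H23.RedSub.exists_reduced_subscheme X.left hW.isLocallyClosed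
  haveI : IsClosedImmersion j := .of_isPreimmersion j (by rw [hrange]; exact hW)
  let F : Over (Spec (CommRingCat.of k)) := Over.mk (j ≫ X.hom)
  let i : F ⟶ X := Over.homMk j rfl
  haveI : IsReduced F.left := hred
  haveI : IsClosedImmersion i.left := inferInstanceAs (IsClosedImmersion j)
  haveI : Mono i := Over.mono_of_mono_left i
  haveI : IsProper F.hom := inferInstanceAs (IsProper (j ≫ X.hom))
  haveI : Nonempty F.left := by
    obtain ⟨w, hw⟩ := hne
    rw [← hrange] at hw
    obtain ⟨z, -⟩ := hw
    exact ⟨z⟩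
  haveI : IsReduced S.left := GrpSchLib.isReduced_of_smooth_field S.hom
  haveI : IsReduced (S ⊗ F).left := GrpSchLib.isReduced_pullback_of_perfectField S.hom F.hom
  haveI : LocallyOfFiniteType (S ⊗ F).hom :=
    inferInstanceAs (LocallyOfFiniteType (pullback.fst S.hom F.hom ≫ S.hom))
  obtain ⟨m, hm⟩ := exists_factor_of_points i (lift (fst S F) (snd S F ≫ i) ≫ a.act) fun p =>
    exists_lift_point i _ (by
      show _ ∈ Set.range j
      rw [hrange, ← Category.assoc, comp_lift]
      refine hst _ _ ?_
      rw [← Category.assoc, Over.comp_left, Scheme.Hom.comp_apply, ← hrange]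
      exact ⟨_, rfl⟩)
  let aF : AlgGrp.Action S F :=
    { act := m
      one_act := by
        rw [← cancel_mono i, Category.assoc, hm, comp_lift_assoc, whiskerRight_fst, whiskerRight_snd_assoc,
          MonObj.one_eq_one, MonObj.comp_one, act_one, leftUnitor_hom]
      mul_act := by
        rw [← cancel_mono i]
        simp only [Category.assoc, hm, comp_lift_assoc, whiskerRight_fst, whiskerRight_snd_assoc, whiskerLeft_fst,
          whiskerLeft_snd_assoc, associator_hom_fst]
        rw [show μ[S] = fst S S * snd S S by rw [Hom.mul_def, lift_fst_snd, Category.id_comp],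
          MonObj.comp_mul, act_mul]
        congr 2
        all_goals simp only [associator_hom_snd_fst, associator_hom_snd_snd_assoc] }
  haveI : Group.IsSolvable (𝟙_ (Over (Spec (CommRingCat.of k))) ⟶ S) := by
    obtain ⟨n, hn⟩ := hsol
    exact ⟨⟨n, hn _⟩⟩
  obtain ⟨y, hy⟩ := S3276.result k S F aF
  refine ⟨y ≫ i, fun T g => ?_, ?_⟩
  · have e := congrArg (· ≫ i) (hy T g)
    simp only [aF, Category.assoc, hm, comp_lift_assoc, lift_fst, lift_snd_assoc] at e
    exact e
  · rw [Over.comp_left, Scheme.Hom.comp_apply, ← hrange]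
    exact ⟨_, rfl⟩

end Groth.Agent.GModLib
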