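import Groth.Agent.GModLib.CentralizerTorus
import Groth.Agent.GModLib.FixedInClosed

/-!
# Subgroups of a centralizer cut out by a Borel subgroup
-/

set_option autoImplicit false
set_option backward.isDefEq.respectTransparency false
set_option backward.isDefEq.respectTransparency.types false

universe u

open CategoryTheory Limits AlgebraicGeometry MonoidalCategory CartesianMonoidalCategory MonObj GrpObj

namespace Groth.Agent.GModLib

open GrpSchLib GrpSchLib.Kunneth GrpFieldLib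

variable {k : Type u} [Field k] [IsAlgClosed k]

theorem surjective_ev {B G : Over (Spec (CommRingCat.of k))} [IsAffine G.left] (iB : B ⟶ G)
    [IsClosedImmersion iB.left] : Function.Surjective (ev iB) := fun f =>
  (IsClosedImmersion.isAffine_surjective_of_isAffine iB.left).2 f

/-- A point lies in a closed subgroup as soon as the functions vanishing there vanish at it. -/
theorem exists_lift_iff_vanish {B G : Over (Spec (CommRingCat.of k))} [GrpObj B] [IsAffine G.left] [Smooth B.hom]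
    (iB : B ⟶ G) [IsClosedImmersion iB.left] (g : VecGrp.pt k k ⟶ G) :
    (∃ b : VecGrp.pt k k ⟶ B, b ≫ iB = g) ↔ ∀ f, ev iB f = 0 → pullFn g f = 0 := by
  haveI : IsAffine B.left := isAffine_of_isAffineHom iB.left
  constructor
  · rintro ⟨b, rfl⟩ f hf
    rw [← pullFn_ev, hf, map_zero]
  · intro h
    let φ := (ev iB).liftOfSurjective (surjective_ev iB) (pullFn g) h
    obtain ⟨z, hz⟩ := exists_point_of_algHom φ
    refine ⟨z, pullFn_injective (AlgHom.ext fun f => ?_)⟩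
    rw [← pullFn_ev, hz, AlgHom.liftOfSurjective_apply]

/-- A maximal torus conjugated is a maximal torus. -/
theorem isMaxTorus_inner {G T : Over (Spec (CommRingCat.of k))} [GrpObj G] [GrpObj T] {iT : T ⟶ G}
    (hT : AGF.IsMaxTorus iT) (g : 𝟙_ (Over (Spec (CommRingCat.of k))) ⟶ G) : AGF.IsMaxTorus (iT ≫ inner g) := by
  haveI := hT.1; haveI := hT.2.1
  exact ⟨inferInstance, inferInstance, hT.2.2.1, fun T' _ j _ _ f hT' hf => hT.2.2.2 T' (j ≫ inner g⁻¹) f hT'
    (by rw [← Category.assoc, hf, Category.assoc, inner_inner, inv_mul_cancel, inner_one, Category.comp_id])⟩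

variable {P : Over (Spec (CommRingCat.of k))} [GrpObj P] [IsAffine P.left] [Smooth P.hom] [ConnectedSpace P.left]

set_option maxHeartbeats 1000000 in
/-- The intersection of the centralizer of a torus with a Borel subgroup containing it contains a Borel subgroup of
the centralizer, stable under conjugation. -/
theorem exists_borel_of_centralizer {B : Over (Spec (CommRingCat.of k))} [GrpObj B] (iB : B ⟶ P)
    (hB : Red.IsBorelOver k iB) {T : Over (Spec (CommRingCat.of k))} [GrpObj T] (hT : Red.IsTorus T)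
    (iT : T ⟶ B) [IsMonHom iT]
    {C : Over (Spec (CommRingCat.of k))} [GrpObj C] [IsAffine C.left] [Smooth C.hom] [ConnectedSpace C.left]
    (iC : C ⟶ P) [IsMonHom iC] [IsClosedImmersion iC.left]
    (hmem : ∀ (c : VecGrp.pt k k ⟶ C) (s : VecGrp.pt k k ⟶ T), Commute (s ≫ iT ≫ iB) (c ≫ iC))
    (hall : ∀ g, (∀ s : VecGrp.pt k k ⟶ T, Commute (s ≫ iT ≫ iB) g) → ∃ c : VecGrp.pt k k ⟶ C, c ≫ iC = g) :
    ∃ (H : Over (Spec (CommRingCat.of k))) (_ : GrpObj H) (iH : H ⟶ C), Red.IsBorelOver k iH ∧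
      (∀ h : VecGrp.pt k k ⟶ H, ∃ b : VecGrp.pt k k ⟶ B, b ≫ iB = h ≫ iH ≫ iC) ∧
      ∀ x : VecGrp.pt k k ⟶ C,
        (∀ b : VecGrp.pt k k ⟶ B, ∃ b' : VecGrp.pt k k ⟶ B, (x ≫ iC) * (b ≫ iB) * (x ≫ iC)⁻¹ = b' ≫ iB) →
        ∀ h : VecGrp.pt k k ⟶ H, ∃ h' : VecGrp.pt k k ⟶ H, x * (h ≫ iH) * x⁻¹ = h' ≫ iH := by
  classical
  obtain ⟨hBm, hBcl, hBsm, hBconn, hBsol, -⟩ := id hB
  haveI := hBm; haveI := hBcl; haveI := hBsm; haveI := hBconn
  haveI : IsAffine B.left := isAffine_of_isAffineHom iB.left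
  haveI : Mono iB := Over.mono_of_mono_left iB
  haveI : Mono iC := Over.mono_of_mono_left iC
  let K : Subgroup (VecGrp.pt k k ⟶ P) := (pushPt iB).range ⊓ (pushPt iC).range
  obtain ⟨H, _, iH₀, hH0m, hH0c, hHs, hHn, hHK, -, -, hHuniv⟩ := exists_connected_subgroup K
    {f | ev iB f = 0 ∨ ev iC f = 0} fun g => by
      rw [Subgroup.mem_inf]
      constructor
      · rintro ⟨⟨b, hb⟩, c, hc⟩ f (hf | hf)
        · exact (exists_lift_iff_vanish iB g).mp ⟨b, hb⟩ f hf
        · exact (exists_lift_iff_vanish iC g).mp ⟨c, hc⟩ f hf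
      · intro h
        exact ⟨(exists_lift_iff_vanish iB g).mpr fun f hf => h f (Or.inl hf),
          (exists_lift_iff_vanish iC g).mpr fun f hf => h f (Or.inr hf)⟩
  haveI := hH0m; haveI := hH0c; haveI := hHs; haveI := hHn
  haveI : IsReduced H.left := GrpSchLib.isReduced_of_smooth_field H.hom
  haveI : Mono iH₀ := Over.mono_of_mono_left iH₀
  haveI : IsAffine H.left := isAffine_of_isAffineHom iH₀.left
  obtain ⟨iH, hiH⟩ := exists_factor_of_points iC iH₀ fun h => (hHK h).2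
  haveI : IsMonHom (iH ≫ iC) := hiH ▸ hH0m
  haveI : IsMonHom iH := isMonHom_of_comp iH iC
  haveI : IsClosedImmersion iH.left := by
    haveI : IsClosedImmersion (iH.left ≫ iC.left) := by rw [← Over.comp_left, hiH]; infer_instance
    exact IsClosedImmersion.of_comp iH.left iC.left
  haveI : Mono iH := Over.mono_of_mono_left iH
  have hHsol : Red.IsSolvableGrp H := by
    obtain ⟨hB', hhB'⟩ := exists_factor_of_points iB iH₀ fun h => (hHK h).1
    haveI : IsMonHom (hB' ≫ iB) := hhB' ▸ hH0m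
    haveI : IsMonHom hB' := isMonHom_of_comp hB' iB
    obtain ⟨n, hn⟩ := hBsol
    refine ⟨n, fun X => eq_bot_iff.mpr fun a ha => ?_⟩
    let φ : (X ⟶ H) →* (X ⟶ B) :=
      { toFun := fun y => y ≫ hB', map_one' := MonObj.one_comp hB', map_mul' := fun p q => MonObj.mul_comp p q hB' }
    have h1 := map_derivedSeries_le_derivedSeries φ n (Subgroup.mem_map_of_mem _ ha)
    rw [hn, Subgroup.mem_bot] at h1
    rw [Subgroup.mem_bot, ← cancel_mono iH₀, ← hhB', ← Category.assoc, ← Category.assoc]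
    show φ a ≫ iB = φ 1 ≫ iB
    rw [h1, map_one]
  refine ⟨H, inferInstance, iH, ?_, fun h => ?_, fun x hx h => ?_⟩
  rotate_left
  · rw [hiH]; exact (hHK h).1
  · obtain ⟨w, hw⟩ := hHuniv H (iH ≫ iC ≫ inner (toPt _ ≫ x ≫ iC)) fun p => by
      rw [← Category.assoc iH iC, hiH, comp_inner_point]
      obtain ⟨⟨b, hb⟩, c, hc⟩ := hHK p
      rw [pushPt_apply] at hb hc
      obtain ⟨b', hb'⟩ := hx b
      refine ⟨⟨b', ?_⟩, x * c * x⁻¹, ?_⟩
      · rw [pushPt_apply, ← hb', hb]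
      · rw [pushPt_apply, MonObj.mul_comp, MonObj.mul_comp, GrpObj.inv_comp, hc]
    refine ⟨h ≫ w, ?_⟩
    rw [← cancel_mono iC, MonObj.mul_comp, MonObj.mul_comp, GrpObj.inv_comp, Category.assoc (h ≫ w), hiH,
      Category.assoc h w, hw, ← Category.assoc iH iC, hiH, comp_inner_point, Category.assoc h iH, hiH]
  -- the Borel subgroup
  obtain ⟨H₁, _, iH₁, hH₁, -⟩ := exists_borel (G := C)
  obtain ⟨g₀, e₀, he₀⟩ := exists_conj_factor iH₁ (borel_cocompact iH₁ hH₁) iH hHsol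
  have hH' := isBorelOver_inner iH₁ hH₁ g₀
  obtain ⟨hm', hc', hs', hn', hl', -⟩ := id hH'
  haveI := hm'; haveI := hc'; haveI := hs'; haveI := hn'
  haveI : IsReduced H₁.left := GrpSchLib.isReduced_of_smooth_field H₁.hom
  haveI : IsAffine H₁.left := isAffine_of_isAffineHom (iH₁ ≫ inner g₀).left
  -- the generic point of the torus
  obtain ⟨t, n, hn0, htn, hgen⟩ := exists_generic hT (iT ≫ iB)
  obtain ⟨d, M, hM⟩ := exists_triangular hBsol
  choose F hF using fun i => surjective_ev iB (M i i)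
  let s := t ≫ iT
  have hsn : s ^ n = 1 := by rw [← MonObj.pow_comp, htn, MonObj.one_comp]
  let ψ : P ⟶ P := (𝟙 P)⁻¹ * (toPt P ≫ s ≫ iB) * 𝟙 P
  have hψ : ∀ g : VecGrp.pt k k ⟶ P, g ≫ ψ = g⁻¹ * (s ≫ iB) * g := fun g => by
    simp only [ψ, MonObj.comp_mul, GrpObj.comp_inv, Category.comp_id, ← Category.assoc, comp_toPt, Category.id_comp]
  let Y : Set P.left := ψ.left ⁻¹' Set.range iB.left ∩
    ⋂ i, (P.left.basicOpen (ev ψ (F i) - algebraMap k (Fn P) (pullFn s (M i i))) : Set P.left)ᶜ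
  have hY : IsClosed Y := (iB.left.isClosedEmbedding.isClosed_range.preimage ψ.left.continuous).inter
    (isClosed_iInter fun i => (P.left.basicOpen _).isOpen.isClosed_compl)
  have hYmem : ∀ g : VecGrp.pt k k ⟶ P, g.left (IsLocalRing.closedPoint k) ∈ Y ↔
      ∃ b : VecGrp.pt k k ⟶ B, b ≫ iB = g⁻¹ * (s ≫ iB) * g ∧ diagHom hM b = diagHom hM s := fun g => by
    simp only [Y, Set.mem_inter_iff, Set.mem_preimage, Set.mem_iInter, Set.mem_compl_iff, SetLike.mem_coe,
      mem_basicOpen_iff, not_not, map_sub, AlgHom.commutes, sub_eq_zero, pullFn_ev]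
    rw [← Scheme.Hom.comp_apply, ← Over.comp_left, hψ]
    constructor
    · rintro ⟨h1, h2⟩
      obtain ⟨b, hb⟩ := exists_lift_point iB _ h1
      refine ⟨b, hb, funext fun i => ?_⟩
      show pullFn b (M i i) = pullFn s (M i i)
      rw [← hF, pullFn_ev, hb]
      simpa [hF] using h2 i
    · rintro ⟨b, hb, hd⟩
      refine ⟨?_, fun i => ?_⟩
      · rw [← hb, Over.comp_left, Scheme.Hom.comp_apply]; exact ⟨_, rfl⟩
      · rw [← hb, ← pullFn_ev, hF]
        exact congrFun hd i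
  have hcomm : ∀ c : VecGrp.pt k k ⟶ C, Commute (s ≫ iB) (c ≫ iC) := fun c => by
    rw [Category.assoc]; exact hmem c t
  have hYstab : ∀ (g : VecGrp.pt k k ⟶ P) (b₁ : VecGrp.pt k k ⟶ B), g.left (IsLocalRing.closedPoint k) ∈ Y →
      (g * (b₁ ≫ iB)).left (IsLocalRing.closedPoint k) ∈ Y := fun g b₁ hg => by
    obtain ⟨b, hb, hd⟩ := (hYmem g).1 hg
    refine (hYmem _).2 ⟨b₁⁻¹ * b * b₁, ?_, ?_⟩
    · rw [MonObj.mul_comp, MonObj.mul_comp, GrpObj.inv_comp, hb]; group
    · rw [← hd]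
      have e := diagHom_conj hM b₁⁻¹ b
      rwa [_root_.inv_inv] at e
  have hYC : ∀ g : VecGrp.pt k k ⟶ P, g.left (IsLocalRing.closedPoint k) ∈ Y →
      ∃ (c : VecGrp.pt k k ⟶ C) (u : VecGrp.pt k k ⟶ B), g = (c ≫ iC) * (u ≫ iB) := fun g hg => by
    obtain ⟨b, hb, hd⟩ := (hYmem g).1 hg
    have hbn : b ^ n = 1 := by
      rw [← cancel_mono iB, MonObj.pow_comp, hb, MonObj.one_comp]
      have e := conj_pow (a := g⁻¹) (b := s ≫ iB) (i := n)
      rw [_root_.inv_inv] at e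
      rw [e, ← MonObj.pow_comp, hsn, MonObj.one_comp, _root_.mul_one, inv_mul_cancel]
    obtain ⟨u, -, hu⟩ := exists_conj hM hn0 hsn hbn ((diagHom_eq_iff hM _ _).mp hd.symm)
    have h1 : g * (u ≫ iB)⁻¹ * (s ≫ iB) = (s ≫ iB) * (g * (u ≫ iB)⁻¹) := by
      conv_lhs => rw [← hu, MonObj.mul_comp, MonObj.mul_comp, GrpObj.inv_comp, hb]
      group
    obtain ⟨c, hc⟩ := hall (g * (u ≫ iB)⁻¹) (hgen _ (by
      rw [← Category.assoc]
      exact h1.symm))
    exact ⟨c, u, by rw [hc, inv_mul_cancel_right]⟩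
  -- its image in the quotient
  obtain ⟨X, a, o, hX, hXp⟩ := borel_cocompact iB hB
  haveI := hXp; haveI := hX.1; haveI := hX.2.2.1
  let π := a.orbitMap o
  haveI : LocallyOfFiniteType (π.left ≫ X.hom) := by rw [Over.w π]; infer_instance
  haveI : LocallyOfFiniteType π.left := locallyOfFiniteType_of_comp π.left X.hom
  haveI : Surjective π.left := hX.2.2.1
  haveI : Flat π.left := hX.2.1
  haveI : LocallyOfFinitePresentation π.left := by
    haveI : IsLocallyNoetherian X.left := LocallyOfFiniteType.isLocallyNoetherian X.hom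
    infer_instance
  haveI : LocallyOfFiniteType (VecGrp.pt k k).hom := by
    show LocallyOfFiniteType (Spec.map (CommRingCat.ofHom (algebraMap k k)))
    rw [show CommRingCat.ofHom (algebraMap k k) = 𝟙 _ from rfl, Spec.map_id]
    infer_instance
  let W : Set X.left := (π.left '' Yᶜ)ᶜ
  have hW : IsClosed W := (π.left.isOpenMap _ hY.isOpen_compl).isClosed_compl
  have hWmem : ∀ g : VecGrp.pt k k ⟶ P,
      (g ≫ π).left (IsLocalRing.closedPoint k) ∈ W ↔ g.left (IsLocalRing.closedPoint k) ∈ Y := fun g => by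
    constructor
    · intro h
      by_contra hg
      exact h ⟨_, hg, by rw [← Scheme.Hom.comp_apply, ← Over.comp_left]⟩
    · intro hg hne
      obtain ⟨z, hz, hzg⟩ := hne
      let V : Over (Spec (CommRingCat.of k)) := Over.mk (Scheme.Opens.ι (X := P.left) ⟨Yᶜ, hY.isOpen_compl⟩ ≫ P.hom)
      let v : V ⟶ P := Over.homMk (Scheme.Opens.ι (X := P.left) ⟨Yᶜ, hY.isOpen_compl⟩) rfl
      haveI : LocallyOfFiniteType V.hom :=
        inferInstanceAs (LocallyOfFiniteType (Scheme.Opens.ι (X := P.left) ⟨Yᶜ, hY.isOpen_compl⟩ ≫ P.hom))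
      obtain ⟨q, hq⟩ := exists_point_of_mem_range (v ≫ π) (g ≫ π) ⟨⟨z, hz⟩, by
        rw [Over.comp_left, Scheme.Hom.comp_apply]; exact hzg⟩
      have hqY : (q ≫ v).left (IsLocalRing.closedPoint k) ∉ Y := by
        rw [Over.comp_left, Scheme.Hom.comp_apply]
        exact (q.left (IsLocalRing.closedPoint k)).2
      obtain ⟨j, hj⟩ := (QuotTower.orbit_eq_iff iB X a o hX g (q ≫ v)).mp (by
        rw [Category.assoc q v, hq])
      exact hqY (hj ▸ hYstab g j hg)
  let aH := restrictAct a ((iH₁ ≫ inner g₀) ≫ iC)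
  obtain ⟨x, hxfix, hxW⟩ := exists_fixed_in_closed hl' aH hW
    ⟨((1 : VecGrp.pt k k ⟶ P) ≫ π).left (IsLocalRing.closedPoint k),
      (hWmem 1).2 ((hYmem 1).2 ⟨s, by group, rfl⟩)⟩
    fun q y hy => by
      obtain ⟨g, hg⟩ := exists_point_lift (K := k) π y
      subst hg
      obtain ⟨b, hb, hd⟩ := (hYmem g).1 ((hWmem g).1 hy)
      rw [restrictAct_act, comp_orbitMap, act_mul, ← comp_orbitMap]
      refine (hWmem _).2 ((hYmem _).2 ⟨b, ?_, hd⟩)
      rw [hb, ← Category.assoc]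
      calc g⁻¹ * (s ≫ iB) * g = g⁻¹ * ((((q ≫ iH₁ ≫ inner g₀)) ≫ iC)⁻¹ * ((s ≫ iB) * ((q ≫ iH₁ ≫ inner g₀) ≫ iC))) * g := by
            rw [(hcomm _).eq, inv_mul_cancel_left]
        _ = _ := by group
  obtain ⟨g, hg⟩ := exists_point_lift (K := k) π (toUnit (VecGrp.pt k k) ≫ x)
  obtain ⟨c, u, hgcu⟩ := hYC g ((hWmem g).1 (by
    rw [hg, Over.comp_left, Scheme.Hom.comp_apply,
      show (toUnit (VecGrp.pt k k)).left (IsLocalRing.closedPoint k) = IsLocalRing.closedPoint k from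
        @Subsingleton.elim (Spec (CommRingCat.of k)) _ _ _]
    exact hxW))
  let c' : 𝟙_ (Over (Spec (CommRingCat.of k))) ⟶ C := toPt _ ≫ c⁻¹
  obtain ⟨w, hw⟩ := hHuniv H₁ (((iH₁ ≫ inner g₀) ≫ inner c') ≫ iC) fun p => by
    refine ⟨?_, ⟨p ≫ ((iH₁ ≫ inner g₀) ≫ inner c'), by rw [pushPt_apply, Category.assoc]⟩⟩
    obtain ⟨j, hj⟩ := (QuotTower.orbit_eq_iff iB X a o hX g (((p ≫ iH₁ ≫ inner g₀) ≫ iC) * g)).mp (by
      rw [comp_orbitMap (g := _ * g), ← act_mul, ← comp_orbitMap, hg, Category.assoc p, ← restrictAct_act a _ p,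
        toUnit_unique (toUnit (VecGrp.pt k k)) (toUnit _)]
      exact (hxfix _ p).symm)
    refine ⟨u * j * u⁻¹, ?_⟩
    rw [pushPt_apply, ← Category.assoc p, ← Category.assoc p (iH₁ ≫ inner g₀) (inner c'), comp_inner, ← Category.assoc (toUnit _), toUnit_toPt, Category.id_comp,
      MonObj.mul_comp, MonObj.mul_comp, MonObj.mul_comp, MonObj.mul_comp, GrpObj.inv_comp, GrpObj.inv_comp,
      GrpObj.inv_comp, GrpObj.inv_comp, _root_.inv_inv,
      show j ≫ iB = g⁻¹ * (((p ≫ iH₁ ≫ inner g₀) ≫ iC) * g) by rw [← hj, inv_mul_cancel_left], hgcu]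
    group
  have hwH : w ≫ iH = (iH₁ ≫ inner g₀) ≫ inner c' := by rw [← cancel_mono iC, Category.assoc, hiH, hw]
  let f₀ := e₀ ≫ w
  have he : f₀ ≫ iH ≫ inner c'⁻¹ = iH := by
    simp only [f₀, Category.assoc]
    rw [← Category.assoc w iH, hwH, Category.assoc (iH₁ ≫ inner g₀), inner_inner, inv_mul_cancel, inner_one,
      Category.comp_id, ← he₀]
  haveI : IsIso f₀ := isIso_of_comp_inner iH c'⁻¹ f₀ he
  haveI : Mono (iH₁ ≫ inner g₀) := Over.mono_of_mono_left _
  haveI : Mono ((iH₁ ≫ inner g₀) ≫ inner c') := inferInstance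
  haveI : Mono (w ≫ iH) := hwH ▸ inferInstance
  haveI : Mono w := mono_of_mono w iH
  haveI : IsSplitEpi w := IsSplitEpi.mk' ⟨inv f₀ ≫ e₀, by rw [Category.assoc]; exact IsIso.inv_hom_id f₀⟩
  haveI : IsIso w := isIso_of_mono_of_isSplitEpi w
  haveI : IsIso (e₀ ≫ w) := ‹IsIso f₀›
  haveI : IsIso e₀ := IsIso.of_isIso_comp_right e₀ w
  refine ⟨inferInstance, inferInstance, inferInstance, inferInstance, hHsol, fun D _ i' _ f hfc hfs hfn hfl hf => ?_⟩
  haveI : IsIso (inv e₀ ≫ f) := hH'.2.2.2.2.2 D i' (inv e₀ ≫ f) hfc hfs hfn hfl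
    (by rw [Category.assoc, hf, he₀, IsIso.inv_hom_id_assoc])
  exact IsIso.of_isIso_comp_left (inv e₀) f

end Groth.Agent.GModLib
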