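import Groth.Agent.GModLib.BorelNonAffine
import Groth.Agent.FlatMisc.Fibrewise

/-!
# Borel subgroups of smooth group schemes
-/

set_option autoImplicit false
set_option backward.isDefEq.respectTransparency false
set_option backward.isDefEq.respectTransparency.types false

universe u

open CategoryTheory Limits AlgebraicGeometry MonoidalCategory CartesianMonoidalCategory MonObj GrpObj

namespace Groth.Agent.GModLib

open GrpSchLib GrpFieldLib

variable {S : Scheme.{u}}

/-- A morphism from a flat scheme inducing isomorphisms on the geometric fibres is an isomorphism. -/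
theorem isIso_of_geomFibres {B N : Over S} [Flat B.hom] [LocallyOfFinitePresentation B.hom]
    [LocallyOfFiniteType N.hom] (b : B ⟶ N) (h : ∀ s : S, IsIso ((Over.pullback (Red.geomPt s)).map b).left) :
    IsIso b := by
  have hcomp : b.left ≫ N.hom = B.hom := Over.w b
  haveI : LocallyOfFinitePresentation (b.left ≫ N.hom) := by rw [hcomp]; infer_instance
  haveI : Flat (b.left ≫ N.hom) := by rw [hcomp]; infer_instance
  have key : ∀ s : S, IsIso (pullback.snd b.left (N.hom.fiberι s)) := fun s => by
    let σ := Red.geomPt s
    let φ : Spec (CommRingCat.of (AlgebraicClosure (S.residueField s))) ⟶ Spec (S.residueField s) :=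
      Spec.map (CommRingCat.ofHom (algebraMap (S.residueField s) (AlgebraicClosure (S.residueField s))))
    haveI : Surjective φ := surjective_spec_map_field _
    haveI : Flat φ := flat_spec_map_field _
    let q : pullback N.hom σ ⟶ N.hom.fiber s := pullback.lift (pullback.fst N.hom σ) (pullback.snd N.hom σ ≫ φ) (by
      rw [pullback.condition, Category.assoc])
    have hq : q ≫ N.hom.fiberι s = pullback.fst N.hom σ := pullback.lift_fst _ _ _
    have hqp : IsPullback q (pullback.snd N.hom σ) (N.hom.fiberToSpecResidueField s) φ := by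
      refine IsPullback.of_right ?_ (pullback.lift_snd _ _ _) (IsPullback.of_hasPullback N.hom (S.fromSpecResidueField s))
      rw [show q ≫ pullback.fst N.hom (S.fromSpecResidueField s) = pullback.fst N.hom σ from pullback.lift_fst _ _ _]
      exact IsPullback.of_hasPullback N.hom σ
    haveI : Surjective q := MorphismProperty.of_isPullback (P := @Surjective) hqp.flip ‹Surjective φ›
    haveI : Flat q := MorphismProperty.of_isPullback (P := @Flat) hqp.flip ‹Flat φ›
    haveI : QuasiCompact q := MorphismProperty.of_isPullback (P := @QuasiCompact) hqp.flip inferInstance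
    let bσ := (Over.pullback σ).map b
    haveI : IsIso bσ.left := h s
    have hpb : IsPullback (pullback.fst B.hom σ) bσ.left b.left (pullback.fst N.hom σ) := by
      refine IsPullback.of_bot ?_ (by simp [bσ]) (IsPullback.of_hasPullback N.hom σ)
      rw [hcomp, show bσ.left ≫ pullback.snd N.hom σ = pullback.snd B.hom σ from Over.w bσ]
      exact IsPullback.of_hasPullback B.hom σ
    have hg : IsPullback (pullback.snd (pullback.snd b.left (N.hom.fiberι s)) q)
        (pullback.fst _ q ≫ pullback.fst _ _) (pullback.fst N.hom σ) b.left := by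
      have := (IsPullback.of_hasPullback (pullback.snd b.left (N.hom.fiberι s)) q).flip.paste_vert
        (IsPullback.of_hasPullback b.left (N.hom.fiberι s)).flip
      rwa [hq] at this
    haveI : IsIso (pullback.snd (pullback.snd b.left (N.hom.fiberι s)) q) := by
      rw [← IsPullback.isoIsPullback_hom_fst _ _ hg hpb.flip]
      infer_instance
    exact MorphismProperty.of_pullback_snd_of_descendsAlong (P := MorphismProperty.isomorphisms Scheme)
      (Q := @Surjective ⊓ @Flat ⊓ @QuasiCompact) (g := q) ⟨⟨inferInstance, inferInstance⟩, inferInstance⟩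
      (inferInstanceAs (IsIso (pullback.snd (pullback.snd b.left (N.hom.fiberι s)) q)))
  haveI : IsOpenImmersion b.left := FlatMisc.isOpenImmersion_of_fibres N.hom b.left fun s => by
    haveI := key s
    infer_instance
  haveI : Surjective b.left := ⟨fun n => by
    haveI := key (N.hom n)
    obtain ⟨m, hm⟩ : n ∈ Set.range (N.hom.fiberι (N.hom n)) := by rw [Scheme.Hom.range_fiberι]; rfl
    obtain ⟨w, hw⟩ := (pullback.snd b.left (N.hom.fiberι (N.hom n))).surjective m
    exact ⟨pullback.fst b.left (N.hom.fiberι (N.hom n)) w, by
      rw [← Scheme.Hom.comp_apply, pullback.condition, Scheme.Hom.comp_apply, hw, hm]⟩⟩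
  haveI : IsIso b.left := (isIso_iff_isOpenImmersion_and_surjective _).mpr ⟨inferInstance, inferInstance⟩
  haveI : IsIso ((Over.forget _).map b) := ‹IsIso b.left›
  exact isIso_of_reflects_iso b (Over.forget _)

/-- A Borel subgroup of a smooth group with connected fibres is closed and self-normalizing. -/
theorem borel_relative {G B : Over S} [GrpObj G] [GrpObj B] [Smooth G.hom] [QuasiCompact G.hom]
    (hconn : ∀ s : S, _root_.IsConnected (G.hom.base ⁻¹' {s})) (b : B ⟶ G) [IsMonHom b] [Mono b] [Smooth B.hom]
    (hB : ∀ s : S, Red.IsBorelOver (AlgebraicClosure (S.residueField s)) ((Over.pullback (Red.geomPt s)).map b)) :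
    Red.IsNormalizerOf b b ∧ IsClosedImmersion b.left := by
  have hconnB : SGA3x.neutralSet B = Set.univ := Jet.neutralSet_eq_univ_of_connected B fun s => by
    let φ : Spec (CommRingCat.of (AlgebraicClosure (S.residueField s))) ⟶ Spec (S.residueField s) :=
      Spec.map (CommRingCat.ofHom (algebraMap (S.residueField s) (AlgebraicClosure (S.residueField s))))
    haveI : Surjective φ := surjective_spec_map_field _
    haveI : ConnectedSpace ↥(pullback B.hom (Red.geomPt s)) := (hB s).2.2.2.1
    let e := pullbackLeftPullbackSndIso B.hom (S.fromSpecResidueField s) φ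
    haveI : ConnectedSpace ↥(pullback (pullback.snd B.hom (S.fromSpecResidueField s)) φ) :=
      e.inv.homeomorph.surjective.connectedSpace e.inv.homeomorph.continuous
    exact (pullback.fst (pullback.snd B.hom (S.fromSpecResidueField s)) φ).surjective.connectedSpace
      (Scheme.Hom.continuous _)
  obtain ⟨N, _, n, hn, hnc, -⟩ := Jet.exists_normalizer (i := b) hconnB
  haveI := hn.1; haveI := hn.2.1; haveI := hnc
  haveI : LocallyOfFiniteType N.hom := by rw [← Over.w n]; infer_instance
  obtain ⟨b', hb'⟩ := (hn.2.2 B b).mpr fun X' x h =>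
    ⟨⟨x * h * x⁻¹, by rw [MonObj.mul_comp, MonObj.mul_comp, GrpObj.inv_comp]⟩,
      ⟨x⁻¹ * h * x, by rw [MonObj.mul_comp, MonObj.mul_comp, GrpObj.inv_comp]⟩⟩
  haveI : IsIso b' := isIso_of_geomFibres b' fun s => by
    let σ := Red.geomPt s
    haveI : Smooth (Red.bc σ G).hom := inferInstanceAs (Smooth (pullback.snd G.hom σ))
    haveI : QuasiCompact (Red.bc σ G).hom := inferInstanceAs (QuasiCompact (pullback.snd G.hom σ))
    haveI : ConnectedSpace (Red.bc σ G).left := by
      let ιs := S.fromSpecResidueField s
      haveI : ConnectedSpace ↥(Red.bc ιs G).left := by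
        have h := hconn s
        rw [← Scheme.Hom.range_fiberι G.hom s] at h
        haveI := isConnected_iff_connectedSpace.mp h
        let e := (G.hom.fiberι s).isEmbedding.toHomeomorph
        exact e.symm.surjective.connectedSpace e.symm.continuous
      haveI : LocallyOfFiniteType (Red.bc ιs G).hom := inferInstanceAs (LocallyOfFiniteType (pullback.snd G.hom ιs))
      have hbc := GrpSchLib.AntiAffine.connectedSpace_bc (k := S.residueField s) (Red.bc ιs G)
        (algebraMap (S.residueField s) (AlgebraicClosure (S.residueField s)))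
      let φ : Spec (CommRingCat.of (AlgebraicClosure (S.residueField s))) ⟶ Spec (S.residueField s) :=
        Spec.map (CommRingCat.ofHom (algebraMap (S.residueField s) (AlgebraicClosure (S.residueField s))))
      let e₁ : pullback (pullback.snd G.hom ιs) φ ≅ pullback G.hom σ := pullbackLeftPullbackSndIso G.hom ιs φ
      haveI : ConnectedSpace ↥(pullback (pullback.snd G.hom ιs) φ) := hbc
      exact e₁.hom.homeomorph.surjective.connectedSpace e₁.hom.continuous
    let bσ := (Over.pullback σ).map b'
    have hbσ : bσ ≫ (Over.pullback σ).map n = (Over.pullback σ).map b := by rw [← Functor.map_comp, hb']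
    obtain ⟨u, hu⟩ := normalizer_borel_factors_nonaffine ((Over.pullback σ).map b) (hB s) ((Over.pullback σ).map n)
      (BC.isNormalizerOf_bc σ hn)
    haveI : IsIso bσ := ⟨u, by rw [← cancel_mono ((Over.pullback σ).map b), Category.assoc, hu, hbσ, Category.id_comp],
      by rw [← cancel_mono ((Over.pullback σ).map n), Category.assoc, hbσ, hu, Category.id_comp]⟩
    exact inferInstanceAs (IsIso ((Over.forget _).map bσ))
  refine ⟨⟨inferInstance, inferInstance, fun X g => ⟨fun ⟨z, hz⟩ => ?_, fun h => ?_⟩⟩, ?_⟩
  · exact (hn.2.2 X g).mp ⟨z ≫ b', by rw [Category.assoc, hb', hz]⟩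
  · obtain ⟨z, hz⟩ := (hn.2.2 X g).mpr h
    exact ⟨z ≫ inv b', by rw [← hb', Category.assoc, IsIso.inv_hom_id_assoc, hz]⟩
  · haveI : IsIso b'.left := inferInstanceAs (IsIso ((Over.forget _).map b'))
    rw [← hb', Over.comp_left]
    infer_instance

end Groth.Agent.GModLib
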