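import Groth.Agent.GModLib.TriRep
import Groth.Agent.GModLib.PtSubgroup
import Groth.Agent.GModLib.Borel
import Mathlib.LinearAlgebra.Semisimple
import Mathlib.RingTheory.Artinian.Module
import Mathlib.RingTheory.Nilpotent.Lemmas

/-!
# Tori of a connected solvable group
-/

set_option autoImplicit false
set_option backward.isDefEq.respectTransparency false
set_option backward.isDefEq.respectTransparency.types false

universe u

open CategoryTheory Limits AlgebraicGeometry MonoidalCategory CartesianMonoidalCategory MonObj GrpObj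

namespace Groth.Agent.GModLib

open GrpSchLib GrpSchLib.Kunneth TorusBilin

variable {k : Type u} [Field k] [IsAlgClosed k]

/-- A point of finite order of a split torus has order invertible in the field. -/
theorem cast_orderOf_ne_zero {r : ℕ} {t : VecGrp.pt k k ⟶ Tor k r} (ht : IsOfFinOrder t) :
    (orderOf t : k) ≠ 0 := by
  intro h0
  obtain ⟨p, hp⟩ := CharP.exists k
  have hdvd := (CharP.cast_eq_zero_iff k p _).mp h0
  have hp0 : p ≠ 0 := fun h => ht.orderOf_pos.ne' (Nat.eq_zero_of_zero_dvd (h ▸ hdvd))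
  haveI : Fact p.Prime := ⟨(CharP.char_is_prime_or_zero k p).resolve_right hp0⟩
  obtain ⟨m, hm⟩ := hdvd
  have hm0 : 0 < m := Nat.pos_of_ne_zero fun h => ht.orderOf_pos.ne' (by rw [hm, h, mul_zero])
  have h1 : t ^ m = 1 := ext_val fun a => by
    rw [val_pow, val_one]
    have h2 : (val t a ^ m) ^ p = 1 := by
      rw [← pow_mul, mul_comm, ← hm, ← val_pow, pow_orderOf_eq_one, val_one]
    have h3 : (val t a ^ m - 1) ^ p = 0 := by rw [sub_pow_char, h2, one_pow, sub_self]
    exact sub_eq_zero.mp (eq_zero_of_pow_eq_zero h3)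
  have h4 := Nat.le_of_dvd hm0 (orderOf_dvd_of_pow_eq_one h1)
  rw [hm] at h4
  have h5 : 2 * m ≤ p * m := Nat.mul_le_mul_right m (Fact.out : p.Prime).two_le
  omega

/-- The points of a split torus are divisible. -/
theorem exists_tor_root {r : ℕ} {N : ℕ} (hN : 0 < N) (t : VecGrp.pt k k ⟶ Tor k r) : ∃ s, s ^ N = t := by
  obtain ⟨x, hx⟩ := pts_surjective (K := k) (r := r) t
  choose y hy using fun i => IsAlgClosed.exists_pow_nat_eq (x i : k) hN
  have hy0 : ∀ i, y i ≠ 0 := fun i h => (x i).ne_zero (by rw [← hy i, h, zero_pow hN.ne'])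
  refine ⟨pts k r fun i => Units.mk0 (y i) (hy0 i), ?_⟩
  refine Eq.trans (map_pow (pts k r) _ N).symm (Eq.trans (congrArg (pts k r) ?_) hx)
  funext i
  exact Units.ext (by simpa using hy i)

/-- A point of finite order of a torus has invertible order. -/
theorem exists_invertible_order {T : Over (Spec (CommRingCat.of k))} [GrpObj T] (hT : Red.IsTorus T)
    {t : VecGrp.pt k k ⟶ T} {m : ℕ} (hm : 0 < m) (ht : t ^ m = 1) : ∃ n : ℕ, (n : k) ≠ 0 ∧ t ^ n = 1 := by
  obtain ⟨r, q, hq, hqi⟩ := exists_iso_tor hT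
  haveI := hq; haveI := hqi
  have hfin : IsOfFinOrder (t ≫ q) := isOfFinOrder_iff_pow_eq_one.mpr
    ⟨m, hm, by rw [← MonObj.pow_comp, ht, MonObj.one_comp]⟩
  refine ⟨orderOf (t ≫ q), cast_orderOf_ne_zero hfin, ?_⟩
  rw [← cancel_mono q, MonObj.pow_comp, pow_orderOf_eq_one, MonObj.one_comp]

variable {G : Over (Spec (CommRingCat.of k))} [GrpObj G] [IsAffine G.left] [Smooth G.hom] {d : ℕ}
  {M : Matrix (Fin d) (Fin d) (Fn G)}

/-- The diagonal of the matrix of a point. -/
noncomputable def diagHom (hM : IsTriangular M) : (VecGrp.pt k k ⟶ G) →* (Fin d → k) where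
  toFun g i := pullFn g (M i i)
  map_one' := funext fun i => (isChar_diag hM i).2
  map_mul' g h := funext fun i => (isChar_diag hM i).1 g h

theorem mem_uni_iff_diagHom (hM : IsTriangular M) (g : VecGrp.pt k k ⟶ G) : g ∈ uni hM ↔ diagHom hM g = 1 :=
  ⟨fun h => funext h, fun h i => congrFun h i⟩

theorem diagHom_eq_iff (hM : IsTriangular M) (g h : VecGrp.pt k k ⟶ G) :
    diagHom hM g = diagHom hM h ↔ g⁻¹ * h ∈ uni hM := by
  have h1 : diagHom hM g⁻¹ * diagHom hM g = 1 := by rw [← map_mul, inv_mul_cancel, map_one]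
  rw [mem_uni_iff_diagHom, map_mul]
  refine ⟨fun e => by rw [← e, h1], fun e => ?_⟩
  calc diagHom hM g = diagHom hM g * (diagHom hM g⁻¹ * diagHom hM h) := by rw [e, _root_.mul_one]
    _ = diagHom hM h := by rw [← _root_.mul_assoc, mul_comm (diagHom hM g), h1, _root_.one_mul]

theorem diagHom_conj (hM : IsTriangular M) (g h : VecGrp.pt k k ⟶ G) :
    diagHom hM (g * h * g⁻¹) = diagHom hM h := by
  rw [map_mul, map_mul, mul_comm (diagHom hM g), _root_.mul_assoc, ← map_mul, mul_inv_cancel, map_one, _root_.mul_one]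

/-- A linear function of the matrix as a regular function. -/
noncomputable def linFn (M : Matrix (Fin d) (Fin d) (Fn G)) (L : Matrix (Fin d) (Fin d) k →ₗ[k] k) : Fn G :=
  ∑ a, ∑ b, L (Matrix.single a b 1) • M a b

omit [IsAlgClosed k] [GrpObj G] [IsAffine G.left] [Smooth G.hom] in
theorem pullFn_linFn (L : Matrix (Fin d) (Fin d) k →ₗ[k] k) (g : VecGrp.pt k k ⟶ G) :
    pullFn g (linFn M L) = L (M.map (pullFn g)) := by
  conv_rhs => rw [Matrix.matrix_eq_sum_single (M.map (pullFn g))]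
  simp only [linFn, map_sum, map_smul, smul_eq_mul]
  refine Finset.sum_congr rfl fun a _ => Finset.sum_congr rfl fun b _ => ?_
  rw [show Matrix.single a b (M.map (pullFn g) a b) = M.map (pullFn g) a b • Matrix.single a b (1 : k) by
    rw [Matrix.smul_single, smul_eq_mul, _root_.mul_one], map_smul, smul_eq_mul, Matrix.map_apply, mul_comm]

/-- The identity component of the centralizer of a point. -/
theorem exists_centralizer (hM : IsTriangular M) (t : VecGrp.pt k k ⟶ G) :
    ∃ (C : Over (Spec (CommRingCat.of k))) (_ : GrpObj C) (i : C ⟶ G) (_ : IsMonHom i),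
      IsClosedImmersion i.left ∧ Smooth C.hom ∧ ConnectedSpace C.left ∧
      (∀ c : VecGrp.pt k k ⟶ C, Commute t (c ≫ i)) ∧
      (∃ N : ℕ, 0 < N ∧ ∀ g, Commute t g → ∃ c : VecGrp.pt k k ⟶ C, c ≫ i = g ^ N) ∧
      ∀ (D : Over (Spec (CommRingCat.of k))) [GrpObj D] [Smooth D.hom] [ConnectedSpace D.left] (f : D ⟶ G)
        [IsMonHom f], (∀ p : VecGrp.pt k k ⟶ D, Commute t (p ≫ f)) → ∃ u : D ⟶ C, u ≫ i = f := by
  let L : Fin d × Fin d → Matrix (Fin d) (Fin d) k →ₗ[k] k := fun e =>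
    (LinearMap.proj e.2).comp ((LinearMap.proj e.1).comp
      (LinearMap.mulLeft k (matHom hM t) - LinearMap.mulRight k (matHom hM t)))
  have hmem : ∀ g, g ∈ Subgroup.centralizer {t} ↔ Commute t g := fun g => by
    rw [Subgroup.mem_centralizer_iff]
    exact ⟨fun h => h t rfl, fun h a ha => by rw [Set.mem_singleton_iff.mp ha]; exact h⟩
  obtain ⟨C, hC, i, hi, h1, h2, h3, h4, h5, -, h6⟩ := exists_connected_subgroup (Subgroup.centralizer {t})
    (Set.range fun e => linFn M (L e)) fun g => by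
      rw [hmem, Set.forall_mem_range]
      simp only [pullFn_linFn]
      have e : ∀ ab, L ab (M.map (pullFn g)) = (matHom hM (t * g) - matHom hM (g * t)) ab.1 ab.2 := fun ab => by
        rw [map_mul, map_mul]
        rfl
      simp only [e]
      exact ⟨fun h ab => by rw [h.eq, sub_self]; rfl,
        fun h => matHom_injective hM (Matrix.ext fun a b => sub_eq_zero.mp (h (a, b)))⟩
  obtain ⟨N, hN, hNs⟩ := h5
  exact ⟨C, hC, i, hi, h1, h2, h3, fun c => (hmem _).1 (h4 c), ⟨N, hN, fun g hg => hNs g ((hmem g).2 hg)⟩,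
    fun D _ _ _ f _ hf => h6 D f fun p => (hmem _).2 (hf p)⟩

section Restrict

variable {P : Over (Spec (CommRingCat.of k))} [GrpObj P] (iP : P ⟶ G) [IsMonHom iP] [IsClosedImmersion iP.left]

theorem isTriangular_restrict [IsAffine P.left] [Smooth P.hom] (hM : IsTriangular M) :
    IsTriangular (M.map (ev iP)) := by
  refine ⟨⟨fun T g h => ?_, fun T => ?_⟩, fun i j hij => by rw [Matrix.map_apply, hM.tri i j hij, map_zero], ?_⟩
  · simp only [Matrix.map_map, Function.comp_def, ev_ev, MonObj.mul_comp]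
    exact hM.rep.mul T _ _
  · simp only [Matrix.map_map, Function.comp_def, ev_ev, MonObj.one_comp]
    exact hM.rep.one T
  · have hs : Function.Surjective (ev iP) := fun f => by
      have h := (IsClosedImmersion.isAffine_surjective_of_isAffine iP.left).2
      exact h f
    rw [show (Set.range fun p : Fin d × Fin d => M.map (ev iP) p.1 p.2) =
      ev iP '' (Set.range fun p : Fin d × Fin d => M p.1 p.2) by rw [← Set.range_comp]; rfl,
      ← AlgHom.map_adjoin, hM.gen, Algebra.map_top, AlgHom.range_eq_top]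
    exact hs

theorem matHom_restrict [IsAffine P.left] [Smooth P.hom] (hM : IsTriangular M) (p : VecGrp.pt k k ⟶ P) :
    matHom (isTriangular_restrict iP hM) p = matHom hM (p ≫ iP) :=
  Matrix.ext fun i j => by rw [matHom_apply, matHom_apply, Matrix.map_apply, pullFn_ev]

theorem diagHom_restrict [IsAffine P.left] [Smooth P.hom] (hM : IsTriangular M) (p : VecGrp.pt k k ⟶ P) :
    diagHom (isTriangular_restrict iP hM) p = diagHom hM (p ≫ iP) :=
  funext fun i => by
    show pullFn p (M.map (ev iP) i i) = pullFn (p ≫ iP) (M i i)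
    rw [Matrix.map_apply, pullFn_ev]

end Restrict

/-- A subgroup is full if it maps onto the diagonal torus. -/
def Full (hM : IsTriangular M) {P : Over (Spec (CommRingCat.of k))} (iP : P ⟶ G) : Prop :=
  ∀ g, ∃ p : VecGrp.pt k k ⟶ P, diagHom hM (p ≫ iP) = diagHom hM g

theorem comp_eq_iff {H Q : Over (Spec (CommRingCat.of k))} [GrpObj H] [GrpObj Q] (q : H ⟶ Q) [IsMonHom q]
    (a b : VecGrp.pt k k ⟶ H) : a ≫ q = b ≫ q ↔ (a⁻¹ * b) ≫ q = 1 := by
  rw [MonObj.mul_comp, GrpObj.inv_comp, inv_mul_eq_one]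

/-- A subgroup is full as soon as it captures fixed powers of lifts of the torsion of the diagonal torus. -/
theorem full_of_torsion_pow [ConnectedSpace G.left] (hM : IsTriangular M) {C : Over (Spec (CommRingCat.of k))}
    [GrpObj C] (iC : C ⟶ G) [IsMonHom iC] [IsClosedImmersion iC.left] {N : ℕ} (hN : 0 < N)
    (h : ∀ (g : VecGrp.pt k k ⟶ G) (n : ℕ), (n : k) ≠ 0 → diagHom hM g ^ n = 1 →
      ∃ x, diagHom hM x = diagHom hM g ∧ ∃ c : VecGrp.pt k k ⟶ C, c ≫ iC = x ^ N) :
    Full hM iC := by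
  obtain ⟨r, q, hq, hqs, hker, -⟩ := exists_torus_map (fun i => M i i) (isChar_diag hM)
  haveI := hq; haveI := hqs
  have hqd : ∀ a b, a ≫ q = b ≫ q ↔ diagHom hM a = diagHom hM b := fun a b => by
    rw [diagHom_eq_iff, mem_uni_iff, ← hker]
    exact comp_eq_iff q a b
  haveI : LocallyOfFiniteType C.hom := by rw [← Over.w iC]; infer_instance
  haveI : LocallyOfFiniteType (Tor k r).hom := by
    haveI : Algebra.FiniteType k (Coord k r) := inferInstance
    exact (HasRingHomProperty.Spec_iff (P := @LocallyOfFiniteType)).mpr (RingHom.finiteType_algebraMap.mpr ‹_›)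
  haveI : IsAffine C.left := isAffine_of_isAffineHom iC.left
  haveI : LocallyOfFiniteType q.left := by
    haveI : LocallyOfFiniteType (q.left ≫ (Tor k r).hom) := by rw [Over.w q]; infer_instance
    exact locallyOfFiniteType_of_comp q.left (Tor k r).hom
  haveI : IsMonHom (iC ≫ q) := inferInstance
  haveI : QuasiCompact (iC ≫ q).left := inferInstance
  have huniv : Set.range (iC ≫ q).left = Set.univ := by
    refine tor_eq_univ (GrpSchLib.HomClosedRange.isClosed_range _) fun t ht => ?_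
    obtain ⟨n, hn, htn⟩ := ht
    obtain ⟨s, hs⟩ := exists_tor_root hN t
    have hsfin : IsOfFinOrder s :=
      isOfFinOrder_iff_pow_eq_one.mpr ⟨N * n, Nat.mul_pos hN hn, by rw [pow_mul, hs, htn]⟩
    obtain ⟨g, hg⟩ := exists_point_lift (K := k) q s
    have hg1 : diagHom hM g ^ orderOf s = 1 := by
      rw [← map_pow, ← map_one (diagHom hM), ← hqd, MonObj.pow_comp, hg, MonObj.one_comp, pow_orderOf_eq_one]
    obtain ⟨x, hx, c, hc⟩ := h g _ (cast_orderOf_ne_zero hsfin) hg1
    rw [show t = c ≫ iC ≫ q by rw [← Category.assoc, hc, MonObj.pow_comp, (hqd x g).mpr hx, hg, hs]]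
    exact ⟨c.left (IsLocalRing.closedPoint k), rfl⟩
  haveI : Surjective (iC ≫ q).left := ⟨fun x => Set.eq_univ_iff_forall.mp huniv x⟩
  haveI : LocallyOfFiniteType (iC ≫ q).left := by rw [Over.comp_left]; infer_instance
  intro g
  obtain ⟨c, hc⟩ := exists_point_lift (K := k) (iC ≫ q) (g ≫ q)
  exact ⟨c, (hqd _ _).mp ((Category.assoc _ _ _).trans hc)⟩

/-- A torus mapping isomorphically to the diagonal torus on points. -/
def IsFullTorus (hM : IsTriangular M) {T : Over (Spec (CommRingCat.of k))} [GrpObj T] (iT : T ⟶ G) : Prop :=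
  IsMonHom iT ∧ IsClosedImmersion iT.left ∧ Red.IsTorus T ∧ Full hM iT ∧
    ∀ t : VecGrp.pt k k ⟶ T, t ≫ iT ∈ uni hM → t = 1

set_option maxHeartbeats 1000000 in
/-- A full torus exists. -/
theorem exists_fullTorus [ConnectedSpace G.left] (hM : IsTriangular M) :
    ∃ (T : Over (Spec (CommRingCat.of k))) (_ : GrpObj T) (iT : T ⟶ G), IsFullTorus hM iT := by
  classical
  haveI : IsNoetherian G.left := by
    haveI : IsLocallyNoetherian G.left := LocallyOfFiniteType.isLocallyNoetherian G.hom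
    exact {}
  let 𝒮 : Set (TopologicalSpace.Closeds G.left) :=
    {S | ∃ (P : Over (Spec (CommRingCat.of k))) (_ : GrpObj P) (iP : P ⟶ G), IsMonHom iP ∧ IsClosedImmersion iP.left ∧
      Smooth P.hom ∧ ConnectedSpace P.left ∧ Full hM iP ∧ Set.range iP.left = (S : Set G.left)}
  obtain ⟨S, ⟨P, _, iP, hiP, hcl, hsm, hconn, hfull, hS⟩, hmin⟩ := wellFounded_lt.has_min 𝒮
    ⟨⊤, G, inferInstance, 𝟙 G, inferInstance, inferInstanceAs (IsClosedImmersion (𝟙 G.left)), inferInstance,
      inferInstance, fun g => ⟨g, by rw [Category.comp_id]⟩, by simp⟩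
  haveI := hiP; haveI := hcl; haveI := hsm; haveI := hconn
  haveI : IsAffine P.left := isAffine_of_isAffineHom iP.left
  haveI : Mono iP := Over.mono_of_mono_left iP
  haveI : IsReduced P.left := GrpSchLib.isReduced_of_smooth_field P.hom
  let hP := isTriangular_restrict iP hM
  -- a full connected subgroup of `P` is everything
  have hmax : ∀ (C : Over (Spec (CommRingCat.of k))) (_ : GrpObj C) (iC : C ⟶ P), IsMonHom iC →
      IsClosedImmersion iC.left → Smooth C.hom → ConnectedSpace C.left → Full hM (iC ≫ iP) →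
      ∀ p : VecGrp.pt k k ⟶ P, ∃ c, c ≫ iC = p := by
    intro C _ iC _ _ hs' hc' hf p
    haveI : IsClosedImmersion (iC ≫ iP).left := by rw [Over.comp_left]; infer_instance
    let S' : TopologicalSpace.Closeds G.left := ⟨_, (iC ≫ iP).left.isClosedEmbedding.isClosed_range⟩
    have hle : S' ≤ S := fun x hx => by
      obtain ⟨y, rfl⟩ := hx
      show _ ∈ (S : Set G.left)
      rw [← hS, Over.comp_left, Scheme.Hom.comp_apply]
      exact ⟨_, rfl⟩
    have heq : S' = S := hle.eq_of_not_lt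
      (hmin S' ⟨C, inferInstance, iC ≫ iP, inferInstance, inferInstance, hs', hc', hf, rfl⟩)
    obtain ⟨c, hc⟩ := exists_lift_point (iC ≫ iP) (p ≫ iP) (by
      show (p ≫ iP).left _ ∈ (S' : Set G.left)
      rw [heq, ← hS, Over.comp_left, Scheme.Hom.comp_apply]
      exact ⟨_, rfl⟩)
    exact ⟨c, by rw [← cancel_mono iP, Category.assoc]; exact hc⟩
  -- torsion lifts in `P`
  have hlift : ∀ (g : VecGrp.pt k k ⟶ G) (n : ℕ), (n : k) ≠ 0 → diagHom hM g ^ n = 1 →
      ∃ t : VecGrp.pt k k ⟶ P, t ^ n = 1 ∧ diagHom hP t = diagHom hM g := by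
    intro g n hn hg
    obtain ⟨p, hp⟩ := hfull g
    obtain ⟨t, ht, hpt⟩ := exists_torsion_lift hP hn (g := p) (by
      rw [mem_uni_iff_diagHom, map_pow, diagHom_restrict iP hM, hp, hg])
    exact ⟨t, ht, by rw [← (diagHom_eq_iff hP p t).mpr hpt, diagHom_restrict iP hM, hp]⟩
  -- torsion points are central
  have hcentral : ∀ (t : VecGrp.pt k k ⟶ P) (n : ℕ), (n : k) ≠ 0 → t ^ n = 1 → ∀ p, Commute t p := by
    intro t n hn ht p
    obtain ⟨C, _, iC, _, hCcl, hCsm, hCconn, hCmem, ⟨N, hN, hNs⟩, -⟩ := exists_centralizer hP t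
    haveI := hCcl
    haveI : IsClosedImmersion (iC ≫ iP).left := by rw [Over.comp_left]; infer_instance
    obtain ⟨c, rfl⟩ := hmax C inferInstance iC ‹_› hCcl hCsm hCconn
      (full_of_torsion_pow hM (iC ≫ iP) hN fun g m hm hg => by
        obtain ⟨t', -, ht'⟩ := hlift g m hm hg
        obtain ⟨x, hx, hconj⟩ := exists_conj hP hn ht (h := t'⁻¹ * t * t')
          (by have e := conj_pow (a := t'⁻¹) (b := t) (i := n)
              rw [_root_.inv_inv, ht, _root_.mul_one, inv_mul_cancel] at e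
              exact e)
          ((diagHom_eq_iff hP _ _).mp (by
            have e := diagHom_conj hP t'⁻¹ t
            rw [_root_.inv_inv] at e
            exact e.symm))
        refine ⟨(t' * x⁻¹) ≫ iP, ?_, ?_⟩
        · rw [← diagHom_restrict iP hM, map_mul, (mem_uni_iff_diagHom hP x⁻¹).mp (inv_mem hx), _root_.mul_one, ht']
        · have hcomm : Commute t (t' * x⁻¹) := by
            have e : (t' * x⁻¹) * (x * (t'⁻¹ * t * t') * x⁻¹) = t * (t' * x⁻¹) := by group
            rw [hconj] at e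
            exact e.symm
          obtain ⟨c, hc⟩ := hNs _ hcomm
          exact ⟨c, by rw [← Category.assoc, hc, MonObj.pow_comp]⟩) p
    exact hCmem c
  -- so they commute and act semisimply
  let e : Matrix (Fin d) (Fin d) k ≃ₐ[k] Module.End k (Fin d → k) := Matrix.toLinAlgEquiv'
  let ρ : (VecGrp.pt k k ⟶ P) →* Module.End k (Fin d → k) := (e.toAlgHom.toRingHom.toMonoidHom).comp (matHom hP)
  let Tors : Set (VecGrp.pt k k ⟶ P) := {t | ∃ n : ℕ, (n : k) ≠ 0 ∧ t ^ n = 1}
  have hTinv : ∀ t ∈ Tors, t⁻¹ ∈ Tors := fun t ⟨n, hn, ht⟩ => ⟨n, hn, by rw [inv_pow, ht, _root_.inv_one]⟩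
  have hcomm : ∀ a ∈ ρ '' Tors, ∀ b ∈ ρ '' Tors, a * b = b * a := by
    rintro _ ⟨a, ⟨n, hn, ha⟩, rfl⟩ _ ⟨b, -, rfl⟩
    rw [← map_mul, (hcentral a n hn ha b).eq, map_mul]
  let A := Algebra.adjoin k (ρ '' Tors)
  letI : CommRing A := Algebra.adjoinCommRingOfComm k hcomm
  have hss : ∀ x ∈ A, (x : Module.End k (Fin d → k)).IsSemisimple := by
    have hgen : ∀ x ∈ ρ '' Tors, (x : Module.End k (Fin d → k)).IsSemisimple := by
      rintro _ ⟨t, ⟨n, hn, ht⟩, rfl⟩
      refine Module.End.isSemisimple_of_squarefree_aeval_eq_zero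
        (p := Polynomial.X ^ n - Polynomial.C 1) (Polynomial.separable_X_pow_sub_C 1 hn one_ne_zero).squarefree ?_
      rw [map_sub, map_pow, Polynomial.aeval_X, Polynomial.aeval_C, map_one, ← map_pow, ht, map_one, sub_self]
    intro x hx
    induction hx using Algebra.adjoin_induction with
    | mem x hx => exact hgen x hx
    | algebraMap c =>
      refine Module.End.isSemisimple_of_squarefree_aeval_eq_zero (p := Polynomial.X - Polynomial.C c)
        (Polynomial.separable_X_sub_C).squarefree ?_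
      rw [map_sub, Polynomial.aeval_X, Polynomial.aeval_C, sub_self]
    | add x y hx hy h1 h2 =>
      exact h1.add_of_commute (congrArg Subtype.val (mul_comm (⟨x, hx⟩ : A) ⟨y, hy⟩)) h2
    | mul x y hx hy h1 h2 =>
      exact h1.mul_of_commute (congrArg Subtype.val (mul_comm (⟨x, hx⟩ : A) ⟨y, hy⟩)) h2
  haveI hred : _root_.IsReduced A := ⟨fun x hx =>
    Subtype.ext (Module.End.eq_zero_of_isNilpotent_isSemisimple (hx.map A.val) (hss x.1 x.2))⟩
  haveI : FiniteDimensional k A := FiniteDimensional.finiteDimensional_subalgebra A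
  haveI : IsArtinianRing A := IsArtinianRing.of_finite k A
  haveI : Finite (A →ₐ[k] k) := inferInstance
  -- the points of `P` lie in the algebra
  let H : Subgroup (VecGrp.pt k k ⟶ P) :=
    { carrier := {p | ρ p ∈ A ∧ ρ p⁻¹ ∈ A}
      one_mem' := by
        show ρ 1 ∈ A ∧ ρ 1⁻¹ ∈ A
        rw [_root_.inv_one, map_one]; exact ⟨one_mem A, one_mem A⟩
      mul_mem' := fun {a b} ha hb => by
        show ρ (a * b) ∈ A ∧ ρ (a * b)⁻¹ ∈ A
        rw [_root_.mul_inv_rev, map_mul, map_mul]; exact ⟨mul_mem ha.1 hb.1, mul_mem hb.2 ha.2⟩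
      inv_mem' := fun {a} ha => by
        show ρ a⁻¹ ∈ A ∧ ρ a⁻¹⁻¹ ∈ A
        rw [_root_.inv_inv]; exact ⟨ha.2, ha.1⟩ }
  let Q : Set (Matrix (Fin d) (Fin d) k →ₗ[k] k) := {L | ∀ a ∈ A, L (e.symm a) = 0}
  have hρM : ∀ p, e.symm (ρ p) = matHom hP p := fun p => e.symm_apply_apply _
  let F : Set (Fn P) := linFn (M.map (ev iP)) '' Q ∪ (fun L => ev (𝟙 P)⁻¹ (linFn (M.map (ev iP)) L)) '' Q
  have hAmem : ∀ x, (∀ L ∈ Q, L (e.symm x) = 0) → x ∈ A := fun x hx => by
    by_contra h
    obtain ⟨f, hf, hfA⟩ := Submodule.exists_dual_map_eq_bot_of_notMem (p := Subalgebra.toSubmodule A)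
      (x := x) (fun h' => h h') inferInstance
    refine hf ?_
    have h1 := hx (f ∘ₗ e.toLinearEquiv.toLinearMap) fun a ha => by
      show f (e (e.symm a)) = 0
      rw [AlgEquiv.apply_symm_apply]
      exact (Submodule.mem_bot k).mp (hfA ▸ Submodule.mem_map_of_mem ha)
    simpa using h1
  have hH : ∀ p, p ∈ H ↔ ∀ f ∈ F, pullFn p f = 0 := fun p => by
    have hinv : p ≫ (𝟙 P)⁻¹ = p⁻¹ := by rw [GrpObj.comp_inv, Category.comp_id]
    constructor
    · rintro ⟨h1, h2⟩ f (⟨L, hL, rfl⟩ | ⟨L, hL, rfl⟩)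
      · rw [pullFn_linFn, show (M.map (ev iP)).map (pullFn p) = matHom hP p from rfl, ← hρM]
        exact hL _ h1
      · rw [pullFn_ev, hinv, pullFn_linFn, show (M.map (ev iP)).map (pullFn p⁻¹) = matHom hP p⁻¹ from rfl, ← hρM]
        exact hL _ h2
    · refine fun h => ⟨hAmem _ fun L hL => ?_, hAmem _ fun L hL => ?_⟩
      · have h1 := h _ (Or.inl ⟨L, hL, rfl⟩)
        rw [pullFn_linFn] at h1
        rw [hρM]; exact h1
      · have h1 := h _ (Or.inr ⟨L, hL, rfl⟩)
        rw [pullFn_ev, hinv, pullFn_linFn] at h1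
        rw [hρM]; exact h1
  have hρA : ∀ t ∈ Tors, t ∈ H := fun t ht =>
    ⟨Algebra.subset_adjoin ⟨t, ht, rfl⟩, Algebra.subset_adjoin ⟨_, hTinv t ht, rfl⟩⟩
  obtain ⟨C, _, iC, _, hCcl, hCsm, hCconn, hCmem, ⟨N, hN, hNs⟩, -⟩ := exists_connected_subgroup H F hH
  haveI := hCcl
  haveI : IsClosedImmersion (iC ≫ iP).left := by rw [Over.comp_left]; infer_instance
  have hall : ∀ p, ρ p ∈ A := fun p => by
    obtain ⟨c, rfl⟩ := hmax C inferInstance iC ‹_› hCcl hCsm hCconn
      (full_of_torsion_pow hM (iC ≫ iP) hN fun g m hm hg => by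
        obtain ⟨t, ht, htg⟩ := hlift g m hm hg
        obtain ⟨c, hc⟩ := hNs t (hρA t ⟨m, hm, ht⟩)
        exact ⟨t ≫ iP, by rw [← diagHom_restrict iP hM, htg], c, by rw [← Category.assoc, hc, MonObj.pow_comp]⟩) p
    exact (hCmem c).1
  -- the characters
  choose L hL using fun φ : A →ₐ[k] k => LinearMap.exists_extend (p := Subalgebra.toSubmodule A) φ.toLinearMap
  let χ : (A →ₐ[k] k) → Fn P := fun φ => linFn (M.map (ev iP)) (L φ ∘ₗ e.toLinearEquiv.toLinearMap)
  have hχv : ∀ φ p, pullFn p (χ φ) = φ ⟨ρ p, hall p⟩ := fun φ p => by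
    rw [pullFn_linFn]
    exact LinearMap.congr_fun (hL φ) ⟨ρ p, hall p⟩
  have hχ : ∀ φ, IsChar (χ φ) := fun φ => by
    refine ⟨fun g h => ?_, ?_⟩
    · rw [hχv, hχv, hχv, ← map_mul]
      exact congrArg φ (Subtype.ext (map_mul ρ g h))
    · rw [hχv, ← map_one φ]
      exact congrArg φ (Subtype.ext (map_one ρ))
  have hspan : Submodule.span k (Set.range fun φ : A →ₐ[k] k => φ.toLinearMap) = ⊤ := by
    rw [← Subspace.dualCoannihilator_dualAnnihilator_eq
      (W := Submodule.span k (Set.range fun φ : A →ₐ[k] k => φ.toLinearMap)), Submodule.dualAnnihilator_eq_top_iff,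
      Submodule.eq_bot_iff]
    intro x hx
    refine (nilpotent_iff_mem_prime.mpr fun J hJ => ?_).eq_zero
    haveI := hJ
    haveI : J.IsMaximal := IsArtinianRing.isMaximal_of_isPrime J
    letI := Ideal.Quotient.field J
    let eJ := AlgEquiv.ofBijective (Algebra.ofId k (A ⧸ J))
      (IsAlgClosed.algebraMap_bijective_of_isIntegral (k := k) (K := A ⧸ J))
    have h1 := (Submodule.mem_dualCoannihilator _).mp hx _
      (Submodule.subset_span ⟨eJ.symm.toAlgHom.comp (Ideal.Quotient.mkₐ k J), rfl⟩)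
    have h2 : eJ.symm (Ideal.Quotient.mk J x) = 0 := h1
    rw [map_eq_zero_iff _ eJ.symm.injective] at h2
    exact Ideal.Quotient.eq_zero_iff_mem.mp h2
  let m := Nat.card (A →ₐ[k] k)
  let idx : Fin m ≃ (A →ₐ[k] k) := (Finite.equivFin _).symm
  have hgen : Algebra.adjoin k (Set.range fun i => χ (idx i)) = ⊤ := by
    refine eq_top_iff.mpr (hP.gen ▸ Algebra.adjoin_le ?_)
    rintro _ ⟨⟨a, b⟩, rfl⟩
    let ψ : A →ₗ[k] k := (LinearMap.proj b).comp ((LinearMap.proj a).comp (e.symm.toLinearEquiv.toLinearMap.comp A.val.toLinearMap))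
    obtain ⟨f, hf, hfv⟩ : ∃ f ∈ Algebra.adjoin k (Set.range fun i => χ (idx i)),
        ∀ p, pullFn p f = ψ ⟨ρ p, hall p⟩ := by
      suffices hsp : ∀ ψ' ∈ Submodule.span k (Set.range fun φ : A →ₐ[k] k => φ.toLinearMap),
          ∃ f ∈ Algebra.adjoin k (Set.range fun i => χ (idx i)), ∀ p, pullFn p f = ψ' ⟨ρ p, hall p⟩ from
        hsp ψ (hspan ▸ Submodule.mem_top)
      intro ψ' hψ'
      induction hψ' using Submodule.span_induction with
      | mem x hx =>
        obtain ⟨φ, rfl⟩ := hx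
        exact ⟨χ φ, Algebra.subset_adjoin ⟨idx.symm φ, by simp⟩, hχv φ⟩
      | zero => exact ⟨0, zero_mem _, fun p => by simp⟩
      | add x y _ _ hx hy =>
        obtain ⟨f, hf, hfv⟩ := hx
        obtain ⟨f', hf', hfv'⟩ := hy
        exact ⟨f + f', add_mem hf hf', fun p => by simp [hfv, hfv']⟩
      | smul c x _ hx =>
        obtain ⟨f, hf, hfv⟩ := hx
        exact ⟨c • f, Subalgebra.smul_mem _ hf c, fun p => by simp [hfv]⟩
    have heq : M.map (ev iP) a b = f := eq_of_forall_point fun p => by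
      rw [hfv]
      show pullFn p (M.map (ev iP) a b) = e.symm (ρ p) a b
      rw [hρM]
      rfl
    show M.map (ev iP) a b ∈ Algebra.adjoin k (Set.range fun i => χ (idx i))
    rw [heq]
    exact hf
  obtain ⟨r, q, hq, -, -, hqi⟩ := exists_torus_map (fun i => χ (idx i)) fun i => hχ _
  haveI := hq
  haveI := hqi hgen
  refine ⟨P, inferInstance, iP, hiP, hcl, isTorus_of_iso_tor q, hfull, fun t ht => ?_⟩
  have hN0 : (matHom hP t - 1) ^ d = 0 := by
    rw [mem_uni_iff_diagHom, ← diagHom_restrict iP hM, ← mem_uni_iff_diagHom hP, lev_one_iff] at ht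
    have hj : ∀ j, ∀ a b : Fin d, b.val < a.val + j → ((matHom hP t - 1) ^ j) a b = 0 := by
      intro j
      induction j with
      | zero => intro a b h; rw [pow_zero, Matrix.one_apply_ne (Fin.ne_of_gt (by omega))]
      | succ j ih =>
        intro a b h
        rw [pow_succ, Matrix.mul_apply]
        refine Finset.sum_eq_zero fun l _ => ?_
        rcases lt_or_ge l.val (a.val + j) with h1 | h1
        · rw [ih a l h1, MulZeroClass.zero_mul]
        · exact mul_eq_zero_of_right _ (ht l b (by omega))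
    exact Matrix.ext fun a b => hj d a b (by omega)
  refine matHom_injective hP (e.injective ?_)
  rw [map_one, map_one]
  refine sub_eq_zero.mp (Module.End.eq_zero_of_isNilpotent_isSemisimple ⟨d, ?_⟩ (hss _ (sub_mem (hall t) (one_mem A))))
  show (e (matHom hP t) - 1) ^ d = 0
  rw [← map_one e, ← map_sub, ← map_pow, hN0, map_zero]

theorem comp_inner_point {T : Over (Spec (CommRingCat.of k))} (x : VecGrp.pt k k ⟶ G) (f : T ⟶ G)
    (p : VecGrp.pt k k ⟶ T) : p ≫ f ≫ inner (toPt _ ≫ x) = x * (p ≫ f) * x⁻¹ := by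
  rw [← Category.assoc, comp_inner, ← Category.assoc, toUnit_toPt, Category.id_comp]

theorem inner_comp {P : Over (Spec (CommRingCat.of k))} [GrpObj P] (iP : P ⟶ G) [IsMonHom iP]
    (x : 𝟙_ (Over (Spec (CommRingCat.of k))) ⟶ P) : inner x ≫ iP = iP ≫ inner (x ≫ iP) := by
  rw [comp_inner, inner, AGF.conjBy, MonObj.mul_comp, MonObj.mul_comp, GrpObj.inv_comp, Category.id_comp, Category.assoc]

set_option maxHeartbeats 1000000 in
/-- Every torus is conjugate into a full torus. -/
theorem exists_conj_into_fullTorus [ConnectedSpace G.left] (hM : IsTriangular M)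
    {T₀ : Over (Spec (CommRingCat.of k))} [GrpObj T₀] (iT₀ : T₀ ⟶ G) (hT₀ : IsFullTorus hM iT₀)
    {T : Over (Spec (CommRingCat.of k))} [GrpObj T] (hT : Red.IsTorus T) (f : T ⟶ G) [IsMonHom f] :
    ∃ (x : 𝟙_ (Over (Spec (CommRingCat.of k))) ⟶ G) (e : T ⟶ T₀), e ≫ iT₀ = f ≫ inner x := by
  obtain ⟨h₀m, h₀c, h₀T, h₀f, h₀u⟩ := hT₀
  haveI := h₀m; haveI := h₀c
  obtain ⟨hs₀, ha₀, hc₀, hcomm₀, -⟩ := TorusBasic.torus_props h₀T
  obtain ⟨hs, ha, hc, hcommT, -⟩ := TorusBasic.torus_props hT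
  haveI := hs₀; haveI := hc₀; haveI := hcomm₀; haveI := hs; haveI := hc; haveI := hcommT; haveI := ha
  haveI : IsNoetherian G.left := by
    haveI : IsLocallyNoetherian G.left := LocallyOfFiniteType.isLocallyNoetherian G.hom
    exact {}
  suffices key : ∀ S : TopologicalSpace.Closeds G.left, ∀ (P : Over (Spec (CommRingCat.of k))) (_ : GrpObj P) (iP : P ⟶ G),
      IsMonHom iP → IsClosedImmersion iP.left → Smooth P.hom → ConnectedSpace P.left →
      Set.range iP.left = (S : Set G.left) → ∀ (u₀ : T₀ ⟶ P), u₀ ≫ iP = iT₀ → ∀ (f : T ⟶ P), IsMonHom f →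
        ∃ (x : 𝟙_ (Over (Spec (CommRingCat.of k))) ⟶ G) (e : T ⟶ T₀), e ≫ iT₀ = (f ≫ iP) ≫ inner x by
    obtain ⟨x, e, he⟩ := key ⊤ G inferInstance (𝟙 G) inferInstance (inferInstanceAs (IsClosedImmersion (𝟙 G.left)))
      inferInstance inferInstance (by simp) iT₀ (Category.comp_id _) f ‹_›
    exact ⟨x, e, by rw [he, Category.comp_id]⟩
  intro S
  induction S using WellFoundedLT.induction with
  | _ S ih => ?_
  intro P _ iP hiP hcl hsm hconn hS u₀ hu₀ f hf
  haveI := hiP; haveI := hcl; haveI := hsm; haveI := hconn; haveI := hf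
  haveI : IsAffine P.left := isAffine_of_isAffineHom iP.left
  haveI : Mono iP := Over.mono_of_mono_left iP
  haveI : IsMonHom u₀ :=
    { one_hom := by rw [← cancel_mono iP, Category.assoc, hu₀, IsMonHom.one_hom iT₀, IsMonHom.one_hom iP]
      mul_hom := by
        rw [← cancel_mono iP, Category.assoc, hu₀, IsMonHom.mul_hom iT₀, Category.assoc, IsMonHom.mul_hom iP,
          ← Category.assoc, MonoidalCategory.tensorHom_comp_tensorHom, hu₀] }
  let hP := isTriangular_restrict iP hM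
  -- the point of the full torus under a torsion point
  have hmatch : ∀ (t : VecGrp.pt k k ⟶ T) (n : ℕ), (n : k) ≠ 0 → t ^ n = 1 → ∃ t₀ : VecGrp.pt k k ⟶ T₀,
      (t₀ ≫ u₀) ^ n = 1 ∧ (t₀ ≫ u₀)⁻¹ * (t ≫ f) ∈ uni hP := by
    intro t n hn ht
    obtain ⟨t₀, ht₀⟩ := h₀f ((t ≫ f) ≫ iP)
    refine ⟨t₀, ?_, (diagHom_eq_iff hP _ _).mp ?_⟩
    · rw [← MonObj.pow_comp, h₀u (t₀ ^ n) ?_, MonObj.one_comp]
      rw [mem_uni_iff_diagHom, MonObj.pow_comp, map_pow, ht₀, ← map_pow, ← MonObj.pow_comp, ← MonObj.pow_comp, ht,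
        MonObj.one_comp, MonObj.one_comp, map_one]
    · rw [diagHom_restrict iP hM, diagHom_restrict iP hM, Category.assoc, hu₀, ht₀]
  by_cases hcen : ∀ (t : VecGrp.pt k k ⟶ T) (n : ℕ), (n : k) ≠ 0 → t ^ n = 1 → ∀ p, Commute (t ≫ f) p
  · -- all torsion points are central
    have huniv : (f ≫ iP).left ⁻¹' Set.range iT₀.left = Set.univ := by
      refine torus_eq_univ hT (iT₀.left.isClosedEmbedding.isClosed_range.preimage (f ≫ iP).left.continuous)
        fun t ht => ?_
      obtain ⟨m, hm, htm⟩ := ht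
      obtain ⟨n, hn, htn⟩ := exists_invertible_order hT hm htm
      obtain ⟨t₀, h1, h2⟩ := hmatch t n hn htn
      have h3 : ((t₀ ≫ u₀)⁻¹ * (t ≫ f)) ^ n = 1 := by
        rw [((hcen t n hn htn (t₀ ≫ u₀)).symm.inv_left).mul_pow, inv_pow, h1, ← MonObj.pow_comp, htn, MonObj.one_comp,
          _root_.inv_one, _root_.one_mul]
      have h4 : t ≫ f ≫ iP = t₀ ≫ iT₀ := by
        rw [← Category.assoc, ← inv_mul_eq_one.mp (eq_one_of_pow_eq_one hP hn h2 h3), Category.assoc, hu₀]
      rw [Set.mem_preimage, ← Scheme.Hom.comp_apply, ← Over.comp_left, h4, Over.comp_left, Scheme.Hom.comp_apply]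
      exact ⟨_, rfl⟩
    haveI : IsReduced T.left := GrpSchLib.isReduced_of_smooth_field T.hom
    obtain ⟨g, hg⟩ := H23.RedSub.exists_lift_closed (f ≫ iP).left iT₀.left (by
      rintro _ ⟨x, rfl⟩
      exact Set.eq_univ_iff_forall.mp huniv x)
    refine ⟨1, Over.homMk g (by rw [← Over.w iT₀, reassoc_of% hg, Over.w (f ≫ iP)]), ?_⟩
    rw [inner_one, Category.comp_id]
    exact Over.OverMorphism.ext hg
  · push_neg at hcen
    obtain ⟨t, n, hn, htn, p₁, hp₁⟩ := hcen
    obtain ⟨t₀, h1, h2⟩ := hmatch t n hn htn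
    obtain ⟨x, -, hx⟩ := exists_conj hP hn h1 (by rw [← MonObj.pow_comp, htn, MonObj.one_comp]) h2
    obtain ⟨C, _, iC, _, hCcl, hCsm, hCconn, hCmem, -, hCuniv⟩ := exists_centralizer hP (t₀ ≫ u₀)
    haveI := hCcl; haveI := hCsm; haveI := hCconn
    haveI : IsClosedImmersion (iC ≫ iP).left := by rw [Over.comp_left]; infer_instance
    obtain ⟨u₀', hu₀'⟩ := hCuniv T₀ u₀ fun p => by
      show (t₀ ≫ u₀) * (p ≫ u₀) = (p ≫ u₀) * (t₀ ≫ u₀)
      rw [← MonObj.mul_comp, mul_comm t₀ p, MonObj.mul_comp]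
    obtain ⟨f', hf'⟩ := hCuniv T (f ≫ inner (toPt _ ≫ x)) fun p => by
      show (t₀ ≫ u₀) * _ = _ * (t₀ ≫ u₀)
      rw [comp_inner_point, ← hx, conj_mul, conj_mul, ← MonObj.mul_comp, ← MonObj.mul_comp, mul_comm t p]
    haveI : Mono iC := Over.mono_of_mono_left iC
    haveI : IsMonHom f' :=
      { one_hom := by
          rw [← cancel_mono iC, Category.assoc, hf', IsMonHom.one_hom iC, ← Category.assoc, IsMonHom.one_hom f,
            IsMonHom.one_hom (inner _)]
        mul_hom := by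
          rw [← cancel_mono iC, Category.assoc, hf', IsMonHom.mul_hom (f ≫ inner (toPt _ ≫ x)), Category.assoc, IsMonHom.mul_hom iC,
            ← Category.assoc (_ ⊗ₘ _), MonoidalCategory.tensorHom_comp_tensorHom, hf'] }
    let S' : TopologicalSpace.Closeds G.left := ⟨_, (iC ≫ iP).left.isClosedEmbedding.isClosed_range⟩
    have hle : S' ≤ S := fun z hz => by
      obtain ⟨y, rfl⟩ := hz
      show _ ∈ (S : Set G.left)
      rw [← hS, Over.comp_left, Scheme.Hom.comp_apply]
      exact ⟨_, rfl⟩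
    have hlt : S' < S := by
      refine lt_of_le_of_ne hle fun heq => hp₁ ?_
      have hall : ∀ p, Commute (t₀ ≫ u₀) p := fun p => by
        obtain ⟨c, hc⟩ := exists_lift_point (iC ≫ iP) (p ≫ iP) (by
          show (p ≫ iP).left _ ∈ (S' : Set G.left)
          rw [heq, ← hS, Over.comp_left, Scheme.Hom.comp_apply]
          exact ⟨_, rfl⟩)
        rw [← Category.assoc, cancel_mono] at hc
        exact hc ▸ hCmem c
      have h3 : t ≫ f = x⁻¹ * (t₀ ≫ u₀) * x := by rw [← hx]; group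
      rw [h3, show x⁻¹ * (t₀ ≫ u₀) * x = t₀ ≫ u₀ by rw [_root_.mul_assoc, (hall x).eq, inv_mul_cancel_left]]
      exact hall p₁
    obtain ⟨y, e, he⟩ := ih S' hlt C inferInstance (iC ≫ iP) inferInstance inferInstance inferInstance inferInstance rfl
      u₀' (by rw [← Category.assoc, hu₀', hu₀]) f' inferInstance
    refine ⟨y * ((toPt _ ≫ x) ≫ iP), e, ?_⟩
    rw [he, ← Category.assoc f', hf', Category.assoc f, inner_comp, ← inner_inner]
    simp only [Category.assoc]

/-- In a connected solvable group there is a torus into which every torus can be conjugated. -/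
theorem exists_torus_conj_solvable [ConnectedSpace G.left] (hsol : Red.IsSolvableGrp G) :
    ∃ (T₀ : Over (Spec (CommRingCat.of k))) (_ : GrpObj T₀) (iT₀ : T₀ ⟶ G) (_ : IsMonHom iT₀),
      IsClosedImmersion iT₀.left ∧ Red.IsTorus T₀ ∧
      ∀ (T : Over (Spec (CommRingCat.of k))) [GrpObj T] (f : T ⟶ G) [IsMonHom f], Red.IsTorus T →
        ∃ (x : 𝟙_ (Over (Spec (CommRingCat.of k))) ⟶ G) (e : T ⟶ T₀), e ≫ iT₀ = f ≫ inner x := by
  obtain ⟨d, M, hM⟩ := exists_triangular hsol
  obtain ⟨T₀, _, iT₀, h⟩ := exists_fullTorus hM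
  exact ⟨T₀, inferInstance, iT₀, h.1, h.2.1, h.2.2.1, fun T _ f _ hT => exists_conj_into_fullTorus hM iT₀ h hT f⟩

end Groth.Agent.GModLib
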