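import Groth.Agent.GModLib.CharTorus
import Groth.Agent.GModLib.PtSubgroup
import Groth.Agent.GModLib.SolvTorus

/-!
# Centralizers of tori and generic torsion points
-/

set_option autoImplicit false
set_option backward.isDefEq.respectTransparency false
set_option backward.isDefEq.respectTransparency.types false

universe u

open CategoryTheory Limits AlgebraicGeometry MonoidalCategory CartesianMonoidalCategory MonObj GrpObj

namespace Groth.Agent.GModLib

open GrpSchLib GrpSchLib.Kunneth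

variable {k : Type u} [Field k] [IsAlgClosed k] {G : Over (Spec (CommRingCat.of k))} [GrpObj G] [IsAffine G.left]
  [Smooth G.hom] {T : Over (Spec (CommRingCat.of k))} [GrpObj T]

/-- A nonzero function on a torus is nonzero at some torsion point of invertible order. -/
theorem exists_torsion_ne_zero (hT : Red.IsTorus T) {P : Fn T} (hP : P ≠ 0) :
    ∃ (t : VecGrp.pt k k ⟶ T) (n : ℕ), (n : k) ≠ 0 ∧ t ^ n = 1 ∧ pullFn t P ≠ 0 := by
  obtain ⟨h1, h2, h3, -, -⟩ := TorusBasic.torus_props hT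
  haveI := h1; haveI := h2; haveI := h3
  haveI : IsReduced T.left := GrpSchLib.isReduced_of_smooth_field T.hom
  by_contra h
  push_neg at h
  refine hP (eq_zero_of_basicOpen_eq_bot P (TopologicalSpace.Opens.ext ?_))
  have hu := torus_eq_univ hT (T.left.basicOpen P).isOpen.isClosed_compl fun t ⟨m, hm, htm⟩ => by
    obtain ⟨n, hn, htn⟩ := exists_invertible_order hT hm htm
    show ¬ (t.left (IsLocalRing.closedPoint k) ∈ T.left.basicOpen P)
    rw [mem_basicOpen_iff, not_not]
    exact h t n hn htn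
  rw [Set.compl_univ_iff] at hu
  simpa using hu

/-- The characters span the functions on a torus. -/
theorem span_chars (hT : Red.IsTorus T) : Submodule.span k {χ : Fn T | IsChar χ} = ⊤ := by
  obtain ⟨m, χ, hχ, hgen⟩ := exists_chars_of_isTorus hT
  let S : Submonoid (Fn T) :=
    { carrier := {χ | IsChar χ}
      one_mem' := isChar_one
      mul_mem' := fun ha hb => ha.mul hb }
  refine eq_top_iff.mpr fun f _ => ?_
  have hf : f ∈ Subalgebra.toSubmodule (Algebra.adjoin k (Set.range χ)) := by rw [hgen]; trivial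
  rw [Algebra.adjoin_eq_span] at hf
  refine Submodule.span_mono (fun x hx => ?_) hf
  exact (Submonoid.closure_le (S := S)).mpr (by rintro _ ⟨i, rfl⟩; exact hχ i) hx

/-- A torus has a torsion point with the same centralizer. -/
theorem exists_generic (hT : Red.IsTorus T) (iT : T ⟶ G) [IsMonHom iT] :
    ∃ (t : VecGrp.pt k k ⟶ T) (n : ℕ), (n : k) ≠ 0 ∧ t ^ n = 1 ∧
      ∀ g : VecGrp.pt k k ⟶ G, Commute (t ≫ iT) g → ∀ s : VecGrp.pt k k ⟶ T, Commute (s ≫ iT) g := by
  classical
  obtain ⟨h1, h2, h3, -, -⟩ := TorusBasic.torus_props hT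
  haveI := h1; haveI := h2; haveI := h3
  haveI : IsReduced T.left := GrpSchLib.isReduced_of_smooth_field T.hom
  haveI : QuasiCompact G.hom := inferInstance
  haveI : QuasiCompact T.hom := inferInstance
  haveI : IsSeparated G.hom := inferInstance
  haveI : IsSeparated T.hom := inferInstance
  haveI := isDomain_fn (G := T)
  haveI := finiteType_fn (k := k) (G := G)
  obtain ⟨gens, hgens⟩ := Algebra.FiniteType.out (R := k) (A := Fn G)
  let b := Module.Basis.ofSpan (span_chars hT).ge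
  have hb : ∀ l, IsChar (b l) := fun l => by
    have : (b l) ∈ Set.range b := ⟨l, rfl⟩
    exact Module.Basis.ofSpan_subset (span_chars hT).ge this
  let conj : G ⊗ T ⟶ G := (snd G T ≫ iT) * fst G T * (snd G T ≫ iT)⁻¹
  have hexp : ∀ f : Fn G, ∃ (s : Finset _) (a : _ → Fn G), ev conj f = ∑ l ∈ s, ev (fst G T) (a l) * ev (snd G T) (b l) :=
    fun f => by
      obtain ⟨s, a, hs⟩ := exists_expand (X := G) (Y := T) b (ev conj f)
      exact ⟨s, a, hs⟩
  choose sf a ha using hexp
  have hval : ∀ f (g : VecGrp.pt k k ⟶ G) (x : VecGrp.pt k k ⟶ T),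
      pullFn ((x ≫ iT) * g * (x ≫ iT)⁻¹) f = ∑ l ∈ sf f, pullFn g (a f l) * pullFn x (b l) := fun f g x => by
    have h := congrArg (pullFn (lift g x)) (ha f)
    rw [pullFn_ev, map_sum] at h
    simp only [map_mul, pullFn_ev, lift_fst, lift_snd] at h
    rw [← h]
    congr 2
    simp [conj, MonObj.comp_mul, GrpObj.comp_inv]
  let L := gens.biUnion sf
  have hP : ((∏ l ∈ L.filter (fun l => b l ≠ 1), (b l - 1)) *
      ∏ q ∈ (L ×ˢ L).filter (fun q => q.1 ≠ q.2), (b q.1 - b q.2) : Fn T) ≠ 0 := by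
    refine mul_ne_zero (Finset.prod_ne_zero_iff.mpr fun l hl => ?_) (Finset.prod_ne_zero_iff.mpr fun q hq => ?_)
    · exact sub_ne_zero.mpr (Finset.mem_filter.mp hl).2
    · exact sub_ne_zero.mpr fun e => (Finset.mem_filter.mp hq).2 (b.injective e)
  obtain ⟨t, n, hn, htn, htP⟩ := exists_torsion_ne_zero hT hP
  rw [map_mul, map_prod, map_prod, mul_ne_zero_iff, Finset.prod_ne_zero_iff, Finset.prod_ne_zero_iff] at htP
  refine ⟨t, n, hn, htn, fun g hg s => ?_⟩
  have key : (s ≫ iT) * g * (s ≫ iT)⁻¹ = g := by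
    refine pullFn_injective (AlgHom.ext_of_adjoin_eq_top hgens fun f hf => ?_)
    have hj : ∀ j : ℕ, ∑ l ∈ sf f, pullFn g (a f l) * pullFn t (b l) ^ j = pullFn g f := fun j => by
      have h := hval f g (t ^ j)
      rw [MonObj.pow_comp, (hg.pow_left j).eq, mul_inv_cancel_right] at h
      rw [h]
      refine Finset.sum_congr rfl fun l _ => ?_
      congr 1
      clear h
      induction j with
      | zero => rw [pow_zero, pow_zero, (hb l).2]
      | succ j ih => rw [pow_succ, pow_succ, (hb l).1, ih]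
    let c : sf f → (Multiplicative ℕ →* k) := fun l => powersHom k (pullFn t (b l.1))
    have hinj : Function.Injective c := fun l l' e => by
      have e1 : pullFn t (b l.1) = pullFn t (b l'.1) := (powersHom k).injective e
      refine Subtype.ext ?_
      by_contra hne
      refine htP.2 (l.1, l'.1) (Finset.mem_filter.mpr ⟨Finset.mem_product.mpr
        ⟨Finset.mem_biUnion.mpr ⟨f, hf, l.2⟩, Finset.mem_biUnion.mpr ⟨f, hf, l'.2⟩⟩, hne⟩) ?_
      rw [map_sub, e1, sub_self]
    have hli := (linearIndependent_monoidHom (Multiplicative ℕ) k).comp c hinj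
    have hzero : ∀ l : sf f, pullFn g (a f l.1) * (pullFn t (b l.1) - 1) = 0 := by
      refine Fintype.linearIndependent_iff.mp hli _ (funext fun j => ?_)
      simp only [Finset.sum_apply, Pi.smul_apply, Function.comp_apply, smul_eq_mul, Pi.zero_apply, c, powersHom_apply]
      rw [Finset.sum_coe_sort (sf f) (fun l => pullFn g (a f l) * (pullFn t (b l) - 1) * pullFn t (b l) ^ Multiplicative.toAdd j)]
      rw [← sub_self (pullFn g f)]
      nth_rewrite 1 [← hj (Multiplicative.toAdd j + 1)]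
      rw [← hj (Multiplicative.toAdd j), ← Finset.sum_sub_distrib]
      exact Finset.sum_congr rfl fun l _ => by ring
    rw [hval, ← hj 0]
    refine Finset.sum_congr rfl fun l hl => ?_
    rw [pow_zero, _root_.mul_one]
    rcases mul_eq_zero.mp (hzero ⟨l, hl⟩) with h | h
    · rw [h, MulZeroClass.zero_mul]
    · by_cases h1 : b l = 1
      · rw [h1, map_one, _root_.mul_one]
      · exact absurd (by rw [map_sub, map_one]; exact h)
          (htP.1 l (Finset.mem_filter.mpr ⟨Finset.mem_biUnion.mpr ⟨f, hf, hl⟩, h1⟩))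
  calc (s ≫ iT) * g = (s ≫ iT) * g * (s ≫ iT)⁻¹ * (s ≫ iT) := by group
    _ = g * (s ≫ iT) := by rw [key]

/-- The identity component of the centralizer of a torus. -/
theorem exists_torus_centralizer (iT : T ⟶ G) [IsMonHom iT] :
    ∃ (C : Over (Spec (CommRingCat.of k))) (_ : GrpObj C) (i : C ⟶ G) (_ : IsMonHom i),
      IsClosedImmersion i.left ∧ Smooth C.hom ∧ ConnectedSpace C.left ∧
      (∀ (c : VecGrp.pt k k ⟶ C) (s : VecGrp.pt k k ⟶ T), Commute (s ≫ iT) (c ≫ i)) ∧
      (∃ N : ℕ, 0 < N ∧ ∀ g, (∀ s : VecGrp.pt k k ⟶ T, Commute (s ≫ iT) g) →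
        ∃ c : VecGrp.pt k k ⟶ C, c ≫ i = g ^ N) ∧
      (∃ R : Finset (VecGrp.pt k k ⟶ G), ∀ g, (∀ s : VecGrp.pt k k ⟶ T, Commute (s ≫ iT) g) →
        ∃ r ∈ R, ∃ c : VecGrp.pt k k ⟶ C, r * (c ≫ i) = g) ∧
      ∀ (D : Over (Spec (CommRingCat.of k))) [GrpObj D] [Smooth D.hom] [ConnectedSpace D.left] (f : D ⟶ G)
        [IsMonHom f], (∀ (p : VecGrp.pt k k ⟶ D) (s : VecGrp.pt k k ⟶ T), Commute (s ≫ iT) (p ≫ f)) →
          ∃ u : D ⟶ C, u ≫ i = f := by
  let H : Subgroup (VecGrp.pt k k ⟶ G) := Subgroup.centralizer (Set.range fun s : VecGrp.pt k k ⟶ T => s ≫ iT)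
  have hmem : ∀ g, g ∈ H ↔ ∀ s : VecGrp.pt k k ⟶ T, Commute (s ≫ iT) g := fun g => by
    rw [Subgroup.mem_centralizer_iff, Set.forall_mem_range]
    rfl
  let F : Set (Fn G) := Set.range fun q : (VecGrp.pt k k ⟶ T) × Fn G =>
    ev ((toPt G ≫ q.1 ≫ iT) * 𝟙 G) q.2 - ev (𝟙 G * (toPt G ≫ q.1 ≫ iT)) q.2
  obtain ⟨C, hC, i, hi, h1, h2, h3, h4, ⟨N, hN, hNs⟩, ⟨R, hR⟩, h6⟩ := exists_connected_subgroup H F fun g => by
    rw [hmem, Set.forall_mem_range]
    simp only [map_sub, pullFn_ev, MonObj.comp_mul, ← Category.assoc, comp_toPt, Category.id_comp, Category.comp_id,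
      sub_eq_zero, Prod.forall]
    exact ⟨fun h s f => by rw [(h s).eq], fun h s => pullFn_injective (AlgHom.ext (h s))⟩
  exact ⟨C, hC, i, hi, h1, h2, h3, fun c => (hmem _).1 (h4 c), ⟨N, hN, fun g hg => hNs g ((hmem g).2 hg)⟩,
    ⟨R, fun g hg => hR g ((hmem g).2 hg)⟩,
    fun D _ _ _ f _ hf => h6 D f fun p => (hmem _).2 (hf p)⟩

end Groth.Agent.GModLib
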