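import Groth.Agent.GModLib.CentralTorus
import Groth.Agent.GModLib.TorusGeneric
import Groth.Agent.GModLib.MaxTorus

/-!
# Cartan subgroups are solvable with central maximal torus
-/

set_option autoImplicit false
set_option backward.isDefEq.respectTransparency false
set_option backward.isDefEq.respectTransparency.types false

universe u

open CategoryTheory Limits AlgebraicGeometry MonoidalCategory CartesianMonoidalCategory MonObj GrpObj

namespace Groth.Agent.GModLib

open GrpSchLib GrpSchLib.Kunneth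

variable {k : Type u} [Field k]

theorem isMonHom_of_comp {X Y Z : Over (Spec (CommRingCat.of k))} [GrpObj X] [GrpObj Y] [GrpObj Z] (j : X ⟶ Y)
    (i : Y ⟶ Z) [IsMonHom i] [Mono i] [IsMonHom (j ≫ i)] : IsMonHom j where
  one_hom := by rw [← cancel_mono i, Category.assoc, IsMonHom.one_hom (j ≫ i), IsMonHom.one_hom i]
  mul_hom := by
    rw [← cancel_mono i, Category.assoc, IsMonHom.mul_hom (j ≫ i), Category.assoc, IsMonHom.mul_hom i,
      ← Category.assoc (_ ⊗ₘ _), MonoidalCategory.tensorHom_comp_tensorHom]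

variable [IsAlgClosed k]

/-- Morphisms out of a reduced scheme agreeing on points agree. -/
theorem hom_ext_points {X Y : Over (Spec (CommRingCat.of k))} [LocallyOfFiniteType X.hom] [IsReduced X.left]
    [IsAffine Y.left] {f f' : X ⟶ Y} (h : ∀ p : VecGrp.pt k k ⟶ X, p ≫ f = p ≫ f') : f = f' :=
  LineGroups.ext_ev (AlgHom.ext fun y => eq_of_forall_point fun p => by rw [pullFn_ev, pullFn_ev, h])

variable {G : Over (Spec (CommRingCat.of k))} [GrpObj G] [IsAffine G.left] [Smooth G.hom] [ConnectedSpace G.left]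

/-- The connected centralizer of a maximal torus is solvable and has this torus as a central full torus. -/
theorem exists_cartan {T : Over (Spec (CommRingCat.of k))} [GrpObj T] (iT : T ⟶ G) (hT : AGF.IsMaxTorus iT) :
    ∃ (C : Over (Spec (CommRingCat.of k))) (_ : GrpObj C) (_ : IsAffine C.left) (_ : Smooth C.hom)
      (_ : ConnectedSpace C.left) (iC : C ⟶ G) (_ : IsMonHom iC) (d : ℕ) (M : Matrix (Fin d) (Fin d) (Fn C))
      (hM : IsTriangular M) (iS : T ⟶ C),
      IsClosedImmersion iC.left ∧ Red.IsSolvableGrp C ∧ iS ≫ iC = iT ∧ IsFullTorus hM iS ∧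
      (∀ (c : VecGrp.pt k k ⟶ C) (s : VecGrp.pt k k ⟶ T), Commute (s ≫ iT) (c ≫ iC)) ∧
      (∃ N : ℕ, 0 < N ∧ ∀ g, (∀ s : VecGrp.pt k k ⟶ T, Commute (s ≫ iT) g) →
        ∃ c : VecGrp.pt k k ⟶ C, c ≫ iC = g ^ N) ∧
      (∃ R : Finset (VecGrp.pt k k ⟶ G), ∀ g, (∀ s : VecGrp.pt k k ⟶ T, Commute (s ≫ iT) g) →
        ∃ r ∈ R, ∃ c : VecGrp.pt k k ⟶ C, r * (c ≫ iC) = g) ∧
      ∀ (D : Over (Spec (CommRingCat.of k))) [GrpObj D] [Smooth D.hom] [ConnectedSpace D.left] (f : D ⟶ G)
        [IsMonHom f], (∀ (p : VecGrp.pt k k ⟶ D) (s : VecGrp.pt k k ⟶ T), Commute (s ≫ iT) (p ≫ f)) →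
          ∃ u : D ⟶ C, u ≫ iC = f := by
  obtain ⟨hTm, hTmono, hTt, hTmax⟩ := hT
  haveI := hTm; haveI := hTmono
  obtain ⟨hs, ha, hc, -, -⟩ := TorusBasic.torus_props hTt
  haveI := hs; haveI := ha; haveI := hc
  haveI : IsReduced T.left := GrpSchLib.isReduced_of_smooth_field T.hom
  haveI := torus_isClosedImmersion hTt iT
  obtain ⟨C, _, iC, hiC, hCcl, hCsm, hCconn, hCmem, hN, hR, hCuniv⟩ := exists_torus_centralizer iT
  haveI := hiC; haveI := hCcl; haveI := hCsm; haveI := hCconn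
  haveI : IsAffine C.left := isAffine_of_isAffineHom iC.left
  haveI : Mono iC := Over.mono_of_mono_left iC
  obtain ⟨iT', hiT'⟩ := hCuniv T iT fun p s => by
    show (s ≫ iT) * (p ≫ iT) = (p ≫ iT) * (s ≫ iT)
    rw [← MonObj.mul_comp, ← MonObj.mul_comp, TorusBilin.comm_of_isTorus hTt]
  haveI : IsMonHom (iT' ≫ iC) := hiT' ▸ hTm
  haveI : IsMonHom iT' := isMonHom_of_comp iT' iC
  haveI : Mono (iT' ≫ iC) := hiT' ▸ hTmono
  haveI : Mono iT' := mono_of_mono iT' iC
  obtain ⟨B, _, iB, hB, -⟩ := exists_borel (G := C)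
  obtain ⟨hBm, hBcl, hBsm, hBconn, hBsol, -⟩ := id hB
  haveI := hBm; haveI := hBcl; haveI := hBsm; haveI := hBconn
  haveI : IsAffine B.left := isAffine_of_isAffineHom iB.left
  haveI : Mono iB := Over.mono_of_mono_left iB
  obtain ⟨g, h, hh⟩ := exists_torus_into_borel iB hB hTt iT'
  have hcentral : ∀ (s : VecGrp.pt k k ⟶ T) (c : VecGrp.pt k k ⟶ C), Commute (s ≫ iT') c := fun s c => by
    have e := (hCmem c s).eq
    rw [← hiT', ← Category.assoc] at e
    show (s ≫ iT') * c = c * (s ≫ iT')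
    rw [← cancel_mono iC, MonObj.mul_comp, MonObj.mul_comp]
    exact e
  have hinn : ∀ g : 𝟙_ (Over (Spec (CommRingCat.of k))) ⟶ C, iT' ≫ inner g = iT' := fun g => by
    refine hom_ext_points fun p => ?_
    have e : p ≫ iT' ≫ inner g = (toUnit _ ≫ g) * (p ≫ iT') * (toUnit _ ≫ g)⁻¹ := by
      rw [← Category.assoc, comp_inner]
    rw [e, ← (hcentral p _).eq, mul_inv_cancel_right]
  rw [hinn] at hh
  haveI : IsMonHom (h ≫ iB) := hh ▸ (inferInstance : IsMonHom iT')
  haveI : IsMonHom h := isMonHom_of_comp h iB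
  obtain ⟨d, M, hM⟩ := exists_triangular hBsol
  obtain ⟨T₁, _, iT₁, hT₁⟩ := exists_fullTorus hM
  obtain ⟨x, e, he⟩ := exists_conj_into_fullTorus hM iT₁ hT₁ hTt h
  have hhx : h ≫ inner x = h := by
    rw [← cancel_mono iB, Category.assoc, inner_comp, ← Category.assoc, hh, hinn]
  rw [hhx] at he
  obtain ⟨h1m, h1c, h1t, h1f, h1u⟩ := hT₁
  haveI := h1m; haveI := h1c
  haveI : Mono iT₁ := Over.mono_of_mono_left iT₁
  haveI : IsIso e := hTmax T₁ (iT₁ ≫ iB ≫ iC) e h1t (by rw [reassoc_of% he, ← Category.assoc, hh, hiT'])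
  -- the torus is full in the Borel subgroup of the centralizer, which is thus everything
  have hfull : Full hM h := fun y => by
    obtain ⟨p, hp⟩ := h1f y
    exact ⟨p ≫ inv e, by rw [← he]; simpa using hp⟩
  have hsurj := borel_surjective_of_central iB hB hM h hfull fun t b => by
    have e1 := hcentral t (b ≫ iB)
    rw [← hh, ← Category.assoc] at e1
    show (t ≫ h) * b = b * (t ≫ h)
    rw [← cancel_mono iB, MonObj.mul_comp, MonObj.mul_comp]
    exact e1
  haveI : IsReduced C.left := GrpSchLib.isReduced_of_smooth_field C.hom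
  obtain ⟨r, hr⟩ := exists_factor_of_points iB (𝟙 C) fun p => by
    obtain ⟨b, hb⟩ := hsurj p
    exact ⟨b, by rw [hb, Category.comp_id]⟩
  haveI : IsSplitEpi iB := IsSplitEpi.mk' ⟨r, hr⟩
  haveI : IsIso iB := isIso_of_mono_of_isSplitEpi iB
  haveI : IsClosedImmersion (iB ≫ iC).left := by rw [Over.comp_left]; infer_instance
  refine ⟨B, inferInstance, inferInstance, inferInstance, inferInstance, iB ≫ iC, inferInstance, d, M, hM, h,
    inferInstance, hBsol, ?_, ⟨inferInstance, ?_, hTt, hfull, fun t ht => ?_⟩, fun c s => ?_, ?_, ?_,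
    fun D _ _ _ f _ hf => ?_⟩
  · rw [← Category.assoc, hh, hiT']
  · rw [← he, Over.comp_left]
    haveI : IsIso e.left := inferInstanceAs (IsIso ((Over.forget _).map e))
    infer_instance
  · have h2 : t ≫ e = 1 := h1u _ (by rw [Category.assoc, he]; exact ht)
    rw [← Category.comp_id t, ← IsIso.hom_inv_id e, ← Category.assoc, h2]
    haveI : IsMonHom (e ≫ iT₁) := he ▸ (inferInstance : IsMonHom h)
    haveI : IsMonHom e := isMonHom_of_comp e iT₁
    haveI : IsMonHom (inv e) := inferInstanceAs (IsMonHom (asIso e).inv)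
    rw [MonObj.one_comp]
  · rw [← Category.assoc c iB iC]; exact hCmem (c ≫ iB) s
  · obtain ⟨N, hN0, hNs⟩ := hN
    refine ⟨N, hN0, fun g hg => ?_⟩
    obtain ⟨c, hc⟩ := hNs g hg
    exact ⟨c ≫ inv iB, by simpa using hc⟩
  · obtain ⟨R, hRs⟩ := hR
    refine ⟨R, fun g hg => ?_⟩
    obtain ⟨r, hr, c, hc⟩ := hRs g hg
    exact ⟨r, hr, c ≫ inv iB, by simpa using hc⟩
  · obtain ⟨u, hu⟩ := hCuniv D f hf
    exact ⟨u ≫ inv iB, by simpa using hu⟩

end Groth.Agent.GModLib
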