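import Groth.Agent.GModLib.EqLocusMono
import Groth.Agent.GModLib.MaxTorusGeomConv
import Groth.Agent.GModLib.CentralizerBC
import Groth.Agent.GModLib.BorelRelative
import Groth.Agent.GModLib.MaxTorus
import Groth.Agent.S3901
import Groth.Agent.Chevalley.BC.NonConn
import Groth.Agent.MultConjLib.Torus
import Groth.Agent.MultConjLib.SubTransporter
import Groth.Agent.GrpFieldLib.JetTransporter
import Groth.Agent.GrpSchLib.RankOneNonComm

/-!
# Centralizers of maximal tori of smooth group schemes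
-/

set_option autoImplicit false
set_option backward.isDefEq.respectTransparency false
set_option backward.isDefEq.respectTransparency.types false

universe u

open CategoryTheory Limits AlgebraicGeometry MonoidalCategory CartesianMonoidalCategory MonObj GrpObj

namespace Groth.Agent.GModLib

open GrpSchLib GrpSchLib.SubgroupEqLocus

variable {k : Type u} [Field k] [IsAlgClosed k]

/-- A central maximal torus is the only one. -/
theorem maxTorus_unique_of_central {C T T' : Over (Spec (CommRingCat.of k))} [GrpObj C] [Smooth C.hom]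
    [QuasiCompact C.hom] [GrpObj T] [GrpObj T'] (t : T ⟶ C) (ht : AGF.IsMaxTorus t) (t' : T' ⟶ C)
    (ht' : AGF.IsMaxTorus t')
    (hc : ∀ (X : Over (Spec (CommRingCat.of k))) (g : X ⟶ C) (a : X ⟶ T), g * (a ≫ t) = (a ≫ t) * g) :
    ∃ φ : T' ≅ T, φ.hom ≫ t = t' := by
  obtain ⟨L, _, l, hl, hfac⟩ := Chevalley.BC.exists_affPart C
  haveI := hl.hom; haveI := hl.closed; haveI := hl.smooth; haveI := hl.conn
  haveI : IsAffine L.left := hl.prop
  haveI : Mono l := Over.mono_of_mono_left l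
  have hfac' : ∀ (T₁ : Over (Spec (CommRingCat.of k))) [GrpObj T₁] (i : T₁ ⟶ C) (h : AGF.IsMaxTorus i),
      ∃ e : T₁ ⟶ L, e ≫ l = i ∧ AGF.IsMaxTorus e := by
    intro T₁ _ i ⟨hm, hmo, ht, hmax⟩
    haveI := hm; haveI := hmo
    obtain ⟨q1, q2, q3, -, -⟩ := TorusBasic.torus_props ht
    haveI := q1; haveI := q2; haveI := q3
    obtain ⟨e, he⟩ := hfac T₁ i
    haveI : IsMonHom (e ≫ l) := he ▸ hm
    haveI : IsMonHom e := isMonHom_of_comp e l
    haveI : Mono (e ≫ l) := he ▸ hmo
    haveI : Mono e := mono_of_mono e l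
    exact ⟨e, he, inferInstance, inferInstance, ht, fun T₂ _ j _ _ f hT₂ hf =>
      hmax T₂ (j ≫ l) f hT₂ (by rw [← Category.assoc, hf, he])⟩
  obtain ⟨e, he, hM⟩ := hfac' T t ht
  obtain ⟨e', he', hM'⟩ := hfac' T' t' ht'
  obtain ⟨g, φ, hφ⟩ := Groth.Agent.S3901.result k L T T' e e' hM hM'
  refine ⟨φ.symm, ?_⟩
  have h1 : φ.hom ≫ t' = t := by
    rw [← he', ← Category.assoc, hφ]
    simp only [AGF.conjBy, MonObj.mul_comp, GrpObj.inv_comp, Category.assoc, he]
    have h := hc T (toUnit T ≫ g ≫ l) (𝟙 T)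
    rw [Category.id_comp] at h
    rw [h, mul_inv_cancel_right]
  rw [Iso.symm_hom, ← h1, Iso.inv_hom_id_assoc]

/-- A fibrewise map of subgroups puts one into the other on points. -/
theorem le_of_map {S : Scheme.{u}} {G A B : Over S} [GrpObj G] [GrpObj A] [GrpObj B] (iA : A ⟶ G) (iB : B ⟶ G)
    {T : Scheme.{u}} (g : T ⟶ S) (θ : Red.bc g B ⟶ Red.bc g A)
    (hθ : θ ≫ (Over.pullback g).map iA = (Over.pullback g).map iB) : Le iA iB g := by
  intro Y q b
  let X' := Over.mk q.left
  let e : Y ⟶ (Over.map g).obj X' := Over.homMk (𝟙 _) (by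
    show 𝟙 _ ≫ q.left ≫ g = Y.hom
    rw [Category.id_comp]; exact Over.w q)
  let e' : (Over.map g).obj X' ⟶ Y := Over.homMk (𝟙 _) (by
    show 𝟙 _ ≫ Y.hom = q.left ≫ g
    rw [Category.id_comp]; exact (Over.w q).symm)
  have hee : e ≫ e' = 𝟙 _ := Over.OverMorphism.ext (Category.id_comp _)
  obtain ⟨b₁, hb₁⟩ := (DSPtsLib.theta_bijective (H := B) (Y := X') g).2 (e' ≫ b)
  refine ⟨e ≫ DSPtsLib.theta (H := A) g (b₁ ≫ θ), ?_⟩
  have h : DSPtsLib.theta (H := G) g ((b₁ ≫ θ) ≫ (Over.pullback g).map iA) =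
      DSPtsLib.theta (H := A) g (b₁ ≫ θ) ≫ iA :=
    (Over.mapPullbackAdj g).homEquiv_naturality_right_symm _ _
  have h' : DSPtsLib.theta (H := G) g (b₁ ≫ (Over.pullback g).map iB) = DSPtsLib.theta (H := B) g b₁ ≫ iB :=
    (Over.mapPullbackAdj g).homEquiv_naturality_right_symm _ _
  rw [Category.assoc, ← h, Category.assoc, hθ, h', hb₁, Category.assoc, reassoc_of% hee]

set_option maxHeartbeats 1000000 in
/-- The centralizer of a maximal torus is a Cartan subgroup with a unique maximal torus. -/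
theorem exists_centralizer_maxTorus {S : Scheme.{u}} {G T : Over S} [GrpObj G] [GrpObj T] [Smooth G.hom]
    [IsSeparated G.hom] [QuasiCompact G.hom] (i : T ⟶ G) (hT : Red.IsMaximalTorus i) :
    ∃ (C : Over S) (_ : GrpObj C) (c : C ⟶ G), Red.IsCentralizerOf i c ∧ IsClosedImmersion c.left ∧ SGA3x.IsCartan c ∧
      ∃ i' : T ⟶ C, i' ≫ c = i ∧ Red.IsMaximalTorus i' ∧
        ∀ (T' : Over S) [GrpObj T'] (j : T' ⟶ C), Red.IsMaximalTorus j → ∃ φ : T' ≅ T, φ.hom ≫ i' = j := by
  obtain ⟨him, himo, hTt, hTmax⟩ := id hT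
  haveI := him; haveI := himo
  haveI := MultConjLib.smooth_of_isTorus hTt
  have hD := MultConjLib.isLocDS_of_multTypeFT (RankOne.isMultTypeFT_of_isTorus hTt)
  have hconn := MultConjLib.neutralSet_eq_univ_of_isTorus hTt
  obtain ⟨C, _, c, hc, hcc, hcf⟩ := GrpFieldLib.Jet.exists_centralizer i hconn
  haveI := hc.1; haveI := hc.2.1; haveI := hcc
  haveI : Smooth C.hom := (Groth.Agent.S1488.result C.hom).mpr ⟨by rw [← Over.w c]; infer_instance,
    MultConjLib.isFormallySmoothHom_transporter hD ‹_› i i c fun X g => (hc.2.2 X g).trans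
      (forall₃_congr fun X' x h => mul_inv_eq_iff_eq_mul.symm)⟩
  haveI : QuasiCompact C.hom := by rw [← Over.w c]; infer_instance
  haveI : IsSeparated C.hom := by rw [← Over.w c]; infer_instance
  obtain ⟨i', hi'⟩ := (hc.2.2 T i).mpr fun X' x h => by
    rw [← MonObj.mul_comp, ← MonObj.mul_comp]
    exact congrArg (· ≫ i) (MultConjLib.points_comm hD x h)
  haveI : IsMonHom (i' ≫ c) := hi' ▸ him
  haveI : IsMonHom i' :=
    { one_hom := by rw [← cancel_mono c, Category.assoc, IsMonHom.one_hom (i' ≫ c), IsMonHom.one_hom c]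
      mul_hom := by
        rw [← cancel_mono c, Category.assoc, IsMonHom.mul_hom (i' ≫ c), Category.assoc, IsMonHom.mul_hom c,
          ← Category.assoc (_ ⊗ₘ _), MonoidalCategory.tensorHom_comp_tensorHom] }
  haveI : Mono (i' ≫ c) := hi' ▸ himo
  haveI : Mono i' := mono_of_mono i' c
  have hcentral : ∀ (Y : Over S) (g : Y ⟶ C) (a : Y ⟶ T), g * (a ≫ i') = (a ≫ i') * g := fun Y g a => by
    have h := (hc.2.2 Y (g ≫ c)).mp ⟨g, rfl⟩ Y (𝟙 Y) a
    rw [Category.id_comp, ← hi', ← Category.assoc, ← MonObj.mul_comp, ← MonObj.mul_comp, cancel_mono] at h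
    exact h
  have hmaxG : ∀ s : S, AGF.IsMaxTorus ((Over.pullback (Red.geomPt s)).map i) := fun s =>
    ⟨inferInstance, inferInstance, isTorus_bc (Red.geomPt s) hTt, fun T'' _ j _ _ f hT'' hf =>
      hTmax s T'' j f hT'' hf⟩
  have hmaxC : Red.IsMaximalTorus i' := ⟨inferInstance, inferInstance, hTt, fun s T'' _ j _ _ f hT'' hf =>
    hTmax s T'' (j ≫ (Over.pullback (Red.geomPt s)).map c) f hT''
      (by rw [← Category.assoc, hf, ← Functor.map_comp, hi'])⟩
  refine ⟨C, inferInstance, c, hc, hcc, ⟨inferInstance, inferInstance, inferInstance, fun s => ?_⟩, i', hi', hmaxC,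
    fun T' _ j hj => ?_⟩
  · exact ⟨inferInstance, inferInstance, Red.bc (Red.geomPt s) T, inferInstance, (Over.pullback (Red.geomPt s)).map i,
      isMaximalTorus_of_isMaxTorus (hmaxG s), BC.isCentralizerOf_bc (Red.geomPt s) hc⟩
  obtain ⟨hjm, hjmo, hT't, hjmax⟩ := id hj
  haveI := hjm; haveI := hjmo
  haveI := MultConjLib.smooth_of_isTorus hT't
  have key : ∀ s : S, ∃ φ : Red.bc (Red.geomPt s) T' ≅ Red.bc (Red.geomPt s) T,
      φ.hom ≫ (Over.pullback (Red.geomPt s)).map i' = (Over.pullback (Red.geomPt s)).map j := fun s => by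
    let σ := Red.geomPt s
    haveI : Smooth (Red.bc σ C).hom := inferInstanceAs (Smooth (pullback.snd C.hom σ))
    haveI : QuasiCompact (Red.bc σ C).hom := inferInstanceAs (QuasiCompact (pullback.snd C.hom σ))
    refine maxTorus_unique_of_central ((Over.pullback σ).map i')
      ⟨inferInstance, inferInstance, isTorus_bc σ hTt, fun T'' _ j' _ _ f hT'' hf => hmaxC.2.2.2 s T'' j' f hT'' hf⟩
      ((Over.pullback σ).map j)
      ⟨inferInstance, inferInstance, isTorus_bc σ hT't, fun T'' _ j' _ _ f hT'' hf => hjmax s T'' j' f hT'' hf⟩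
      fun X g a => (DSPtsLib.theta_bijective (H := C) σ).1 ?_
    rw [DSPtsLib.theta_mul, DSPtsLib.theta_mul, BC.theta_map]
    exact hcentral _ _ _
  haveI : LocallyOfFinitePresentation (i'.left ≫ C.hom) := by rw [Over.w i']; infer_instance
  haveI : LocallyOfFinitePresentation i'.left := Groth.Agent.AlgSpPts.locallyOfFinitePresentation_of_comp i'.left C.hom
  obtain ⟨U, -, hU, hUle⟩ := EqLocusMono.main i' j (RankOne.isMultTypeFT_of_isTorus hTt)
    (RankOne.isMultTypeFT_of_isTorus hT't) (Or.inl hcentral) (Or.inr inferInstance)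
  have hall : ∀ s : S, s ∈ U := fun s => (hU s).mpr (by
    obtain ⟨φ, hφ⟩ := key s
    let ψ : Spec (CommRingCat.of (AlgebraicClosure (S.residueField s))) ⟶ Spec (S.residueField s) :=
      Spec.map (CommRingCat.ofHom (algebraMap (S.residueField s) (AlgebraicClosure (S.residueField s))))
    exact EqLocusMono.Le.of_covers ψ (HomUnitLocus.covers_field _) (le_of_map i' j (Red.geomPt s) φ.hom hφ))
  have hrange : Set.range T'.hom ⊆ Set.range U.ι := by
    rw [Scheme.Opens.range_ι]; exact fun s _ => hall s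
  obtain ⟨a, ha⟩ := hUle T' (Over.homMk (IsOpenImmersion.lift U.ι T'.hom hrange) (IsOpenImmersion.lift_fac _ _ _)) (𝟙 T')
  rw [Category.id_comp] at ha
  haveI : IsIso a := isIso_of_geomFibres a fun s => by
    obtain ⟨φ, hφ⟩ := key s
    have e : (Over.pullback (Red.geomPt s)).map a = φ.hom := by
      rw [← cancel_mono ((Over.pullback (Red.geomPt s)).map i'), ← Functor.map_comp, ha, hφ]
    rw [e]
    exact ((Over.forget _).mapIso φ).isIso_hom
  exact ⟨asIso a, ha⟩

end Groth.Agent.GModLib
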