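import Groth.Agent.GModLib.MaxTorusBC
import Groth.Agent.GModLib.CentralizerRelative

/-!
# Cartan subgroups are stable under base change
-/

set_option autoImplicit false
set_option backward.isDefEq.respectTransparency false
set_option backward.isDefEq.respectTransparency.types false

universe u

open CategoryTheory Limits AlgebraicGeometry MonoidalCategory CartesianMonoidalCategory MonObj GrpObj

namespace Groth.Agent.GModLib

/-- Being a centralizer is invariant under isomorphisms. -/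
theorem isCentralizerOf_of_iso {S : Scheme.{u}} {T T' G G' C C' : Over S} [GrpObj T] [GrpObj T'] [GrpObj G] [GrpObj G']
    [GrpObj C] [GrpObj C'] {i : T ⟶ G} {c : C ⟶ G} (a : T' ≅ T) (cJ : C' ≅ C) (β : G ≅ G') [IsMonHom β.hom]
    {i' : T' ⟶ G'} {c' : C' ⟶ G'} [IsMonHom c'] (hi : i' = a.hom ≫ i ≫ β.hom) (hc : c' = cJ.hom ≫ c ≫ β.hom)
    (h : Red.IsCentralizerOf i c) : Red.IsCentralizerOf i' c' := by
  haveI := h.1; haveI := h.2.1
  subst hi hc
  refine ⟨inferInstance, inferInstance, fun X g => ?_⟩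
  have h0 := h.2.2 X (g ≫ β.inv)
  have hg : g = (g ≫ β.inv) ≫ β.hom := by rw [Category.assoc, β.inv_hom_id, Category.comp_id]
  constructor
  · rintro ⟨z, hz⟩ X' x t
    have := h0.mp ⟨z ≫ cJ.hom, by rw [← hz]; simp⟩ X' x (t ≫ a.hom)
    have h2 := congrArg (· ≫ β.hom) this
    simp only [MonObj.mul_comp] at h2
    simpa using h2
  · intro hh
    obtain ⟨z, hz⟩ := h0.mpr fun X' x t => by
      have := hh X' x (t ≫ a.inv)
      have h2 := congrArg (· ≫ β.inv) this
      haveI : IsMonHom β.inv := inferInstance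
      simp only [MonObj.mul_comp] at h2
      simpa using h2
    exact ⟨z ≫ cJ.inv, by rw [Category.assoc, cJ.inv_hom_id_assoc, ← Category.assoc, hz, ← hg]⟩

/-- Base change of a Cartan subgroup. -/
theorem isCartan_bc {S S' : Scheme.{u}} {G C : Over S} [GrpObj G] [GrpObj C] [Smooth G.hom] [QuasiCompact G.hom]
    (c : C ⟶ G) (h : SGA3x.IsCartan c) (g : S' ⟶ S) : SGA3x.IsCartan ((Over.pullback g).map c) := by
  obtain ⟨hm, hmo, hsm, hfib⟩ := h
  haveI := hm; haveI := hmo; haveI := hsm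
  refine ⟨inferInstance, inferInstance, inferInstanceAs (Smooth (pullback.snd C.hom g)), fun s' => ?_⟩
  obtain ⟨σ, hσ⟩ := exists_geomPt_lift g s'
  obtain ⟨-, -, T, _, t, ht, hcC⟩ := hfib (g s')
  haveI := ht.1; haveI := ht.2.1
  haveI : Smooth (Red.bc (Red.geomPt (g s')) G).hom := inferInstanceAs (Smooth (pullback.snd G.hom _))
  haveI : QuasiCompact (Red.bc (Red.geomPt (g s')) G).hom := inferInstanceAs (QuasiCompact (pullback.snd G.hom _))
  let E := bcGrpIso σ (Red.geomPt (g s')) _ hσ ≪≫ (bcGrpIso (Red.geomPt s') g _ rfl).symm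
  let β := E.app (Grp.mk G)
  let cJ := E.app (Grp.mk C)
  let cG : Grp.mk C ⟶ Grp.mk G := Grp.homMk' ⟨c⟩
  have e := congrArg (fun φ => φ.hom.hom) (E.hom.naturality cG)
  let βo : Red.bc σ (Red.bc (Red.geomPt (g s')) G) ≅ Red.bc (Red.geomPt s') (Red.bc g G) :=
    ⟨β.hom.hom.hom, β.inv.hom.hom, congrArg (fun φ => φ.hom.hom) β.hom_inv_id, congrArg (fun φ => φ.hom.hom) β.inv_hom_id⟩
  let cI : Red.bc σ (Red.bc (Red.geomPt (g s')) C) ≅ Red.bc (Red.geomPt s') (Red.bc g C) :=
    ⟨cJ.hom.hom.hom, cJ.inv.hom.hom, congrArg (fun φ => φ.hom.hom) cJ.hom_inv_id, congrArg (fun φ => φ.hom.hom) cJ.inv_hom_id⟩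
  haveI : IsMonHom βo.hom := inferInstanceAs (IsMonHom β.hom.hom.hom)
  let tσ := (Over.pullback σ).map t
  refine ⟨inferInstance, inferInstance, Red.bc σ T, inferInstance, tσ ≫ βo.hom, ?_, ?_⟩
  · refine isMaximalTorus_of_isMaxTorus (isMaxTorus_of_iso (Iso.refl _) β tσ _ ?_ (isTorus_bc σ ht.2.2.1)
      (isMaxTorus_bc t (isMaxTorus_of_isMaximalTorus ht) σ))
    exact Category.id_comp _
  · refine isCentralizerOf_of_iso (Iso.refl _) cI.symm βo (by rw [Iso.refl_hom, Category.id_comp]) ?_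
      (BC.isCentralizerOf_bc σ hcC)
    rw [Iso.symm_hom, eq_comm, cI.inv_comp_eq]
    exact e

end Groth.Agent.GModLib
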