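import Groth.Agent.GModLib.TorusConjEtale
import Groth.Agent.GModLib.CentralizerOpen
import Groth.Agent.GModLib.BorelPoints
import Groth.Agent.MultConjLib.SubTransporter
import Groth.Agent.MultConjLib.Subgroups

/-!
# Subgroups containing a Cartan subgroup are open in their normalizers
-/

set_option autoImplicit false
set_option backward.isDefEq.respectTransparency false
set_option backward.isDefEq.respectTransparency.types false

universe u

open CategoryTheory Limits AlgebraicGeometry MonoidalCategory CartesianMonoidalCategory MonObj GrpObj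

namespace Groth.Agent.GModLib

open GrpSchLib GrpSchLib.Kunneth

section Transporter

open MultConjLib
open GrpSchLib.DiagActionRigid (sp spm spm_comp spm_id spm_left)

/-- The transporter of a group of multiplicative type into a smooth subgroup is formally smooth. -/
theorem isFormallySmoothHom_transporter_into {S : Scheme.{u}} {T G H D : Over S} [GrpObj T] [GrpObj G] [GrpObj H]
    (hD : IsLocDS T) (hG : Smooth G.hom) (hH : Smooth H.hom) (u : T ⟶ G) [IsMonHom u] (k : H ⟶ G) [IsMonHom k]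
    [Mono k] (c : D ⟶ G) [Mono c.left]
    (hpts : ∀ (X : Over S) (g : X ⟶ G), (∃ t : X ⟶ D, t ≫ c = g) ↔
      ∀ (X' : Over S) (x : X' ⟶ X) (h : X' ⟶ T), ∃ κ : X' ⟶ H, (x ≫ g) * (h ≫ u) * (x ≫ g)⁻¹ = κ ≫ k) :
    MoreMor.IsFormallySmoothHom D.hom := by
  intro A _ I hI a b hab
  let g₀ : sp b (A ⧸ I) ⟶ G := (Over.homMk a hab.symm : sp b (A ⧸ I) ⟶ D) ≫ c
  obtain ⟨v, hv⟩ := PtHom.exists_factor k ((PtHom.ofHom u (A ⧸ I)).conj g₀) fun B _ _ ρ q => by
    obtain ⟨p, hp⟩ := (hpts _ _).mp ⟨Over.homMk a hab.symm, rfl⟩ _ (spm b ρ) q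
    exact ⟨p, hp.symm⟩
  obtain ⟨AH, _, _, x₁, hx₁, sq₁, -, j₁, hj₁⟩ := exists_univ_int hD b
  obtain ⟨w, hw⟩ := exists_hom_lift_nilpotent hx₁ hj₁ ((Groth.Agent.S1488.result H.hom).mp hH).2 I ⟨2, hI⟩ v
  obtain ⟨g, hg, hgc⟩ := exists_ptConj_lift hx₁ hj₁ ((Groth.Agent.S1488.result G.hom).mp hG).2 I hI
    (PtHom.ofHom u A) (w.post k) g₀ fun B _ _ ρ q => by
      show (w.map (Ideal.Quotient.mkₐ A I)).app B ρ q ≫ k = _
      rw [hw, hv]
      rfl
  have hid : Spec.map (CommRingCat.ofHom (algebraMap A A)) = 𝟙 _ := Spec.map_id _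
  obtain ⟨t, ht⟩ := (hpts _ g).mpr fun X' x' h => by
    have hwx : x'.left ≫ b = X'.hom := by
      have h' := Over.w x'
      change x'.left ≫ Spec.map (CommRingCat.ofHom (algebraMap A A)) ≫ b = X'.hom at h'
      rw [hid] at h'
      exact (congrArg (x'.left ≫ ·) (Category.id_comp b)).symm.trans h'
    let tt : X' ⟶ sp b AH := Over.homMk (sq₁.lift x'.left h.left (hwx.trans (Over.w h).symm)) (by
      show _ ≫ Spec.map (CommRingCat.ofHom (algebraMap A AH)) ≫ b = X'.hom
      rw [sq₁.lift_fst_assoc, hwx])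
    have htx : tt ≫ x₁ = h := Over.OverMorphism.ext (sq₁.lift_snd _ _ _)
    have htg : tt ≫ spm b (Algebra.ofId A AH) = x' := Over.OverMorphism.ext (sq₁.lift_fst _ _ _)
    have e := congrArg (tt ≫ ·) (hgc AH (Algebra.ofId A AH) x₁)
    change tt ≫ (w.app AH _ x₁ ≫ k) =
      tt ≫ ((spm b (Algebra.ofId A AH) ≫ g) * (x₁ ≫ u) * (spm b (Algebra.ofId A AH) ≫ g)⁻¹) at e
    simp only [MonObj.comp_mul, GrpObj.comp_inv, reassoc_of% htx, reassoc_of% htg] at e
    exact ⟨tt ≫ w.app AH _ x₁, by rw [Category.assoc]; exact e.symm⟩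
  refine ⟨t.left, ?_, ?_⟩
  · rw [← cancel_mono c.left, Category.assoc]
    exact (congrArg (fun m => Spec.map (CommRingCat.ofHom (Ideal.Quotient.mk I)) ≫ CommaMorphism.left m) ht).trans
      (congrArg CommaMorphism.left hg)
  · refine (Over.w t).trans ?_
    show Spec.map (CommRingCat.ofHom (algebraMap A A)) ≫ b = b
    rw [hid, Category.id_comp]

end Transporter

variable {k : Type u} [Field k] [IsAlgClosed k]

/-- A nonempty locally closed subset contains a rational point. -/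
theorem exists_point_locallyClosed {D : Over (Spec (CommRingCat.of k))} [LocallyOfFiniteType D.hom] {Z : Set D.left}
    (hZ : IsLocallyClosed Z) (hne : Z.Nonempty) : ∃ p : VecGrp.pt k k ⟶ D, p.left (IsLocalRing.closedPoint k) ∈ Z := by
  haveI : JacobsonSpace D.left := LocallyOfFiniteType.jacobsonSpace D.hom
  obtain ⟨w, hw, hwc⟩ := nonempty_inter_closedPoints (Z := Z) hne hZ
  obtain ⟨s, hs⟩ := exists_point_of_isClosed (K := k) D hwc
  exact ⟨s, by show s.left (IsLocalRing.closedPoint k) ∈ Z; rw [hs]; exact hw⟩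

set_option maxHeartbeats 1000000 in
/-- A smooth connected subgroup containing a Cartan subgroup is open in its normalizer. -/
theorem openImmersion_normalizer_of_cartan {G H N : Over (Spec (CommRingCat.of k))} [GrpObj G] [GrpObj H] [GrpObj N]
    [Smooth G.hom] [QuasiCompact G.hom] [Smooth H.hom] [ConnectedSpace H.left] (i : H ⟶ G) [IsMonHom i]
    [IsClosedImmersion i.left] {C' : Over (Spec (CommRingCat.of k))} [GrpObj C'] (c' : C' ⟶ H)
    (hC' : SGA3x.IsCartanOver k (c' ≫ i)) (n : N ⟶ G) [IsClosedImmersion n.left] (hn : Red.IsNormalizerOf i n)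
    (f : H ⟶ N) (hf : f ≫ n = i) : IsOpenImmersion f.left := by
  classical
  obtain ⟨-, -, T, _, t, ht, hc⟩ := hC'
  haveI := ht.1; haveI := ht.2.1; haveI := hc.1; haveI := hc.2.1
  haveI : Mono i := Over.mono_of_mono_left i
  haveI : Mono n := Over.mono_of_mono_left n
  haveI := hn.1
  haveI : IsSeparated G.hom := AntiAffine.isSeparated_grp G
  haveI : QuasiCompact H.hom := by rw [← Over.w i]; infer_instance
  have hTt := ht.2.2.1
  obtain ⟨q1, q2, q3, -, -⟩ := TorusBasic.torus_props hTt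
  haveI := q1; haveI := q2; haveI := q3
  -- the torus lies in the subgroup
  obtain ⟨t₀, ht₀⟩ := (hc.2.2 T t).mpr fun X x h => by
    rw [← MonObj.mul_comp, ← MonObj.mul_comp, TorusBilin.comm_of_isTorus hTt]
  let t' : T ⟶ H := t₀ ≫ c'
  have ht' : t' ≫ i = t := by rw [Category.assoc, ht₀]
  haveI : IsMonHom (t' ≫ i) := ht'.symm ▸ ht.1
  haveI : IsMonHom t' := isMonHom_of_comp t' i
  haveI : Mono (t' ≫ i) := ht'.symm ▸ ht.2.1
  haveI : Mono t' := mono_of_mono t' i
  have hmax : AGF.IsMaxTorus t := isMaxTorus_of_isMaximalTorus ht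
  have hmaxH : ∀ (v : T ⟶ H) [IsMonHom v] [Mono v], AGF.IsMaxTorus (v ≫ i) → AGF.IsMaxTorus v := fun v _ _ hv =>
    ⟨inferInstance, inferInstance, hTt, fun T' _ j _ _ e hT' he =>
      hv.2.2.2 T' (j ≫ i) e hT' (by rw [← Category.assoc, he])⟩
  -- the transporter of the torus
  have hneu := MultConjLib.neutralSet_eq_univ_of_isTorus hTt
  haveI : LocallyOfFinitePresentation (i.left ≫ G.hom) := by rw [Over.w i]; infer_instance
  haveI : LocallyOfFinitePresentation i.left := AlgSpPts.locallyOfFinitePresentation_of_comp i.left G.hom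
  haveI : LocallyOfFinitePresentation (t.left ≫ G.hom) := by rw [Over.w t]; infer_instance
  haveI : LocallyOfFinitePresentation t.left := AlgSpPts.locallyOfFinitePresentation_of_comp t.left G.hom
  obtain ⟨M, m, hmc, hmf, hM⟩ := GrpFieldLib.Jet.exists_transporter_conj hneu t i
  haveI := hmc; haveI := hmf
  haveI : Mono m := Over.mono_of_mono_left m
  haveI : Smooth M.hom := (Groth.Agent.S1488.result M.hom).mpr ⟨by rw [← Over.w m]; infer_instance,
    isFormallySmoothHom_transporter_into (MultConjLib.isLocDS_of_multTypeFT (RankOne.isMultTypeFT_of_isTorus hTt))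
      ‹_› ‹_› t i m hM⟩
  haveI : IsReduced M.left := GrpSchLib.isReduced_of_smooth_field M.hom
  obtain ⟨g₁, hg₁⟩ := (hM N n).mpr fun X x y => by
    obtain ⟨⟨h, hh⟩, -⟩ := (hn.2.2 N n).mp ⟨𝟙 N, Category.id_comp n⟩ X x (y ≫ t')
    exact ⟨h, by rw [← hh, Category.assoc, ht']⟩
  let h₀ : H ⟶ M := f ≫ g₁
  have hh₀ : h₀ ≫ m = i := by rw [Category.assoc, hg₁, hf]
  haveI : IsClosedImmersion (h₀.left ≫ m.left) := by rw [← Over.comp_left, hh₀]; infer_instance
  haveI : IsClosedImmersion h₀.left := IsClosedImmersion.of_comp h₀.left m.left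
  -- the centralizer has finitely many cosets in the normalizer of the torus
  obtain ⟨N₂, _, n₂, hn₂, hn₂c, -⟩ := GrpFieldLib.Jet.exists_normalizer (i := t) hneu
  haveI := hn₂.1; haveI := hn₂.2.1; haveI := hn₂c
  haveI : LocallyOfFiniteType N₂.hom := by rw [← Over.w n₂]; infer_instance
  haveI : QuasiCompact N₂.hom := by rw [← Over.w n₂]; infer_instance
  haveI : CompactSpace N₂.left := (quasiCompact_iff_compactSpace N₂.hom).mp inferInstance
  obtain ⟨e₂, he₂, heo, -⟩ := centralizer_open_normalizer (RankOne.isMultTypeFT_of_isTorus hTt) t (c' ≫ i) n₂ hc hn₂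
  haveI := heo
  haveI : LocallyOfFiniteType C'.hom := by rw [← Over.w e₂]; infer_instance
  let Lr : (VecGrp.pt k k ⟶ N₂) → (N₂ ⟶ N₂) := fun w => 𝟙 N₂ * (toPt N₂ ≫ w⁻¹)
  have hLr : ∀ w y, y ≫ Lr w = y * w⁻¹ := fun w y => by
    simp only [Lr, MonObj.comp_mul, ← Category.assoc, comp_toPt, Category.id_comp, Category.comp_id]
  let W : (VecGrp.pt k k ⟶ N₂) → Set N₂.left := fun w => (Lr w).left ⁻¹' Set.range e₂.left
  have hW : ∀ w, IsOpen (W w) := fun w => e₂.left.isOpenEmbedding.isOpen_range.preimage (Scheme.Hom.continuous _)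
  have hWmem : ∀ w y : VecGrp.pt k k ⟶ N₂, y.left (IsLocalRing.closedPoint k) ∈ W w ↔
      (y * w⁻¹).left (IsLocalRing.closedPoint k) ∈ Set.range e₂.left := fun w y => by
    rw [Set.mem_preimage, ← Scheme.Hom.comp_apply, ← Over.comp_left, hLr]
  have hcov : (Set.univ : Set N₂.left) ⊆ ⋃ w, W w := by
    intro x _
    by_contra hx
    obtain ⟨y, hy⟩ := exists_point_locallyClosed (isOpen_iUnion hW).isClosed_compl.isLocallyClosed ⟨x, hx⟩
    refine hy (Set.mem_iUnion.mpr ⟨y, (hWmem y y).mpr ?_⟩)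
    rw [mul_inv_cancel]
    exact ⟨(1 : VecGrp.pt k k ⟶ C').left (IsLocalRing.closedPoint k), by
      rw [← Scheme.Hom.comp_apply, ← Over.comp_left]
      haveI : IsMonHom (e₂ ≫ n₂) := he₂.symm ▸ hc.1
      haveI : IsMonHom e₂ := isMonHom_of_comp e₂ n₂
      rw [MonObj.one_comp]⟩
  obtain ⟨R, hR⟩ := isCompact_univ.elim_finite_subcover W hW hcov
  -- the points of the transporter
  have hpts : ∀ g : VecGrp.pt k k ⟶ M, ∃ w ∈ R, ∃ h : VecGrp.pt k k ⟶ H, g ≫ m = (h ≫ i) * (w ≫ n₂) := by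
    intro g
    obtain ⟨x, hx⟩ : ∃ x : 𝟙_ (Over (Spec (CommRingCat.of k))) ⟶ G, x = toPt _ ≫ g ≫ m := ⟨_, rfl⟩
    obtain ⟨v, hv⟩ := (hM _ x).mp ⟨toPt _ ≫ g, (Category.assoc _ _ _).trans hx.symm⟩ T (toUnit T) (𝟙 T)
    rw [Category.id_comp] at hv
    have hv' : v ≫ i = t ≫ inner x := by rw [comp_inner, hv]
    have hmv : AGF.IsMaxTorus (v ≫ i) := hv'.symm ▸ isMaxTorus_inner hmax x
    haveI := hmv.1; haveI := hmv.2.1
    haveI : IsMonHom v := isMonHom_of_comp v i
    haveI : Mono v := mono_of_mono v i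
    obtain ⟨h, φ, hφ⟩ := maxTori_conj_all t' v (hmaxH t' (ht'.symm ▸ hmax)) (hmaxH v hmv)
    let w₀ : 𝟙_ (Over (Spec (CommRingCat.of k))) ⟶ G := (h ≫ i)⁻¹ * x
    have key : (toUnit T ≫ w₀) * (φ.hom ≫ t) * (toUnit T ≫ w₀)⁻¹ = t := by
      have e := congrArg (· ≫ i) hφ
      simp only [MonObj.mul_comp, GrpObj.inv_comp, Category.assoc, ht', hv', comp_inner] at e
      simp only [MonObj.comp_mul, GrpObj.comp_inv, ← Category.assoc, comp_toUnit] at e
      simp only [w₀, MonObj.comp_mul, GrpObj.comp_inv]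
      simp only [← Category.assoc] at e ⊢
      calc _ = ((toUnit T ≫ h) ≫ i)⁻¹ * ((toUnit T ≫ x) * (φ.hom ≫ t) * (toUnit T ≫ x)⁻¹) * ((toUnit T ≫ h) ≫ i) := by
            group
        _ = _ := by rw [← e]; group
    obtain ⟨w, hw⟩ := (hn₂.2.2 _ w₀).mpr fun X s y => by
      have hs : ∀ z : X ⟶ T, (s ≫ w₀) * ((z ≫ φ.hom) ≫ t) * (s ≫ w₀)⁻¹ = z ≫ t := fun z => by
        have e := congrArg (z ≫ ·) key
        simp only [MonObj.comp_mul, GrpObj.comp_inv, ← Category.assoc, comp_toUnit] at e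
        rw [toUnit_unique s (toUnit X)]
        exact e
      constructor
      · exact ⟨y ≫ φ.inv, by rw [← hs (y ≫ φ.inv), Category.assoc y, Iso.inv_hom_id, Category.comp_id]⟩
      · exact ⟨y ≫ φ.hom, by rw [← hs y]; group⟩
    obtain ⟨w₁, hw₁, hmem⟩ := Set.mem_iUnion₂.mp (hR (Set.mem_univ ((toUnit (VecGrp.pt k k) ≫ w).left (IsLocalRing.closedPoint k))))
    rw [hWmem] at hmem
    obtain ⟨c, hcp⟩ := exists_point_of_mem_range e₂ _ hmem
    refine ⟨w₁, hw₁, (toUnit _ ≫ h) * (c ≫ c'), ?_⟩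
    rw [MonObj.mul_comp, Category.assoc c c' i, ← he₂, ← Category.assoc c, hcp, MonObj.mul_comp, GrpObj.inv_comp,
      _root_.mul_assoc, inv_mul_cancel_right, Category.assoc, Category.assoc, hw, MonObj.comp_mul, GrpObj.comp_inv,
      mul_inv_cancel_left]
    rw [hx]
    rw [← Category.assoc, toUnit_toPt, Category.id_comp]
  -- the translates
  let Tr : (VecGrp.pt k k ⟶ N₂) → (M ⟶ G) := fun w => m * (toPt M ≫ (w ≫ n₂)⁻¹)
  have hTr : ∀ w y, y ≫ Tr w = (y ≫ m) * (w ≫ n₂)⁻¹ := fun w y => by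
    simp only [Tr, MonObj.comp_mul, ← Category.assoc, comp_toPt, Category.id_comp]
  let Z : (VecGrp.pt k k ⟶ N₂) → Set M.left := fun w => (Tr w).left ⁻¹' Set.range i.left
  have hZc : ∀ w, IsClosed (Z w) := fun w =>
    i.left.isClosedEmbedding.isClosed_range.preimage (Scheme.Hom.continuous _)
  have hZmem : ∀ (w : VecGrp.pt k k ⟶ N₂) (y : VecGrp.pt k k ⟶ M),
      y.left (IsLocalRing.closedPoint k) ∈ Z w ↔ ∃ h : VecGrp.pt k k ⟶ H, h ≫ i = (y ≫ m) * (w ≫ n₂)⁻¹ := by
    intro w y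
    rw [Set.mem_preimage, ← Scheme.Hom.comp_apply, ← Over.comp_left, hTr]
    refine ⟨fun hh => exists_lift_point i _ hh, ?_⟩
    rintro ⟨h, hh⟩
    exact ⟨h.left _, by rw [← Scheme.Hom.comp_apply, ← Over.comp_left, hh]⟩
  have hH0 : ∀ y : VecGrp.pt k k ⟶ M, y.left (IsLocalRing.closedPoint k) ∈ Set.range h₀.left ↔
      ∃ h : VecGrp.pt k k ⟶ H, h ≫ i = y ≫ m := by
    intro y
    constructor
    · intro hy
      obtain ⟨h, hh⟩ := exists_lift_point h₀ y hy
      exact ⟨h, by rw [← hh₀, ← Category.assoc, hh]⟩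
    · rintro ⟨h, hh⟩
      refine ⟨h.left (IsLocalRing.closedPoint k), ?_⟩
      rw [← Scheme.Hom.comp_apply, ← Over.comp_left,
        (cancel_mono m).mp (show (h ≫ h₀) ≫ m = y ≫ m by rw [Category.assoc, hh₀, hh])]
  let bad : Set M.left := ⋃ w ∈ R.filter (fun w => ¬ ∃ h : VecGrp.pt k k ⟶ H, h ≫ i = w ≫ n₂), Z w
  have hbad : IsClosed bad := Set.Finite.isClosed_biUnion (Finset.finite_toSet _) fun w _ => hZc w
  have hopen : IsOpen (Set.range h₀.left) := by
    have hdisj : Set.range h₀.left ∩ bad = ∅ := by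
      by_contra hne
      obtain ⟨y, hy1, hy2⟩ := exists_point_locallyClosed
        (h₀.left.isClosedEmbedding.isClosed_range.inter hbad).isLocallyClosed (Set.nonempty_iff_ne_empty.mpr hne)
      obtain ⟨w, hw, hyw⟩ := Set.mem_iUnion₂.mp hy2
      obtain ⟨h₁, hh₁⟩ := (hH0 y).mp hy1
      obtain ⟨h₂, hh₂⟩ := (hZmem w y).mp hyw
      refine (Finset.mem_filter.mp hw).2 ⟨h₂⁻¹ * h₁, ?_⟩
      rw [MonObj.mul_comp, GrpObj.inv_comp, hh₁, hh₂]
      group
    have hun : (Set.range h₀.left)ᶜ = bad := by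
      refine Set.Subset.antisymm (fun x hx => ?_) (fun x hx hx' => ?_)
      · by_contra hxb
        obtain ⟨y, hy1, hy2⟩ := exists_point_locallyClosed
          (h₀.left.isClosedEmbedding.isClosed_range.isOpen_compl.inter hbad.isOpen_compl).isLocallyClosed ⟨x, hx, hxb⟩
        obtain ⟨w, hw, h, hh⟩ := hpts y
        by_cases hwH : ∃ h' : VecGrp.pt k k ⟶ H, h' ≫ i = w ≫ n₂
        · obtain ⟨h', hh'⟩ := hwH
          exact hy1 ((hH0 y).mpr ⟨h * h', by rw [MonObj.mul_comp, hh', hh]⟩)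
        · exact hy2 (Set.mem_biUnion (Finset.mem_filter.mpr ⟨hw, hwH⟩) ((hZmem w y).mpr
            ⟨h, by rw [hh, mul_inv_cancel_right]⟩))
      · exact Set.eq_empty_iff_forall_notMem.mp hdisj x ⟨hx', hx⟩
    rw [← compl_compl (Set.range h₀.left), hun]
    exact hbad.isOpen_compl
  let U : M.left.Opens := ⟨_, hopen⟩
  let l := IsOpenImmersion.lift U.ι h₀.left (by rw [Scheme.Opens.range_ι]; rfl)
  have hl : l ≫ U.ι = h₀.left := IsOpenImmersion.lift_fac _ _ _
  haveI : IsClosedImmersion (l ≫ U.ι) := by rw [hl]; infer_instance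
  haveI : IsClosedImmersion l := IsClosedImmersion.of_comp l U.ι
  haveI : Surjective l := ⟨fun y => by
    obtain ⟨x, hx⟩ := y.2
    exact ⟨x, Subtype.ext (by show U.ι (l x) = U.ι y; rw [← Scheme.Hom.comp_apply, hl]; exact hx)⟩⟩
  haveI : IsIso l := isIso_of_isClosedImmersion_of_surjective l
  haveI : IsOpenImmersion h₀.left := by rw [← hl]; infer_instance
  haveI : Mono (g₁.left ≫ m.left) := by rw [← Over.comp_left, hg₁]; infer_instance
  haveI : Mono g₁.left := mono_of_mono g₁.left m.left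
  have sq : IsPullback f.left (𝟙 H.left) g₁.left h₀.left :=
    IsPullback.of_vert_isIso_mono ⟨by simp [h₀]⟩
  exact MorphismProperty.of_isPullback (P := @IsOpenImmersion) sq.flip inferInstance

end Groth.Agent.GModLib
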