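import Groth.Agent.GModLib.CentralKernelBorel

/-!
# Borel subgroup schemes and homomorphisms with central kernel
-/

set_option autoImplicit false
set_option backward.isDefEq.respectTransparency false
set_option backward.isDefEq.respectTransparency.types false

universe u

open CategoryTheory Limits AlgebraicGeometry MonoidalCategory CartesianMonoidalCategory MonObj GrpObj

namespace Groth.Agent.GModLib

open GrpSchLib GrpFieldLib

variable {S : Scheme.{u}}

/-- Geometric fibres of a group scheme with connected fibres are connected. -/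
theorem connectedSpace_geomFibre {G : Over S} [GrpObj G] [LocallyOfFiniteType G.hom] [QuasiCompact G.hom]
    (hconn : ∀ s : S, _root_.IsConnected (G.hom.base ⁻¹' {s})) (s : S) :
    ConnectedSpace (Red.bc (Red.geomPt s) G).left := by
  let ιs := S.fromSpecResidueField s
  haveI : ConnectedSpace ↥(Red.bc ιs G).left := by
    have h := hconn s
    rw [← Scheme.Hom.range_fiberι G.hom s] at h
    haveI := isConnected_iff_connectedSpace.mp h
    let e := (G.hom.fiberι s).isEmbedding.toHomeomorph
    exact e.symm.surjective.connectedSpace e.symm.continuous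
  haveI : LocallyOfFiniteType (Red.bc ιs G).hom := inferInstanceAs (LocallyOfFiniteType (pullback.snd G.hom ιs))
  have hbc := GrpSchLib.AntiAffine.connectedSpace_bc (k := S.residueField s) (Red.bc ιs G)
    (algebraMap (S.residueField s) (AlgebraicClosure (S.residueField s)))
  let φ : Spec (CommRingCat.of (AlgebraicClosure (S.residueField s))) ⟶ Spec (S.residueField s) :=
    Spec.map (CommRingCat.ofHom (algebraMap (S.residueField s) (AlgebraicClosure (S.residueField s))))
  let e₁ : pullback (pullback.snd G.hom ιs) φ ≅ pullback G.hom (Red.geomPt s) := pullbackLeftPullbackSndIso G.hom ιs φ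
  haveI : ConnectedSpace ↥(pullback (pullback.snd G.hom ιs) φ) := hbc
  exact e₁.hom.homeomorph.surjective.connectedSpace e₁.hom.continuous

/-- A flat finitely presented scheme with smooth geometric fibres is smooth. -/
theorem smooth_of_geomFibres {B : Over S} [Flat B.hom] [LocallyOfFinitePresentation B.hom]
    (h : ∀ s : S, Smooth (Red.bc (Red.geomPt s) B).hom) : Smooth B.hom := by
  refine Smooth.of_smooth_fiberToSpecResidueField B.hom fun s => ?_
  let φ : Spec (CommRingCat.of (AlgebraicClosure (S.residueField s))) ⟶ Spec (S.residueField s) :=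
    Spec.map (CommRingCat.ofHom (algebraMap (S.residueField s) (AlgebraicClosure (S.residueField s))))
  haveI : Surjective φ := surjective_spec_map_field _
  haveI : Flat φ := flat_spec_map_field _
  refine MorphismProperty.of_pullback_snd_of_descendsAlong (P := @Smooth)
    (Q := @Surjective ⊓ @Flat ⊓ @QuasiCompact) (g := φ) ⟨⟨inferInstance, inferInstance⟩, inferInstance⟩ ?_
  rw [show B.hom.fiberToSpecResidueField s = pullback.snd B.hom (S.fromSpecResidueField s) from rfl,
    ← pullbackLeftPullbackSndIso_hom_snd B.hom (S.fromSpecResidueField s) φ,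
    MorphismProperty.cancel_left_of_respectsIso @Smooth]
  exact h s

variable {G G' : Over S} [GrpObj G] [GrpObj G'] [Smooth G.hom] [QuasiCompact G.hom] [QuasiSeparated G.hom]
  [Smooth G'.hom] [QuasiCompact G'.hom] [QuasiSeparated G'.hom]
  (hconn : ∀ s : S, _root_.IsConnected (G.hom.base ⁻¹' {s})) (hconn' : ∀ s : S, _root_.IsConnected (G'.hom.base ⁻¹' {s}))
  (u : G ⟶ G') [IsMonHom u] [Flat u.left] [Surjective u.left]
  (hker : ∀ (X : Over S) (z : X ⟶ G), z ≫ u = 1 → ∀ (X' : Over S) (x : X' ⟶ X) (g : X' ⟶ G),
      (x ≫ z) * g = g * (x ≫ z))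

include hker in
omit [Smooth G.hom] [QuasiCompact G.hom] [QuasiSeparated G.hom] [Smooth G'.hom] [QuasiCompact G'.hom]
  [QuasiSeparated G'.hom] [Flat u.left] [Surjective u.left] in
/-- The central kernel condition passes to base changes. -/
theorem central_kernel_bc {U : Scheme.{u}} (σ : U ⟶ S) (X : Over U) (z : X ⟶ Red.bc σ G)
    (hz : z ≫ (Over.pullback σ).map u = 1) (X' : Over U) (x : X' ⟶ X) (g : X' ⟶ Red.bc σ G) :
    (x ≫ z) * g = g * (x ≫ z) := by
  refine (DSPtsLib.theta_bijective (H := G) σ).1 ?_
  rw [DSPtsLib.theta_mul, DSPtsLib.theta_mul, DSPtsLib.theta_comp]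
  refine hker _ (DSPtsLib.theta σ z) ?_ _ _ _
  rw [← BC.theta_map, hz]
  have h := DSPtsLib.theta_mul σ (1 : X ⟶ Red.bc σ G') 1
  rwa [_root_.one_mul, eq_comm, mul_eq_left] at h

omit [Smooth G'.hom] [QuasiSeparated G.hom] [QuasiCompact G'.hom] [QuasiSeparated G'.hom] [IsMonHom u] in
/-- Base changes of a flat surjective morphism. -/
theorem flat_surjective_bc {U : Scheme.{u}} (σ : U ⟶ S) :
    Flat ((Over.pullback σ).map u).left ∧ Surjective ((Over.pullback σ).map u).left := by
  have hpb : IsPullback (pullback.fst G.hom σ) ((Over.pullback σ).map u).left u.left (pullback.fst G'.hom σ) := by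
    refine IsPullback.of_bot ?_ (by simp) (IsPullback.of_hasPullback G'.hom σ)
    rw [show u.left ≫ G'.hom = G.hom from Over.w u,
      show ((Over.pullback σ).map u).left ≫ pullback.snd G'.hom σ = pullback.snd G.hom σ from Over.w _]
    exact IsPullback.of_hasPullback G.hom σ
  exact ⟨MorphismProperty.of_isPullback (P := @Flat) hpb ‹_›, MorphismProperty.of_isPullback (P := @Surjective) hpb ‹_›⟩

include hconn hconn' hker in
set_option maxHeartbeats 1000000 in
/-- The preimage of a Borel subgroup scheme is a Borel subgroup scheme. -/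
theorem borel_preimage {B B' : Over S} [GrpObj B] [GrpObj B'] (b' : B' ⟶ G') [IsMonHom b'] [Mono b'] [Smooth B'.hom]
    [QuasiCompact B'.hom]
    (hB' : ∀ s : S, Red.IsBorelOver (AlgebraicClosure (S.residueField s)) ((Over.pullback (Red.geomPt s)).map b'))
    (b : B ⟶ G) [IsMonHom b] (v : B ⟶ B') (h : IsPullback b v u b') :
    IsMonHom b ∧ Mono b ∧ Smooth B.hom ∧ QuasiCompact B.hom ∧
      ∀ s : S, Red.IsBorelOver (AlgebraicClosure (S.residueField s)) ((Over.pullback (Red.geomPt s)).map b) := by
  obtain ⟨-, hcl'⟩ := borel_relative hconn' b' hB'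
  haveI := hcl'
  haveI : IsClosedImmersion b.left := MorphismProperty.of_isPullback (P := @IsClosedImmersion)
    (h.map (Over.forget S)).flip hcl'
  haveI : Mono b := Over.mono_of_mono_left b
  haveI : Flat v.left := MorphismProperty.of_isPullback (P := @Flat) (h.map (Over.forget S)) ‹Flat u.left›
  haveI : Flat B.hom := by rw [← Over.w v]; infer_instance
  haveI : LocallyOfFinitePresentation u.left := by
    haveI : LocallyOfFinitePresentation (u.left ≫ G'.hom) := by rw [Over.w u]; infer_instance
    exact Groth.Agent.AlgSpPts.locallyOfFinitePresentation_of_comp u.left G'.hom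
  haveI : LocallyOfFinitePresentation v.left :=
    MorphismProperty.of_isPullback (P := @LocallyOfFinitePresentation) (h.map (Over.forget S)) ‹_›
  haveI : LocallyOfFinitePresentation B.hom := by rw [← Over.w v]; infer_instance
  haveI : QuasiCompact B.hom := by rw [← Over.w b]; infer_instance
  have hgeo : ∀ s : S, Red.IsBorelOver (AlgebraicClosure (S.residueField s))
      ((Over.pullback (Red.geomPt s)).map b) := fun s => by
    let σ := Red.geomPt s
    haveI : Smooth (Red.bc σ G).hom := inferInstanceAs (Smooth (pullback.snd G.hom σ))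
    haveI : QuasiCompact (Red.bc σ G).hom := inferInstanceAs (QuasiCompact (pullback.snd G.hom σ))
    haveI : Smooth (Red.bc σ G').hom := inferInstanceAs (Smooth (pullback.snd G'.hom σ))
    haveI : QuasiCompact (Red.bc σ G').hom := inferInstanceAs (QuasiCompact (pullback.snd G'.hom σ))
    haveI := connectedSpace_geomFibre hconn s
    haveI := (flat_surjective_bc u σ).1
    haveI := (flat_surjective_bc u σ).2
    exact isBorelOver_preimage ((Over.pullback σ).map u) (central_kernel_bc u hker σ) ((Over.pullback σ).map b')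
      (hB' s) ((Over.pullback σ).map b) ((Over.pullback σ).map v) (h.map (Over.pullback σ))
  exact ⟨inferInstance, inferInstance, smooth_of_geomFibres fun s => (hgeo s).2.2.1, inferInstance, hgeo⟩

include hconn hker in
set_option maxHeartbeats 1000000 in
/-- Every Borel subgroup scheme is the preimage of one. -/
theorem exists_borel_descent {B : Over S} [GrpObj B] (b : B ⟶ G) [IsMonHom b] [Mono b] [Smooth B.hom]
    [QuasiCompact B.hom]
    (hB : ∀ s : S, Red.IsBorelOver (AlgebraicClosure (S.residueField s)) ((Over.pullback (Red.geomPt s)).map b)) :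
    ∃ (B' : Over S) (_ : GrpObj B') (b' : B' ⟶ G') (v : B ⟶ B'), (IsMonHom b' ∧ Mono b' ∧ Smooth B'.hom ∧
      QuasiCompact B'.hom ∧
      ∀ s : S, Red.IsBorelOver (AlgebraicClosure (S.residueField s)) ((Over.pullback (Red.geomPt s)).map b')) ∧
      IsMonHom v ∧ IsPullback b v u b' := by
  obtain ⟨hn, hcl⟩ := borel_relative hconn b hB
  haveI := hcl
  haveI : QuasiCompact u.left := by
    haveI : QuasiCompact (u.left ≫ G'.hom) := by rw [Over.w u]; infer_instance
    exact QuasiCompact.of_comp u.left G'.hom
  haveI : Mono b.left := IsPreimmersion.instMonoScheme _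
  -- the subgroup is stable under the kernel
  have hkB : ∀ {X : Over S} (z : X ⟶ G), z ≫ u = 1 → ∃ c, c ≫ b = z := fun {X} z hz =>
    (hn.2.2 X z).mpr fun X' x h => by
      have e := hker X z hz X' x (h ≫ b)
      exact ⟨⟨h, by rw [e, mul_inv_cancel_right]⟩, ⟨h, by rw [_root_.mul_assoc, ← e, inv_mul_cancel_left]⟩⟩
  let Y : Subobject G.left := Subobject.mk b.left
  have hY : ∀ {T : Scheme.{u}} (t : T ⟶ G.left), (∃ l, l ≫ Y.arrow = t) ↔ ∃ l, l ≫ b.left = t := fun t =>
    ⟨fun ⟨l, hl⟩ => ⟨l ≫ (Subobject.underlyingIso b.left).hom, by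
        rw [Category.assoc, Subobject.underlyingIso_hom_comp_eq_mk, hl]⟩,
      fun ⟨l, hl⟩ => ⟨l ≫ (Subobject.underlyingIso b.left).inv, by
        rw [Category.assoc, Subobject.underlyingIso_arrow, hl]⟩⟩
  haveI : IsClosedImmersion Y.arrow := by
    rw [← Subobject.underlyingIso_hom_comp_eq_mk b.left]; infer_instance
  have hfac : ∀ {A : Scheme.{u}} (f : A ⟶ G.left) {T : Scheme.{u}} (t : T ⟶ A),
      (∃ l, l ≫ ((Subobject.pullback f).obj Y).arrow = t) ↔ ∃ l, l ≫ b.left = t ≫ f := by
    intro A f T t
    rw [← hY]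
    have sq := Subobject.isPullback f Y
    constructor
    · rintro ⟨l, rfl⟩
      exact ⟨l ≫ Subobject.pullbackπ f Y, by rw [Category.assoc, sq.w, Category.assoc]⟩
    · rintro ⟨l, hl⟩
      exact ⟨sq.lift l t hl, sq.lift_snd _ _ _⟩
  have key : ∀ {T : Scheme.{u}} (p q : T ⟶ G.left), p ≫ u.left = q ≫ u.left →
      (∃ l, l ≫ b.left = p) → ∃ l, l ≫ b.left = q := by
    rintro T p q hpq ⟨l, rfl⟩
    let X : Over S := Over.mk (q ≫ G.hom)
    have hw : (l ≫ b.left) ≫ G.hom = q ≫ G.hom := by
      rw [← Over.w u, ← Category.assoc, hpq, Category.assoc]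
    let lX : X ⟶ B := Over.homMk l (by
      show l ≫ B.hom = q ≫ G.hom
      rw [← Over.w b, ← Category.assoc, hw])
    let qX : X ⟶ G := Over.homMk q rfl
    have hq : qX ≫ u = (lX ≫ b) ≫ u := Over.OverMorphism.ext hpq.symm
    obtain ⟨c, hc⟩ := hkB ((lX ≫ b)⁻¹ * qX) (by rw [MonObj.mul_comp, GrpObj.inv_comp, hq, inv_mul_cancel])
    refine ⟨(lX * c).left, ?_⟩
    rw [← Over.comp_left, MonObj.mul_comp, hc, mul_inv_cancel_left]
    rfl
  have hstable : (Subobject.pullback (pullback.fst u.left u.left)).obj Y =
      (Subobject.pullback (pullback.snd u.left u.left)).obj Y := by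
    refine le_antisymm ?_ ?_
    · obtain ⟨l, hl⟩ := (hfac (pullback.snd u.left u.left)
        ((Subobject.pullback (pullback.fst u.left u.left)).obj Y).arrow).mpr
        (key _ _ (by rw [Category.assoc, Category.assoc, pullback.condition])
          ((hfac (pullback.fst u.left u.left) _).mp ⟨𝟙 _, Category.id_comp _⟩))
      exact Subobject.le_of_comm l hl
    · obtain ⟨l, hl⟩ := (hfac (pullback.fst u.left u.left)
        ((Subobject.pullback (pullback.snd u.left u.left)).obj Y).arrow).mpr
        (key _ _ (by rw [Category.assoc, Category.assoc, pullback.condition])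
          ((hfac (pullback.snd u.left u.left) _).mp ⟨𝟙 _, Category.id_comp _⟩))
      exact Subobject.le_of_comm l hl
  obtain ⟨Y', hY'c, hY'⟩ := (S5233.result u.left).surjOn (show Y ∈ _ from ⟨‹_›, hstable⟩)
  haveI : IsClosedImmersion Y'.arrow := hY'c
  -- the descended subgroup
  let B' : Over S := Over.mk (Y'.arrow ≫ G'.hom)
  let b' : B' ⟶ G' := Over.homMk Y'.arrow rfl
  haveI : IsClosedImmersion b'.left := hY'c
  haveI : Mono b' := Over.mono_of_mono_left b'
  obtain ⟨v₀, hv₀⟩ : ∃ v₀ : B.left ⟶ (Y' : Scheme.{u}), IsPullback b.left v₀ u.left Y'.arrow := by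
    refine ⟨(Subobject.underlyingIso b.left).inv ≫ (Subobject.ofLE _ _ hY'.ge ≫ Subobject.pullbackπ u.left Y'), ?_⟩
    refine IsPullback.of_iso (Subobject.isPullback u.left Y').flip
      ((Subobject.isoOfEq _ _ hY') ≪≫ Subobject.underlyingIso b.left) (Iso.refl _) (Iso.refl _) (Iso.refl _)
      ?_ ?_ (by simp) (by simp)
    · simp [Y]
    · simp [Y]
  let v : B ⟶ B' := Over.homMk v₀ (by
    show v₀ ≫ Y'.arrow ≫ G'.hom = B.hom
    rw [← Category.assoc, ← hv₀.w, Category.assoc, Over.w u, Over.w b])
  have hpb : IsPullback b v u b' :=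
    IsPullback.of_map (Over.forget S) (Over.OverMorphism.ext hv₀.w) hv₀
  haveI : Flat v.left := MorphismProperty.of_isPullback (P := @Flat) hv₀ ‹Flat u.left›
  haveI : Surjective v.left := MorphismProperty.of_isPullback (P := @Surjective) hv₀ ‹Surjective u.left›
  haveI : QuasiCompact v.left := MorphismProperty.of_isPullback (P := @QuasiCompact) hv₀ ‹_›
  have hwr : Flat (v ▷ B).left ∧ Surjective (v ▷ B).left ∧ QuasiCompact (v ▷ B).left := by
    have hp : IsPullback (fst B B) (v ▷ B) v (fst B' B) := by
      refine ⟨⟨(whiskerRight_fst v B).symm⟩, ⟨PullbackCone.IsLimit.mk _ (fun c => lift c.fst (c.snd ≫ snd B' B))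
        (fun c => lift_fst _ _) (fun c => CartesianMonoidalCategory.hom_ext _ _
          (by rw [Category.assoc, whiskerRight_fst, ← Category.assoc, lift_fst]; exact c.condition)
          (by rw [Category.assoc, whiskerRight_snd, lift_snd]))
        fun c m h1 h2 => CartesianMonoidalCategory.hom_ext _ _ (by rw [lift_fst, h1]) (by
          rw [lift_snd, ← h2, Category.assoc, whiskerRight_snd])⟩⟩
    exact ⟨MorphismProperty.of_isPullback (P := @Flat) (hp.map (Over.forget S)) ‹Flat v.left›,
      MorphismProperty.of_isPullback (P := @Surjective) (hp.map (Over.forget S)) ‹Surjective v.left›,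
      MorphismProperty.of_isPullback (P := @QuasiCompact) (hp.map (Over.forget S)) ‹QuasiCompact v.left›⟩
  haveI := hwr.1; haveI := hwr.2.1; haveI := hwr.2.2
  haveI : Flat (B' ◁ v).left :=
    MorphismProperty.of_isPullback (P := @Flat) (isPullback_whiskerLeft v B').flip ‹Flat v.left›
  haveI : Surjective (B' ◁ v).left :=
    MorphismProperty.of_isPullback (P := @Surjective) (isPullback_whiskerLeft v B').flip ‹Surjective v.left›
  haveI : QuasiCompact (B' ◁ v).left :=
    MorphismProperty.of_isPullback (P := @QuasiCompact) (isPullback_whiskerLeft v B').flip ‹QuasiCompact v.left›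
  haveI : Flat ((v ▷ B) ≫ (B' ◁ v)).left := by rw [Over.comp_left]; infer_instance
  haveI : Surjective ((v ▷ B) ≫ (B' ◁ v)).left := by rw [Over.comp_left]; infer_instance
  haveI : QuasiCompact ((v ▷ B) ≫ (B' ◁ v)).left := by rw [Over.comp_left]; infer_instance
  have hvb : v ≫ b' = b ≫ u := hpb.w.symm
  obtain ⟨μ', hμ'⟩ := exists_factor_of_cover ((v ▷ B) ≫ (B' ◁ v)) b' ((fst B' B' ≫ b') * (snd B' B' ≫ b'))
    ((fst B B * snd B B) ≫ v) (by
      rw [Category.assoc, hvb, ← Category.assoc, MonObj.mul_comp, MonObj.mul_comp, MonObj.comp_mul]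
      simp [hvb])
  obtain ⟨ι', hι'⟩ := exists_factor_of_cover v b' b'⁻¹ ((𝟙 B)⁻¹ ≫ v) (by
    rw [Category.assoc, hvb, GrpObj.inv_comp, Category.id_comp, GrpObj.comp_inv, hvb])
  obtain ⟨str, hstr⟩ := GrpSchLib.exists_grpObj_of_mono b' (η[B] ≫ v)
    (by rw [Category.assoc, hvb, ← Category.assoc, IsMonHom.one_hom b, IsMonHom.one_hom u]) μ' hμ' ι' hι'
  letI := str
  haveI := hstr
  haveI : IsMonHom v :=
    { one_hom := by rw [← cancel_mono b', Category.assoc, hvb, ← Category.assoc, IsMonHom.one_hom b,
        IsMonHom.one_hom u, IsMonHom.one_hom b']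
      mul_hom := by
        rw [← cancel_mono b', Category.assoc, hvb, ← Category.assoc, IsMonHom.mul_hom b, Category.assoc,
          IsMonHom.mul_hom u, Category.assoc, IsMonHom.mul_hom b', ← Category.assoc, ← Category.assoc,
          MonoidalCategory.tensorHom_comp_tensorHom, MonoidalCategory.tensorHom_comp_tensorHom, hvb] }
  haveI : LocallyOfFinitePresentation (b.left ≫ G.hom) := by rw [Over.w b]; infer_instance
  haveI : LocallyOfFinitePresentation b.left :=
    Groth.Agent.AlgSpPts.locallyOfFinitePresentation_of_comp b.left G.hom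
  haveI : LocallyOfFinitePresentation b'.left := MorphismProperty.of_pullback_snd_of_descendsAlong
    (P := @LocallyOfFinitePresentation) (Q := @Surjective ⊓ @Flat ⊓ @QuasiCompact) (g := u.left)
    ⟨⟨inferInstance, inferInstance⟩, inferInstance⟩ (by
      show LocallyOfFinitePresentation (pullback.snd Y'.arrow u.left)
      rw [← hv₀.flip.isoPullback_inv_snd, MorphismProperty.cancel_left_of_respectsIso @LocallyOfFinitePresentation]
      infer_instance)
  haveI : LocallyOfFinitePresentation B'.hom := by rw [← Over.w b']; infer_instance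
  haveI : QuasiCompact B'.hom := by rw [← Over.w b']; infer_instance
  haveI : Flat B'.hom := GrpdLib.flat_of_flat_comp v.left B'.hom (by rw [Over.w v]; infer_instance)
  have hgeo : ∀ s : S, Red.IsBorelOver (AlgebraicClosure (S.residueField s))
      ((Over.pullback (Red.geomPt s)).map b') := fun s => by
    let σ := Red.geomPt s
    haveI : Smooth (Red.bc σ G).hom := inferInstanceAs (Smooth (pullback.snd G.hom σ))
    haveI : QuasiCompact (Red.bc σ G).hom := inferInstanceAs (QuasiCompact (pullback.snd G.hom σ))
    haveI : Smooth (Red.bc σ G').hom := inferInstanceAs (Smooth (pullback.snd G'.hom σ))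
    haveI : QuasiCompact (Red.bc σ G').hom := inferInstanceAs (QuasiCompact (pullback.snd G'.hom σ))
    haveI : LocallyOfFiniteType (Red.bc σ B').hom := inferInstanceAs (LocallyOfFiniteType (pullback.snd B'.hom σ))
    haveI := (flat_surjective_bc u σ).1
    haveI := (flat_surjective_bc u σ).2
    have hpbσ := hpb.map (Over.pullback σ)
    haveI : Flat ((Over.pullback σ).map v).left :=
      MorphismProperty.of_isPullback (P := @Flat) (hpbσ.map (Over.forget _)) ‹_›
    haveI : Surjective ((Over.pullback σ).map v).left :=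
      MorphismProperty.of_isPullback (P := @Surjective) (hpbσ.map (Over.forget _)) ‹_›
    haveI : IsClosedImmersion ((Over.pullback σ).map b').left := by
      have hp : IsPullback (pullback.fst B'.hom σ) ((Over.pullback σ).map b').left b'.left (pullback.fst G'.hom σ) := by
        refine IsPullback.of_bot ?_ (by simp) (IsPullback.of_hasPullback G'.hom σ)
        rw [show b'.left ≫ G'.hom = B'.hom from Over.w b',
          show ((Over.pullback σ).map b').left ≫ pullback.snd G'.hom σ = pullback.snd B'.hom σ from Over.w _]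
        exact IsPullback.of_hasPullback B'.hom σ
      exact MorphismProperty.of_isPullback (P := @IsClosedImmersion) hp ‹_›
    exact isBorelOver_of_preimage ((Over.pullback σ).map u) (central_kernel_bc u hker σ) ((Over.pullback σ).map b)
      (hB s) ((Over.pullback σ).map b') ((Over.pullback σ).map v) hpbσ.w.symm
  exact ⟨B', str, b', v, ⟨inferInstance, inferInstance, smooth_of_geomFibres fun s => (hgeo s).2.2.1, inferInstance,
    hgeo⟩, inferInstance, hpb⟩

end Groth.Agent.GModLib
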