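import Groth.Agent.GModLib.CartanContained
import Groth.Agent.GModLib.CentralKernelRelative
import Groth.Agent.S3036
import Groth.Agent.S5324
import Groth.Agent.FlatMisc.Fibrewise

/-!
# Smooth subgroup schemes containing Cartan subgroups on the fibres
-/

set_option autoImplicit false
set_option backward.isDefEq.respectTransparency false
set_option backward.isDefEq.respectTransparency.types false

universe u

open CategoryTheory Limits AlgebraicGeometry MonoidalCategory CartesianMonoidalCategory MonObj GrpObj

namespace Groth.Agent.GModLib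

open GrpSchLib GrpFieldLib

/-- A monomorphism from a connected algebraic group is a closed immersion. -/
theorem isClosedImmersion_of_mono_connected {K : Type u} [Field K] {H G : Over (Spec (CommRingCat.of K))} [GrpObj H]
    [GrpObj G] [LocallyOfFiniteType H.hom] [LocallyOfFiniteType G.hom] [ConnectedSpace H.left] (i : H ⟶ G)
    [IsMonHom i] [Mono i] : IsClosedImmersion i.left := by
  haveI : Subsingleton ↥(Spec (CommRingCat.of K)) := inferInstanceAs (Subsingleton (PrimeSpectrum K))
  haveI : QuasiCompact H.hom := Groth.Agent.S5324.result _ H (fun s => inferInstance) fun s => by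
    rw [show H.hom.base ⁻¹' {s} = Set.univ from Set.eq_univ_of_forall fun x => Subsingleton.elim (H.hom.base x) s]
    exact isConnected_univ
  haveI : IsSeparated G.hom := AntiAffine.isSeparated_grp G
  haveI : QuasiCompact (i.left ≫ G.hom) := by rw [Over.w i]; infer_instance
  haveI : QuasiCompact i.left := QuasiCompact.of_comp i.left G.hom
  exact Groth.Agent.S3036.result K H G i

variable {S : Scheme.{u}}

/-- An open immersion on the geometric fibres from a flat source is an open immersion. -/
theorem isOpenImmersion_of_geomFibres {B N : Over S} [Flat B.hom] [LocallyOfFinitePresentation B.hom]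
    [LocallyOfFiniteType N.hom] (b : B ⟶ N)
    (h : ∀ s : S, IsOpenImmersion ((Over.pullback (Red.geomPt s)).map b).left) : IsOpenImmersion b.left := by
  have hcomp : b.left ≫ N.hom = B.hom := Over.w b
  haveI : LocallyOfFinitePresentation (b.left ≫ N.hom) := by rw [hcomp]; infer_instance
  haveI : Flat (b.left ≫ N.hom) := by rw [hcomp]; infer_instance
  refine FlatMisc.isOpenImmersion_of_fibres N.hom b.left fun s => ?_
  let σ := Red.geomPt s
  let φ : Spec (CommRingCat.of (AlgebraicClosure (S.residueField s))) ⟶ Spec (S.residueField s) :=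
    Spec.map (CommRingCat.ofHom (algebraMap (S.residueField s) (AlgebraicClosure (S.residueField s))))
  haveI : Surjective φ := surjective_spec_map_field _
  haveI : Flat φ := flat_spec_map_field _
  let q : pullback N.hom σ ⟶ N.hom.fiber s := pullback.lift (pullback.fst N.hom σ) (pullback.snd N.hom σ ≫ φ) (by
    rw [pullback.condition, Category.assoc])
  have hq : q ≫ N.hom.fiberι s = pullback.fst N.hom σ := pullback.lift_fst _ _ _
  have hqp : IsPullback q (pullback.snd N.hom σ) (N.hom.fiberToSpecResidueField s) φ := by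
    refine IsPullback.of_right ?_ (pullback.lift_snd _ _ _) (IsPullback.of_hasPullback N.hom (S.fromSpecResidueField s))
    rw [show q ≫ pullback.fst N.hom (S.fromSpecResidueField s) = pullback.fst N.hom σ from pullback.lift_fst _ _ _]
    exact IsPullback.of_hasPullback N.hom σ
  haveI : Surjective q := MorphismProperty.of_isPullback (P := @Surjective) hqp.flip ‹Surjective φ›
  haveI : Flat q := MorphismProperty.of_isPullback (P := @Flat) hqp.flip ‹Flat φ›
  haveI : QuasiCompact q := MorphismProperty.of_isPullback (P := @QuasiCompact) hqp.flip inferInstance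
  let bσ := (Over.pullback σ).map b
  haveI : IsOpenImmersion bσ.left := h s
  have hpb : IsPullback (pullback.fst B.hom σ) bσ.left b.left (pullback.fst N.hom σ) := by
    refine IsPullback.of_bot ?_ (by simp [bσ]) (IsPullback.of_hasPullback N.hom σ)
    rw [hcomp, show bσ.left ≫ pullback.snd N.hom σ = pullback.snd B.hom σ from Over.w bσ]
    exact IsPullback.of_hasPullback B.hom σ
  have hg : IsPullback (pullback.snd (pullback.snd b.left (N.hom.fiberι s)) q)
      (pullback.fst _ q ≫ pullback.fst _ _) (pullback.fst N.hom σ) b.left := by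
    have := (IsPullback.of_hasPullback (pullback.snd b.left (N.hom.fiberι s)) q).flip.paste_vert
      (IsPullback.of_hasPullback b.left (N.hom.fiberι s)).flip
    rwa [hq] at this
  haveI : IsOpenImmersion (pullback.snd (pullback.snd b.left (N.hom.fiberι s)) q) := by
    rw [← IsPullback.isoIsPullback_hom_fst _ _ hg hpb.flip]
    infer_instance
  exact MorphismProperty.of_pullback_snd_of_descendsAlong (P := @IsOpenImmersion)
    (Q := @Surjective ⊓ @Flat ⊓ @QuasiCompact) (g := q) ⟨⟨inferInstance, inferInstance⟩, inferInstance⟩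
    (inferInstanceAs (IsOpenImmersion (pullback.snd (pullback.snd b.left (N.hom.fiberι s)) q)))

variable {G H : Over S} [GrpObj G] [GrpObj H] [Smooth G.hom] [QuasiCompact G.hom] [Smooth H.hom]
  (i : H ⟶ G) [IsMonHom i] [Mono i] (hHconn : ∀ s : S, ConnectedSpace ↥(Red.geomFibre s H).left)
  (hHC : ∀ s : S, ∃ (C' : Over (Spec (CommRingCat.of (AlgebraicClosure (S.residueField s))))) (_ : GrpObj C')
    (c' : C' ⟶ Red.geomFibre s H), SGA3x.IsCartanOver _ (c' ≫ (Over.pullback (Red.geomPt s)).map i))

include hHconn hHC in
set_option maxHeartbeats 1000000 in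
/-- The subgroup is open in its normalizer. -/
theorem exists_normalizer_open :
    ∃ (N : Over S) (_ : GrpObj N) (n : N ⟶ G) (f : H ⟶ N), Red.IsNormalizerOf i n ∧ IsClosedImmersion n.left ∧
      LocallyOfFinitePresentation n.left ∧ f ≫ n = i ∧ IsOpenImmersion f.left := by
  have hneu : SGA3x.neutralSet H = Set.univ := Jet.neutralSet_eq_univ_of_connected H fun s => by
    let φ : Spec (CommRingCat.of (AlgebraicClosure (S.residueField s))) ⟶ Spec (S.residueField s) :=
      Spec.map (CommRingCat.ofHom (algebraMap (S.residueField s) (AlgebraicClosure (S.residueField s))))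
    haveI : Surjective φ := surjective_spec_map_field _
    haveI : ConnectedSpace ↥(pullback H.hom (Red.geomPt s)) := hHconn s
    let e := pullbackLeftPullbackSndIso H.hom (S.fromSpecResidueField s) φ
    haveI : ConnectedSpace ↥(pullback (pullback.snd H.hom (S.fromSpecResidueField s)) φ) :=
      e.inv.homeomorph.surjective.connectedSpace e.inv.homeomorph.continuous
    exact (pullback.fst (pullback.snd H.hom (S.fromSpecResidueField s)) φ).surjective.connectedSpace
      (Scheme.Hom.continuous _)
  obtain ⟨N, _, n, hn, hnc, hnf⟩ := Jet.exists_normalizer (i := i) hneu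
  haveI := hn.1; haveI := hn.2.1; haveI := hnc; haveI := hnf
  haveI : LocallyOfFiniteType N.hom := by rw [← Over.w n]; infer_instance
  obtain ⟨f, hf⟩ := (hn.2.2 H i).mpr fun X' x h =>
    ⟨⟨x * h * x⁻¹, by rw [MonObj.mul_comp, MonObj.mul_comp, GrpObj.inv_comp]⟩,
      ⟨x⁻¹ * h * x, by rw [MonObj.mul_comp, MonObj.mul_comp, GrpObj.inv_comp]⟩⟩
  refine ⟨N, inferInstance, n, f, hn, hnc, hnf, hf, isOpenImmersion_of_geomFibres f fun s => ?_⟩
  let σ := Red.geomPt s
  haveI : Smooth (Red.bc σ G).hom := inferInstanceAs (Smooth (pullback.snd G.hom σ))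
  haveI : QuasiCompact (Red.bc σ G).hom := inferInstanceAs (QuasiCompact (pullback.snd G.hom σ))
  haveI : Smooth (Red.bc σ H).hom := inferInstanceAs (Smooth (pullback.snd H.hom σ))
  haveI : ConnectedSpace (Red.bc σ H).left := hHconn s
  haveI : IsClosedImmersion ((Over.pullback σ).map i).left := isClosedImmersion_of_mono_connected _
  haveI : IsClosedImmersion ((Over.pullback σ).map n).left :=
    MorphismProperty.baseChange_map (P := @IsClosedImmersion) σ n hnc
  obtain ⟨C', _, c', hC'⟩ := hHC s
  exact openImmersion_normalizer_of_cartan ((Over.pullback σ).map i) c' hC' ((Over.pullback σ).map n)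
    (BC.isNormalizerOf_bc σ hn) ((Over.pullback σ).map f) (by rw [← Functor.map_comp, hf])

include hHconn hHC in
/-- The subgroup contains every central flat subgroup. -/
theorem exists_factor_central {Z : Over S} (z : Z ⟶ G)
    (hc : ∀ (X : Over S) (x : X ⟶ Z) (g : X ⟶ G), (x ≫ z) * g = g * (x ≫ z)) : ∃ f : Z ⟶ H, f ≫ i = z := by
  obtain ⟨N, _, n, f, hn, hnc, -, hf, hfo⟩ := exists_normalizer_open i hHconn hHC
  haveI := hfo; haveI := hnc; haveI := hn.1
  obtain ⟨l, hl⟩ := (hn.2.2 Z z).mpr fun X' x h =>
    ⟨⟨h, by rw [hc, mul_inv_cancel_right]⟩,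
      ⟨h, by rw [_root_.mul_assoc, ← hc, inv_mul_cancel_left]⟩⟩
  have hr : Set.range l.left ⊆ Set.range f.left := by
    rintro _ ⟨p, rfl⟩
    let s := Z.hom p
    let σ := Red.geomPt s
    obtain ⟨q, hq⟩ : ∃ q, (pullback.fst Z.hom σ) q = p := by
      obtain ⟨q, hq1, -⟩ := Scheme.Pullback.exists_preimage_pullback (f := Z.hom) (g := σ) p
        (IsLocalRing.closedPoint _) (Scheme.fromSpecResidueField_apply s _).symm
      exact ⟨q, hq1⟩
    obtain ⟨C', _, c', -, -, T, _, t, ht, hcC⟩ := hHC s
    let zσ := (Over.pullback σ).map z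
    obtain ⟨a, ha⟩ := (hcC.2.2 _ zσ).mpr fun X' x h => (DSPtsLib.theta_bijective σ).1 (by
      rw [DSPtsLib.theta_mul, DSPtsLib.theta_mul, BC.theta_map]
      exact hc _ _ _)
    have hlσ : (a ≫ c') ≫ (Over.pullback σ).map f = (Over.pullback σ).map l := by
      haveI : Mono n := Over.mono_of_mono_left n
      rw [← cancel_mono ((Over.pullback σ).map n), Category.assoc, ← Functor.map_comp, hf, Category.assoc, ha,
        ← Functor.map_comp, hl]
    refine ⟨(pullback.fst H.hom σ) ((a ≫ c').left q), ?_⟩
    have e := congrArg (fun m : Red.bc σ Z ⟶ Red.bc σ N => (m.left ≫ pullback.fst N.hom σ) q) hlσ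
    simp only [Over.comp_left, Category.assoc] at e
    rw [show ((Over.pullback σ).map f).left ≫ pullback.fst N.hom σ = pullback.fst H.hom σ ≫ f.left from
        pullback.lift_fst _ _ _,
      show ((Over.pullback σ).map l).left ≫ pullback.fst N.hom σ = pullback.fst Z.hom σ ≫ l.left from
        pullback.lift_fst _ _ _] at e
    simp only [Scheme.Hom.comp_apply] at e
    rw [Over.comp_left, Scheme.Hom.comp_apply]
    exact e.trans (congrArg _ hq)
  exact ⟨Over.homMk (IsOpenImmersion.lift f.left l.left hr) (by
      rw [← Over.w f, IsOpenImmersion.lift_fac_assoc, Over.w l]),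
    (show _ ≫ i = z by rw [← hf, ← hl, ← Category.assoc]; congr 1; exact Over.OverMorphism.ext (IsOpenImmersion.lift_fac _ _ _))⟩

end Groth.Agent.GModLib
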