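import Groth.Agent.GModLib.CartanBC
import Groth.Agent.GModLib.CartanContained
import Groth.Agent.GModLib.CartanContainedRel

/-!
# A maximal torus inside a Cartan subgroup has it as centralizer
-/

set_option autoImplicit false
set_option backward.isDefEq.respectTransparency false
set_option backward.isDefEq.respectTransparency.types false

universe u

open CategoryTheory Limits AlgebraicGeometry MonoidalCategory CartesianMonoidalCategory MonObj GrpObj

namespace Groth.Agent.GModLib

open GrpSchLib GrpFieldLib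

/-- Commuting maximal tori over an algebraically closed field are equal. -/
theorem maxTori_eq_of_commute {k : Type u} [Field k] [IsAlgClosed k] {G T₁ T₂ : Over (Spec (CommRingCat.of k))}
    [GrpObj G] [GrpObj T₁] [GrpObj T₂] [Smooth G.hom] [QuasiCompact G.hom] (i₁ : T₁ ⟶ G) (i₂ : T₂ ⟶ G)
    (h₁ : Red.IsMaximalTorus i₁) (h₂ : Red.IsMaximalTorus i₂)
    (hcomm : ∀ (X : Over (Spec (CommRingCat.of k))) (a : X ⟶ T₁) (b : X ⟶ T₂),
      (b ≫ i₂) * (a ≫ i₁) = (a ≫ i₁) * (b ≫ i₂)) :
    ∃ φ : T₂ ≅ T₁, φ.hom ≫ i₁ = i₂ := by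
  haveI : IsSeparated G.hom := AntiAffine.isSeparated_grp G
  obtain ⟨C, _, c, hc, -, -, i', hi', -, huniq⟩ := exists_centralizer_maxTorus i₁ h₁
  haveI := hc.1; haveI := hc.2.1; haveI := h₂.1; haveI := h₂.2.1
  obtain ⟨j, hj⟩ := (hc.2.2 T₂ i₂).mpr fun X' x t => hcomm X' t x
  haveI : IsMonHom (j ≫ c) := hj ▸ h₂.1
  haveI : IsMonHom j :=
    { one_hom := by rw [← cancel_mono c, Category.assoc, IsMonHom.one_hom (j ≫ c), IsMonHom.one_hom c]
      mul_hom := by
        rw [← cancel_mono c, Category.assoc, IsMonHom.mul_hom (j ≫ c), Category.assoc, IsMonHom.mul_hom c,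
          ← Category.assoc (_ ⊗ₘ _), MonoidalCategory.tensorHom_comp_tensorHom] }
  haveI : Mono (j ≫ c) := hj ▸ h₂.2.1
  haveI : Mono j := mono_of_mono j c
  obtain ⟨φ, hφ⟩ := huniq T₂ j ⟨inferInstance, inferInstance, h₂.2.2.1, fun s T'' _ j' _ _ f hT'' hf =>
    h₂.2.2.2 s T'' (j' ≫ (Over.pullback (Red.geomPt s)).map c) f hT''
      (by rw [← Category.assoc, hf, ← Functor.map_comp, hj])⟩
  exact ⟨φ, by rw [← hi', ← Category.assoc, hφ, hj]⟩

variable {S : Scheme.{u}}

set_option maxHeartbeats 1000000 in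
/-- A Cartan subgroup containing a maximal torus is its centralizer. -/
theorem isCentralizerOf_of_cartan {G C T : Over S} [GrpObj G] [GrpObj C] [GrpObj T] [Smooth G.hom]
    [IsSeparated G.hom] [QuasiCompact G.hom] (i : T ⟶ G) (c : C ⟶ G) (e : T ⟶ C) (he : e ≫ c = i)
    (hT : Red.IsMaximalTorus i) (hC : SGA3x.IsCartan c) : Red.IsCentralizerOf i c := by
  obtain ⟨him, himo, hTt, hTmax⟩ := id hT
  obtain ⟨hcm, hcmo, hCs, hfib⟩ := hC
  haveI := him; haveI := himo; haveI := hcm; haveI := hcmo; haveI := hCs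
  haveI := MultConjLib.smooth_of_isTorus hTt
  haveI : IsMonHom (e ≫ c) := he ▸ him
  haveI : IsMonHom e :=
    { one_hom := by rw [← cancel_mono c, Category.assoc, IsMonHom.one_hom (e ≫ c), IsMonHom.one_hom c]
      mul_hom := by
        rw [← cancel_mono c, Category.assoc, IsMonHom.mul_hom (e ≫ c), Category.assoc, IsMonHom.mul_hom c,
          ← Category.assoc (_ ⊗ₘ _), MonoidalCategory.tensorHom_comp_tensorHom] }
  have hD := MultConjLib.isLocDS_of_multTypeFT (RankOne.isMultTypeFT_of_isTorus hTt)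
  -- on every geometric fibre the torus is the central one
  have key : ∀ s : S, ∃ (T' : Over (Spec (CommRingCat.of (AlgebraicClosure (S.residueField s))))) (_ : GrpObj T')
      (i' : T' ⟶ Red.bc (Red.geomPt s) G), Red.IsCentralizerOf i' ((Over.pullback (Red.geomPt s)).map c) ∧
      ∃ φ : Red.bc (Red.geomPt s) T ≅ T', φ.hom ≫ i' = (Over.pullback (Red.geomPt s)).map i := by
    intro s
    let σ := Red.geomPt s
    obtain ⟨-, -, T', _, i', hi', hcC⟩ := hfib s
    haveI : Smooth (Red.bc σ G).hom := inferInstanceAs (Smooth (pullback.snd G.hom σ))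
    haveI : QuasiCompact (Red.bc σ G).hom := inferInstanceAs (QuasiCompact (pullback.snd G.hom σ))
    have hmax : Red.IsMaximalTorus ((Over.pullback σ).map i) := isMaximalTorus_of_isMaxTorus
      ⟨inferInstance, inferInstance, isTorus_bc σ hTt, fun T'' _ j _ _ f hT'' hf => hTmax s T'' j f hT'' hf⟩
    obtain ⟨φ, hφ⟩ := maxTori_eq_of_commute i' ((Over.pullback σ).map i) hi' hmax fun X a b => by
      have h := (hcC.2.2 X (b ≫ (Over.pullback σ).map i)).mp
        ⟨b ≫ (Over.pullback σ).map e, by rw [Category.assoc, ← Functor.map_comp, he]⟩ X (𝟙 X) a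
      rwa [Category.id_comp] at h
    exact ⟨T', inferInstance, i', hcC, φ, hφ⟩
  -- the torus is central
  obtain ⟨Z, _, z, hz, hzc, hzf⟩ := GrpFieldLib.Jet.exists_centralizer e (MultConjLib.neutralSet_eq_univ_of_isTorus hTt)
  haveI := hz.1; haveI := hz.2.1; haveI := hzc; haveI := hzf
  haveI : Smooth Z.hom := (Groth.Agent.S1488.result Z.hom).mpr ⟨by
      rw [← Over.w z]
      exact locallyOfFinitePresentation_comp z.left C.hom,
    MultConjLib.isFormallySmoothHom_transporter hD ‹_› e e z fun X g => (hz.2.2 X g).trans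
      (forall₃_congr fun X' x h => mul_inv_eq_iff_eq_mul.symm)⟩
  haveI : IsIso z := isIso_of_geomFibres z fun s => by
    let σ := Red.geomPt s
    obtain ⟨T', _, i', hcC, φ, hφ⟩ := key s
    obtain ⟨w, hw⟩ := ((BC.isCentralizerOf_bc σ hz).2.2 _ (𝟙 _)).mpr fun X' x t => by
      have h := (hcC.2.2 X' (x ≫ (Over.pullback σ).map c)).mp ⟨x, rfl⟩ X' (𝟙 X') (t ≫ φ.hom)
      rw [Category.id_comp, Category.assoc, hφ, ← he, Functor.map_comp, ← Category.assoc, ← MonObj.mul_comp,
        ← MonObj.mul_comp, cancel_mono] at h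
      rw [Category.comp_id]
      exact h
    haveI : IsIso ((Over.pullback σ).map z) :=
      ⟨w, (cancel_mono ((Over.pullback σ).map z)).mp (by rw [Category.assoc, hw, Category.comp_id, Category.id_comp]), hw⟩
    exact inferInstanceAs (IsIso ((Over.forget _).map ((Over.pullback σ).map z)))
  have hcentral : ∀ (X : Over S) (x : X ⟶ C) (t : X ⟶ T), x * (t ≫ e) = (t ≫ e) * x := fun X x t => by
    have h := (hz.2.2 X x).mp ⟨x ≫ inv z, by simp⟩ X (𝟙 X) t
    rwa [Category.id_comp] at h
  -- compare with the centralizer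
  obtain ⟨D, _, d, hd, hdc, hdC, -⟩ := exists_centralizer_maxTorus i hT
  haveI := hd.1; haveI := hd.2.1; haveI := hdc; haveI := hdC.2.2.1
  obtain ⟨f, hf⟩ := (hd.2.2 C c).mpr fun X' x t => by
    rw [← he, ← Category.assoc, ← MonObj.mul_comp, ← MonObj.mul_comp, hcentral]
  haveI : IsIso f := isIso_of_geomFibres f fun s => by
    let σ := Red.geomPt s
    obtain ⟨T', _, i', hcC, φ, hφ⟩ := key s
    obtain ⟨w, hw⟩ := (hcC.2.2 _ ((Over.pullback σ).map d)).mpr fun X' x t' => by
      have h := ((BC.isCentralizerOf_bc σ hd).2.2 X' (x ≫ (Over.pullback σ).map d)).mp ⟨x, rfl⟩ X' (𝟙 X') (t' ≫ φ.inv)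
      rwa [Category.id_comp, Category.assoc, ← hφ, φ.inv_hom_id_assoc] at h
    have hfc : (Over.pullback σ).map f ≫ (Over.pullback σ).map d = (Over.pullback σ).map c := by
      rw [← Functor.map_comp, hf]
    haveI : IsIso ((Over.pullback σ).map f) :=
      ⟨w, (cancel_mono ((Over.pullback σ).map c)).mp (by rw [Category.assoc, hw, hfc, Category.id_comp]),
        (cancel_mono ((Over.pullback σ).map d)).mp (by rw [Category.assoc, hfc, hw, Category.id_comp])⟩
    exact inferInstanceAs (IsIso ((Over.forget _).map ((Over.pullback σ).map f)))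
  refine ⟨inferInstance, inferInstance, fun X g => ⟨fun ⟨y, hy⟩ => (hd.2.2 X g).mp ⟨y ≫ f, by rw [Category.assoc, hf, hy]⟩,
    fun h => ?_⟩⟩
  obtain ⟨y, hy⟩ := (hd.2.2 X g).mpr h
  exact ⟨y ≫ inv f, by rw [Category.assoc, ← hf, IsIso.inv_hom_id_assoc, hy]⟩

end Groth.Agent.GModLib
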