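import Groth.Agent.GModLib.ConjDense

/-!
# A connected group is the union of the conjugates of a Borel subgroup
-/

set_option autoImplicit false
set_option backward.isDefEq.respectTransparency false
set_option backward.isDefEq.respectTransparency.types false

universe u

open CategoryTheory Limits AlgebraicGeometry MonoidalCategory CartesianMonoidalCategory MonObj GrpObj

namespace Groth.Agent.GModLib

open GrpSchLib GrpSchLib.Kunneth GrpFieldLib

variable {k : Type u} [Field k] [IsAlgClosed k]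
variable {G : Over (Spec (CommRingCat.of k))} [GrpObj G] [IsAffine G.left] [Smooth G.hom] [ConnectedSpace G.left]

/-- A maximal torus exists. -/
theorem exists_maxTorus (G : Over (Spec (CommRingCat.of k))) [GrpObj G] [IsAffine G.left] [Smooth G.hom]
    [ConnectedSpace G.left] :
    ∃ (T : Over (Spec (CommRingCat.of k))) (_ : GrpObj T) (iT : T ⟶ G), AGF.IsMaxTorus iT := by
  obtain ⟨B, _, iB, hB, -⟩ := exists_borel (G := G)
  obtain ⟨hBm, hBcl, hBsm, hBconn, hBsol, -⟩ := id hB
  haveI := hBm; haveI := hBcl; haveI := hBsm; haveI := hBconn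
  haveI : IsAffine B.left := isAffine_of_isAffineHom iB.left
  haveI : Mono iB := Over.mono_of_mono_left iB
  obtain ⟨T₀, _, iT₀, hm, hcl, hT₀, hconj⟩ := exists_torus_conj_solvable hBsol
  haveI := hm; haveI := hcl
  haveI : Mono iT₀ := Over.mono_of_mono_left iT₀
  refine ⟨T₀, inferInstance, iT₀ ≫ iB, inferInstance, inferInstance, hT₀, fun T' _ j _ _ f hT' hf => ?_⟩
  obtain ⟨g, h, hh⟩ := exists_torus_into_borel iB hB hT' j
  haveI : IsMonHom (h ≫ iB) := hh ▸ inferInstance
  haveI : IsMonHom h := isMonHom_of_comp h iB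
  obtain ⟨x, e, he⟩ := hconj T' h hT'
  have hee : e ≫ iT₀ ≫ iB = j ≫ inner ((x ≫ iB) * g) := by
    rw [← Category.assoc, he, Category.assoc, inner_comp, ← Category.assoc, hh, Category.assoc, inner_inner]
  obtain ⟨h1, h2, h3, -, -⟩ := TorusBasic.torus_props hT₀
  haveI := h1; haveI := h2; haveI := h3
  haveI : IsReduced T₀.left := GrpSchLib.isReduced_of_smooth_field T₀.hom
  haveI : IsClosedImmersion (iT₀ ≫ iB).left := by rw [Over.comp_left]; infer_instance
  haveI : IsIso (f ≫ e) := isIso_of_comp_inner (iT₀ ≫ iB) ((x ≫ iB) * g)⁻¹ (f ≫ e) (by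
    rw [Category.assoc, ← Category.assoc e, hee, Category.assoc, inner_inner, inv_mul_cancel, inner_one,
      Category.comp_id, hf])
  haveI : Mono (e ≫ iT₀ ≫ iB) := hee ▸ inferInstance
  haveI : Mono e := mono_of_mono e (iT₀ ≫ iB)
  haveI : IsSplitEpi e := IsSplitEpi.mk' ⟨inv (f ≫ e) ≫ f, by rw [Category.assoc, IsIso.inv_hom_id]⟩
  haveI : IsIso e := isIso_of_mono_of_isSplitEpi e
  exact IsIso.of_isIso_comp_right f e

set_option maxHeartbeats 1000000 in
/-- Every rational point is conjugate into a given Borel subgroup. -/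
theorem exists_conj_mem_borel {B : Over (Spec (CommRingCat.of k))} [GrpObj B] (iB : B ⟶ G)
    (hB : Red.IsBorelOver k iB) (g : VecGrp.pt k k ⟶ G) :
    ∃ (x : VecGrp.pt k k ⟶ G) (b : VecGrp.pt k k ⟶ B), x * (b ≫ iB) * x⁻¹ = g := by
  obtain ⟨hBm, hBcl, hBsm, hBconn, hBsol, -⟩ := id hB
  haveI := hBm; haveI := hBcl; haveI := hBsm; haveI := hBconn
  obtain ⟨T, _, iT, hT⟩ := exists_maxTorus G
  haveI := hT.1
  obtain ⟨C, _, hCa, hCs, hCc, iC, hiC, d, M, hM, iS, hcl, hCsol, hS, hfull, hcomm, -, hR, -⟩ := exists_cartan iT hT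
  haveI := hiC; haveI := hcl
  obtain ⟨U, hU, hUx⟩ := exists_open_conj_cartan iT hT.2.2.1 iC hM iS hS hfull hcomm hR
  obtain ⟨g₀, h, hh⟩ := exists_conj_factor iB (borel_cocompact iB hB) iC hCsol
  obtain ⟨X, a, o, hX, hXp⟩ := borel_cocompact iB hB
  haveI := hXp; haveI := hX.1; haveI := hX.2.2.1
  let π := a.orbitMap o
  haveI : LocallyOfFiniteType (π.left ≫ X.hom) := by rw [Over.w π]; infer_instance
  haveI : LocallyOfFiniteType π.left := locallyOfFiniteType_of_comp π.left X.hom
  haveI : Surjective π.left := hX.2.2.1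
  haveI : X.left.IsSeparated := by
    haveI : IsSeparated X.hom := inferInstance
    exact ⟨by rw [Limits.terminal.hom_ext (terminal.from X.left) (X.hom ≫ terminal.from _)]; infer_instance⟩
  -- the closed set of pairs with a fixed point
  let ι₀ := equalizer.ι a.act.left (snd G X).left
  let W : Over (Spec (CommRingCat.of k)) := Over.mk (ι₀ ≫ (G ⊗ X).hom)
  let w : W ⟶ G ⊗ X := Over.homMk ι₀ rfl
  let f : W ⟶ G := w ≫ fst G X
  haveI : IsClosedImmersion w.left := inferInstanceAs (IsClosedImmersion ι₀)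
  haveI : LocallyOfFiniteType (G ⊗ X).hom :=
    inferInstanceAs (LocallyOfFiniteType (pullback.fst G.hom X.hom ≫ G.hom))
  haveI : LocallyOfFiniteType W.hom := inferInstanceAs (LocallyOfFiniteType (ι₀ ≫ (G ⊗ X).hom))
  have hcl' : IsClosed (Set.range f.left) := by
    haveI : UniversallyClosed X.hom := inferInstance
    haveI : UniversallyClosed (fst G X).left := inferInstanceAs (UniversallyClosed (pullback.fst G.hom X.hom))
    haveI : UniversallyClosed f.left := by
      rw [show f.left = w.left ≫ (fst G X).left from rfl]; infer_instance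
    exact f.left.isClosedMap.isClosed_range
  have hw : w ≫ a.act = w ≫ snd G X := Over.OverMorphism.ext (equalizer.condition a.act.left (snd G X).left)
  have hfac : ∀ p : VecGrp.pt k k ⟶ G ⊗ X, p ≫ a.act = p ≫ snd G X → ∃ q : VecGrp.pt k k ⟶ W, q ≫ w = p :=
    fun p hp => ⟨Over.homMk (equalizer.lift p.left (congrArg CommaMorphism.left hp)) (by
      show equalizer.lift _ _ ≫ ι₀ ≫ (G ⊗ X).hom = _
      rw [← Category.assoc, equalizer.lift_ι, Over.w]), Over.OverMorphism.ext (equalizer.lift_ι _ _)⟩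
  have hUf : ∀ x : VecGrp.pt k k ⟶ G, x.left (IsLocalRing.closedPoint k) ∈ U →
      x.left (IsLocalRing.closedPoint k) ∈ Set.range f.left := fun x hx => by
    obtain ⟨y, c, hyc⟩ := hUx x hx
    set y' := y * (toUnit (VecGrp.pt k k) ≫ g₀) with hy'
    have hfix : (x * y') ≫ π = y' ≫ π := by
      refine ((QuotTower.orbit_eq_iff iB X a o hX y' (x * y')).mpr ⟨c ≫ h, ?_⟩).symm
      rw [← hyc, hh, hy', Category.assoc, ← Category.assoc h iB, ← Category.assoc c (h ≫ iB), comp_inner,
        ← Category.assoc c h iB]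
      group
    rw [comp_orbitMap, ← act_mul, ← comp_orbitMap] at hfix
    obtain ⟨q, hq⟩ := hfac (lift x (y' ≫ π)) (by rw [hfix, lift_snd])
    refine ⟨q.left (IsLocalRing.closedPoint k), ?_⟩
    rw [← Scheme.Hom.comp_apply, ← Over.comp_left, ← Category.assoc, hq, lift_fst]
  -- it is everything
  have huniv : Set.range f.left = Set.univ := by
    haveI : IrreducibleSpace G.left := GrpFieldLib.SmoothDense.irreducibleSpace_of_connected G.hom
    by_contra hne
    obtain ⟨z, hz⟩ := (Set.ne_univ_iff_exists_notMem _).mp hne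
    obtain ⟨x, hx⟩ := exists_point_mem (D := G) (U := (U : Set G.left) ∩ (Set.range f.left)ᶜ)
      (U.2.inter hcl'.isOpen_compl) (nonempty_preirreducible_inter U.2 hcl'.isOpen_compl hU ⟨z, hz⟩)
    exact hx.2 (hUf x hx.1)
  obtain ⟨q, hq⟩ := exists_point_of_mem_range f g (huniv ▸ Set.mem_univ _)
  obtain ⟨g', hg'⟩ := exists_point_lift (K := k) π (q ≫ w ≫ snd G X)
  obtain ⟨j, hj⟩ := (QuotTower.orbit_eq_iff iB X a o hX g' (g * g')).mp (by
    rw [comp_orbitMap (g := g * g'), ← act_mul, ← comp_orbitMap, hg', ← hq,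
      show lift (q ≫ w ≫ fst G X) (q ≫ w ≫ snd G X) = q ≫ w by
        apply CartesianMonoidalCategory.hom_ext <;> simp,
      Category.assoc, hw])
  exact ⟨g', j, by rw [hj, mul_inv_cancel_right]⟩

end Groth.Agent.GModLib
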