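import Groth.Agent.GModLib.GrassAct
import Groth.Agent.GModLib.SolvableEigen

/-!
# A connected group whose points are not solvable acts on a proper scheme without fixed point
-/

set_option autoImplicit false
set_option backward.isDefEq.respectTransparency false
set_option backward.isDefEq.respectTransparency.types false

universe u

open CategoryTheory Limits AlgebraicGeometry MonoidalCategory CartesianMonoidalCategory MonObj GrpObj TensorProduct

namespace Groth.Agent.GModLib

open GrpSchLib GrpSchLib.Kunneth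

variable {k : Type u} [Field k] [IsAlgClosed k] {G : Over (Spec (CommRingCat.of k))} [GrpObj G] [IsAffine G.left]
  [Smooth G.hom]

/-- A representation by regular functions is given by a matrix. -/
theorem exists_isRepMatrix [ConnectedSpace G.left] {V : Type u} [AddCommGroup V] [Module k V] {d : ℕ}
    (b : Module.Basis (Fin d) k V) (ρ : (VecGrp.pt k k ⟶ G) →* Module.End k V)
    (hρ : (regSystem (G := G)).Reg ρ) :
    ∃ M : Matrix (Fin d) (Fin d) (Fn G), IsRepMatrix M ∧ ∀ g, M.map (pullFn g) = LinearMap.toMatrix b b (ρ g) := by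
  choose a ha using fun i j => hρ (b.coord i) (b j)
  have hM : ∀ g, (Matrix.of a).map (pullFn g) = LinearMap.toMatrix b b (ρ g) := fun g =>
    Matrix.ext fun i j => by
      rw [Matrix.map_apply, Matrix.of_apply, LinearMap.toMatrix_apply, ← ha]
      rfl
  haveI : IsReduced G.left := GrpSchLib.isReduced_of_smooth_field G.hom
  haveI : Smooth (G ⊗ G).hom := inferInstanceAs (Smooth (pullback.fst G.hom G.hom ≫ G.hom))
  haveI : IsReduced (G ⊗ G).left := GrpSchLib.isReduced_of_smooth_field (G ⊗ G).hom
  have hU : (Matrix.of a).map (ev (fst G G * snd G G)) =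
      (Matrix.of a).map (ev (fst G G)) * (Matrix.of a).map (ev (snd G G)) := by
    refine Matrix.ext fun i j => eq_of_forall_point fun p => ?_
    have e := congrFun (congrFun ((hM _).trans (((congrArg (LinearMap.toMatrix b b) (map_mul ρ (p ≫ fst G G) (p ≫ snd G G))).trans
      (LinearMap.toMatrix_mul b _ _)).trans (by rw [← hM, ← hM]))) i) j
    simp only [Matrix.map_apply, Matrix.of_apply, Matrix.mul_apply, map_sum, map_mul, pullFn_ev, MonObj.comp_mul] at e ⊢
    exact e
  have h1 : (Matrix.of a).map (ev (1 : 𝟙_ (Over (Spec (CommRingCat.of k))) ⟶ G)) = 1 := by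
    refine Matrix.ext fun i j => ?_
    obtain ⟨r, hr⟩ := fn_unit_const ((Matrix.of a).map (ev (1 : 𝟙_ _ ⟶ G)) i j)
    have e := congrFun (congrFun ((hM (toPt _ ≫ toUnit _ ≫ 1)).trans (by
      rw [MonObj.comp_one, MonObj.comp_one, map_one, LinearMap.toMatrix_one])) i) j
    have e' : pullFn (toUnit (VecGrp.pt k k) ≫ (1 : 𝟙_ _ ⟶ G)) (a i j) = (1 : Matrix (Fin d) (Fin d) k) i j := by
      rw [← e, Matrix.map_apply, Matrix.of_apply]
      simp only [MonObj.comp_one]
    rw [← pullFn_ev] at e'
    rw [← hr]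
    simp only [Matrix.map_apply, Matrix.of_apply] at hr
    rw [← hr, AlgHom.commutes] at e'
    rw [Algebra.algebraMap_self, RingHom.id_apply] at e'
    rw [e', Matrix.one_apply, Matrix.one_apply]
    split_ifs <;> simp
  refine ⟨Matrix.of a, ⟨fun T g h => ?_, fun T => ?_⟩, hM⟩
  · have e := congrArg (fun N : Matrix (Fin d) (Fin d) (Fn (G ⊗ G)) => (ev (lift g h)).toRingHom.mapMatrix N) hU
    simp only [map_mul, AlgHom.toRingHom_eq_coe, RingHom.mapMatrix_apply, Matrix.map_map, RingHom.coe_coe,
      Function.comp_def, ev_ev, MonObj.comp_mul, lift_fst, lift_snd] at e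
    exact e
  · have e := congrArg (fun N : Matrix (Fin d) (Fin d) (Fn (𝟙_ (Over (Spec (CommRingCat.of k))))) =>
      (ev (toUnit T)).toRingHom.mapMatrix N) h1
    simp only [map_one, AlgHom.toRingHom_eq_coe, RingHom.mapMatrix_apply, Matrix.map_map, RingHom.coe_coe,
      Function.comp_def, ev_ev, MonObj.comp_one] at e
    exact e

/-- If every representation has a common row eigenvector then derived subgroups act trivially. -/
theorem exists_derived_trivial [ConnectedSpace G.left]
    (hE : ∀ (d : ℕ) (M : Matrix (Fin d) (Fin d) (Fn G)), IsRepMatrix M → 0 < d →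
      ∃ c : Fin d → k, c ≠ 0 ∧ ∀ g : VecGrp.pt k k ⟶ G, ∃ χ : k, Matrix.vecMul c (M.map (pullFn g)) = χ • c) (d : ℕ) :
    ∀ (V : Type u) [AddCommGroup V] [Module k V] [Module.Finite k V], Module.finrank k V = d →
      ∀ ρ : (VecGrp.pt k k ⟶ G) →* Module.End k V, (regSystem (G := G)).Reg ρ →
        ∃ n, ∀ g ∈ derivedSeries (VecGrp.pt k k ⟶ G) n, ρ g = 1 := by
  induction d using Nat.strong_induction_on with
  | _ d ih =>
    intro V _ _ _ hd ρ hρ
    rcases Nat.eq_zero_or_pos d with rfl | hpos
    · haveI := Module.finrank_zero_iff.mp hd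
      exact ⟨0, fun g _ => LinearMap.ext fun v => Subsingleton.elim _ _⟩
    let b := Module.finBasisOfFinrankEq k V hd
    obtain ⟨M, hM, hMρ⟩ := exists_isRepMatrix b ρ hρ
    obtain ⟨c, hc0, hc⟩ := hE d M hM hpos
    let φ : V →ₗ[k] k := b.constr k c
    have hφb : ∀ j, φ (b j) = c j := fun j => b.constr_basis k c j
    have hφne : φ ≠ 0 := fun h => hc0 (funext fun j => by rw [← hφb, h]; rfl)
    choose χ hχ using hc
    have hφρ : ∀ g v, φ (ρ g v) = χ g * φ v := fun g v => by
      have : φ ∘ₗ ρ g = χ g • φ := b.ext fun j => by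
        have e := congrFun (hχ g) j
        rw [hMρ] at e
        rw [LinearMap.comp_apply, LinearMap.smul_apply, hφb]
        rw [← b.sum_repr (ρ g (b j)), map_sum]
        simp only [map_smul, hφb]
        rw [← Pi.smul_apply, ← e]
        simp only [Matrix.vecMul, dotProduct, LinearMap.toMatrix_apply, smul_eq_mul]
        exact Finset.sum_congr rfl fun i _ => mul_comm _ _
      exact LinearMap.congr_fun this v
    obtain ⟨v₀, hv₀⟩ : ∃ v, φ v = 1 := by
      obtain ⟨v, hv⟩ := DFunLike.ne_iff.mp hφne
      rw [LinearMap.zero_apply] at hv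
      exact ⟨(φ v)⁻¹ • v, by simp [hv]⟩
    have hχe : ∀ g, χ g = φ (ρ g v₀) := fun g => by rw [hφρ, hv₀, _root_.mul_one]
    let χh : (VecGrp.pt k k ⟶ G) →* k :=
      { toFun := χ
        map_one' := by rw [hχe, map_one]; exact hv₀
        map_mul' := fun g h => by rw [hχe (g * h), map_mul, Module.End.mul_apply, hφρ, ← hχe] }
    let W := LinearMap.ker φ
    have hW : ∀ g, ∀ w ∈ W, ρ g w ∈ W := fun g w hw => by
      rw [LinearMap.mem_ker] at hw ⊢
      rw [hφρ, hw, MulZeroClass.mul_zero]
    let ρ' : (VecGrp.pt k k ⟶ G) →* Module.End k W :=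
      { toFun := fun g => (ρ g).restrict (hW g)
        map_one' := LinearMap.ext fun w => Subtype.ext (by simp)
        map_mul' := fun g h => LinearMap.ext fun w => Subtype.ext (by simp) }
    have hρ' : (regSystem (G := G)).Reg ρ' := fun ψ w => by
      obtain ⟨ψ', hψ'⟩ := LinearMap.exists_extend ψ
      have e : (fun g => ψ (ρ' g w)) = fun g => ψ' (ρ g w.1) :=
        funext fun g => (LinearMap.congr_fun hψ' (ρ' g w)).symm
      rw [e]
      exact hρ ψ' w.1
    have hlt : Module.finrank k W < d := by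
      rw [← hd]
      exact Submodule.finrank_lt fun h => hφne (LinearMap.ker_eq_top.mp h)
    obtain ⟨m, hm⟩ := ih _ hlt W rfl ρ' hρ'
    refine ⟨m + 2, fun g hg => ?_⟩
    have hfix : ∀ g ∈ derivedSeries (VecGrp.pt k k ⟶ G) m, ∀ w ∈ W, ρ g w = w := fun g hg w hw =>
      congrArg Subtype.val (LinearMap.congr_fun (hm g hg) ⟨w, hw⟩)
    have hχ1 : ∀ g ∈ derivedSeries (VecGrp.pt k k ⟶ G) (m + 1), χ g = 1 := fun g hg => by
      have h1 : g ∈ (χh.toHomUnits).ker :=
        Abelianization.commutator_subset_ker _ (derivedSeries_antitone (VecGrp.pt k k ⟶ G) (Nat.le_add_left 1 m) hg |>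
          fun h => by rwa [derivedSeries_one] at h)
      exact congrArg Units.val h1
    have hdiff : ∀ g ∈ derivedSeries (VecGrp.pt k k ⟶ G) (m + 1), ∀ v, ρ g v - v ∈ W := fun g hg v => by
      rw [LinearMap.mem_ker, map_sub, hφρ, hχ1 g hg, _root_.one_mul, sub_self]
    have hcomm : ∀ g ∈ derivedSeries (VecGrp.pt k k ⟶ G) (m + 1),
        ∀ h ∈ derivedSeries (VecGrp.pt k k ⟶ G) (m + 1), ρ g * ρ h = ρ h * ρ g := fun g hg h hh =>
      LinearMap.ext fun v => by
        have h1 := hfix g (derivedSeries_antitone _ (Nat.le_succ m) hg) _ (hdiff h hh v)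
        have h2 := hfix h (derivedSeries_antitone _ (Nat.le_succ m) hh) _ (hdiff g hg v)
        rw [map_sub] at h1 h2
        rw [Module.End.mul_apply, Module.End.mul_apply, sub_eq_iff_eq_add.mp h1, sub_eq_iff_eq_add.mp h2]
        abel
    have hle : derivedSeries (VecGrp.pt k k ⟶ G) (m + 2) ≤ (ρ.toHomUnits).ker := by
      rw [derivedSeries_succ, Subgroup.commutator_le]
      intro g hg h hh
      rw [MonoidHom.mem_ker, map_commutatorElement, commutatorElement_eq_one_iff_mul_comm]
      exact Units.ext (hcomm g hg h hh)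
    exact congrArg Units.val (hle hg)

/-- If every representation has a common row eigenvector then the group of points is solvable. -/
theorem derivedSeries_eq_bot_of_eigen [ConnectedSpace G.left]
    (hE : ∀ (d : ℕ) (M : Matrix (Fin d) (Fin d) (Fn G)), IsRepMatrix M → 0 < d →
      ∃ c : Fin d → k, c ≠ 0 ∧ ∀ g : VecGrp.pt k k ⟶ G, ∃ χ : k, Matrix.vecMul c (M.map (pullFn g)) = χ • c) :
    ∃ n, derivedSeries (VecGrp.pt k k ⟶ G) n = ⊥ := by
  classical
  haveI : IsAffineHom G.hom := inferInstance
  haveI := finiteType_fn (k := k) (G := G)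
  obtain ⟨s, hs⟩ := Algebra.FiniteType.out (R := k) (A := Fn G)
  have key : ∀ f : Fn G, ∃ n, ∀ g ∈ derivedSeries (VecGrp.pt k k ⟶ G) n, pullFn g f = pullFn (1 : VecGrp.pt k k ⟶ G) f := by
    intro f
    obtain ⟨d, M, w, cv, hM, -, hcv, hw⟩ := exists_matrix_vec (G := G) f
    let ρ : (VecGrp.pt k k ⟶ G) →* Module.End k (Fin d → k) :=
      { toFun := fun g => Matrix.toLin' (M.map (pullFn g))
        map_one' := by
          rw [show M.map (pullFn (1 : VecGrp.pt k k ⟶ G)) = 1 from GrassAct.map_pullFn_one hM (CommAlgCat.of k k),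
            Matrix.toLin'_one]
          rfl
        map_mul' := fun g h => by
          rw [show M.map (pullFn (g * h)) = M.map (pullFn g) * M.map (pullFn h) from
            GrassAct.map_pullFn_mul hM (A := CommAlgCat.of k k) g h, Matrix.toLin'_mul]
          rfl }
    have hρ : (regSystem (G := G)).Reg ρ := fun φ v =>
      ⟨∑ i, φ (Pi.single i 1) • ∑ j, v j • M i j, fun g => by
        show φ (Matrix.toLin' (M.map (pullFn g)) v) = _
        conv_lhs => rw [pi_eq_sum_univ' (Matrix.toLin' (M.map (pullFn g)) v)]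
        simp only [map_sum, map_smul, Matrix.toLin'_apply, Matrix.mulVec, dotProduct, Matrix.map_apply, smul_eq_mul]
        refine Finset.sum_congr rfl fun i _ => ?_
        rw [mul_comm]
        congr 1
        exact Finset.sum_congr rfl fun j _ => mul_comm _ _⟩
    obtain ⟨n, hn⟩ := exists_derived_trivial hE d (Fin d → k) (Module.finrank_fin_fun k) ρ hρ
    refine ⟨n, fun g hg => ?_⟩
    have hMg : M.map (pullFn g) = 1 := Matrix.toLin'.injective ((hn g hg).trans Matrix.toLin'_one.symm)
    have hwg : ∀ j, pullFn g (w j) = pullFn (1 : VecGrp.pt k k ⟶ G) (w j) := fun j => by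
      have h := congrArg (Scheme.ΓSpecIso (CommRingCat.of k)).hom (hw _ 1 g j)
      rw [_root_.one_mul, map_sum] at h
      simp only [map_mul] at h
      have h' : pullFn g (w j) = ∑ i, pullFn (1 : VecGrp.pt k k ⟶ G) (w i) * pullFn g (M i j) := h
      rw [h', Finset.sum_eq_single j (fun i _ hij => by
        rw [show pullFn g (M i j) = (1 : Matrix (Fin d) (Fin d) k) i j from congrFun (congrFun hMg i) j,
          Matrix.one_apply_ne hij, MulZeroClass.mul_zero]) (by simp),
        show pullFn g (M j j) = (1 : Matrix (Fin d) (Fin d) k) j j from congrFun (congrFun hMg j) j,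
        Matrix.one_apply_eq, _root_.mul_one]
    rw [← hcv, map_sum, map_sum]
    exact Finset.sum_congr rfl fun j _ => by rw [map_smul, map_smul, hwg]
  choose n hn using key
  refine ⟨s.sup n, (Subgroup.eq_bot_iff_forall _).mpr fun g hg => ?_⟩
  have h : pullFn g = pullFn (1 : VecGrp.pt k k ⟶ G) := AlgHom.ext_of_adjoin_eq_top hs fun f hf =>
    hn f g (derivedSeries_antitone _ (Finset.le_sup hf) hg)
  refine Over.OverMorphism.ext (ext_of_isAffine ?_)
  ext f
  apply (Scheme.ΓSpecIso (CommRingCat.of k)).commRingCatIsoToRingEquiv.injective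
  exact AlgHom.congr_fun h f

/-- A connected group whose points are not solvable acts on a proper scheme without fixed point. -/
theorem exists_action_noFixed [ConnectedSpace G.left]
    (hns : ¬ ∃ n, derivedSeries (VecGrp.pt k k ⟶ G) n = ⊥) :
    ∃ (X : Over (Spec (CommRingCat.of k))) (a : AlgGrp.Action G X), IsProper X.hom ∧ Nonempty X.left ∧
      ∀ x, ¬ a.IsFixedPt x := by
  by_contra h
  push_neg at h
  refine hns (derivedSeries_eq_bot_of_eigen fun d M hM hd => ?_)
  obtain ⟨X, a, hp, hne, hfix⟩ := GrassAct.exists_hyperplanes hM hd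
  obtain ⟨x, hx⟩ := h X a hp hne
  exact hfix x hx

end Groth.Agent.GModLib
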