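import Groth.Agent.GModLib.CartanNormalizer
import Groth.Agent.GModLib.ConjBorel
import Groth.Agent.GModLib.SolvableCriterion
import Groth.Agent.S5255
import Mathlib.GroupTheory.Nilpotent

/-!
# Nilpotent connected groups and central tori
-/

set_option autoImplicit false
set_option backward.isDefEq.respectTransparency false
set_option backward.isDefEq.respectTransparency.types false

universe u

open CategoryTheory Limits AlgebraicGeometry MonoidalCategory CartesianMonoidalCategory MonObj GrpObj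

namespace Groth.Agent.GModLib

open GrpSchLib GrpSchLib.Kunneth

variable {k : Type u} [Field k] [IsAlgClosed k]

section Matrices

variable {d r : ℕ}

omit [IsAlgClosed k] in
/-- A commutator with a unipotent triangular matrix lowers the level. -/
theorem lev_comm {X Y Xi Yi : Matrix (Fin d) (Fin d) k} (hX : Lev r X) (hY : Lev 1 Y) (h1 : X * Xi = 1)
    (h2 : Y * Yi = 1) (hXi : ∀ i j, j < i → Xi i j = 0) (hYi : ∀ i j, j < i → Yi i j = 0) :
    Lev (r + 1) (X * Y * Xi * Yi) := by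
  intro i j hij
  have e : X * Y * Xi * Yi - 1 = ((X - 1) * (Y - 1) - (Y - 1) * (X - 1)) * (Xi * Yi) := by
    have h3 : Y * X * (Xi * Yi) = 1 := by rw [Matrix.mul_assoc, ← Matrix.mul_assoc X, h1, Matrix.one_mul, h2]
    calc X * Y * Xi * Yi - 1 = X * Y * (Xi * Yi) - Y * X * (Xi * Yi) := by rw [h3, Matrix.mul_assoc (X * Y)]
      _ = _ := by noncomm_ring
  rw [e, Matrix.mul_apply]
  refine Finset.sum_eq_zero fun l _ => ?_
  rcases lt_or_ge l.val (i.val + (r + 1)) with hl | hl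
  · rw [Matrix.sub_apply, Matrix.mul_apply, Matrix.mul_apply, Finset.sum_eq_zero fun m _ => ?_,
      Finset.sum_eq_zero fun m _ => ?_, sub_zero, MulZeroClass.zero_mul]
    · rcases lt_or_ge m.val (i.val + 1) with h | h
      · rw [hY i m h, MulZeroClass.zero_mul]
      · rw [hX m l (by omega), MulZeroClass.mul_zero]
    · rcases lt_or_ge m.val (i.val + r) with h | h
      · rw [hX i m h, MulZeroClass.zero_mul]
      · rw [hY m l (by omega), MulZeroClass.mul_zero]
  · refine mul_eq_zero_of_right _ ?_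
    rw [Matrix.mul_apply]
    refine Finset.sum_eq_zero fun m _ => ?_
    rcases lt_or_ge m.val l.val with h | h
    · rw [hXi l m h, MulZeroClass.zero_mul]
    · rw [hYi m j (show j.val < m.val by omega), MulZeroClass.mul_zero]

end Matrices

section Unipotent

variable {G : Over (Spec (CommRingCat.of k))} [GrpObj G] [IsAffine G.left] [Smooth G.hom] {d : ℕ}
  {M : Matrix (Fin d) (Fin d) (Fn G)}

/-- The unipotent points form a nilpotent group. -/
theorem isNilpotent_uni (hM : IsTriangular M) : Group.IsNilpotent (uni hM) := by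
  rw [Subgroup.isNilpotent_iff_lowerCentralSeries]
  let S : ℕ → Subgroup (VecGrp.pt k k ⟶ G) := fun r =>
    { carrier := {g | Lev (r + 1) (matHom hM g)}
      one_mem' := fun i j _ => by rw [map_one, sub_self]; rfl
      mul_mem' := fun {a b} ha hb i j hij => by
        rw [map_mul, lev_mul_sub ha hb (by omega), ha i j hij, hb i j hij, add_zero]
      inv_mem' := fun {a} ha i j hij => by
        have h1 : (matHom hM a * matHom hM a⁻¹ - 1) i j = 0 := by
          rw [← map_mul, mul_inv_cancel, map_one, sub_self]; rfl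
        have e : matHom hM a * matHom hM a⁻¹ - 1 =
            matHom hM a * (matHom hM a⁻¹ - 1) + (matHom hM a - 1) := by noncomm_ring
        rw [show matHom hM a⁻¹ - 1 = -(matHom hM a⁻¹ * (matHom hM a - 1)) by
          rw [Matrix.mul_sub, ← map_mul, inv_mul_cancel, map_one, Matrix.mul_one]; abel]
        rw [Matrix.neg_apply, neg_eq_zero, Matrix.mul_apply]
        refine Finset.sum_eq_zero fun l _ => ?_
        rcases lt_or_ge l i with h | h
        · rw [matHom_tri hM a⁻¹ i l h, MulZeroClass.zero_mul]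
        · rw [ha l j (by have : i.val ≤ l.val := h; omega), MulZeroClass.mul_zero] }
  have hle : ∀ n, (uni hM).lowerCentralSeries n ≤ S n := by
    intro n
    induction n with
    | zero => exact fun a ha => (lev_one_iff hM a).mp ha
    | succ n ih =>
      rw [Subgroup.lowerCentralSeries_succ, Subgroup.commutator_le]
      intro a ha b hb
      show Lev (n + 1 + 1) (matHom hM (a * b * a⁻¹ * b⁻¹))
      rw [map_mul, map_mul, map_mul]
      exact lev_comm (ih ha) ((lev_one_iff hM b).mp hb) (by rw [← map_mul, mul_inv_cancel, map_one])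
        (by rw [← map_mul, mul_inv_cancel, map_one]) (matHom_tri hM a⁻¹) (matHom_tri hM b⁻¹)
  exact ⟨d, eq_bot_iff.mpr fun a ha => eq_one_of_lev hM (Nat.le_succ d) (hle d ha)⟩

end Unipotent

variable {G : Over (Spec (CommRingCat.of k))} [GrpObj G] [Smooth G.hom] [QuasiCompact G.hom] [ConnectedSpace G.left]

set_option maxHeartbeats 1000000 in
/-- A maximal torus exists and every torus is conjugate into it. -/
theorem exists_maxTorus_all (G : Over (Spec (CommRingCat.of k))) [GrpObj G] [Smooth G.hom] [QuasiCompact G.hom]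
    [ConnectedSpace G.left] :
    ∃ (T : Over (Spec (CommRingCat.of k))) (_ : GrpObj T) (i : T ⟶ G), AGF.IsMaxTorus i ∧
      ∀ (T' : Over (Spec (CommRingCat.of k))) [GrpObj T'] (j : T' ⟶ G) [IsMonHom j] [Mono j], Red.IsTorus T' →
        ∃ (x : 𝟙_ (Over (Spec (CommRingCat.of k))) ⟶ G) (e : T' ⟶ T), e ≫ i = j ≫ inner x := by
  obtain ⟨L, _, l, hl, hfac⟩ := Chevalley.BC.exists_affPart G
  haveI := hl.hom; haveI := hl.closed; haveI := hl.smooth; haveI := hl.conn
  haveI : IsAffine L.left := hl.prop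
  haveI : Mono l := Over.mono_of_mono_left l
  haveI : Surjective (𝟙 L : L ⟶ L).left := inferInstanceAs (Surjective (𝟙 L.left))
  obtain ⟨T, _, iT, hT⟩ := exists_maxTorus L
  obtain ⟨M, _, iM, e, y, hMm, hMcl, hMt, hes, he, hall⟩ := exists_maxTorus_onto (𝟙 L) iT hT
  haveI := hMm; haveI := hMcl; haveI := hes
  obtain ⟨q1, q2, q3, -, -⟩ := TorusBasic.torus_props hMt
  haveI := q1; haveI := q2; haveI := q3
  haveI : IsReduced M.left := GrpSchLib.isReduced_of_smooth_field M.hom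
  haveI : IsClosedImmersion (iM ≫ inner y⁻¹).left := by rw [Over.comp_left]; infer_instance
  have hM : AGF.IsMaxTorus (iM ≫ inner y⁻¹) := isMaxTorus_image (𝟙 L) iT hT (iM ≫ inner y⁻¹) e (by
    rw [reassoc_of% he, inner_inner, inv_mul_cancel, inner_one, Category.comp_id])
  have hf : ∀ (T' : Over (Spec (CommRingCat.of k))) [GrpObj T'] (j : T' ⟶ G) [IsMonHom j] [Mono j], Red.IsTorus T' →
      ∃ (j' : T' ⟶ L), j' ≫ l = j ∧ IsMonHom j' ∧ Mono j' := fun T' _ j _ _ hT' => by
    obtain ⟨r1, r2, r3, -, -⟩ := TorusBasic.torus_props hT'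
    haveI := r1; haveI := r2; haveI := r3
    obtain ⟨j', hj'⟩ := hfac T' j
    haveI : IsMonHom (j' ≫ l) := hj' ▸ inferInstance
    haveI : Mono (j' ≫ l) := hj' ▸ inferInstance
    exact ⟨j', hj', isMonHom_of_comp j' l, mono_of_mono j' l⟩
  haveI := hM.2.1
  refine ⟨M, inferInstance, (iM ≫ inner y⁻¹) ≫ l, ⟨inferInstance, inferInstance, hMt, fun T' _ j _ _ f hT' hfj => ?_⟩,
    fun T' _ j _ _ hT' => ?_⟩
  · obtain ⟨j', hj', hm, hmo⟩ := hf T' j hT'
    haveI := hm; haveI := hmo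
    exact hM.2.2.2 T' j' f hT' (by rw [← cancel_mono l, Category.assoc, hj', hfj])
  · obtain ⟨j', hj', hm, hmo⟩ := hf T' j hT'
    haveI := hm; haveI := hmo
    obtain ⟨z, e₂, he₂⟩ := hall T' j' hT'
    refine ⟨(y⁻¹ * z) ≫ l, e₂, ?_⟩
    rw [← Category.assoc, reassoc_of% he₂, inner_inner, Category.assoc, inner_comp_hom, ← Category.assoc, hj']

/-- Conjugate of a central morphism is itself. -/
theorem conj_eq_of_central {T : Over (Spec (CommRingCat.of k))} (i : T ⟶ G)
    (hc : ∀ (X : Over (Spec (CommRingCat.of k))) (t : X ⟶ T) (g : X ⟶ G), (t ≫ i) * g = g * (t ≫ i))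
    (x : 𝟙_ (Over (Spec (CommRingCat.of k))) ⟶ G) : i ≫ inner x = i := by
  have h := hc T (𝟙 T) (toUnit T ≫ x)
  rw [Category.id_comp] at h
  rw [comp_inner, ← h, mul_inv_cancel_right]

set_option maxHeartbeats 1000000 in
/-- In a nilpotent connected group tori are central. -/
theorem central_of_isNilpotent (hnil : Group.IsNilpotent (VecGrp.pt k k ⟶ G))
    {T' : Over (Spec (CommRingCat.of k))} [GrpObj T'] (j : T' ⟶ G) [IsMonHom j] [Mono j] (hT' : Red.IsTorus T')
    (X : Over (Spec (CommRingCat.of k))) (t : X ⟶ T') (g : X ⟶ G) : (t ≫ j) * g = g * (t ≫ j) := by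
  obtain ⟨m, hm⟩ := (inferInstance : Group.IsSolvable (VecGrp.pt k k ⟶ G)).solvable
  have hsol : Red.IsSolvableGrp G := isSolvableGrp_of_points (n := m) hm
  obtain ⟨T, _, i, hT, hall⟩ := exists_maxTorus_all G
  haveI := hT.1; haveI := hT.2.1
  haveI : IsSeparated G.hom := AntiAffine.isSeparated_grp G
  obtain ⟨C, _, c, hcm, hcc, hcu⟩ := TransLib.exists_centralizer i
  haveI := hcm; haveI := hcc
  haveI : Mono c := Over.mono_of_mono_left c
  have hC : Red.IsCentralizerOf i c := ⟨inferInstance, inferInstance, hcu⟩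
  haveI : Smooth C.hom := (centralizer_smooth_connected_nonaffine i hT.2.2.1 c hC).1
  haveI : IsReduced C.left := GrpSchLib.isReduced_of_smooth_field C.hom
  let H : Subgroup (VecGrp.pt k k ⟶ G) := (pushPt c).range
  have hmor : ∀ g : VecGrp.pt k k ⟶ G, (∀ p ∈ H, g * p * g⁻¹ ∈ H) →
      ∀ (X' : Over (Spec (CommRingCat.of k))) (r : X' ⟶ VecGrp.pt k k) (h : X' ⟶ C),
        ∃ h' : X' ⟶ C, (r ≫ g) * (h ≫ c) * (r ≫ g)⁻¹ = h' ≫ c := by
    intro g hg X' r h
    obtain ⟨σ, hσ⟩ := exists_factor_of_points c (c ≫ inner (toPt _ ≫ g)) fun p => by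
      obtain ⟨p', hp'⟩ := hg (p ≫ c) ⟨p, rfl⟩
      exact ⟨p', by rw [comp_inner_point', ← hp']; rfl⟩
    refine ⟨h ≫ σ, ?_⟩
    rw [Category.assoc, hσ, ← Category.assoc h c, comp_inner, ← Category.assoc (toUnit X') (toPt _),
      show toUnit X' ≫ toPt _ = r by conv_rhs => rw [← Category.comp_id r, ← toUnit_toPt, ← Category.assoc, comp_toUnit]]
  have hH : H = ⊤ := by
    refine normalizerCondition_iff_only_full_group_self_normalizing.mp normalizerCondition_of_isNilpotent H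
      (le_antisymm (fun g hg => ?_) Subgroup.le_normalizer)
    have hg' := Subgroup.mem_normalizer_iff.mp hg
    have h1 : ∀ p ∈ H, g * p * g⁻¹ ∈ H := fun p hp => (hg' p).mp hp
    have h2 : ∀ p ∈ H, g⁻¹ * p * g⁻¹⁻¹ ∈ H := fun p hp => (hg' _).mpr (by
      convert hp using 1
      group)
    obtain ⟨v, hv⟩ := cartan_self_normalizing hsol i hT c hC g fun X' r h => by
      obtain ⟨p₁, e₁⟩ := hmor g h1 X' r h
      obtain ⟨p₂, e₂⟩ := hmor g⁻¹ h2 X' r h
      rw [GrpObj.comp_inv, _root_.inv_inv] at e₂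
      exact ⟨⟨p₁, e₁⟩, ⟨p₂, e₂⟩⟩
    exact ⟨v, hv⟩
  haveI : IsReduced G.left := GrpSchLib.isReduced_of_smooth_field G.hom
  obtain ⟨w, hw⟩ := exists_factor_of_points c (𝟙 G) fun p => by
    obtain ⟨v, hv⟩ := (hH ▸ Subgroup.mem_top p : p ∈ H)
    exact ⟨v, by rw [Category.comp_id, ← hv]; rfl⟩
  have hcent : ∀ (X : Over (Spec (CommRingCat.of k))) (t : X ⟶ T) (g : X ⟶ G), (t ≫ i) * g = g * (t ≫ i) := by
    intro X t g
    have h := (hC.2.2 X g).mp ⟨g ≫ w, by rw [Category.assoc, hw, Category.comp_id]⟩ X (𝟙 X) t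
    rw [Category.id_comp] at h
    exact h.symm
  obtain ⟨x, e, he⟩ := hall T' j hT'
  have hje : e ≫ i = j := by
    have h := congrArg (fun f => f ≫ inner x⁻¹) he
    simp only [Category.assoc, inner_inner, inv_mul_cancel, inner_one, Category.comp_id, conj_eq_of_central i hcent] at h
    exact h
  rw [← hje, ← Category.assoc]
  exact hcent X _ g

set_option maxHeartbeats 1000000 in
/-- A connected group whose tori are central is nilpotent. -/
theorem isNilpotent_of_central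
    (h : ∀ (T : Over (Spec (CommRingCat.of k))) [GrpObj T] (j : T ⟶ G) [IsMonHom j] [Mono j], Red.IsTorus T →
      ∀ (X : Over (Spec (CommRingCat.of k))) (t : X ⟶ T) (g : X ⟶ G), (t ≫ j) * g = g * (t ≫ j)) :
    Group.IsNilpotent (VecGrp.pt k k ⟶ G) := by
  obtain ⟨L, _, l, hl, hfac⟩ := Chevalley.BC.exists_affPart G
  haveI := hl.hom; haveI := hl.closed; haveI := hl.smooth; haveI := hl.conn
  haveI : IsAffine L.left := hl.prop
  haveI : Mono l := Over.mono_of_mono_left l
  obtain ⟨T, _, iT, hT⟩ := exists_maxTorus L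
  haveI := hT.1; haveI := hT.2.1
  obtain ⟨C, _, hCa, hCs, hCn, iC, hiC, d, M, hM, iS, hiCc, -, hiS, hfull, -, -, -, huniv⟩ := exists_cartan iT hT
  haveI := hCa; haveI := hCs; haveI := hCn; haveI := hiC
  obtain ⟨u, hu⟩ := huniv L (𝟙 L) fun p s => by
    show (s ≫ iT) * (p ≫ 𝟙 L) = (p ≫ 𝟙 L) * (s ≫ iT)
    rw [← cancel_mono l, MonObj.mul_comp, MonObj.mul_comp, Category.assoc s iT l, Category.comp_id]
    exact h T (iT ≫ l) hT.2.2.1 _ s (p ≫ l)
  obtain ⟨Q, _, q, hq, hqs, hqf, hkq, hQp, -, -⟩ :=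
    Chevalley.BC.exists_quot_of_max l fun N' _ i' _ _ _ _ _ _ => hfac N' i'
  haveI := hq; haveI := hqs; haveI := hqf; haveI := hQp
  obtain ⟨I, _, p, K, _, κ, hp, hI, hIl, hIq, hfl, hs, hκ, hκc, hk, hbij⟩ := Rosenlicht.exists_antiAffine_kernel G
  haveI := hp; haveI := hI; haveI := hIl; haveI := hIq; haveI := hfl; haveI := hs; haveI := hκ; haveI := hκc
  haveI : LocallyOfFiniteType K.hom := by rw [← Over.w κ]; infer_instance
  haveI : QuasiCompact K.hom := by rw [← Over.w κ]; infer_instance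
  have hO := (AntiAffine.bijective_appTop_iff K.hom).mpr hbij
  haveI := Chevalley.BC.surjective_comp_affine l hl.normal q hkq p
  haveI : LocallyOfFiniteType (l ≫ p).left := by
    haveI : LocallyOfFiniteType ((l ≫ p).left ≫ I.hom) := by rw [Over.w (l ≫ p)]; infer_instance
    exact locallyOfFiniteType_of_comp (l ≫ p).left I.hom
  haveI := isNilpotent_uni hM
  let Z := Subgroup.center (VecGrp.pt k k ⟶ G)
  let ψ : uni hM →* (VecGrp.pt k k ⟶ G) ⧸ Z :=
    (QuotientGroup.mk' Z).comp ((pushPt (iC ≫ l)).comp (uni hM).subtype)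
  haveI : Group.IsNilpotent ((VecGrp.pt k k ⟶ G) ⧸ Z) := Group.nilpotent_of_surjective ψ fun y => by
    obtain ⟨g, rfl⟩ := QuotientGroup.mk'_surjective Z y
    obtain ⟨l₀, hl₀⟩ := exists_point_lift (K := k) (l ≫ p) (g ≫ p)
    obtain ⟨s, hs⟩ := hfull.2.2.2.1 (l₀ ≫ u)
    refine ⟨⟨(s ≫ iS)⁻¹ * (l₀ ≫ u), (diagHom_eq_iff hM _ _).mp hs⟩, ?_⟩
    show QuotientGroup.mk' Z (((s ≫ iS)⁻¹ * (l₀ ≫ u)) ≫ iC ≫ l) = QuotientGroup.mk' Z g
    have e1 : ((s ≫ iS)⁻¹ * (l₀ ≫ u)) ≫ iC ≫ l = (s ≫ iT ≫ l)⁻¹ * (l₀ ≫ l) := by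
      rw [MonObj.mul_comp, GrpObj.inv_comp, Category.assoc s iS, reassoc_of% hiS, Category.assoc l₀ u, reassoc_of% hu]
    rw [e1]
    refine QuotientGroup.eq.mpr (Subgroup.mem_center_iff.mpr fun y => ?_)
    have hz : ((s ≫ iT ≫ l)⁻¹ * (l₀ ≫ l))⁻¹ * g = (l₀ ≫ l)⁻¹ * g * (s ≫ iT ≫ l) := by
      have h1 : (l₀ ≫ l)⁻¹ * g * (s ≫ iT ≫ l) = (l₀ ≫ l)⁻¹ * ((s ≫ iT ≫ l) * g) := by
        rw [_root_.mul_assoc, h T (iT ≫ l) hT.2.2.1 _ s g]
      rw [h1, _root_.mul_inv_rev, _root_.inv_inv, _root_.mul_assoc]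
    let z := hk.lift ((l₀ ≫ l)⁻¹ * g) (toUnit _) (by
      rw [MonObj.mul_comp, GrpObj.inv_comp, Category.assoc l₀, hl₀, inv_mul_cancel, Hom.one_def])
    have hzc : Commute ((l₀ ≫ l)⁻¹ * g) y := by
      have h2 := S7996.result k K G hO κ (VecGrp.pt k k) z (VecGrp.pt k k) (𝟙 _) y
      rw [Category.id_comp, show z ≫ κ = _ from hk.lift_fst _ _ _] at h2
      exact h2
    have htc : Commute (s ≫ iT ≫ l) y := h T (iT ≫ l) hT.2.2.1 _ s y
    rw [hz]
    exact ((hzc.mul_left htc).eq).symm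
  exact Subgroup.isNilpotent_of_ker_le_center (QuotientGroup.mk' Z) (by rw [QuotientGroup.ker_mk'])

set_option maxHeartbeats 1000000 in
/-- A unique maximal torus is central. -/
theorem central_of_unique
    (h : ∀ (T₁ T₂ : Over (Spec (CommRingCat.of k))) [GrpObj T₁] [GrpObj T₂] (i₁ : T₁ ⟶ G) (i₂ : T₂ ⟶ G),
      AGF.IsMaxTorus i₁ → AGF.IsMaxTorus i₂ → ∃ φ : T₁ ≅ T₂, φ.hom ≫ i₂ = i₁)
    (T' : Over (Spec (CommRingCat.of k))) [GrpObj T'] (j : T' ⟶ G) [IsMonHom j] [Mono j] (hT' : Red.IsTorus T')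
    (X : Over (Spec (CommRingCat.of k))) (t : X ⟶ T') (g : X ⟶ G) : (t ≫ j) * g = g * (t ≫ j) := by
  obtain ⟨T, _, i, hT, hall⟩ := exists_maxTorus_all G
  haveI := hT.1; haveI := hT.2.1
  haveI : IsSeparated G.hom := AntiAffine.isSeparated_grp G
  obtain ⟨q1, q2, q3, -, -⟩ := TorusBasic.torus_props hT.2.2.1
  haveI := q1; haveI := q2; haveI := q3
  haveI := MultConjLib.smooth_of_isTorus hT.2.2.1
  obtain ⟨N, _, n, hn, hnc, -⟩ := GrpFieldLib.Jet.exists_normalizer i (MultConjLib.neutralSet_eq_univ_of_isTorus hT.2.2.1)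
  haveI := hnc
  haveI : IsReduced G.left := GrpSchLib.isReduced_of_smooth_field G.hom
  have hpt : ∀ p : VecGrp.pt k k ⟶ G, ∃ τ : T ⟶ T, τ ≫ i = i ≫ inner (toPt _ ≫ p) := fun p => by
    obtain ⟨φ, hφ⟩ := h T T (i ≫ inner (toPt _ ≫ p)) i ⟨inferInstance, inferInstance, hT.2.2.1,
      fun T'' _ j' _ _ f hT'' hf => hT.2.2.2 T'' (j' ≫ inner (toPt _ ≫ p)⁻¹) f hT'' (by
        rw [← Category.assoc, hf, Category.assoc, inner_inner, inv_mul_cancel, inner_one, Category.comp_id])⟩ hT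
    exact ⟨φ.hom, hφ⟩
  obtain ⟨w, hw⟩ := exists_factor_of_points n (𝟙 G) fun p => by
    rw [Category.comp_id]
    refine (hn.2.2 _ p).mpr fun X' r a => ?_
    have hr : toUnit X' ≫ toPt _ = r := by
      conv_rhs => rw [← Category.comp_id r, ← toUnit_toPt, ← Category.assoc, comp_toUnit]
    obtain ⟨τ, hτ⟩ := hpt p
    obtain ⟨τ', hτ'⟩ := hpt p⁻¹
    refine ⟨⟨a ≫ τ, ?_⟩, ⟨a ≫ τ', ?_⟩⟩
    · rw [Category.assoc, hτ, ← Category.assoc a i, comp_inner, ← Category.assoc (toUnit X') (toPt _), hr]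
    · rw [Category.assoc, hτ', ← Category.assoc a i, comp_inner, ← Category.assoc (toUnit X') (toPt _), hr,
        GrpObj.comp_inv, _root_.inv_inv]
  have hnorm : AlgGrp.IsNormalHom i := fun Y y a => by
    obtain ⟨⟨a', ha'⟩, -⟩ := (hn.2.2 Y y).mp ⟨y ≫ w, by rw [Category.assoc, hw, Category.comp_id]⟩ Y (𝟙 Y) a
    rw [Category.id_comp] at ha'
    exact ⟨a', ha'⟩
  have hfib : ∀ s : ↥(Spec (CommRingCat.of k)),
      ConnectedSpace ↥(pullback G.hom ((Spec (CommRingCat.of k)).fromSpecResidueField s)) := fun s => by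
    haveI : Subsingleton ↥(Spec (CommRingCat.of k)) := inferInstanceAs (Subsingleton (PrimeSpectrum k))
    haveI : IsIso ((Spec (CommRingCat.of k)).fromSpecResidueField s) := by
      haveI : IsClosedImmersion ((Spec (CommRingCat.of k)).fromSpecResidueField s) :=
        .of_isPreimmersion _ (Set.subsingleton_of_subsingleton.isClosed)
      haveI : Surjective ((Spec (CommRingCat.of k)).fromSpecResidueField s) :=
        ⟨fun z => ⟨IsLocalRing.closedPoint _, Subsingleton.elim _ _⟩⟩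
      haveI : IsReduced (Spec (CommRingCat.of k)) := inferInstance
      exact isIso_of_isClosedImmersion_of_surjective _
    let e := (asIso (pullback.fst G.hom ((Spec (CommRingCat.of k)).fromSpecResidueField s))).inv
    exact e.homeomorph.surjective.connectedSpace e.continuous
  have hcent : ∀ (Y : Over (Spec (CommRingCat.of k))) (a : Y ⟶ T) (y : Y ⟶ G), (a ≫ i) * y = y * (a ≫ i) :=
    fun Y a y => (Groth.Agent.S5255.result G T hfib i (RankOne.isMultTypeFT_of_isTorus hT.2.2.1) hnorm Y y a).symm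
  obtain ⟨x, e, he⟩ := hall T' j hT'
  have hje : e ≫ i = j := by
    have h' := congrArg (fun f => f ≫ inner x⁻¹) he
    simp only [Category.assoc, inner_inner, inv_mul_cancel, inner_one, Category.comp_id, conj_eq_of_central i hcent] at h'
    exact h'
  rw [← hje, ← Category.assoc]
  exact hcent X _ g

end Groth.Agent.GModLib
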