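import Groth.Agent.GModLib.MaxTorusImage
import Groth.Agent.GModLib.MaxTorusGeom
import Groth.Agent.GModLib.CartanContainedRel
import Groth.Agent.Chevalley.BC.AffLib
import Groth.Agent.Chevalley.BC.NonConn
import Groth.Agent.GrpSchLib.MonoSubgroup
import Groth.Agent.GrpSchLib.HomFinite
import Groth.Agent.GrpFieldLib.SmoothDense

/-!
# The image of a maximal torus fills every torus containing it (groups need not be affine or connected)
-/

set_option autoImplicit false
set_option backward.isDefEq.respectTransparency false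
set_option backward.isDefEq.respectTransparency.types false

universe u

open CategoryTheory Limits AlgebraicGeometry MonoidalCategory CartesianMonoidalCategory MonObj GrpObj

namespace Groth.Agent.GModLib

open Chevalley.BC
open Chevalley.Val (pp)

variable {k : Type u} [Field k] [IsAlgClosed k]

/-- The inverse image of a subgroup. -/
theorem exists_preimage_subgroup {S : Scheme.{u}} {G G' A : Over S} [GrpObj G] [GrpObj G'] [GrpObj A] (u : G ⟶ G')
    [IsMonHom u] (j : A ⟶ G') [IsMonHom j] [Mono j] :
    ∃ (P : Over S) (_ : GrpObj P) (a : P ⟶ G) (b : P ⟶ A), IsMonHom a ∧ IsMonHom b ∧ Mono a ∧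
      IsPullback a.left b.left u.left j.left ∧ IsPullback a b u j := by
  let P : Over S := Over.mk (pullback.fst u.left j.left ≫ G.hom)
  let a : P ⟶ G := Over.homMk (pullback.fst u.left j.left) rfl
  let b : P ⟶ A := Over.homMk (pullback.snd u.left j.left) (by
    show pullback.snd u.left j.left ≫ A.hom = pullback.fst u.left j.left ≫ G.hom
    rw [← Over.w j, ← pullback.condition_assoc, Over.w u])
  have hsq : IsPullback a b u j :=
    IsPullback.of_map (Over.forget S) (Over.OverMorphism.ext pullback.condition) (IsPullback.of_hasPullback u.left j.left)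
  haveI : Mono a := ⟨fun x y h => hsq.hom_ext h (by
    rw [← cancel_mono j, Category.assoc, Category.assoc, ← hsq.w, ← Category.assoc, h, Category.assoc])⟩
  have hl : ∀ {Y : Over S} (g : Y ⟶ G) (c : Y ⟶ A), g ≫ u = c ≫ j → ∃ p : Y ⟶ P, p ≫ a = g := fun g c h =>
    ⟨hsq.lift g c h, hsq.lift_fst _ _ _⟩
  obtain ⟨e, he⟩ := hl η[G] η[A] (by rw [IsMonHom.one_hom u, IsMonHom.one_hom j])
  obtain ⟨m, hm⟩ := hl ((fst P P ≫ a) * (snd P P ≫ a)) ((fst P P ≫ b) * (snd P P ≫ b)) (by
    rw [MonObj.mul_comp, MonObj.mul_comp, Category.assoc, Category.assoc, Category.assoc, Category.assoc, hsq.w])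
  obtain ⟨v, hv⟩ := hl a⁻¹ b⁻¹ (by rw [GrpObj.inv_comp, GrpObj.inv_comp, hsq.w])
  obtain ⟨str, hi⟩ := GrpSchLib.exists_grpObj_of_mono a e he m hm v hv
  letI := str
  haveI := hi
  haveI : IsMonHom (a ≫ u) := inferInstance
  haveI : IsMonHom (b ≫ j) := hsq.w ▸ ‹IsMonHom (a ≫ u)›
  have hbm : IsMonHom b :=
    { one_hom := by rw [← cancel_mono j, Category.assoc, IsMonHom.one_hom (b ≫ j), IsMonHom.one_hom j]
      mul_hom := by
        rw [← cancel_mono j, Category.assoc, IsMonHom.mul_hom (b ≫ j), Category.assoc, IsMonHom.mul_hom j,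
          ← Category.assoc (_ ⊗ₘ _), MonoidalCategory.tensorHom_comp_tensorHom] }
  exact ⟨P, str, a, b, hi, hbm, inferInstance, IsPullback.of_hasPullback u.left j.left, hsq⟩

set_option maxHeartbeats 1000000 in
/-- The restriction of a surjective homomorphism to the reduced neutral component is surjective when the target is
connected. -/
theorem surjective_comp_neutral {K N S : Over (Spec (CommRingCat.of k))} [GrpObj K] [GrpObj N] [GrpObj S]
    [LocallyOfFiniteType K.hom] [LocallyOfFiniteType S.hom] [IrreducibleSpace S.left] (b : K ⟶ S) [IsMonHom b]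
    [Surjective b.left] (c : N ⟶ K) [IsMonHom c] [LocallyOfFiniteType N.hom] [QuasiCompact N.hom]
    (hc : Set.range c.left = connectedComponent (pp η[K])) : Surjective (c ≫ b).left := by
  haveI : JacobsonSpace K.left := LocallyOfFiniteType.jacobsonSpace K.hom
  obtain ⟨w, hw⟩ := b.left.surjective (genericPoint S.left)
  obtain ⟨x, hxw, hx⟩ := nonempty_inter_closedPoints (Z := closure ({w} : Set K.left)) ⟨w, subset_closure rfl⟩
    isClosed_closure.isLocallyClosed
  let x0 : 𝟙_ (Over (Spec (CommRingCat.of k))) ⟶ K :=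
    Over.homMk (pointOfClosedPoint K.hom x hx) (pointOfClosedPoint_comp K.hom x hx)
  have hx0 : x0.left (IsLocalRing.closedPoint k) = x := pointOfClosedPoint_apply K.hom x hx _
  let t := GrpSchLib.HomFinite.trans x0
  let e : K.left ≃ₜ K.left := Scheme.homeoOfIso ((Over.forget _).mapIso t)
  have he : e (pp η[K]) = x := by
    have h1 : η[K] ≫ t.hom = x0 := by
      show η[K] ≫ ((toUnit K ≫ x0) * 𝟙 K) = x0
      rw [MonObj.comp_mul, ← Category.assoc, Category.comp_id, toUnit_unique (η[K] ≫ toUnit K) (𝟙 _), Category.id_comp,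
        MonObj.one_eq_one, _root_.mul_one]
    show t.hom.left (η[K].left (IsLocalRing.closedPoint k)) = x
    rw [← Scheme.Hom.comp_apply, ← Over.comp_left, h1, hx0]
  have hwe : w ∈ e '' connectedComponent (pp η[K]) := by
    rw [homeomorph_image_connectedComponent, he]
    have h1 := isPreconnected_singleton.closure.subset_connectedComponent (x := x) hxw
    exact h1 (subset_closure rfl)
  rw [← hc] at hwe
  obtain ⟨_, ⟨n, rfl⟩, hn⟩ := hwe
  let ts := GrpSchLib.HomFinite.trans (x0 ≫ b)
  let es : S.left ≃ₜ S.left := Scheme.homeoOfIso ((Over.forget _).mapIso ts)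
  have hgen : genericPoint S.left ∈ es '' Set.range (c ≫ b).left := by
    refine ⟨(c ≫ b).left n, ⟨n, rfl⟩, ?_⟩
    show ts.hom.left (b.left (c.left n)) = _
    rw [← Scheme.Hom.comp_apply b.left, ← GrpSchLib.HomFinite.trans_comm, Scheme.Hom.comp_apply,
      show t.hom.left (c.left n) = w from hn, hw]
  haveI : IsSeparated S.hom := GrpSchLib.AntiAffine.isSeparated_grp S
  haveI : QuasiCompact (c ≫ b).left := by
    haveI : QuasiCompact ((c ≫ b).left ≫ S.hom) := by rw [Over.w (c ≫ b)]; infer_instance
    exact QuasiCompact.of_comp (c ≫ b).left S.hom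
  have hcl : IsClosed (es '' Set.range (c ≫ b).left) :=
    es.isClosedMap _ (GrpSchLib.HomClosedRange.isClosed_range (c ≫ b))
  have huniv : es '' Set.range (c ≫ b).left = Set.univ := by
    refine Set.eq_univ_of_univ_subset ?_
    rw [← genericPoint_closure]
    exact closure_minimal (Set.singleton_subset_iff.mpr hgen) hcl
  refine ⟨fun s => ?_⟩
  obtain ⟨z, hz, hzs⟩ := huniv.ge (Set.mem_univ (es s))
  exact es.injective hzs ▸ hz

set_option maxHeartbeats 2000000 in
/-- A torus containing the image of a maximal torus under a surjection is that image. -/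
theorem surjective_into_torus {G G' T S : Over (Spec (CommRingCat.of k))} [GrpObj G] [GrpObj G'] [GrpObj T] [GrpObj S]
    [Smooth G.hom] [QuasiCompact G.hom] [Smooth G'.hom] [QuasiCompact G'.hom] (q : G ⟶ G') [IsMonHom q]
    [Surjective q.left] (i : T ⟶ G) (hT : AGF.IsMaxTorus i) (hS : Red.IsTorus S) (j : S ⟶ G') [IsMonHom j] [Mono j]
    (e : T ⟶ S) (he : e ≫ j = i ≫ q) : Surjective e.left := by
  obtain ⟨hTm, hTmo, hTt, hTmax⟩ := id hT
  haveI := hTm; haveI := hTmo
  obtain ⟨t1, t2, t3, -, -⟩ := TorusBasic.torus_props hTt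
  haveI := t1; haveI := t2; haveI := t3
  obtain ⟨s1, s2, s3, -, -⟩ := TorusBasic.torus_props hS
  haveI := s1; haveI := s2; haveI := s3
  haveI : IrreducibleSpace S.left := GrpFieldLib.SmoothDense.irreducibleSpace_of_connected S.hom
  haveI : IsReduced S.left := GrpSchLib.isReduced_of_smooth_field S.hom
  haveI := GrpSchLib.AntiAffine.isSeparated_grp G'
  obtain ⟨K, _, a, b, ha, hb, hamo, hsq, hsqO⟩ := exists_preimage_subgroup q j
  haveI := ha; haveI := hb; haveI := hamo
  haveI : LocallyOfFiniteType j.left := by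
    haveI : LocallyOfFiniteType (j.left ≫ G'.hom) := by rw [Over.w j]; infer_instance
    exact locallyOfFiniteType_of_comp j.left G'.hom
  haveI : QuasiCompact j.left := by
    haveI : QuasiCompact (j.left ≫ G'.hom) := by rw [Over.w j]; infer_instance
    exact QuasiCompact.of_comp j.left G'.hom
  haveI : LocallyOfFiniteType a.left := MorphismProperty.of_isPullback hsq.flip ‹LocallyOfFiniteType j.left›
  haveI : QuasiCompact a.left := MorphismProperty.of_isPullback hsq.flip ‹QuasiCompact j.left›
  haveI : Surjective b.left := MorphismProperty.of_isPullback hsq ‹Surjective q.left›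
  haveI : LocallyOfFiniteType K.hom := by rw [← Over.w a]; infer_instance
  haveI : QuasiCompact K.hom := by rw [← Over.w a]; infer_instance
  obtain ⟨H, _, c, hcm, hcc, hHs, hHq, hHc, hcr⟩ := exists_comp K
  haveI := hcm; haveI := hcc; haveI := hHs; haveI := hHq; haveI := hHc
  haveI : Mono c := Over.mono_of_mono_left c
  let p := c ≫ b
  haveI : Surjective p.left := surjective_comp_neutral b c hcr
  haveI : QuasiCompact p.left := by
    haveI : QuasiCompact (p.left ≫ S.hom) := by rw [Over.w p]; infer_instance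
    exact QuasiCompact.of_comp p.left S.hom
  haveI : Flat p.left := GrpSchLib.flat_of_surjective_hom p
  obtain ⟨L, _, l, Q, _, π, hl, hπ, hπs, hπf, hk, hQp, -, -⟩ := exists_chevalley H
  haveI := hl.hom; haveI := hl.closed; haveI := hl.smooth; haveI := hl.conn; haveI := hπ; haveI := hπs; haveI := hπf
  haveI := hQp
  haveI : IsAffine L.left := hl.prop
  haveI : Mono l := Over.mono_of_mono_left l
  haveI : QuasiCompact S.hom := inferInstance
  haveI : Surjective (l ≫ p).left := surjective_comp_affine l hl.normal π hk p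
  -- the torus lifts to the affine part
  haveI : IsReduced T.left := GrpSchLib.isReduced_of_smooth_field T.hom
  let x : T ⟶ K := hsqO.lift i e he.symm
  have hxa : x ≫ a = i := hsqO.lift_fst _ _ _
  have hxb : x ≫ b = e := hsqO.lift_snd _ _ _
  haveI : IsMonHom (x ≫ a) := hxa.symm ▸ hTm
  haveI : IsMonHom x := isMonHom_of_comp x a
  obtain ⟨y, hy⟩ := exists_factor K hcr x (pp η[T]) (by rw [← IsMonHom.one_hom x]; rfl)
  haveI : IsMonHom (y ≫ c) := hy.symm ▸ ‹IsMonHom x›
  haveI : IsMonHom y := isMonHom_of_comp y c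
  obtain ⟨z, hz⟩ := factor_of_affine hk y
  have hzi : z ≫ l ≫ c ≫ a = i := by rw [reassoc_of% hz, reassoc_of% hy, hxa]
  haveI : IsMonHom (z ≫ l ≫ c ≫ a) := hzi.symm ▸ hTm
  haveI : IsMonHom z := isMonHom_of_comp z (l ≫ c ≫ a)
  haveI : Mono (z ≫ l ≫ c ≫ a) := hzi.symm ▸ hTmo
  haveI : Mono z := mono_of_mono z (l ≫ c ≫ a)
  have hzM : AGF.IsMaxTorus z := ⟨inferInstance, inferInstance, hTt, fun T' _ g _ _ f hT' hf =>
    hTmax T' (g ≫ l ≫ c ≫ a) f hT' (by rw [← Category.assoc, hf, hzi])⟩
  obtain ⟨M, _, iM, e', y', hMm, hMc, hMt, hes, he', hall⟩ := exists_maxTorus_onto (l ≫ p) z hzM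
  haveI := hMm; haveI := hMc; haveI := hes
  obtain ⟨z', e₂, he₂⟩ := hall S (𝟙 S) hS
  -- conjugation in a commutative group is trivial
  have hin : ∀ y : 𝟙_ (Over (Spec (CommRingCat.of k))) ⟶ S, inner (G := S) y = 𝟙 S := fun y => by
    have hc : ∀ {X : Over (Spec (CommRingCat.of k))} (g h : X ⟶ S), g * h = h * g := fun g h =>
      TorusBilin.comm_of_isTorus hS _ g h
    show AGF.conjBy y (𝟙 S) = 𝟙 S
    unfold AGF.conjBy
    rw [hc (toUnit S ≫ y) (𝟙 S), mul_inv_cancel_right]
  rw [hin, Category.id_comp] at he₂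
  rw [hin, Category.comp_id] at he'
  haveI : Surjective iM.left := by
    haveI : Surjective (e₂.left ≫ iM.left) := by rw [← Over.comp_left, he₂]; exact inferInstanceAs (Surjective (𝟙 S.left))
    exact Surjective.of_comp e₂.left iM.left
  haveI : Surjective (e' ≫ iM).left := inferInstanceAs (Surjective (e'.left ≫ iM.left))
  have h2 : e' ≫ iM = e := by rw [he', ← hxb, ← hy, ← hz]; simp [p]
  exact h2 ▸ ‹Surjective (e' ≫ iM).left›

end Groth.Agent.GModLib
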