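import Groth.Agent.GModLib.CentralKernelCartan
import Groth.Agent.GModLib.TorusImageGeneral
import Groth.Agent.GModLib.NilpotentTori
import Groth.Agent.GModLib.MaxTorusGeomConv
import Groth.Agent.GModLib.BorelNonAffine
import Groth.Agent.GrpSchLib.RedSubgroup
import Groth.Agent.GrpSchLib.PerfectSmooth
import Groth.Agent.GrpSchLib.IdentityComp

/-!
# Preimages of subgroups containing a Cartan subgroup, under maps with central kernel
-/

set_option autoImplicit false
set_option linter.style.haveILetI false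
set_option backward.isDefEq.respectTransparency false
set_option backward.isDefEq.respectTransparency.types false

universe u

open CategoryTheory CategoryTheory.Limits MonoidalCategory CartesianMonoidalCategory MonObj GrpObj AlgebraicGeometry

namespace Groth.Agent.GModLib

/-- A maximal torus over an algebraically closed field gives one fpqc locally. -/
theorem hasMaxTorusFpqcLocally_algClosed {k : Type u} [Field k] [IsAlgClosed k] (G : Over (Spec (CommRingCat.of k)))
    [GrpObj G] [Smooth G.hom] [QuasiCompact G.hom] [ConnectedSpace G.left] :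
    SGA3x.HasMaxTorusFpqcLocally G := by
  obtain ⟨T, _, i, hi, -⟩ := exists_maxTorus_all G
  exact ⟨_, 𝟙 _, inferInstance, inferInstance, fun V hV => ⟨V, hV.isCompact, by simp⟩,
    (Over.pullback (𝟙 _)).obj T, inferInstance, (Over.pullback (𝟙 _)).map i,
    isMaximalTorus_bc i (isMaximalTorus_of_isMaxTorus hi) (𝟙 _)⟩

variable {k : Type u} [Field k] [IsAlgClosed k] {G G' H P C : Over (Spec (CommRingCat.of k))}
  [GrpObj G] [GrpObj G'] [GrpObj H] [GrpObj P]

/-- The Cartan subgroup of the source lying in the preimage, with its cartesian square. -/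
theorem exists_cartan_preimage [Smooth G.hom] [QuasiCompact G.hom] [ConnectedSpace G.left] [Smooth G'.hom]
    [QuasiCompact G'.hom] (u : G ⟶ G') [IsMonHom u] [Surjective u.left] (hker : IsCentralKer u)
    (h : H ⟶ G') {a : P ⟶ G} {b : P ⟶ H} (sq : IsPullback a b u h)
    {C' : Over (Spec (CommRingCat.of k))} [GrpObj C'] (c' : C' ⟶ H) (hC' : SGA3x.IsCartanOver k (c' ≫ h)) :
    ∃ (C : Over (Spec (CommRingCat.of k))) (_ : GrpObj C) (l : C ⟶ P) (w : C ⟶ C'),
      SGA3x.IsCartanOver k (l ≫ a) ∧ Smooth C.hom ∧ ConnectedSpace C.left ∧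
      l ≫ b = w ≫ c' ∧ IsPullback (l ≫ a) w u (c' ≫ h) := by
  haveI : IsSeparated G.hom := GrpSchLib.AntiAffine.isSeparated_grp G
  haveI : IsSeparated G'.hom := GrpSchLib.AntiAffine.isSeparated_grp G'
  haveI : Subsingleton ↥(Spec (CommRingCat.of k)) := inferInstanceAs (Subsingleton (PrimeSpectrum k))
  haveI : ConnectedSpace G'.left := u.left.surjective.connectedSpace u.left.continuous
  have hu : ∀ s : ↥(Spec (CommRingCat.of k)), Surjective ((Over.pullback (Red.geomPt s)).map u).left := fun s =>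
    MorphismProperty.overPullbackMap _ _ ‹Surjective u.left›
  have hconn' : ∀ s : ↥(Spec (CommRingCat.of k)), _root_.IsConnected (G'.hom.base ⁻¹' {s}) := fun s => by
    rw [show G'.hom.base ⁻¹' {s} = Set.univ from Set.eq_univ_of_forall fun z => Subsingleton.elim _ _]
    exact isConnected_univ
  obtain ⟨hm', hmono', T', _, i', hi', hc'⟩ := hC'
  obtain ⟨T, _, i, v, hi, hvm, e, hvs, hvf⟩ :=
    exists_maxTorus_over (hasMaxTorusFpqcLocally_algClosed G) u hu hker i' hi'
  haveI := hi.1; haveI := hi.2.1; haveI := hvs; haveI := hvf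
  obtain ⟨C, _, c, hc, -, -, -⟩ := exists_centralizer_maxTorus i hi
  obtain ⟨hCs, hCc⟩ := centralizer_smooth_connected_nonaffine i hi.2.2.1 c hc
  obtain ⟨w, -, -, -, hw⟩ := exists_isPullback_centralizer u hu hconn' hker i hi i' hi' v e c hc (c' ≫ h) hc'
  have hl : (sq.lift c (w ≫ c') (by rw [Category.assoc]; exact hw.w)) ≫ a = c := sq.lift_fst _ _ _
  refine ⟨C, inferInstance, sq.lift c (w ≫ c') (by rw [Category.assoc]; exact hw.w), w, ?_, hCs, hCc, sq.lift_snd _ _ _, ?_⟩
  · rw [hl]; exact ⟨hc.1, hc.2.1, T, inferInstance, i, hi, hc⟩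
  · rw [hl]; exact hw

set_option maxHeartbeats 1000000 in
/-- The preimage is smooth as it contains the kernel inside a reduced subgroup. -/
theorem smooth_preimage (u : G ⟶ G') [IsMonHom u] (h : H ⟶ G') [IsMonHom h] [Smooth H.hom] [QuasiCompact H.hom]
    (a : P ⟶ G) [IsMonHom a] [Mono a] (b : P ⟶ H) [IsMonHom b] [Surjective b.left] [LocallyOfFiniteType P.hom]
    [QuasiCompact P.hom] (e : a ≫ u = b ≫ h)
    {C' : Over (Spec (CommRingCat.of k))} [GrpObj C'] (c' : C' ⟶ H) [IsMonHom (c' ≫ h)] (l : C ⟶ P) (w : C ⟶ C')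
    [Smooth C.hom] (hw : IsPullback (l ≫ a) w u (c' ≫ h)) : Smooth P.hom := by
  haveI : IsReduced C.left := GrpSchLib.isReduced_of_smooth_field C.hom
  obtain ⟨Q, _, i, hi, hic, hQr, his, hQl, hQq⟩ := GrpSchLib.RedSubgroup.exists_redSubgroup P
  haveI := hi; haveI := hic; haveI := hQr; haveI := his; haveI := hQl; haveI := hQq
  haveI : Mono i := Over.mono_of_mono_left i
  haveI : Smooth Q.hom := GrpSchLib.smooth_of_perfectField_of_isReduced Q
  haveI : Surjective (i ≫ b).left := inferInstanceAs (Surjective (i.left ≫ b.left))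
  haveI : GeometricallyReduced H.hom := GrpSchLib.IsogenyFibre.geometricallyReduced_of_smooth' H.hom
  haveI : Flat (i ≫ b).left := (GrpSchLib.HomFlatLft.flat_hom (i ≫ b)).1
  haveI : IsSeparated H.hom := GrpSchLib.AntiAffine.isSeparated_grp H
  haveI : QuasiCompact (i ≫ b).left := by
    haveI : QuasiCompact ((i ≫ b).left ≫ H.hom) := by rw [Over.w (i ≫ b)]; infer_instance
    exact QuasiCompact.of_comp (i ≫ b).left H.hom
  obtain ⟨l₀, hl₀⟩ := H23.RedSub.exists_lift_closed l.left i.left
    (by rw [i.left.surjective.range_eq]; exact Set.subset_univ _)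
  let l' : C ⟶ Q := Over.homMk l₀ (by rw [← Over.w i, reassoc_of% hl₀, Over.w l])
  have hl' : l' ≫ i = l := Over.OverMorphism.ext hl₀
  let W : Over (Spec (CommRingCat.of k)) := Over.mk (pullback.fst b.left (i ≫ b).left ≫ P.hom)
  let x : W ⟶ P := Over.homMk (pullback.fst b.left (i ≫ b).left) rfl
  let y : W ⟶ Q := Over.homMk (pullback.snd b.left (i ≫ b).left) (by
    show pullback.snd b.left (i ≫ b).left ≫ Q.hom = pullback.fst b.left (i ≫ b).left ≫ P.hom
    rw [← Over.w (i ≫ b), ← Over.w b, pullback.condition_assoc])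
  have hxy : x ≫ b = y ≫ i ≫ b := Over.OverMorphism.ext pullback.condition
  haveI : Flat x.left := inferInstanceAs (Flat (pullback.fst b.left (i ≫ b).left))
  haveI : Surjective x.left := inferInstanceAs (Surjective (pullback.fst b.left (i ≫ b).left))
  haveI : QuasiCompact x.left := inferInstanceAs (QuasiCompact (pullback.fst b.left (i ≫ b).left))
  have hd : ((x * (y ≫ i)⁻¹) ≫ a) ≫ u = 1 ≫ c' ≫ h := by
    rw [Category.assoc, e, ← Category.assoc _ b, MonObj.mul_comp, GrpObj.inv_comp, hxy, Category.assoc,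
      mul_inv_cancel, MonObj.one_comp, MonObj.one_comp]
  have hz : hw.lift _ _ hd ≫ l = x * (y ≫ i)⁻¹ := by
    rw [← cancel_mono a, Category.assoc, hw.lift_fst]
  obtain ⟨g, hg⟩ := exists_factor_of_cover x i (𝟙 P) ((hw.lift _ _ hd ≫ l') * y) (by
    rw [MonObj.mul_comp, Category.assoc, hl', hz, inv_mul_cancel_right, Category.comp_id])
  haveI : IsIso i := ⟨g, by rw [← cancel_mono i, Category.assoc, hg, Category.comp_id, Category.id_comp], hg⟩
  haveI : IsIso i.left := ((Over.forget _).mapIso (asIso i)).isIso_hom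
  rw [← MorphismProperty.cancel_left_of_respectsIso @Smooth i.left P.hom, Over.w i]
  infer_instance

set_option maxHeartbeats 1000000 in
/-- The preimage of a connected subgroup is connected when its identity component contains the kernel. -/
theorem connectedSpace_preimage (u : G ⟶ G') [IsMonHom u] (h : H ⟶ G') [IsMonHom h]
    (a : P ⟶ G) [IsMonHom a] [Mono a] (b : P ⟶ H) [IsMonHom b] [Surjective b.left] [Flat b.left]
    [LocallyOfFinitePresentation b.left] [LocallyOfFiniteType P.hom]
    [ConnectedSpace H.left] (e : a ≫ u = b ≫ h)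
    {C' : Over (Spec (CommRingCat.of k))} [GrpObj C'] (c' : C' ⟶ H) [IsMonHom (c' ≫ h)] [GrpObj C]
    (l : C ⟶ P) [IsMonHom (l ≫ a)] (w : C ⟶ C')
    [ConnectedSpace C.left] (hw : IsPullback (l ≫ a) w u (c' ≫ h)) : ConnectedSpace P.left := by
  obtain ⟨N, _, i, hi, hic, hif, hir, -, -⟩ := GrpSchLib.exists_identityComponent (G := P)
  haveI := hi; haveI := hic; haveI := hif
  haveI : IsLocallyNoetherian P.left := LocallyOfFiniteType.isLocallyNoetherian P.hom
  haveI : IsOpenImmersion i.left := IsOpenImmersion.of_flat_of_mono i.left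
  haveI : Mono i := Over.mono_of_mono_left i
  let U : Set P.left := Set.range i.left
  have hUc : IsClopen U := ⟨i.left.isClosedEmbedding.isClosed_range, i.left.isOpenEmbedding.isOpen_range⟩
  have hlift : ∀ (X : Over (Spec (CommRingCat.of k))) (f : X ⟶ P), Set.range f.left ⊆ U →
      ∃ g : X ⟶ N, g ≫ i = f := fun X f hf =>
    ⟨Over.homMk (IsOpenImmersion.lift i.left f.left hf) (by rw [← Over.w i, IsOpenImmersion.lift_fac_assoc, Over.w f]),
      Over.OverMorphism.ext (IsOpenImmersion.lift_fac _ _ hf)⟩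
  obtain ⟨l', hl'⟩ : ∃ l' : C ⟶ N, l' ≫ i = l := by
    refine hlift C l ?_
    have h1 : η[C] ≫ l = η[P] := by rw [← cancel_mono a, Category.assoc, IsMonHom.one_hom a, IsMonHom.one_hom (l ≫ a)]
    show Set.range l.left ⊆ Set.range i.left
    rw [hir]
    refine (isPreconnected_range l.left.continuous).subset_connectedComponent ⟨η[C].left (IsLocalRing.closedPoint k), ?_⟩
    rw [← Scheme.Hom.comp_apply, ← Over.comp_left, h1]
  have hsat : ∀ z z' : P.left, z ∈ U → b.left z = b.left z' → z' ∈ U := fun z z' hz hzz' => by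
    obtain ⟨p, hp1, hp2⟩ := Scheme.Pullback.exists_preimage_pullback (f := b.left) (g := b.left) z z' hzz'
    let O : (pullback b.left b.left).Opens := (pullback.fst b.left b.left) ⁻¹ᵁ i.left.opensRange
    let Y : Over (Spec (CommRingCat.of k)) := Over.mk (O.ι ≫ pullback.fst b.left b.left ≫ P.hom)
    let y : Y ⟶ P := Over.homMk (O.ι ≫ pullback.fst b.left b.left) (Category.assoc _ _ _)
    let y' : Y ⟶ P := Over.homMk (O.ι ≫ pullback.snd b.left b.left) (by
      show (O.ι ≫ pullback.snd _ _) ≫ P.hom = O.ι ≫ pullback.fst _ _ ≫ P.hom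
      rw [Category.assoc, ← Over.w b, pullback.condition_assoc])
    have hyy' : y' ≫ b = y ≫ b := Over.OverMorphism.ext (by
      show (O.ι ≫ _) ≫ b.left = (O.ι ≫ _) ≫ b.left
      rw [Category.assoc, Category.assoc, pullback.condition])
    obtain ⟨g, hg⟩ := hlift Y y (by
      rintro _ ⟨q, rfl⟩
      show (O.ι ≫ pullback.fst b.left b.left) q ∈ U
      rw [Scheme.Hom.comp_apply]
      exact q.2)
    have hd : ((y' * y⁻¹) ≫ a) ≫ u = 1 ≫ c' ≫ h := by
      rw [Category.assoc, e, ← Category.assoc _ b, MonObj.mul_comp, GrpObj.inv_comp, hyy',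
        mul_inv_cancel, MonObj.one_comp, MonObj.one_comp]
    have hk : hw.lift _ _ hd ≫ l = y' * y⁻¹ := by
      rw [← cancel_mono a, Category.assoc, hw.lift_fst]
    have hy' : ((hw.lift _ _ hd ≫ l') * g) ≫ i = y' := by
      rw [MonObj.mul_comp, Category.assoc, hl', hk, hg, inv_mul_cancel_right]
    have hpO : p ∈ O := by
      show pullback.fst b.left b.left p ∈ i.left.opensRange
      rw [hp1]; exact hz
    refine ⟨((hw.lift _ _ hd ≫ l') * g).left ⟨p, hpO⟩, ?_⟩
    rw [← Scheme.Hom.comp_apply, ← Over.comp_left, hy']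
    show (O.ι ≫ pullback.snd b.left b.left) _ = z'
    rw [Scheme.Hom.comp_apply]
    exact hp2
  let V : Set H.left := b.left '' U
  have hVc : Vᶜ = b.left '' Uᶜ := by
    ext z
    obtain ⟨z, rfl⟩ := b.left.surjective z
    exact ⟨fun h => ⟨z, fun hz => h ⟨z, hz, rfl⟩, rfl⟩,
      fun ⟨z', hz', hzz'⟩ ⟨z'', hz'', h''⟩ => hz' (hsat z'' z' hz'' (h''.trans hzz'.symm))⟩
  have hopen : IsOpenMap b.left := b.left.isOpenMap
  have hV : IsClopen V := ⟨⟨by rw [hVc]; exact hopen _ hUc.compl.isOpen⟩, hopen _ hUc.isOpen⟩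
  have hU : U = Set.univ := Set.eq_univ_of_forall fun z => by
    have h1 : V = Set.univ := hV.eq_univ ⟨_, _, ⟨η[N].left (IsLocalRing.closedPoint k), rfl⟩, rfl⟩
    obtain ⟨z', hz', hzz'⟩ := h1.symm ▸ Set.mem_univ (b.left z)
    exact hsat z' z hz' hzz'
  refine connectedSpace_iff_univ.mpr ?_
  rw [← hU]
  show _root_.IsConnected (Set.range i.left)
  rw [hir]
  exact isConnected_connectedComponent

end Groth.Agent.GModLib
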