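import Groth.Agent.GModLib.CentralizerRelative
import Groth.Agent.GModLib.BorelConjNonAffine
import Groth.Agent.NeronHDLib.EqLocus

/-!
# Normalizers of maximal tori and of their centralizers
-/

set_option autoImplicit false
set_option backward.isDefEq.respectTransparency false
set_option backward.isDefEq.respectTransparency.types false

universe u

open CategoryTheory Limits AlgebraicGeometry MonoidalCategory CartesianMonoidalCategory MonObj GrpObj

namespace Groth.Agent.GModLib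

open GrpSchLib GrpSchLib.Kunneth GrpSchLib.SubgroupEqLocus

variable {k : Type u} [Field k] [IsAlgClosed k] {G T C : Over (Spec (CommRingCat.of k))} [GrpObj G] [GrpObj T] [GrpObj C]
  [Smooth G.hom] [QuasiCompact G.hom] [ConnectedSpace G.left]

/-- A point normalizing the centralizer of a maximal torus induces an automorphism of the torus. -/
theorem exists_endo_of_normalizes_centralizer (i : T ⟶ G) (hT : AGF.IsMaxTorus i) (c : C ⟶ G)
    (hC : Red.IsCentralizerOf i c) [IsClosedImmersion c.left] (g : VecGrp.pt k k ⟶ G)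
    (hg : ∀ p : VecGrp.pt k k ⟶ C, ∃ p', p' ≫ c = g * (p ≫ c) * g⁻¹) :
    ∃ τ : T ⟶ T, τ ≫ i = i ≫ inner (toPt _ ≫ g) := by
  haveI := hT.1; haveI := hT.2.1; haveI := hC.1; haveI := hC.2.1
  obtain ⟨q1, q2, q3, -, -⟩ := TorusBasic.torus_props hT.2.2.1
  haveI := q1; haveI := q2; haveI := q3
  haveI : IsReduced T.left := GrpSchLib.isReduced_of_smooth_field T.hom
  haveI : Smooth C.hom := (centralizer_smooth_connected_nonaffine i hT.2.2.1 c hC).1
  haveI : QuasiCompact C.hom := by rw [← Over.w c]; infer_instance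
  obtain ⟨i', hi'⟩ := (hC.2.2 T i).mpr fun X' x h => by
    rw [← MonObj.mul_comp, ← MonObj.mul_comp]
    exact congrArg (· ≫ i) (TorusBilin.comm_of_isTorus hT.2.2.1 _ x h)
  haveI : IsMonHom (i' ≫ c) := hi' ▸ hT.1
  haveI : IsMonHom i' := isMonHom_of_comp i' c
  haveI : Mono (i' ≫ c) := hi' ▸ hT.2.1
  haveI : Mono i' := mono_of_mono i' c
  obtain ⟨j, hj⟩ := exists_factor_of_points c (i ≫ inner (toPt _ ≫ g)) fun t => by
    obtain ⟨p', hp'⟩ := hg (t ≫ i')
    exact ⟨p', by rw [hp', comp_inner_point', Category.assoc t i' c, hi']⟩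
  haveI : IsMonHom (j ≫ c) := hj ▸ inferInstance
  haveI : IsMonHom j := isMonHom_of_comp j c
  haveI : Mono (j ≫ c) := hj ▸ inferInstance
  haveI : Mono j := mono_of_mono j c
  have hi : AGF.IsMaxTorus i' := ⟨inferInstance, inferInstance, hT.2.2.1, fun T'' _ j' _ _ f hT'' hf =>
    hT.2.2.2 T'' (j' ≫ c) f hT'' (by rw [← Category.assoc, hf, hi'])⟩
  have hjm : AGF.IsMaxTorus j := ⟨inferInstance, inferInstance, hT.2.2.1, fun T'' _ j' _ _ f hT'' hf =>
    hT.2.2.2 T'' (j' ≫ c ≫ inner (toPt _ ≫ g)⁻¹) f hT'' (by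
      rw [reassoc_of% hf, reassoc_of% hj, inner_inner, inv_mul_cancel, inner_one, Category.comp_id])⟩
  obtain ⟨φ, hφ⟩ := maxTorus_unique_of_central i' hi j hjm fun X x a => by
    have h := (hC.2.2 X (x ≫ c)).mp ⟨x, rfl⟩ X (𝟙 X) a
    rw [Category.id_comp, ← hi', ← Category.assoc, ← MonObj.mul_comp, ← MonObj.mul_comp, cancel_mono] at h
    exact h
  exact ⟨φ.hom, by rw [← hi', reassoc_of% hφ, hj, hi']⟩

set_option maxHeartbeats 1000000 in
/-- Points normalizing the centralizer of a maximal torus normalize the torus. -/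
theorem conj_torus_of_normalizes_centralizer (i : T ⟶ G) (hT : AGF.IsMaxTorus i) (c : C ⟶ G)
    (hC : Red.IsCentralizerOf i c) [IsClosedImmersion c.left] {N : Over (Spec (CommRingCat.of k))}
    [LocallyOfFiniteType N.hom] (n : N ⟶ G)
    (hn : ∀ (X : Over (Spec (CommRingCat.of k))) (x : X ⟶ N) (p : X ⟶ C),
      ∃ p', p' ≫ c = (x ≫ n) * (p ≫ c) * (x ≫ n)⁻¹)
    (X : Over (Spec (CommRingCat.of k))) (x : X ⟶ N) (a : X ⟶ T) :
    ∃ a', a' ≫ i = (x ≫ n) * (a ≫ i) * (x ≫ n)⁻¹ := by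
  haveI := hT.1; haveI := hT.2.1; haveI := hC.1; haveI := hC.2.1
  haveI : IsSeparated G.hom := AntiAffine.isSeparated_grp G
  haveI : IsSeparated C.hom := by rw [← Over.w c]; infer_instance
  haveI : LocallyOfFiniteType C.hom := by rw [← Over.w c]; infer_instance
  obtain ⟨q1, q2, q3, -, -⟩ := TorusBasic.torus_props hT.2.2.1
  haveI := q1; haveI := q2; haveI := q3
  obtain ⟨i', hi'⟩ := (hC.2.2 T i).mpr fun X' x h => by
    rw [← MonObj.mul_comp, ← MonObj.mul_comp]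
    exact congrArg (· ≫ i) (TorusBilin.comm_of_isTorus hT.2.2.1 _ x h)
  haveI : IsMonHom (i' ≫ c) := hi' ▸ hT.1
  haveI : IsMonHom i' := isMonHom_of_comp i' c
  haveI : Mono (i' ≫ c) := hi' ▸ hT.2.1
  haveI : Mono i' := mono_of_mono i' c
  have hcen : ∀ (Y : Over (Spec (CommRingCat.of k))) (y : Y ⟶ C) (b : Y ⟶ T), y * (b ≫ i') = (b ≫ i') * y :=
    fun Y y b => by
      have h := (hC.2.2 Y (y ≫ c)).mp ⟨y, rfl⟩ Y (𝟙 Y) b
      rw [Category.id_comp, ← hi', ← Category.assoc, ← MonObj.mul_comp, ← MonObj.mul_comp, cancel_mono] at h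
      exact h
  let σ := N.hom
  let pr : ∀ Y : Over N.left, (Over.map σ).obj Y ⟶ N := fun Y => Over.homMk Y.hom rfl
  obtain ⟨z, hz⟩ := hn _ (pr (Red.bc σ T)) (DSPtsLib.theta σ (𝟙 (Red.bc σ T)) ≫ i')
  rw [Category.assoc _ i' c, hi'] at hz
  obtain ⟨j, hj⟩ := (DSPtsLib.theta_bijective (H := C) σ).2 z
  have hjc : ∀ {Y : Over N.left} (b : Y ⟶ Red.bc σ T), DSPtsLib.theta σ (b ≫ j) ≫ c =
      (pr Y ≫ n) * (DSPtsLib.theta σ b ≫ i) * (pr Y ≫ n)⁻¹ := fun {Y} b => by
    rw [DSPtsLib.theta_comp, hj, Category.assoc, hz, MonObj.comp_mul, MonObj.comp_mul, GrpObj.comp_inv,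
      reassoc_of% (show (Over.map σ).map b ≫ DSPtsLib.theta σ (𝟙 (Red.bc σ T)) = DSPtsLib.theta σ b by
        rw [← DSPtsLib.theta_comp, Category.comp_id]),
      reassoc_of% (show (Over.map σ).map b ≫ pr (Red.bc σ T) = pr Y from Over.OverMorphism.ext (Over.w b))]
  haveI : IsMonHom j := LargeNormal.isMonHom_of_mul _ fun Y b b' =>
    (DSPtsLib.theta_bijective (H := C) σ).1 (by
      rw [DSPtsLib.theta_mul, ← cancel_mono c, MonObj.mul_comp _ _ c, hjc, hjc, hjc, DSPtsLib.theta_mul, MonObj.mul_comp _ _ i]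
      group)
  haveI : Smooth (Red.bc σ T).hom := inferInstanceAs (Smooth (pullback.snd T.hom σ))
  haveI : LocallyOfFiniteType (Red.bc σ C).hom := inferInstanceAs (LocallyOfFiniteType (pullback.snd C.hom σ))
  haveI : IsSeparated (Red.bc σ C).hom := inferInstanceAs (IsSeparated (pullback.snd C.hom σ))
  haveI : LocallyOfFinitePresentation (((Over.pullback σ).map i').left ≫ (Red.bc σ C).hom) := by
    rw [Over.w]; infer_instance
  haveI : LocallyOfFinitePresentation ((Over.pullback σ).map i').left :=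
    Groth.Agent.AlgSpPts.locallyOfFinitePresentation_of_comp _ (Red.bc σ C).hom
  have hTX : SGA3x.IsMultTypeFT (Red.bc σ T) :=
    MultTypeBC.isMultTypeFT_bc σ (RankOne.isMultTypeFT_of_isTorus hT.2.2.1)
  obtain ⟨U, hUc, hU, hUle⟩ := EqLocusMono.main ((Over.pullback σ).map i') j hTX hTX
    (Or.inl fun Y y b => (DSPtsLib.theta_bijective (H := C) σ).1 (by
      rw [DSPtsLib.theta_mul, DSPtsLib.theta_mul, BC.theta_map]
      exact hcen _ _ _)) (Or.inr inferInstance)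
  haveI : JacobsonSpace N.left := LocallyOfFiniteType.jacobsonSpace N.hom
  have huniv : (U : Set N.left) = Set.univ := by
    refine NeronHDLib.univ_of_closedPoints_subset U.2.isLocallyClosed fun x hx => (hU x).mpr ?_
    obtain ⟨p, hp⟩ := exists_point_of_isClosed (K := k) N hx
    subst hp
    have hle : Le ((Over.pullback σ).map i') j p.left := by
      intro Y q b
      let r : (Over.map σ).obj Y ⟶ VecGrp.pt k k := Over.homMk q.left (by
        show q.left ≫ (VecGrp.pt k k).hom = Y.hom ≫ σ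
        rw [← Over.w p, ← Category.assoc]
        exact congrArg (· ≫ σ) (Over.w q))
      have hr : pr Y = r ≫ p := Over.OverMorphism.ext (Over.w q).symm
      obtain ⟨τ, hτ⟩ := exists_endo_of_normalizes_centralizer i hT c hC (p ≫ n) fun p' => hn _ p p'
      obtain ⟨a, ha⟩ := (DSPtsLib.theta_bijective (H := T) σ).2 (DSPtsLib.theta σ b ≫ τ)
      refine ⟨a, (DSPtsLib.theta_bijective (H := C) σ).1 ?_⟩
      rw [BC.theta_map, ha, ← cancel_mono c, hjc, Category.assoc, hi', Category.assoc, hτ, ← Category.assoc,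
        comp_inner, ← Category.assoc (toUnit _) (toPt _), hr, Category.assoc r p n,
        show toUnit ((Over.map σ).obj Y) ≫ toPt _ = r by
          conv_rhs => rw [← Category.comp_id r, ← toUnit_toPt, ← Category.assoc, comp_toUnit]]
    conv at hle => rw [← Scheme.descResidueField_stalkClosedPointTo_fromSpecResidueField k N.left p.left]
    exact EqLocusMono.Le.of_covers _ (HomUnitLocus.covers_field _) hle
  let Y : Over N.left := Over.mk x.left
  let e : (Over.map σ).obj Y ⟶ X := Over.homMk (𝟙 _) (by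
    show 𝟙 _ ≫ X.hom = x.left ≫ σ
    rw [Category.id_comp]; exact (Over.w x).symm)
  let e' : X ⟶ (Over.map σ).obj Y := Over.homMk (𝟙 _) (by
    show 𝟙 _ ≫ x.left ≫ σ = X.hom
    rw [Category.id_comp]; exact Over.w x)
  have hee : e' ≫ e = 𝟙 X := Over.OverMorphism.ext (Category.id_comp _)
  have hex : e' ≫ pr Y = x := Over.OverMorphism.ext (Category.id_comp _)
  obtain ⟨b, hb⟩ := (DSPtsLib.theta_bijective (H := T) σ).2 (e ≫ a)
  have hrange : Set.range Y.hom ⊆ Set.range U.ι := by rw [Scheme.Opens.range_ι, huniv]; exact Set.subset_univ _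
  obtain ⟨a', ha'⟩ := hUle Y (Over.homMk (IsOpenImmersion.lift U.ι Y.hom hrange) (IsOpenImmersion.lift_fac _ _ _)) b
  refine ⟨e' ≫ DSPtsLib.theta σ a', ?_⟩
  have h1 := congrArg (fun f => e' ≫ DSPtsLib.theta σ f ≫ c) ha'
  simp only [BC.theta_map, hjc, hb, Category.assoc, hi'] at h1
  rw [Category.assoc, h1]
  simp only [MonObj.comp_mul, GrpObj.comp_inv, reassoc_of% hex, reassoc_of% hee]

/-- Conjugation by an element normalizing a subgroup preserves its centralizer. -/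
theorem conj_centralizer_of_normalizes {S : Scheme.{u}} {G H C : Over S} [GrpObj G] [GrpObj H] [GrpObj C] (i : H ⟶ G)
    (c : C ⟶ G) (hC : Red.IsCentralizerOf i c) {X : Over S} (g : X ⟶ G)
    (hg : ∀ (X' : Over S) (x : X' ⟶ X) (h : X' ⟶ H), ∃ h', (x ≫ g)⁻¹ * (h ≫ i) * (x ≫ g) = h' ≫ i)
    (p : X ⟶ C) : ∃ p', p' ≫ c = g * (p ≫ c) * g⁻¹ := by
  refine (hC.2.2 X _).mpr fun X' x h => ?_
  obtain ⟨h', hh'⟩ := hg X' x h
  have e := (hC.2.2 X (p ≫ c)).mp ⟨p, rfl⟩ X' x h'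
  rw [MonObj.comp_mul, MonObj.comp_mul, GrpObj.comp_inv]
  rw [← hh'] at e
  calc (x ≫ g) * (x ≫ p ≫ c) * (x ≫ g)⁻¹ * (h ≫ i)
      = (x ≫ g) * ((x ≫ p ≫ c) * ((x ≫ g)⁻¹ * (h ≫ i) * (x ≫ g))) * (x ≫ g)⁻¹ := by group
    _ = (x ≫ g) * (((x ≫ g)⁻¹ * (h ≫ i) * (x ≫ g)) * (x ≫ p ≫ c)) * (x ≫ g)⁻¹ := by rw [e]
    _ = (h ≫ i) * ((x ≫ g) * (x ≫ p ≫ c) * (x ≫ g)⁻¹) := by group

set_option maxHeartbeats 1000000 in
/-- The centralizer of a maximal torus and the torus have the same normalizer. -/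
theorem isNormalizerOf_centralizer_iff (i : T ⟶ G) (hT : AGF.IsMaxTorus i) (c : C ⟶ G)
    (hC : Red.IsCentralizerOf i c) {N : Over (Spec (CommRingCat.of k))} [GrpObj N] (n : N ⟶ G) :
    Red.IsNormalizerOf c n ↔ Red.IsNormalizerOf i n := by
  haveI := hT.1; haveI := hT.2.1; haveI := hC.1; haveI := hC.2.1
  obtain ⟨C₁, _, c₁, hm₁, hcc₁, hcu₁⟩ := TransLib.exists_centralizer i
  haveI := hm₁; haveI := hcc₁
  haveI : Mono c₁ := Over.mono_of_mono_left c₁
  have hC₁ : Red.IsCentralizerOf i c₁ := ⟨inferInstance, inferInstance, hcu₁⟩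
  obtain ⟨ε, hε⟩ := exists_iso_of_isCentralizerOf hC hC₁
  haveI : IsIso ε.hom.left := ((Over.forget _).mapIso ε).isIso_hom
  haveI : IsClosedImmersion c.left := by rw [← hε, Over.comp_left]; infer_instance
  haveI : Smooth C.hom := (centralizer_smooth_connected_nonaffine i hT.2.2.1 c hC).1
  haveI : ConnectedSpace C.left := (centralizer_smooth_connected_nonaffine i hT.2.2.1 c hC).2
  have hconn : SGA3x.neutralSet C = Set.univ := GrpFieldLib.Jet.neutralSet_eq_univ_of_isConnected C fun s => by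
    haveI : Subsingleton ↥(Spec (CommRingCat.of k)) := inferInstanceAs (Subsingleton (PrimeSpectrum k))
    rw [show C.hom.base ⁻¹' {s} = Set.univ from Set.eq_univ_of_forall fun z => Subsingleton.elim _ _]
    exact isConnected_univ
  obtain ⟨M, _, m, hm, hmc, -⟩ := GrpFieldLib.Jet.exists_normalizer c hconn
  haveI := hmc
  haveI : LocallyOfFiniteType M.hom := by rw [← Over.w m]; infer_instance
  have key : ∀ (X : Over (Spec (CommRingCat.of k))) (g : X ⟶ G),
      (∀ (X' : Over (Spec (CommRingCat.of k))) (x : X' ⟶ X) (h : X' ⟶ C),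
        (∃ h' : X' ⟶ C, (x ≫ g) * (h ≫ c) * (x ≫ g)⁻¹ = h' ≫ c) ∧
          ∃ h' : X' ⟶ C, (x ≫ g)⁻¹ * (h ≫ c) * (x ≫ g) = h' ≫ c) ↔
      (∀ (X' : Over (Spec (CommRingCat.of k))) (x : X' ⟶ X) (h : X' ⟶ T),
        (∃ h' : X' ⟶ T, (x ≫ g) * (h ≫ i) * (x ≫ g)⁻¹ = h' ≫ i) ∧
          ∃ h' : X' ⟶ T, (x ≫ g)⁻¹ * (h ≫ i) * (x ≫ g) = h' ≫ i) := by
    intro X g
    constructor
    · intro h X' x a
      obtain ⟨z, hz⟩ := (hm.2.2 X g).mpr h
      subst hz
      have h1 : ∀ (Y : Over (Spec (CommRingCat.of k))) (y : Y ⟶ M) (p : Y ⟶ C),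
          (∃ p', p' ≫ c = (y ≫ m) * (p ≫ c) * (y ≫ m)⁻¹) ∧ ∃ p', p' ≫ c = (y ≫ m⁻¹) * (p ≫ c) * (y ≫ m⁻¹)⁻¹ := by
        intro Y y p
        obtain ⟨⟨p₁, h₁⟩, ⟨p₂, h₂⟩⟩ := (hm.2.2 M m).mp ⟨𝟙 M, Category.id_comp m⟩ Y y p
        exact ⟨⟨p₁, h₁.symm⟩, ⟨p₂, by rw [GrpObj.comp_inv, _root_.inv_inv, h₂]⟩⟩
      refine ⟨?_, ?_⟩
      · obtain ⟨a', ha'⟩ := conj_torus_of_normalizes_centralizer i hT c hC m (fun Y y p => (h1 Y y p).1) X' (x ≫ z) a
        exact ⟨a', by rw [ha', Category.assoc]⟩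
      · obtain ⟨a', ha'⟩ := conj_torus_of_normalizes_centralizer i hT c hC m⁻¹ (fun Y y p => (h1 Y y p).2) X' (x ≫ z) a
        exact ⟨a', by rw [ha', GrpObj.comp_inv, _root_.inv_inv, Category.assoc]⟩
    · intro h X' x p
      refine ⟨?_, ?_⟩
      · obtain ⟨p', hp'⟩ := conj_centralizer_of_normalizes i c hC (x ≫ g) (fun Y y a => by
          have := (h Y (y ≫ x) a).2
          rwa [Category.assoc] at this) p
        exact ⟨p', hp'.symm⟩
      · obtain ⟨p', hp'⟩ := conj_centralizer_of_normalizes i c hC (x ≫ g)⁻¹ (fun Y y a => by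
          obtain ⟨a', ha'⟩ := (h Y (y ≫ x) a).1
          exact ⟨a', by rw [GrpObj.comp_inv, _root_.inv_inv, ← ha', Category.assoc]⟩) p
        exact ⟨p', by rw [hp', _root_.inv_inv]⟩
  exact ⟨fun ⟨a, b, h⟩ => ⟨a, b, fun X g => (h X g).trans (key X g)⟩,
    fun ⟨a, b, h⟩ => ⟨a, b, fun X g => (h X g).trans (key X g).symm⟩⟩

end Groth.Agent.GModLib
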