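import Groth.Agent.GrpSchLib.UniPartDiag
import Groth.Agent.GrpSchLib.MultTypeBC
import Groth.Agent.GrpSchLib.RankOneNonComm
import Groth.Agent.MultConjLib.Bridge
import Groth.Agent.MultConjLib.Exists
import Groth.Agent.MultConjLib.Torus
import Groth.Agent.EtNormal.Basic
import Groth.Agent.TorusBilin.Central
import Mathlib.LinearAlgebra.FreeModule.PID

/-!
# Basic properties of tori over a field
-/

set_option autoImplicit false
set_option backward.isDefEq.respectTransparency false
set_option maxHeartbeats 1000000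
set_option linter.style.haveILetI false

universe u

open CategoryTheory CategoryTheory.Limits AlgebraicGeometry MonoidalCategory CartesianMonoidalCategory
open scoped MonObj
open TensorProduct WithConv

namespace Groth.Agent.GModLib.TorusBasic

open Groth.Agent.GrpSchLib Groth.Agent.GrpSchLib.AffineHopf
open Groth.Agent.GrpSchLib.UniPart

variable {k : Type u} [Field k]

theorem torus_props {T : Over (Spec (CommRingCat.of k))} [GrpObj T] (hT : Red.IsTorus T) :
    Smooth T.hom ∧ IsAffine T.left ∧ ConnectedSpace T.left ∧ IsCommMonObj T ∧ QuasiCompact T.hom := by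
  haveI : Smooth T.hom := MultConjLib.smooth_of_isTorus hT
  haveI : IsAffineHom T.hom :=
    MultConjLib.isAffineHom_of_locDS (MultConjLib.isLocDS_of_multTypeFT (RankOne.isMultTypeFT_of_isTorus hT))
  haveI := EtNormal.preconnected_of_isTorus T hT
  haveI : Nonempty T.left := ⟨η[T].left (IsLocalRing.closedPoint k)⟩
  refine ⟨inferInstance, isAffine_of_isAffineHom T.hom, ⟨inferInstance⟩, ⟨?_⟩, inferInstance⟩
  have h : μ[T] = fst T T * snd T T := by rw [Hom.mul_def, lift_fst_snd, Category.id_comp]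
  rw [h, MonObj.comp_mul, braiding_hom_fst, braiding_hom_snd]
  exact TorusBilin.comm_of_isTorus hT _ _ _

theorem isTorus_of_iso {S : Scheme.{u}} {T T' : Over S} [GrpObj T] [GrpObj T'] (e : Grp.mk T ≅ Grp.mk T')
    (hT : Red.IsTorus T) : Red.IsTorus T' := by
  obtain ⟨S', f, h1, h2, h3, h4⟩ := hT
  refine ⟨S', f, h1, h2, h3, fun s' => ?_⟩
  obtain ⟨U, hU, r, ⟨e'⟩⟩ := h4 s'
  obtain ⟨e''⟩ := GrpSchLib.MultTypeBC.bc_iso (U.ι ≫ f) e
  exact ⟨U, hU, r, ⟨e''.symm ≪≫ e'⟩⟩

theorem isSplit_bc {S U : Scheme.{u}} (t : U ⟶ S) {M : Type} [AddCommGroup M] {T : Over S} [GrpObj T]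
    (h : Red.IsSplitTorusWith M T) : Red.IsSplitTorusWith M (Red.bc t T) := by
  obtain ⟨e⟩ := h
  obtain ⟨e₁⟩ := GrpSchLib.MultTypeBC.bc_iso t e
  obtain ⟨e₂⟩ := GrpSchLib.MultTypeBC.bc_DS t M
  exact ⟨e₁ ≪≫ e₂⟩

theorem isTorus_of_split {S : Scheme.{u}} {r : ℕ} {T : Over S} [GrpObj T]
    (h : Red.IsSplitTorusWith (Fin r → ℤ) T) : Red.IsTorus T := by
  refine ⟨S, 𝟙 S, inferInstance, inferInstance, fun V hV => ⟨V, hV.isCompact, by simp⟩, fun s => ⟨⊤, trivial, r, ?_⟩⟩
  exact isSplit_bc _ h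

theorem isCocomm_of_iso {R : Type u} [CommRing R] {A : Type u} [CommRing A] [HopfAlgebra R A]
    {G : Over (Spec (CommRingCat.of R))} [GrpObj G] [IsCommMonObj G] (e : sp R A ⟶ G) [IsMonHom e] [IsIso e] :
    Coalgebra.IsCocomm R A := by
  let l : A →ₐ[R] A ⊗[R] A := Algebra.TensorProduct.includeLeft
  let r : A →ₐ[R] A ⊗[R] A := Algebra.TensorProduct.includeRight
  have h : (toConv l * toConv r).ofConv = (toConv r * toConv l).ofConv := by
    apply spMap_injective
    rw [← spMap_mul, ← spMap_mul, ← cancel_mono e, MonObj.mul_comp, MonObj.mul_comp, mul_comm]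
  constructor
  refine LinearMap.ext fun a => ?_
  have h' := AlgHom.congr_fun h a
  simp only [AlgHom.convMul_apply] at h'
  have key : ∀ z : A ⊗[R] A, Algebra.TensorProduct.lift l r (fun _ _ => Commute.all _ _) z = z := fun z => by
    induction z using TensorProduct.induction_on with
    | zero => simp
    | tmul p q => simp [l, r]
    | add p q hp hq => simp only [map_add, hp, hq]
  have key' : ∀ z : A ⊗[R] A, Algebra.TensorProduct.lift r l (fun _ _ => Commute.all _ _) z = TensorProduct.comm R A A z := fun z => by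
    induction z using TensorProduct.induction_on with
    | zero => simp
    | tmul p q => simp [l, r]
    | add p q hp hq => simp only [map_add, hp, hq]
  show TensorProduct.comm R A A (Coalgebra.comul (R := R) a) = Coalgebra.comul (R := R) a
  refine (key' _).symm.trans (Eq.trans ?_ (key _))
  convert h'.symm using 1

theorem span_grouplike [IsAlgClosed k] {T : Over (Spec (CommRingCat.of k))} [GrpObj T] (hT : Red.IsTorus T)
    {C : Type u} [CommRing C] [HopfAlgebra k C] (eC : Grp.mk (sp k C) ≅ Grp.mk T) :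
    Submodule.span k {g : C | IsGroupLikeElem k g} = ⊤ := by
  obtain ⟨h1, h2, h3, h4, h5⟩ := torus_props hT
  haveI : IsMonHom eC.hom.hom.hom := eC.hom.hom.isMonHom_hom
  let e : sp k C ≅ T := (Grp.forget _).mapIso eC
  haveI : IsMonHom e.hom := eC.hom.hom.isMonHom_hom
  haveI : Coalgebra.IsCocomm k C := isCocomm_of_iso e.hom
  haveI : LocallyOfFiniteType (sp k C).hom := by rw [← Over.w e.hom]; infer_instance
  haveI : Algebra.FiniteType k C :=
    RingHom.finiteType_algebraMap.mp ((HasRingHomProperty.Spec_iff (P := @LocallyOfFiniteType)).mp ‹_›)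
  obtain ⟨K₁, _, _, φ₁, r, ⟨e₁⟩⟩ := TorusBilin.exists_split hT
  letI : Algebra k K₁ := φ₁.toAlgebra
  obtain ⟨e₂⟩ := GrpSchLib.MultTypeBC.bc_iso (Spec.map (CommRingCat.ofHom (algebraMap k K₁))) eC
  obtain ⟨e₃⟩ := nonempty_bc_sp (R := k) K₁ C
  obtain ⟨ε⟩ := MultConjLib.exists_bialgEquiv (e₃.symm ≪≫ e₂ ≪≫ e₁)
  let ε' : K₁ ⊗[k] C ≃ₐc[K₁] MonoidAlgebra K₁ (ULift.{u} (Multiplicative (Fin r → ℤ))) :=
    ε.symm.trans (MonoidAlgebra.domCongrBialgEquiv K₁ K₁ MulEquiv.ulift.symm)
  let εi : K₁ ⊗[k] C →ₐc[K₁] MonoidAlgebra K₁ (ULift.{u} (Multiplicative (Fin r → ℤ))) := ε'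
  have hJ : ∀ b ∈ Bs k C, b = Coalgebra.counit (R := k) b • (1 : C) := by
    intro b hb
    obtain ⟨n, hn⟩ := (mem_Bs k C b).mp hb
    have h := monoidAlgebra_Bn n (map_mem εi n (tmul_mem_Bn n hn))
    rw [CoalgHomClass.counit_comp_apply εi, TensorProduct.counit_tmul, Bialgebra.counit_one] at h
    refine Algebra.TensorProduct.includeRight_injective (A := K₁) (algebraMap k K₁).injective (ε'.injective ?_)
    refine h.trans ?_
    show _ = ε' ((1 : K₁) ⊗ₜ[k] (Coalgebra.counit (R := k) b • (1 : C)))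
    rw [TensorProduct.tmul_smul, ← Algebra.TensorProduct.one_def,
      ← algebraMap_smul K₁ (Coalgebra.counit (R := k) b) (1 : K₁ ⊗[k] C), map_smul ε', map_one,
      ← Algebra.algebraMap_eq_smul_one (A := MonoidAlgebra K₁ (ULift.{u} (Multiplicative (Fin r → ℤ)))),
      Algebra.algebraMap_eq_smul_one (A := K₁)]
  refine eq_top_iff.mpr fun x _ => ?_
  have hx : x ∈ glSpan k C := by rw [glSpan_eq_top (k := k) (A := C)]; exact Submodule.mem_top
  clear * - hx hJ
  induction hx using Submodule.span_induction with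
  | mem a ha =>
    obtain ⟨g, y, hg, hy, rfl⟩ := ha
    rw [hJ y hy, mul_smul_comm, mul_one]
    exact Submodule.smul_mem _ _ (Submodule.subset_span hg)
  | zero => exact zero_mem _
  | add a b _ _ ha hb => exact add_mem ha hb
  | smul c a _ ha => exact Submodule.smul_mem _ c ha


theorem exists_free_model (M : Type u) [CommGroup M] [Group.FG M] (h : ∀ m : M, IsOfFinOrder m → m = 1) :
    ∃ r : ℕ, Nonempty (M ≃* Multiplicative (Fin r → ℤ)) := by
  haveI : Module.Finite ℤ (Additive M) := Module.Finite.iff_addGroup_fg.mpr (GroupFG.iff_add_fg.mp ‹_›)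
  haveI : Module.IsTorsionFree ℤ (Additive M) := by
    refine Module.isTorsionFree_iff_smul_eq_zero.mpr fun n x hx => ?_
    by_contra hne
    push Not at hne
    exact hne.2 (congrArg Additive.ofMul (h x.toMul (isOfFinOrder_iff_zpow_eq_one.mpr ⟨n, hne.1, congrArg Additive.toMul hx⟩)))
  obtain ⟨r, b⟩ := Module.basisOfFiniteTypeTorsionFree' (R := ℤ) (M := Additive M)
  exact ⟨r, ⟨AddEquiv.toMultiplicativeRight b.equivFun.toAddEquiv⟩⟩

end Groth.Agent.GModLib.TorusBasic
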