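import Groth.Agent.GModLib.TorusKernel
import Groth.Agent.SplitTorLib.Image
import Groth.Agent.SplitTorLib.Quot
import Groth.Agent.GrpSchLib.KernelGrp
import Groth.Agent.GrpSchLib.RankOneBig
import Groth.Agent.GModLib.TorusBasic
import Groth.Agent.S5417

/-!
# The image of a torus

For a homomorphism `f : T ⟶ G` from a torus, `G` separated, locally of finite presentation, the kernel is flat and the
quotient is a torus embedded in `G`.
-/

set_option autoImplicit false
set_option linter.style.haveILetI false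
set_option backward.isDefEq.respectTransparency false
set_option backward.isDefEq.respectTransparency.types false

universe u

open CategoryTheory CategoryTheory.Limits MonoidalCategory CartesianMonoidalCategory MonObj AlgebraicGeometry

namespace Groth.Agent.GModLib.TorusImage

open DSPtsLib (theta theta_bijective CoordM pt spU)
open GrpSchLib.HomUnitLocus (theta_comp_map theta_one)

variable {S : Scheme.{u}}

/-- Equal kernels stay equal after base change. -/
theorem ker_bc {U : Scheme.{u}} (t : U ⟶ S) {A B C : Over S} [GrpObj A] [GrpObj B] [GrpObj C] (f : A ⟶ B) (g : A ⟶ C)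
    (h : ∀ (Y : Over S) (x : Y ⟶ A), x ≫ f = 1 ↔ x ≫ g = 1) (Y : Over U) (x : Y ⟶ Red.bc t A) :
    x ≫ (Over.pullback t).map f = 1 ↔ x ≫ (Over.pullback t).map g = 1 := by
  rw [← (theta_bijective t).1.eq_iff, theta_comp_map, theta_one, h,
    ← theta_one (G := C) t Y, ← theta_comp_map, (theta_bijective t).1.eq_iff]

/-- Kernels stay kernels after base change. -/
theorem mem_bc {U : Scheme.{u}} (t : U ⟶ S) {K A B : Over S} [GrpObj K] [GrpObj A] [GrpObj B] (k : K ⟶ A) (f : A ⟶ B)
    (h : ∀ (Y : Over S) (x : Y ⟶ A), x ≫ f = 1 ↔ ∃ y, y ≫ k = x) (Y : Over U) (x : Y ⟶ Red.bc t A) :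
    x ≫ (Over.pullback t).map f = 1 ↔ ∃ y, y ≫ (Over.pullback t).map k = x := by
  rw [← (theta_bijective t).1.eq_iff, theta_comp_map, theta_one, h]
  constructor
  · rintro ⟨y, hy⟩
    obtain ⟨y', rfl⟩ := (theta_bijective t).2 y
    exact ⟨y', (theta_bijective t).1 (by rw [theta_comp_map, hy])⟩
  · rintro ⟨y, rfl⟩
    exact ⟨theta t y, (theta_comp_map t Y y k).symm⟩

theorem isKernel_mem {A B K : Over S} [GrpObj B] {k : K ⟶ A} {f : A ⟶ B} (hk : AlgGrp.IsKernel k f) (Y : Over S)
    (x : Y ⟶ A) : x ≫ f = 1 ↔ ∃ y, y ≫ k = x := by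
  constructor
  · intro h
    exact ⟨hk.lift x (toUnit Y) (by rw [h, Hom.one_def]), hk.lift_fst _ _ _⟩
  · rintro ⟨y, rfl⟩
    rw [Category.assoc, hk.w, ← Category.assoc, comp_toUnit, ← Hom.one_def]

/-- The kernel of a flat homomorphism is flat. -/
theorem flat_kernel {A B K : Over S} [GrpObj A] [GrpObj B] [IsSeparated B.hom] (p : A ⟶ B) [IsMonHom p] [Flat p.left]
    (k : K ⟶ A) [Mono k] (h : ∀ (Y : Over S) (x : Y ⟶ A), x ≫ p = 1 ↔ ∃ y, y ≫ k = x) : Flat K.hom := by
  obtain ⟨N, _, n, -, hncl, -, hn⟩ := GrpSchLib.exists_kernel p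
  haveI : IsClosedImmersion n.left := hncl
  haveI : Mono n := Over.mono_of_mono_left n
  obtain ⟨a, ha⟩ := (isKernel_mem hn K k).mp ((h K k).mpr ⟨𝟙 K, Category.id_comp k⟩)
  obtain ⟨b, hb⟩ := (h N n).mp ((isKernel_mem hn N n).mpr ⟨𝟙 N, Category.id_comp n⟩)
  haveI : IsIso a := ⟨b, by rw [← cancel_mono k, Category.assoc, hb, ha, Category.id_comp],
    by rw [← cancel_mono n, Category.assoc, ha, hb, Category.id_comp]⟩
  haveI : IsIso a.left := inferInstanceAs (IsIso ((Over.forget _).map a))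
  haveI : Flat N.hom := by
    have hsq : IsPullback n.left (toUnit N).left p.left η[B].left := IsPullback.map (Over.forget S) hn
    have := MorphismProperty.of_isPullback (P := @Flat) hsq ‹Flat p.left›
    exact this
  rw [← Over.w a]
  infer_instance

/-- Two faithfully flat homomorphisms with the same kernel have isomorphic targets. -/
theorem exists_iso_quot {A B C : Over S} [GrpObj A] [GrpObj B] [GrpObj C] (p : A ⟶ B) [IsMonHom p] [Flat p.left]
    [Surjective p.left] [QuasiCompact p.left] (q : A ⟶ C) [IsMonHom q] [Flat q.left] [Surjective q.left]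
    [QuasiCompact q.left] (h : ∀ (Y : Over S) (x : Y ⟶ A), x ≫ p = 1 ↔ x ≫ q = 1) :
    Nonempty (Grp.mk B ≅ Grp.mk C) := by
  obtain ⟨j, hj, -, hpj⟩ := SplitTorLib.descend p inferInstance q inferInstance (fun Y x => (h Y x).symm)
  obtain ⟨l, hl, -, hql⟩ := SplitTorLib.descend q inferInstance p inferInstance h
  haveI := (FpqcDescLib.covers_of_isCovering (FpqcDescLib.isCovering_of_quasiCompact p.left)).over_epi
  haveI := (FpqcDescLib.covers_of_isCovering (FpqcDescLib.isCovering_of_quasiCompact q.left)).over_epi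
  haveI := hj
  let e : B ≅ C :=
    { hom := j
      inv := l
      hom_inv_id := by rw [← cancel_epi p, reassoc_of% hpj, hql, Category.comp_id]
      inv_hom_id := by rw [← cancel_epi q, reassoc_of% hql, hpj, Category.comp_id] }
  exact ⟨(Grp.mkIso e (IsMonHom.one_hom j) (IsMonHom.mul_hom j) : Grp.mk B ≅ Grp.mk C)⟩

set_option maxHeartbeats 1000000 in
/-- Near a point of a piece where the source is split the kernel is that of `D(inc)`. -/
theorem exists_ker_eq_nhd {U : Scheme.{u}} {a : ℕ} {G : Over U} [GrpObj G] [IsSeparated G.hom]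
    [LocallyOfFiniteType G.hom] (v : Red.DS U (Fin a → ℤ) ⟶ G) [IsMonHom v] (x : U) :
    ∃ (R : Type u) (_ : CommRing R) (t : Spec (CommRingCat.of R) ⟶ U), IsOpenImmersion t ∧ x ∈ Set.range t ∧
      ∃ (r : ℕ) (inc : (Fin r → ℤ) →+ (Fin a → ℤ)), Function.Injective inc ∧
        ∀ (Y : Over (Spec (CommRingCat.of R))) (y : Y ⟶ Red.bc t (Red.DS U (Fin a → ℤ))),
          y ≫ (Over.pullback t).map v = 1 ↔ y ≫ (Over.pullback t).map (Red.DSmap U inc) = 1 := by
  classical
  obtain ⟨V, hV, hxV, -⟩ := exists_isAffineOpen_mem_and_subset (show x ∈ (⊤ : U.Opens) from trivial)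
  rw [← SetLike.mem_coe, ← hV.range_fromSpec] at hxV
  obtain ⟨p, hp⟩ := hxV
  haveI : p.asIdeal.IsPrime := p.isPrime
  obtain ⟨d, hd, L, hL⟩ := TorusKernel.exists_cutBy v hV p.asIdeal
  let R := Localization.Away d
  have hpd : p ∈ Set.range (PrimeSpectrum.comap (algebraMap Γ(U, V) R)) := by
    rw [PrimeSpectrum.localization_away_comap_range R d]
    exact hd
  obtain ⟨p', hp'⟩ := hpd
  let t : Spec (CommRingCat.of R) ⟶ U :=
    Spec.map (CommRingCat.ofHom (algebraMap Γ(U, V) R)) ≫ hV.fromSpec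
  refine ⟨R, inferInstance, t, inferInstance, ⟨p', ?_⟩, ?_⟩
  · rw [Scheme.Hom.comp_apply, ← hp, ← hp']
    rfl
  let Lm : Submodule ℤ (Fin a → ℤ) := L.toIntSubmodule
  let bs := Module.finBasis ℤ Lm
  let inc : (Fin (Module.finrank ℤ Lm) → ℤ) →+ (Fin a → ℤ) :=
    (Lm.subtype.comp bs.equivFun.symm.toLinearMap).toAddMonoidHom
  have hinc : Function.Injective inc := fun x y h => bs.equivFun.symm.injective (Subtype.ext h)
  refine ⟨_, inc, hinc, fun Y y => ?_⟩
  rw [← (theta_bijective t).1.eq_iff, theta_comp_map, theta_one,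
    ← (theta_bijective t).1.eq_iff (a := y ≫ (Over.pullback t).map (Red.DSmap U inc)), theta_comp_map, theta_one]
  generalize theta t y = z
  have hpt : ∀ (B : Type u) [CommRing B] (io : Spec (CommRingCat.of B) ⟶ Y.left),
      (Over.homMk io (Category.assoc _ _ _).symm : spU ((io ≫ Y.hom) ≫ t) ⟶ (Over.map t).obj Y) ≫ z ≫ v = 1 ↔
        (Over.homMk io (Category.assoc _ _ _).symm : spU ((io ≫ Y.hom) ≫ t) ⟶ (Over.map t).obj Y) ≫ z ≫ Red.DSmap U inc = 1 := by
    intro B _ io
    obtain ⟨c, hc⟩ := DSPtsLib.exists_eq_pt _ ((Over.homMk io (Category.assoc _ _ _).symm : spU ((io ≫ Y.hom) ≫ t) ⟶ (Over.map t).obj Y) ≫ z)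
    generalize (Over.homMk io (Category.assoc _ _ _).symm : spU ((io ≫ Y.hom) ≫ t) ⟶ (Over.map t).obj Y) = w at hc ⊢
    rw [← Category.assoc w z v, ← Category.assoc w z (Red.DSmap U inc), hc, SplitTorLib.pt_DSmap,
      SplitTorLib.pt_eq_one_iff]
    clear hc w
    revert c
    generalize io ≫ Y.hom = s
    intro c
    obtain ⟨τ, rfl⟩ : ∃ τ, Spec.map τ = s := ⟨_, Spec.map_preimage _⟩
    letI : Algebra R B := τ.hom.toAlgebra
    refine (hL B c).trans ⟨fun h n => ?_, fun h m hm => ?_⟩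
    · rw [SplitTorLib.chr_pull]
      exact h _ (bs.equivFun.symm (Multiplicative.toAdd n)).2
    · have := h (Multiplicative.ofAdd (bs.equivFun ⟨m, hm⟩))
      rw [SplitTorLib.chr_pull] at this
      convert this
      show m = inc (bs.equivFun ⟨m, hm⟩)
      simp [inc]
  have key : ∀ {W : Over U} (a' b' : (Over.map t).obj Y ⟶ W), (∀ (B : Type u) [CommRing B]
      (io : Spec (CommRingCat.of B) ⟶ Y.left), io ≫ a'.left = io ≫ b'.left) → a' = b' := by
    intro W a' b' h
    refine Over.OverMorphism.ext (Scheme.Cover.hom_ext Y.left.affineCover _ _ fun i => ?_)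
    obtain ⟨B, hB⟩ : ∃ B : CommRingCat.{u}, Y.left.affineCover.X i = Spec B := ⟨_, rfl⟩
    obtain ⟨io, hio⟩ : ∃ io : Spec B ⟶ Y.left, Y.left.affineCover.f i = eqToHom hB ≫ io :=
      ⟨eqToHom hB.symm ≫ Y.left.affineCover.f i, by simp⟩
    rw [hio, Category.assoc, Category.assoc]
    exact congrArg (_ ≫ ·) (h B io)
  constructor <;> intro hz <;> refine key _ _ fun B _ io => ?_
  · have h2 := (hpt B io).mp (by rw [hz, MonObj.comp_one])
    rw [← MonObj.comp_one (Over.homMk io (Category.assoc _ _ _).symm : spU ((io ≫ Y.hom) ≫ t) ⟶ (Over.map t).obj Y)] at h2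
    exact congrArg (fun m => Over.Hom.left m) h2
  · have h2 := (hpt B io).mpr (by rw [hz, MonObj.comp_one])
    rw [← MonObj.comp_one (Over.homMk io (Category.assoc _ _ _).symm : spU ((io ≫ Y.hom) ≫ t) ⟶ (Over.map t).obj Y)] at h2
    exact congrArg (fun m => Over.Hom.left m) h2

set_option maxHeartbeats 2000000 in
/-- The image of a torus is a torus, split on every cover on which the source is split. -/
theorem exists_torus_image_cover {T G : Over S} [GrpObj T] [GrpObj G] [IsSeparated G.hom]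
    [LocallyOfFinitePresentation G.hom] [QuasiCompact T.hom] {S' : Scheme.{u}} (φ : S' ⟶ S) (hflat : Flat φ)
    (hsurj : Surjective φ)
    (hqc : ∀ V : S.Opens, IsAffineOpen V → ∃ W : S'.Opens, IsCompact (W : Set S') ∧ φ.base '' (W : Set S') = (V : Set S))
    (hloc : ∀ s' : S', ∃ U : S'.Opens, s' ∈ U ∧ ∃ r : ℕ, Red.IsSplitTorusWith (Fin r → ℤ) (Red.bc (U.ι ≫ φ) T))
    (f : T ⟶ G) [IsMonHom f] :
    ∃ (T' : Over S) (_ : GrpObj T') (j : T' ⟶ G) (v : T ⟶ T'), Red.IsTorus T' ∧
      (∀ s' : S', ∃ U : S'.Opens, s' ∈ U ∧ ∃ r : ℕ, Red.IsSplitTorusWith (Fin r → ℤ) (Red.bc (U.ι ≫ φ) T')) ∧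
      IsMonHom j ∧ Mono j ∧ IsMonHom v ∧ v ≫ j = f ∧ Surjective v.left ∧ Flat v.left := by
  haveI := MultConjLib.smooth_of_isTorus (⟨S', φ, hflat, hsurj, hqc, hloc⟩ : Red.IsTorus T)
  obtain ⟨K, _, k, hk, hkcl, -, hker⟩ := GrpSchLib.exists_kernel f
  haveI := hk; haveI := hkcl
  haveI : Mono k := Over.mono_of_mono_left k
  haveI := hflat; haveI := hsurj
  have hmem := isKernel_mem hker
  -- the local pieces
  have local_piece : ∀ s' : S', ∃ (R : Type u) (_ : CommRing R) (j : Spec (CommRingCat.of R) ⟶ S'),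
      IsOpenImmersion j ∧ s' ∈ Set.range j ∧ ∃ (U : S'.Opens) (t : Spec (CommRingCat.of R) ⟶ U) (a r : ℕ)
        (e : Grp.mk (Red.bc (U.ι ≫ φ) T) ≅ Grp.mk (Red.DS (U : Scheme.{u}) (Fin a → ℤ)))
        (inc : (Fin r → ℤ) →+ (Fin a → ℤ)), t ≫ U.ι = j ∧ Function.Injective inc ∧
        ∀ (Y : Over (Spec (CommRingCat.of R))) (y : Y ⟶ Red.bc t (Red.DS (U : Scheme.{u}) (Fin a → ℤ))),
          y ≫ (Over.pullback t).map (e.inv.hom.hom ≫ (Over.pullback (U.ι ≫ φ)).map f) = 1 ↔
            y ≫ (Over.pullback t).map (Red.DSmap (U : Scheme.{u}) inc) = 1 := by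
    intro s'
    obtain ⟨U, hU, a, ⟨e⟩⟩ := hloc s'
    haveI : IsSeparated (Red.bc (U.ι ≫ φ) G).hom := inferInstanceAs (IsSeparated (pullback.snd G.hom _))
    haveI : LocallyOfFiniteType (Red.bc (U.ι ≫ φ) G).hom :=
      inferInstanceAs (LocallyOfFiniteType (pullback.snd G.hom _))
    haveI := e.inv.hom.isMonHom_hom
    haveI : IsMonHom (e.inv.hom.hom ≫ (Over.pullback (U.ι ≫ φ)).map f) := inferInstance
    obtain ⟨R, iR, t, ht, ⟨z, hz⟩, r, inc, hinc, hk'⟩ :=
      exists_ker_eq_nhd (e.inv.hom.hom ≫ (Over.pullback (U.ι ≫ φ)).map f) ⟨s', hU⟩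
    haveI := ht
    exact ⟨R, iR, t ≫ U.ι, inferInstance, ⟨z, by rw [Scheme.Hom.comp_apply, hz]; rfl⟩, U, t, a, r, e, inc, rfl, hinc,
      hk'⟩
  choose R iR j hj hsj U t a r e inc ht hinc hkt using local_piece
  -- the kernel is flat
  haveI hKflat : Flat K.hom := by
    let π := pullback.snd K.hom φ
    suffices Flat π by
      haveI : Flat (pullback.fst K.hom φ ≫ K.hom) := by rw [pullback.condition]; infer_instance
      exact GrpSchLib.RankOne.flat_of_comp (pullback.fst K.hom φ) K.hom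
    refine IsZariskiLocalAtTarget.of_openCover (P := @Flat) (Scheme.Cover.mkOfCovers S' (fun s' => Spec (CommRingCat.of (R s'))) j
      (fun x => ⟨x, hsj x⟩) hj) fun s' => ?_
    let g := (U s').ι ≫ φ
    let A : Over (U s' : Scheme.{u}) := Red.DS (U s' : Scheme.{u}) (Fin (a s') → ℤ)
    haveI := (e s').hom.hom.isMonHom_hom
    let kA : Red.bc (t s') (Red.bc g K) ⟶ Red.bc (t s') A :=
      (Over.pullback (t s')).map ((Over.pullback g).map k ≫ (e s').hom.hom.hom)
    haveI : IsIso ((e s').hom.hom.hom) := inferInstanceAs (IsIso ((Grp.forget _).map (e s').hom))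
    haveI : Mono ((Over.pullback g).map k ≫ (e s').hom.hom.hom) := inferInstance
    haveI : Mono kA := inferInstanceAs (Mono ((Over.pullback (t s')).map _))
    have h1 : ∀ (Y : Over (U s' : Scheme.{u})) (x : Y ⟶ A),
        x ≫ ((e s').inv.hom.hom ≫ (Over.pullback g).map f) = 1 ↔
          ∃ y, y ≫ ((Over.pullback g).map k ≫ (e s').hom.hom.hom) = x := by
      intro Y x
      rw [← Category.assoc, mem_bc g k f hmem]
      have hh : (e s').inv.hom.hom ≫ (e s').hom.hom.hom = 𝟙 A := congrArg (fun h => h.hom.hom) (e s').inv_hom_id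
      have hh' : (e s').hom.hom.hom ≫ (e s').inv.hom.hom = 𝟙 _ := congrArg (fun h => h.hom.hom) (e s').hom_inv_id
      constructor
      · rintro ⟨y, hy⟩; exact ⟨y, by rw [reassoc_of% hy, hh, Category.comp_id]⟩
      · rintro ⟨y, hy⟩; exact ⟨y, by rw [← hy, Category.assoc, Category.assoc, hh', Category.comp_id]⟩
    haveI := S5427.isMonHom_DSmap (U s' : Scheme.{u}) (inc s')
    haveI : Flat ((Over.pullback (t s')).map (Red.DSmap (U s' : Scheme.{u}) (inc s'))).left :=
      MorphismProperty.overPullbackMap _ _ (SplitTorLib.flat_surjective_qc_DSmap _ (inc s') (hinc s')).1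
    haveI : IsSeparated (Red.diag (ULift.{u} ℤ) (Fin (r s') → ℤ)).hom :=
      inferInstanceAs (IsSeparated (Spec.map _))
    haveI : IsSeparated (Red.DS (U s' : Scheme.{u}) (Fin (r s') → ℤ)).hom :=
      inferInstanceAs (IsSeparated (pullback.snd _ _))
    haveI : IsSeparated (Red.bc (t s') (Red.DS (U s' : Scheme.{u}) (Fin (r s') → ℤ))).hom :=
      inferInstanceAs (IsSeparated (pullback.snd _ (t s')))
    haveI : Flat (Red.bc (t s') (Red.bc g K)).hom :=
      flat_kernel ((Over.pullback (t s')).map (Red.DSmap (U s' : Scheme.{u}) (inc s'))) kA fun Y y => by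
        rw [← hkt s' Y y]
        exact mem_bc (t s') _ _ h1 Y y
    let iso : (Red.bc (t s') (Red.bc g K)).left ≅ pullback π (j s') :=
      pullbackLeftPullbackSndIso K.hom g (t s') ≪≫ pullback.congrHom rfl (by rw [← Category.assoc, ht]) ≪≫
        (pullbackLeftPullbackSndIso K.hom φ (j s')).symm
    have hiso : iso.inv ≫ (Red.bc (t s') (Red.bc g K)).hom = pullback.snd π (j s') := by
      rw [Iso.inv_comp_eq]
      show pullback.snd (pullback.snd K.hom g) (t s') = _
      simp [iso, π]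
    show Flat (pullback.snd π (j s'))
    rw [← hiso]
    infer_instance
  -- the quotient
  haveI : LocallyOfFinitePresentation T.hom := inferInstance
  obtain ⟨Q, _, q, hq, hquot, hQfp, m, hm, hmm, hqm⟩ :=
    S5417.result S T G (Or.inl inferInstance) f K k hker
  haveI := hq; haveI := hm; haveI := hmm
  haveI := hquot.1; haveI := hquot.2.1
  haveI : IsSeparated Q.hom := by
    haveI : Mono m.left := Over.mono_left_of_mono m
    rw [← Over.w m]; infer_instance
  haveI : QuasiCompact q.left := by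
    haveI : QuasiCompact (q.left ≫ Q.hom) := by rw [Over.w q]; infer_instance
    exact QuasiCompact.of_comp q.left Q.hom
  have hsplit : ∀ s' : S', ∃ U : S'.Opens, s' ∈ U ∧
      ∃ r : ℕ, Red.IsSplitTorusWith (Fin r → ℤ) (Red.bc (U.ι ≫ φ) Q) := fun s' => by
    haveI := hj s'
    obtain ⟨z, hz⟩ := hsj s'
    refine ⟨(j s').opensRange, ⟨z, hz⟩, r s', ?_⟩
    let g := (U s').ι ≫ φ
    haveI := (e s').inv.hom.isMonHom_hom
    haveI : IsIso ((e s').inv.hom.hom).left :=
      inferInstanceAs (IsIso ((Over.forget _).map ((Grp.forget _).map (e s').inv)))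
    let qA := (e s').inv.hom.hom ≫ (Over.pullback g).map q
    haveI : Flat ((Over.pullback g).map q).left := MorphismProperty.overPullbackMap _ _ ‹Flat q.left›
    haveI : Surjective ((Over.pullback g).map q).left := MorphismProperty.overPullbackMap _ _ ‹Surjective q.left›
    haveI : QuasiCompact ((Over.pullback g).map q).left := MorphismProperty.overPullbackMap _ _ ‹QuasiCompact q.left›
    haveI : Flat qA.left := by rw [Over.comp_left]; infer_instance
    haveI : Surjective qA.left := by rw [Over.comp_left]; infer_instance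
    haveI : QuasiCompact qA.left := by rw [Over.comp_left]; infer_instance
    haveI : IsMonHom qA := inferInstanceAs (IsMonHom (_ ≫ _))
    obtain ⟨d1, d2, d3⟩ := SplitTorLib.flat_surjective_qc_DSmap (U s' : Scheme.{u}) (inc s') (hinc s')
    haveI := S5427.isMonHom_DSmap (U s' : Scheme.{u}) (inc s')
    haveI : Flat ((Over.pullback (t s')).map (Red.DSmap (U s' : Scheme.{u}) (inc s'))).left :=
      MorphismProperty.overPullbackMap _ _ d1
    haveI : Surjective ((Over.pullback (t s')).map (Red.DSmap (U s' : Scheme.{u}) (inc s'))).left :=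
      MorphismProperty.overPullbackMap _ _ d2
    haveI : QuasiCompact ((Over.pullback (t s')).map (Red.DSmap (U s' : Scheme.{u}) (inc s'))).left :=
      MorphismProperty.overPullbackMap _ _ d3
    haveI : Flat ((Over.pullback (t s')).map qA).left := MorphismProperty.overPullbackMap _ _ ‹Flat qA.left›
    haveI : Surjective ((Over.pullback (t s')).map qA).left :=
      MorphismProperty.overPullbackMap _ _ ‹Surjective qA.left›
    haveI : QuasiCompact ((Over.pullback (t s')).map qA).left :=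
      MorphismProperty.overPullbackMap _ _ ‹QuasiCompact qA.left›
    have hqf : ∀ (Y : Over S) (x : Y ⟶ T), x ≫ q = 1 ↔ x ≫ f = 1 := fun Y x => by
      rw [← hqm, ← Category.assoc]
      exact ⟨fun h => by rw [h, MonObj.one_comp], fun h => by rw [← cancel_mono m, h, MonObj.one_comp]⟩
    have hA : ∀ (Y : Over (U s' : Scheme.{u})) (x : Y ⟶ Red.DS (U s' : Scheme.{u}) (Fin (a s') → ℤ)),
        x ≫ ((e s').inv.hom.hom ≫ (Over.pullback g).map f) = 1 ↔ x ≫ qA = 1 := fun Y x => by
      rw [← Category.assoc, ← Category.assoc, ← ker_bc g q f hqf]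
    obtain ⟨eQ⟩ := exists_iso_quot ((Over.pullback (t s')).map (Red.DSmap (U s' : Scheme.{u}) (inc s')))
      ((Over.pullback (t s')).map qA) fun Y y => by rw [← hkt s' Y y, ker_bc (t s') _ qA hA]
    let u : ((j s').opensRange : Scheme.{u}) ⟶ Spec (CommRingCat.of (R s')) :=
      IsOpenImmersion.lift (j s') (j s').opensRange.ι (by rw [Scheme.Opens.range_ι]; rfl)
    have hu : u ≫ t s' ≫ g = (j s').opensRange.ι ≫ φ := by
      rw [← Category.assoc (t s'), ht, IsOpenImmersion.lift_fac_assoc]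
    obtain ⟨e₀⟩ := GrpSchLib.MultTypeBC.bc_DS (t s') (Fin (r s') → ℤ)
    obtain ⟨e₁⟩ := GrpSchLib.MultTypeBC.bc_bc (t s') g Q
    have hsp : Red.IsSplitTorusWith (Fin (r s') → ℤ) (Red.bc (t s' ≫ g) Q) := ⟨e₁.symm ≪≫ eQ.symm ≪≫ e₀⟩
    obtain ⟨e₂⟩ := TorusBasic.isSplit_bc u hsp
    obtain ⟨e₃⟩ := GrpSchLib.MultTypeBC.bc_bc u (t s' ≫ g) Q
    obtain ⟨e₄⟩ := GrpSchLib.MultTypeBC.bc_congr hu Q
    exact ⟨e₄.symm ≪≫ e₃.symm ≪≫ e₂⟩
  exact ⟨Q, inferInstance, m, q, ⟨S', φ, hflat, hsurj, hqc, hsplit⟩, hsplit, hm, hmm, hq, hqm, hquot.1, hquot.2.1⟩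

/-- The image of a torus is a torus. -/
theorem exists_torus_image {T G : Over S} [GrpObj T] [GrpObj G] [IsSeparated G.hom]
    [LocallyOfFinitePresentation G.hom] [QuasiCompact T.hom] (hT : Red.IsTorus T) (f : T ⟶ G) [IsMonHom f] :
    ∃ (T' : Over S) (_ : GrpObj T') (j : T' ⟶ G) (v : T ⟶ T'), Red.IsTorus T' ∧ IsMonHom j ∧ Mono j ∧ IsMonHom v ∧
      v ≫ j = f ∧ Surjective v.left ∧ Flat v.left := by
  obtain ⟨S', φ, hflat, hsurj, hqc, hloc⟩ := hT
  obtain ⟨T', i, j, v, h1, -, h2⟩ := exists_torus_image_cover φ hflat hsurj hqc hloc f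
  exact ⟨T', i, j, v, h1, h2⟩

end Groth.Agent.GModLib.TorusImage
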