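import Groth.Agent.GModLib.CentralKernelBorel
import Groth.Agent.GModLib.CartanContainedRel
import Groth.Agent.GModLib.TorusNormalizer
import Groth.Agent.GModLib.CentralKernelPreimage
import Groth.Agent.GModLib.BorelNonAffine
import Groth.Agent.S4147

/-!
# Images of Cartan subgroups
-/

set_option autoImplicit false
set_option linter.style.haveILetI false
set_option backward.isDefEq.respectTransparency false
set_option backward.isDefEq.respectTransparency.types false

universe u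

open CategoryTheory Limits AlgebraicGeometry MonoidalCategory CartesianMonoidalCategory MonObj GrpObj

namespace Groth.Agent.GModLib

open GrpSchLib

variable {k : Type u} [Field k] [IsAlgClosed k]

/-- Two images of the same group agree. -/
theorem exists_iso_of_covers {S : Scheme.{u}} {A B B' H : Over S} (w : A ⟶ B) (w' : A ⟶ B') [Flat w.left]
    [Surjective w.left] [QuasiCompact w.left] [Flat w'.left] [Surjective w'.left] [QuasiCompact w'.left]
    (b : B ⟶ H) [Mono b] (b' : B' ⟶ H) [Mono b'] (h : w ≫ b = w' ≫ b') : ∃ φ : B ≅ B', φ.hom ≫ b' = b := by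
  obtain ⟨f, hf⟩ := exists_factor_of_cover w b' b w' h.symm
  obtain ⟨g, hg⟩ := exists_factor_of_cover w' b b' w h
  exact ⟨⟨f, g, by rw [← cancel_mono b, Category.assoc, hg, hf, Category.id_comp],
    by rw [← cancel_mono b', Category.assoc, hf, hg, Category.id_comp]⟩, hf⟩

set_option maxHeartbeats 1000000 in
/-- Points of the centralizer of the image torus are images of points normalizing the torus. -/
theorem exists_normalizing_lift {G H T T' : Over (Spec (CommRingCat.of k))} [GrpObj G] [GrpObj H] [GrpObj T]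
    [GrpObj T'] [Smooth G.hom] [QuasiCompact G.hom] [ConnectedSpace G.left] [Smooth H.hom] [QuasiCompact H.hom]
    (v : G ⟶ H) [IsMonHom v] [Surjective v.left] (i : T ⟶ G) (hi : AGF.IsMaxTorus i) (t' : T' ⟶ H)
    [IsMonHom t'] [Mono t'] [Smooth T'.hom] [ConnectedSpace T'.left] (wT : T ⟶ T') [Surjective wT.left]
    (e : wT ≫ t' = i ≫ v) (d : VecGrp.pt k k ⟶ H)
    (hd : ∀ (X : Over (Spec (CommRingCat.of k))) (a : X ⟶ T'),
      (toPt X ≫ d) * (a ≫ t') = (a ≫ t') * (toPt X ≫ d)) :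
    ∃ g : VecGrp.pt k k ⟶ G, g ≫ v = d ∧ ∀ (X : Over (Spec (CommRingCat.of k))) (a : X ⟶ T),
      (∃ a', (toPt X ≫ g) * (a ≫ i) * (toPt X ≫ g)⁻¹ = a' ≫ i) ∧
        ∃ a', (toPt X ≫ g)⁻¹ * (a ≫ i) * (toPt X ≫ g) = a' ≫ i := by
  haveI := hi.1; haveI := hi.2.1
  obtain ⟨q1, q2, q3, -, -⟩ := TorusBasic.torus_props hi.2.2.1
  haveI := q1; haveI := q2; haveI := q3
  haveI : IsSeparated H.hom := AntiAffine.isSeparated_grp H
  haveI : IsClosedImmersion t'.left := isClosedImmersion_of_mono_connected t'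
  haveI : LocallyOfFiniteType v.left := by
    haveI : LocallyOfFiniteType (v.left ≫ H.hom) := by rw [Over.w v]; infer_instance
    exact locallyOfFiniteType_of_comp v.left H.hom
  obtain ⟨x, hx⟩ := exists_point_lift (K := k) v d
  obtain ⟨N, _, c, r, hc, hr, hcc, hNs, hNc, -, hrc, hN⟩ := exists_preimage_component v t'
  haveI := hc; haveI := hr; haveI := hcc; haveI := hNs; haveI := hNc
  haveI : Mono c := Over.mono_of_mono_left c
  haveI : QuasiCompact N.hom := by rw [← Over.w c]; infer_instance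
  obtain ⟨b, hb⟩ := hN T i wT e
  obtain ⟨a, ha⟩ := hN T (i ≫ inner (toPt _ ≫ x)) wT (by
    rw [e, Category.assoc, inner_comp_hom, ← Category.assoc i v, ← e, Category.assoc wT, comp_inner, Category.assoc (toPt _), hx]
    refine congrArg (wT ≫ ·) ?_
    rw [show toUnit T' ≫ toPt _ ≫ d = toPt T' ≫ d by rw [← Category.assoc, toPt_comp_toPt]]
    have h1 := hd T' (𝟙 T')
    rw [Category.id_comp] at h1
    rw [h1, mul_inv_cancel_right])
  haveI : IsMonHom (a ≫ c) := ha ▸ inferInstance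
  haveI : IsMonHom a := isMonHom_of_comp a c
  haveI : Mono (a ≫ c) := ha ▸ inferInstance
  haveI : Mono a := mono_of_mono a c
  have hamax : AGF.IsMaxTorus a := ⟨inferInstance, inferInstance, hi.2.2.1, fun T'' _ j _ _ f hT'' hf =>
    hi.2.2.2 T'' (j ≫ c ≫ inner (toPt _ ≫ x)⁻¹) f hT'' (by
      rw [reassoc_of% hf, reassoc_of% ha, inner_inner, inv_mul_cancel, inner_one, Category.comp_id])⟩
  haveI : IsMonHom (b ≫ c) := hb ▸ hi.1
  haveI : IsMonHom b := isMonHom_of_comp b c
  haveI : Mono (b ≫ c) := hb ▸ hi.2.1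
  haveI : Mono b := mono_of_mono b c
  obtain ⟨T₀, _, i₀, hi₀, hconj⟩ := exists_maxTorus_all N
  haveI := hi₀.1; haveI := hi₀.2.1
  obtain ⟨y, ea, hea⟩ := hconj T a hi.2.2.1
  obtain ⟨z, eb, heb⟩ := hconj T b hi.2.2.1
  haveI : IsMonHom (eb ≫ i₀) := heb ▸ inferInstance
  haveI : IsMonHom eb := isMonHom_of_comp eb i₀
  haveI : IsIso eb := hi.2.2.2 T₀ (i₀ ≫ inner z⁻¹ ≫ c) eb hi₀.2.2.1 (by
    rw [reassoc_of% heb, reassoc_of% (inner_inner z z⁻¹), inv_mul_cancel, inner_one, Category.id_comp, hb])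
  -- a lies in the conjugate of b
  let m : 𝟙_ (Over (Spec (CommRingCat.of k))) ⟶ N := y⁻¹ * z
  have hab : (ea ≫ inv eb) ≫ b ≫ inner m = a := by
    rw [show inner m = inner z ≫ inner y⁻¹ from (inner_inner z y⁻¹).symm, Category.assoc, ← reassoc_of% heb,
      IsIso.inv_hom_id_assoc, reassoc_of% hea, inner_inner, inv_mul_cancel, inner_one, Category.comp_id]
  let τ : T ⟶ T := ea ≫ inv eb
  haveI : IsMonHom (τ ≫ b ≫ inner m) := hab ▸ inferInstance
  haveI : IsMonHom ((τ ≫ b) ≫ inner m) := (Category.assoc τ b (inner m)).symm ▸ inferInstance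
  haveI : IsIso τ := hamax.2.2.2 T (b ≫ inner m) τ hi.2.2.1 hab
  have hm : m ≫ c ≫ v = (m ≫ r) ≫ t' := by rw [Category.assoc, hrc]
  haveI : LocallyOfFiniteType wT.left := by
    haveI : LocallyOfFiniteType (wT.left ≫ T'.hom) := by rw [Over.w wT]; infer_instance
    exact locallyOfFiniteType_of_comp wT.left T'.hom
  obtain ⟨s, hs⟩ := exists_point_lift (K := k) wT (toUnit _ ≫ m ≫ r)
  let mc : VecGrp.pt k k ⟶ G := toUnit _ ≫ m ≫ c
  let g : VecGrp.pt k k ⟶ G := (s ≫ i) * (mc⁻¹ * x)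
  have hgv : g ≫ v = d := by
    simp only [g, mc, MonObj.mul_comp, GrpObj.inv_comp, Category.assoc, hx, hm]
    rw [← e, ← Category.assoc s wT, hs, Category.assoc, Category.assoc, mul_inv_cancel_left]
  -- the conjugate of i by g₀ := mc⁻¹ x
  have h0 : i ≫ inner (toPt _ ≫ (mc⁻¹ * x)) = τ ≫ i := by
    have h1 : toPt (𝟙_ (Over (Spec (CommRingCat.of k)))) ≫ (mc⁻¹ * x) = (m ≫ c)⁻¹ * (toPt _ ≫ x) := by
      rw [MonObj.comp_mul, GrpObj.comp_inv]
      simp only [mc]
      rw [← Category.assoc (toPt _) (toUnit _), toUnit_unique (toPt _ ≫ toUnit _) (𝟙 _), Category.id_comp]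
    rw [h1, ← inner_inner, ← Category.assoc i, ← ha, Category.assoc, ← GrpObj.inv_comp, ← hab]
    simp only [Category.assoc]
    rw [← inner_comp_hom, reassoc_of% (inner_inner m m⁻¹), inv_mul_cancel, inner_one, Category.id_comp, hb]
    simp only [τ, Category.assoc]
  have hX : ∀ (X : Over (Spec (CommRingCat.of k))) (p : X ⟶ T),
      (toPt X ≫ (mc⁻¹ * x)) * (p ≫ i) * (toPt X ≫ (mc⁻¹ * x))⁻¹ = (p ≫ τ) ≫ i := fun X p => by
    have h1 := congrArg (p ≫ ·) h0
    simp only [← Category.assoc] at h1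
    rw [comp_inner, Category.assoc p, show toUnit X ≫ toPt _ ≫ (mc⁻¹ * x) = toPt X ≫ (mc⁻¹ * x) by
      rw [← Category.assoc, toPt_comp_toPt]] at h1
    rw [h1]; simp only [τ, Category.assoc]
  haveI : IsMonHom (τ ≫ i) := h0 ▸ inferInstance
  haveI : IsMonHom τ := isMonHom_of_comp τ i
  haveI : IsMonHom (inv τ ≫ τ) := by rw [IsIso.inv_hom_id]; infer_instance
  haveI : IsMonHom (inv τ) := isMonHom_of_comp (inv τ) τ
  refine ⟨g, hgv, fun X p => ⟨⟨(toPt X ≫ s) * (p ≫ τ) * (toPt X ≫ s)⁻¹, ?_⟩,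
    ⟨(((toPt X ≫ s)⁻¹ * p * (toPt X ≫ s)) ≫ inv τ), ?_⟩⟩⟩
  · simp only [g, MonObj.comp_mul (toPt X) (s ≫ i), MonObj.mul_comp, GrpObj.inv_comp, ← Category.assoc]
    simp only [Category.assoc]
    rw [← Category.assoc p τ i, ← hX X p]
    group
  · have h3 : ((toPt X ≫ s)⁻¹ * p * (toPt X ≫ s)) ≫ i = (toPt X ≫ s ≫ i)⁻¹ * (p ≫ i) * (toPt X ≫ s ≫ i) := by
      rw [MonObj.mul_comp, MonObj.mul_comp, GrpObj.inv_comp, Category.assoc]
    have h2 := hX X (((toPt X ≫ s)⁻¹ * p * (toPt X ≫ s)) ≫ inv τ)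
    rw [Category.assoc _ (inv τ) τ, IsIso.inv_hom_id, Category.comp_id, h3] at h2
    simp only [g, MonObj.comp_mul (toPt X) (s ≫ i)]
    generalize (((toPt X ≫ s)⁻¹ * p * (toPt X ≫ s)) ≫ inv τ) ≫ i = Q at h2 ⊢
    generalize (toPt X ≫ s ≫ i) = S₁ at h2 ⊢
    generalize toPt X ≫ (mc⁻¹ * x) = g₀ at h2 ⊢
    calc (S₁ * g₀)⁻¹ * (p ≫ i) * (S₁ * g₀) = g₀⁻¹ * (S₁⁻¹ * (p ≫ i) * S₁) * g₀ := by group
      _ = _ := by rw [← h2]; group

set_option maxHeartbeats 1000000 in
/-- The centralizer of a maximal torus maps onto the centralizer of its image. -/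
theorem surjective_centralizer_image {G H T T' C D : Over (Spec (CommRingCat.of k))} [GrpObj G] [GrpObj H] [GrpObj T]
    [GrpObj T'] [GrpObj C] [GrpObj D] [Smooth G.hom] [QuasiCompact G.hom] [ConnectedSpace G.left] [Smooth H.hom]
    [QuasiCompact H.hom] [ConnectedSpace H.left] (v : G ⟶ H) [IsMonHom v] [Surjective v.left] (i : T ⟶ G)
    (hi : Red.IsMaximalTorus i) (c : C ⟶ G) (hc : Red.IsCentralizerOf i c) (t' : T' ⟶ H)
    (hT' : Red.IsTorus T') [IsMonHom t'] [Mono t'] (wT : T ⟶ T') [Surjective wT.left] (e : wT ≫ t' = i ≫ v)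
    (d : D ⟶ H) (hd : Red.IsCentralizerOf t' d) (w : C ⟶ D) (hw : w ≫ d = c ≫ v) :
    IsMonHom w ∧ Surjective w.left ∧ Flat w.left := by
  haveI := hi.1; haveI := hi.2.1; haveI := hc.1; haveI := hc.2.1; haveI := hd.1; haveI := hd.2.1
  obtain ⟨hCs, hCc⟩ := centralizer_smooth_connected_nonaffine i hi.2.2.1 c hc
  obtain ⟨hDs, hDc⟩ := centralizer_smooth_connected_nonaffine t' hT' d hd
  haveI := hCs; haveI := hCc; haveI := hDs; haveI := hDc
  obtain ⟨q1, q2, q3, -, -⟩ := TorusBasic.torus_props hT'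
  haveI := q1; haveI := q2; haveI := q3
  haveI : IsMonHom (w ≫ d) := hw ▸ inferInstance
  haveI : IsMonHom w := isMonHom_of_comp w d
  haveI : IsClosedImmersion c.left := isClosedImmersion_of_mono_connected c
  haveI : QuasiCompact C.hom := by rw [← Over.w c]; infer_instance
  haveI : IsClosedImmersion d.left := isClosedImmersion_of_mono_connected d
  haveI : QuasiCompact D.hom := by rw [← Over.w d]; infer_instance
  haveI : Subsingleton ↥(Spec (CommRingCat.of k)) := inferInstanceAs (Subsingleton (PrimeSpectrum k))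
  obtain ⟨N, _, n, f, hn, hnc, -, hf, hfo⟩ := exists_normalizer_open c (fun s => by
      haveI := isIso_geomPt s
      exact (pullback.fst C.hom (Red.geomPt s)).homeomorph.symm.surjective.connectedSpace
        (pullback.fst C.hom (Red.geomPt s)).homeomorph.symm.continuous) (fun s => by
      obtain ⟨Tσ, _, iσ, hmax, hcent⟩ : ∃ (Tσ : Over (Spec (CommRingCat.of (AlgebraicClosure
          ((Spec (CommRingCat.of k)).residueField s))))) (_ : GrpObj Tσ) (iσ : Tσ ⟶ Red.geomFibre s G),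
          Red.IsMaximalTorus iσ ∧ Red.IsCentralizerOf iσ ((Over.pullback (Red.geomPt s)).map c) :=
        ⟨_, inferInstance, (Over.pullback (Red.geomPt s)).map i, isMaximalTorus_bc i hi _,
          BC.isCentralizerOf_bc _ hc⟩
      refine ⟨Red.geomFibre s C, inferInstance, 𝟙 _, ?_⟩
      rw [Category.id_comp]
      exact ⟨inferInstance, inferInstance, Tσ, inferInstance, iσ, hmax, hcent⟩)
  haveI := hn.1; haveI := hn.2.1; haveI := hnc; haveI := hfo
  haveI : QuasiCompact N.hom := by rw [← Over.w n]; infer_instance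
  haveI : LocallyOfFiniteType N.hom := by rw [← Over.w n]; infer_instance
  haveI : CompactSpace N.left := (quasiCompact_iff_compactSpace N.hom).mp inferInstance
  haveI : JacobsonSpace N.left := LocallyOfFiniteType.jacobsonSpace N.hom
  let cp := IsLocalRing.closedPoint k
  haveI : Subsingleton ↥(VecGrp.pt k k).left := inferInstanceAs (Subsingleton (PrimeSpectrum k))
  haveI : Subsingleton ↥(Over.mk (Spec.map (CommRingCat.ofHom (algebraMap k k)))).left :=
    inferInstanceAs (Subsingleton (PrimeSpectrum k))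
  haveI hti : ∀ p : 𝟙_ (Over (Spec (CommRingCat.of k))) ⟶ N, IsIso (HomFinite.trans p).hom.left := fun p =>
    ((Over.forget _).mapIso (HomFinite.trans p)).isIso_hom
  have htr : ∀ (p : 𝟙_ (Over (Spec (CommRingCat.of k))) ⟶ N) (a : VecGrp.pt k k ⟶ N),
      a ≫ (HomFinite.trans p).hom = (toUnit _ ≫ p) * a := fun p a => by
    show a ≫ ((toUnit N ≫ p) * 𝟙 N) = _
    rw [MonObj.comp_mul, Category.comp_id, ← Category.assoc, comp_toUnit]
  let U : (VecGrp.pt k k ⟶ N) → Set N.left := fun p =>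
    (HomFinite.trans (toPt _ ≫ p)).hom.left '' Set.range f.left
  have hUo : ∀ p, IsOpen (U p) := fun p =>
    (HomFinite.trans (toPt _ ≫ p)).hom.left.homeomorph.isOpenMap _ f.left.isOpenEmbedding.isOpen_range
  have hcov : (⋃ p, U p) = Set.univ := by
    by_contra hne
    obtain ⟨z, hz, hzc⟩ := nonempty_inter_closedPoints (Z := (⋃ p, U p)ᶜ) (Set.nonempty_compl.mpr hne)
      (isOpen_iUnion hUo).isClosed_compl.isLocallyClosed
    obtain ⟨p, hp⟩ := exists_point_of_isClosed (K := k) N hzc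
    refine hz (Set.mem_iUnion.mpr ⟨p, η[N].left cp, ⟨η[C].left cp, ?_⟩, ?_⟩)
    · rw [← Scheme.Hom.comp_apply, ← Over.comp_left]
      haveI : IsMonHom (f ≫ n) := hf ▸ inferInstance
      haveI : IsMonHom f := isMonHom_of_comp f n
      rw [IsMonHom.one_hom f]
    · rw [← Scheme.Hom.comp_apply, ← Over.comp_left, ← hp]
      refine (congrArg (fun q : 𝟙_ (Over (Spec (CommRingCat.of k))) ⟶ N => q.left cp)
        (?_ : _ = toPt _ ≫ p)).trans ((Scheme.Hom.comp_apply _ _ _).trans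
          (congrArg p.left (Subsingleton.elim _ _)))
      show η[N] ≫ ((toUnit N ≫ toPt _ ≫ p) * 𝟙 N) = toPt _ ≫ p
      rw [MonObj.comp_mul, Category.comp_id, ← Category.assoc η[N], toUnit_unique (η[N] ≫ toUnit N) (𝟙 _),
        Category.id_comp, MonObj.one_eq_one, _root_.mul_one]
  classical
  obtain ⟨P, hP⟩ := isCompact_univ.elim_finite_subcover U hUo (by rw [hcov])
  -- points of N are finitely many translates of points of C
  have hN : ∀ a : VecGrp.pt k k ⟶ N, ∃ p ∈ P, ∃ q : VecGrp.pt k k ⟶ C, p * (q ≫ f) = a := fun a => by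
    obtain ⟨p, hpP, hp⟩ := Set.mem_iUnion₂.mp (hP (Set.mem_univ (a.left cp)))
    refine ⟨p, hpP, ?_⟩
    obtain ⟨y, ⟨y', rfl⟩, hy⟩ := hp
    have hr : Set.range (p⁻¹ * a).left ⊆ Set.range f.left := by
      rintro _ ⟨z, rfl⟩
      obtain rfl : z = cp := Subsingleton.elim _ _
      refine ⟨y', (HomFinite.trans (toPt _ ≫ p)).hom.left.homeomorph.injective ?_⟩
      show (HomFinite.trans (toPt _ ≫ p)).hom.left (f.left y') = (HomFinite.trans (toPt _ ≫ p)).hom.left _
      rw [hy, ← Scheme.Hom.comp_apply, ← Over.comp_left, htr, ← Category.assoc, toUnit_toPt, Category.id_comp,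
        mul_inv_cancel_left]
    refine ⟨Over.homMk (IsOpenImmersion.lift f.left (p⁻¹ * a).left hr)
      (by rw [← Over.w f, IsOpenImmersion.lift_fac_assoc, Over.w]), ?_⟩
    rw [show (Over.homMk (IsOpenImmersion.lift f.left (p⁻¹ * a).left hr) _ : VecGrp.pt k k ⟶ C) ≫ f = p⁻¹ * a from
      Over.OverMorphism.ext (IsOpenImmersion.lift_fac _ _ hr), mul_inv_cancel_left]
  -- the chosen images
  let δ : (VecGrp.pt k k ⟶ N) → (VecGrp.pt k k ⟶ D) := fun p =>
    if h : ∃ z, z ≫ d = p ≫ n ≫ v then h.choose else 1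
  have hD : ∀ b : VecGrp.pt k k ⟶ D, ∃ p ∈ P, ∃ q : VecGrp.pt k k ⟶ C, δ p * (q ≫ w) = b := fun b => by
    obtain ⟨g, hg, hgn⟩ := exists_normalizing_lift v i (isMaxTorus_of_isMaximalTorus hi) t' wT e (b ≫ d)
      fun X a => by
        have h1 := (hd.2.2 X (toPt X ≫ b ≫ d)).mp ⟨toPt X ≫ b, Category.assoc _ _ _⟩ X (𝟙 X) a
        rwa [Category.id_comp] at h1
    obtain ⟨a, ha⟩ := (hn.2.2 _ g).mpr fun X x q => by
      have hx : x = toPt X := Over.OverMorphism.ext ((Category.comp_id _).symm.trans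
        ((congrArg (x.left ≫ ·) (show 𝟙 _ = (VecGrp.pt k k).hom by
          show 𝟙 _ = Spec.map (CommRingCat.ofHom (algebraMap k k))
          rw [show CommRingCat.ofHom (algebraMap k k) = 𝟙 _ from rfl, Spec.map_id])).trans (Over.w x)))
      subst hx
      refine ⟨?_, ?_⟩
      · obtain ⟨q', hq'⟩ := conj_centralizer_of_normalizes i c hc (toPt X ≫ g) (fun X' x h => by
          obtain ⟨h', hh'⟩ := (hgn X' h).2
          exact ⟨h', by rw [← Category.assoc, toPt_comp_toPt, hh']⟩) q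
        exact ⟨q', hq'.symm⟩
      · obtain ⟨q', hq'⟩ := conj_centralizer_of_normalizes i c hc (toPt X ≫ g)⁻¹ (fun X' x h => by
          obtain ⟨h', hh'⟩ := (hgn X' h).1
          exact ⟨h', by rw [GrpObj.comp_inv, ← Category.assoc, toPt_comp_toPt, _root_.inv_inv, hh']⟩) q
        exact ⟨q', by rw [hq', _root_.inv_inv]⟩
    obtain ⟨p, hpP, q, hq⟩ := hN a
    refine ⟨p, hpP, q, ?_⟩
    have h1 : (p ≫ n ≫ v) * (q ≫ w ≫ d) = b ≫ d := by
      rw [← hg, ← ha, ← hq, MonObj.mul_comp, MonObj.mul_comp, Category.assoc q f n, hf, hw]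
      simp only [Category.assoc]
    have h2 : ∃ z, z ≫ d = p ≫ n ≫ v := ⟨b * (q ≫ w)⁻¹, by
      rw [MonObj.mul_comp, GrpObj.inv_comp, Category.assoc, ← h1, mul_inv_cancel_right]⟩
    rw [← cancel_mono d, MonObj.mul_comp, Category.assoc, show δ p = h2.choose from dif_pos h2, h2.choose_spec]
    exact h1
  haveI : IsSeparated D.hom := AntiAffine.isSeparated_grp D
  haveI : QuasiCompact w.left := by
    haveI : QuasiCompact (w.left ≫ D.hom) := by rw [Over.w w]; infer_instance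
    exact QuasiCompact.of_comp w.left D.hom
  haveI : JacobsonSpace D.left := LocallyOfFiniteType.jacobsonSpace D.hom
  haveI htiD : ∀ p : 𝟙_ (Over (Spec (CommRingCat.of k))) ⟶ D, IsIso (HomFinite.trans p).hom.left := fun p =>
    ((Over.forget _).mapIso (HomFinite.trans p)).isIso_hom
  let V : (VecGrp.pt k k ⟶ N) → Set D.left := fun p =>
    (HomFinite.trans (toPt _ ≫ δ p)).hom.left '' Set.range w.left
  have hVc : ∀ p, IsClosed (V p) := fun p =>
    (HomFinite.trans (toPt _ ≫ δ p)).hom.left.homeomorph.isClosedMap _ (HomClosedRange.isClosed_range _)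
  have hVcov : (⋃ p ∈ P, V p) = Set.univ := by
    by_contra hne
    obtain ⟨b, hb⟩ := exists_point_mem (D := D) (U := (⋃ p ∈ P, V p)ᶜ)
      (P.finite_toSet.isClosed_biUnion fun p _ => hVc p).isOpen_compl (Set.nonempty_compl.mpr hne)
    obtain ⟨p, hp, q, hq⟩ := hD b
    refine hb (Set.mem_iUnion₂.mpr ⟨p, hp, (q ≫ w).left cp, ⟨q.left cp, by rw [← Scheme.Hom.comp_apply, ← Over.comp_left]⟩, ?_⟩)
    rw [← Scheme.Hom.comp_apply, ← Over.comp_left, ← hq]
    refine congrArg (fun f : VecGrp.pt k k ⟶ D => f.left cp) ?_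
    show (q ≫ w) ≫ ((toUnit D ≫ toPt _ ≫ δ p) * 𝟙 D) = δ p * (q ≫ w)
    rw [MonObj.comp_mul, Category.comp_id, ← Category.assoc _ (toUnit D), comp_toUnit, ← Category.assoc (toUnit _),
      toUnit_toPt, Category.id_comp]
  haveI : IrreducibleSpace D.left := GrpFieldLib.SmoothDense.irreducibleSpace_of_connected D.hom
  obtain ⟨S₀, hS₀, hsub⟩ := isIrreducible_iff_sUnion_isClosed.mp (IrreducibleSpace.isIrreducible_univ D.left)
    (P.image V) (fun z hz => by
      obtain ⟨p, -, rfl⟩ := Finset.mem_image.mp hz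
      exact hVc p) (fun z _ => by
      obtain ⟨p, hp, hpz⟩ := Set.mem_iUnion₂.mp (hVcov.symm ▸ Set.mem_univ z : z ∈ ⋃ p ∈ P, V p)
      exact Set.mem_sUnion.mpr ⟨V p, Finset.mem_coe.mpr (Finset.mem_image_of_mem V hp), hpz⟩)
  obtain ⟨p, -, rfl⟩ := Finset.mem_image.mp hS₀
  haveI hsurj : Surjective w.left := ⟨fun y => by
    obtain ⟨x, hx, hxy⟩ := hsub (Set.mem_univ ((HomFinite.trans (toPt _ ≫ δ p)).hom.left y))
    exact (HomFinite.trans (toPt _ ≫ δ p)).hom.left.homeomorph.injective hxy ▸ hx⟩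
  haveI : GeometricallyReduced D.hom := IsogenyFibre.geometricallyReduced_of_smooth' D.hom
  exact ⟨inferInstance, hsurj, (HomFlatLft.flat_hom w).1⟩

end Groth.Agent.GModLib
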