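import Groth.Agent.GModLib.CartanTorus
import Groth.Agent.GrpSchLib.MonoSubgroupDescent

/-!
# The maximal torus of a Cartan subgroup
-/

set_option autoImplicit false
set_option backward.isDefEq.respectTransparency false
set_option backward.isDefEq.respectTransparency.types false

universe u

open CategoryTheory Limits AlgebraicGeometry MonoidalCategory CartesianMonoidalCategory MonObj GrpObj

namespace Groth.Agent.GModLib

open GrpSchLib GrpFieldLib

theorem bcGrpIso_left_fst {S S' U : Scheme.{u}} (a : U ⟶ S') (g : S' ⟶ S) (b : U ⟶ S) (h : a ≫ g = b) (A : Over S)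
    [GrpObj A] :
    ((bcGrpIso a g b h).app (Grp.mk A)).hom.hom.hom.left ≫ pullback.fst A.hom b =
      pullback.fst (Red.bc g A).hom a ≫ pullback.fst A.hom g := by
  subst h
  simp [bcGrpIso, Functor.mapGrpCompIso, Functor.mapGrpNatIso, Over.pullbackComp]
  exact (Category.id_comp _).trans (Category.id_comp _)

variable {S : Scheme.{u}}

/-- Being a maximal torus in the fibrewise sense is invariant under isomorphisms of the group. -/
theorem isMaximalTorus_of_iso {T G G' : Over S} [GrpObj T] [GrpObj G] [GrpObj G'] (β : G ≅ G') [IsMonHom β.hom]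
    (i : T ⟶ G) (h : Red.IsMaximalTorus i) : Red.IsMaximalTorus (i ≫ β.hom) := by
  haveI := h.1; haveI := h.2.1
  refine ⟨inferInstance, inferInstance, h.2.2.1, fun s T'' _ j _ _ f hT'' hf => ?_⟩
  let σ := Red.geomPt s
  let b : Red.bc σ G ≅ Red.bc σ G' := (Over.pullback σ).mapIso β
  haveI : IsMonHom b.hom := inferInstanceAs (IsMonHom ((Over.pullback σ).map β.hom))
  have hm := isMaxTorus_of_iso (Iso.refl _) (Grp.mkIso' b) ((Over.pullback σ).map i)
    ((Over.pullback σ).map (i ≫ β.hom)) (by rw [Functor.map_comp]; exact Category.id_comp _)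
    (isTorus_bc σ h.2.2.1) ⟨inferInstance, inferInstance, isTorus_bc σ h.2.2.1, fun T₁ _ j₁ _ _ f₁ h₁ h₁' =>
      h.2.2.2 s T₁ j₁ f₁ h₁ h₁'⟩
  exact hm.2.2.2 T'' j f hT'' hf

set_option maxHeartbeats 1000000 in
/-- A Cartan subgroup contains at most one maximal torus of the group. -/
theorem maxTori_eq_in_cartan {G C T₁ T₂ : Over S} [GrpObj G] [GrpObj C] [GrpObj T₁] [GrpObj T₂] [Smooth G.hom]
    [IsSeparated G.hom] [QuasiCompact G.hom] (c : C ⟶ G) (hC : SGA3x.IsCartan c) (e₁ : T₁ ⟶ C) (e₂ : T₂ ⟶ C)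
    (h₁ : Red.IsMaximalTorus (e₁ ≫ c)) (h₂ : Red.IsMaximalTorus (e₂ ≫ c)) : ∃ a : T₂ ⟶ T₁, a ≫ e₁ = e₂ := by
  have hz₁ := isCentralizerOf_of_cartan (e₁ ≫ c) c e₁ rfl h₁ hC
  haveI := hC.1; haveI := hC.2.1; haveI := hC.2.2.1
  haveI := h₁.1; haveI := h₁.2.1; haveI := h₂.1; haveI := h₂.2.1
  haveI := MultConjLib.smooth_of_isTorus h₁.2.2.1
  have hmon : ∀ {T : Over S} [GrpObj T] (e : T ⟶ C) [IsMonHom (e ≫ c)], IsMonHom e := fun {T} _ e _ =>
    { one_hom := by rw [← cancel_mono c, Category.assoc, IsMonHom.one_hom (e ≫ c), IsMonHom.one_hom c]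
      mul_hom := by
        rw [← cancel_mono c, Category.assoc, IsMonHom.mul_hom (e ≫ c), Category.assoc, IsMonHom.mul_hom c,
          ← Category.assoc (_ ⊗ₘ _), MonoidalCategory.tensorHom_comp_tensorHom] }
  haveI := hmon e₁; haveI := hmon e₂
  haveI : Mono e₁ := mono_of_mono e₁ c
  have hcentral : ∀ (Y : Over S) (g : Y ⟶ C) (a : Y ⟶ T₁), g * (a ≫ e₁) = (a ≫ e₁) * g := fun Y g a => by
    have h := (hz₁.2.2 Y (g ≫ c)).mp ⟨g, rfl⟩ Y (𝟙 Y) a
    rwa [Category.id_comp, ← Category.assoc, ← MonObj.mul_comp, ← MonObj.mul_comp, cancel_mono] at h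
  haveI : LocallyOfFinitePresentation (e₁.left ≫ C.hom) := by rw [Over.w e₁]; infer_instance
  haveI : LocallyOfFinitePresentation e₁.left := AlgSpPts.locallyOfFinitePresentation_of_comp e₁.left C.hom
  haveI : IsSeparated C.hom := by
    haveI : Mono c.left := inferInstance
    rw [← Over.w c]; infer_instance
  obtain ⟨U, -, hU, hUle⟩ := EqLocusMono.main e₁ e₂ (RankOne.isMultTypeFT_of_isTorus h₁.2.2.1)
    (RankOne.isMultTypeFT_of_isTorus h₂.2.2.1) (Or.inl hcentral) (Or.inr inferInstance)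
  have hall : ∀ s : S, s ∈ U := fun s => (hU s).mpr (by
    let σ := Red.geomPt s
    haveI : Smooth (Red.bc σ G).hom := inferInstanceAs (Smooth (pullback.snd G.hom σ))
    haveI : QuasiCompact (Red.bc σ G).hom := inferInstanceAs (QuasiCompact (pullback.snd G.hom σ))
    have hmax : ∀ {T : Over S} [GrpObj T] (i : T ⟶ G), Red.IsMaximalTorus i →
        Red.IsMaximalTorus ((Over.pullback σ).map i) := fun {T} _ i hT => by
      haveI := hT.1; haveI := hT.2.1
      exact isMaximalTorus_of_isMaxTorus ⟨inferInstance, inferInstance, isTorus_bc σ hT.2.2.1,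
        fun T'' _ j _ _ f hT'' hf => hT.2.2.2 s T'' j f hT'' hf⟩
    obtain ⟨φ, hφ⟩ := maxTori_eq_of_commute _ _ (hmax _ h₁) (hmax _ h₂) fun X a b => by
      have h := ((BC.isCentralizerOf_bc σ hz₁).2.2 X (b ≫ (Over.pullback σ).map (e₂ ≫ c))).mp
        ⟨b ≫ (Over.pullback σ).map e₂, by rw [Category.assoc, ← Functor.map_comp]⟩ X (𝟙 X) a
      rwa [Category.id_comp] at h
    let ψ : Spec (CommRingCat.of (AlgebraicClosure (S.residueField s))) ⟶ Spec (S.residueField s) :=
      Spec.map (CommRingCat.ofHom (algebraMap (S.residueField s) (AlgebraicClosure (S.residueField s))))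
    refine EqLocusMono.Le.of_covers ψ (HomUnitLocus.covers_field _) (le_of_map e₁ e₂ (Red.geomPt s) φ.hom ?_)
    rw [← cancel_mono ((Over.pullback σ).map c), Category.assoc, ← Functor.map_comp, hφ, Functor.map_comp])
  have hrange : Set.range T₂.hom ⊆ Set.range U.ι := by
    rw [Scheme.Opens.range_ι]; exact fun s _ => hall s
  obtain ⟨a, ha⟩ := hUle T₂ (Over.homMk (IsOpenImmersion.lift U.ι T₂.hom hrange) (IsOpenImmersion.lift_fac _ _ _)) (𝟙 T₂)
  rw [Category.id_comp] at ha
  exact ⟨a, ha⟩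

set_option maxHeartbeats 1000000 in
/-- The pullbacks of a maximal torus inside the base change of a Cartan subgroup agree. -/
theorem key_cartan {S' : Scheme.{u}} {G C : Over S} [GrpObj G] [GrpObj C] [Smooth G.hom] [IsSeparated G.hom]
    [QuasiCompact G.hom] (c : C ⟶ G) (hC : SGA3x.IsCartan c) (q : S' ⟶ S) {T' : Over S'} [GrpObj T']
    (e : T' ⟶ Red.bc q C) (h : Red.IsMaximalTorus (e ≫ (Over.pullback q).map c))
    (T : Scheme.{u}) (a b : T ⟶ pullback C.hom q) (hab : a ≫ pullback.fst C.hom q = b ≫ pullback.fst C.hom q)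
    (hl : ∃ l, l ≫ e.left = a) : ∃ l, l ≫ e.left = b := by
  haveI := hC.1; haveI := hC.2.1
  haveI := h.1
  haveI : Smooth (Red.bc q G).hom := inferInstanceAs (Smooth (pullback.snd G.hom q))
  haveI : QuasiCompact (Red.bc q G).hom := inferInstanceAs (QuasiCompact (pullback.snd G.hom q))
  haveI : Mono ((Over.pullback q).map c) := inferInstance
  haveI : IsMonHom e :=
    { one_hom := by rw [← cancel_mono ((Over.pullback q).map c), Category.assoc,
        IsMonHom.one_hom (e ≫ (Over.pullback q).map c), IsMonHom.one_hom ((Over.pullback q).map c)]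
      mul_hom := by
        rw [← cancel_mono ((Over.pullback q).map c), Category.assoc, IsMonHom.mul_hom (e ≫ (Over.pullback q).map c),
          Category.assoc, IsMonHom.mul_hom ((Over.pullback q).map c),
          ← Category.assoc (_ ⊗ₘ _), MonoidalCategory.tensorHom_comp_tensorHom] }
  let r : pullback q q ⟶ S := pullback.fst q q ≫ q
  have side : ∀ (p : pullback q q ⟶ S') (hp : p ≫ q = r),
      ∃ e' : Red.bc p T' ⟶ Red.bc r C, Red.IsMaximalTorus (e' ≫ (Over.pullback r).map c) ∧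
        e'.left ≫ pullback.fst C.hom r = pullback.fst T'.hom p ≫ e.left ≫ pullback.fst C.hom q := by
    intro p hp
    let E := bcGrpIso p q r hp
    let βG : Red.bc p (Red.bc q G) ≅ Red.bc r G :=
      ⟨(E.app (Grp.mk G)).hom.hom.hom, (E.app (Grp.mk G)).inv.hom.hom,
        congrArg (fun φ => φ.hom.hom) (E.app (Grp.mk G)).hom_inv_id, congrArg (fun φ => φ.hom.hom) (E.app (Grp.mk G)).inv_hom_id⟩
    let βC : Red.bc p (Red.bc q C) ⟶ Red.bc r C := (E.app (Grp.mk C)).hom.hom.hom
    haveI : IsMonHom βG.hom := inferInstanceAs (IsMonHom (E.app (Grp.mk G)).hom.hom.hom)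
    let cG : Grp.mk C ⟶ Grp.mk G := Grp.homMk' ⟨c⟩
    have enat : (Over.pullback p).map ((Over.pullback q).map c) ≫ βG.hom = βC ≫ (Over.pullback r).map c :=
      congrArg (fun φ => φ.hom.hom) (E.hom.naturality cG)
    refine ⟨(Over.pullback p).map e ≫ βC, ?_, ?_⟩
    · rw [Category.assoc, ← enat, ← Category.assoc, ← Functor.map_comp]
      exact isMaximalTorus_of_iso βG _ (isMaximalTorus_bc _ h p)
    · rw [Over.comp_left, Category.assoc]
      refine (congrArg (_ ≫ ·) (bcGrpIso_left_fst p q r hp C)).trans ?_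
      rw [← Category.assoc, ← Category.assoc (pullback.fst T'.hom p)]
      refine congrArg (· ≫ _) ?_
      exact pullback.lift_fst _ _ _
  obtain ⟨e₁, h₁, h₁f⟩ := side (pullback.fst q q) rfl
  obtain ⟨e₂, h₂, h₂f⟩ := side (pullback.snd q q) pullback.condition.symm
  haveI : Smooth (Red.bc r G).hom := inferInstanceAs (Smooth (pullback.snd G.hom r))
  haveI : QuasiCompact (Red.bc r G).hom := inferInstanceAs (QuasiCompact (pullback.snd G.hom r))
  haveI : IsSeparated (Red.bc r G).hom := inferInstanceAs (IsSeparated (pullback.snd G.hom r))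
  obtain ⟨α, hα⟩ := maxTori_eq_in_cartan _ (isCartan_bc c hC r) e₂ e₁ h₂ h₁
  obtain ⟨l, hl⟩ := hl
  have hw : (a ≫ pullback.snd C.hom q) ≫ q = (b ≫ pullback.snd C.hom q) ≫ q := by
    rw [Category.assoc, Category.assoc, ← pullback.condition, reassoc_of% hab]
  let t : T ⟶ pullback q q := pullback.lift (a ≫ pullback.snd C.hom q) (b ≫ pullback.snd C.hom q) hw
  have he : e.left ≫ pullback.snd C.hom q = T'.hom := Over.w e
  have hlT : l ≫ T'.hom = t ≫ pullback.fst q q := by
    rw [← he, reassoc_of% hl]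
    exact (pullback.lift_fst _ _ _).symm
  let y : Over.mk t ⟶ Red.bc (pullback.fst q q) T' := Over.homMk (pullback.lift l t hlT) (pullback.lift_snd _ _ _)
  refine ⟨(y ≫ α).left ≫ pullback.fst T'.hom (pullback.snd q q), pullback.hom_ext ?_ ?_⟩
  · rw [Category.assoc, Category.assoc, ← h₂f, Over.comp_left, Category.assoc, ← Category.assoc α.left,
      show α.left ≫ e₂.left = e₁.left from congrArg (fun m => m.left) hα, h₁f]
    show pullback.lift l t hlT ≫ _ = _
    rw [pullback.lift_fst_assoc, reassoc_of% hl, hab]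
  · have h3 : (y ≫ α).left ≫ pullback.snd T'.hom (pullback.snd q q) = t := Over.w (y ≫ α)
    rw [Category.assoc, Category.assoc, he, pullback.condition, reassoc_of% h3]
    exact pullback.lift_snd _ _ _

set_option maxHeartbeats 1000000 in
/-- A Cartan subgroup of a group with a maximal torus fpqc locally is the centralizer of a maximal torus. -/
theorem exists_maxTorus_of_cartan {G C : Over S} [GrpObj G] [GrpObj C] [Smooth G.hom] [IsSeparated G.hom]
    [QuasiCompact G.hom] (hG : SGA3x.HasMaxTorusFpqcLocally G) (c : C ⟶ G) (hC : SGA3x.IsCartan c) :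
    ∃ (T : Over S) (_ : GrpObj T) (i : T ⟶ G), Red.IsMaximalTorus i ∧ Red.IsCentralizerOf i c := by
  obtain ⟨S', f, hfl, hfs, hcov, T₀, _, i₀, h₀⟩ := hG
  haveI := hfl; haveI := hfs; haveI := hC.1; haveI := hC.2.1
  haveI : Smooth (Red.bc f G).hom := inferInstanceAs (Smooth (pullback.snd G.hom f))
  haveI : QuasiCompact (Red.bc f G).hom := inferInstanceAs (QuasiCompact (pullback.snd G.hom f))
  haveI : IsSeparated (Red.bc f G).hom := inferInstanceAs (IsSeparated (pullback.snd G.hom f))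
  obtain ⟨S'', q, hq, hqs, T', _, i', e', he', hi'⟩ :=
    exists_maxTorus_in_cartan_etale i₀ h₀ _ (isCartan_bc c hC f)
  haveI := hq; haveI := hqs
  let π := q ≫ f
  have hπ : FpqcDescLib.IsCovering π :=
    (FpqcDescLib.isCovering_of_lfp q).comp (FpqcDescLib.isCovering_of_flat f hcov)
  haveI : Surjective π := inferInstanceAs (Surjective (q ≫ f))
  let E := bcGrpIso q f π rfl
  let βG : Red.bc q (Red.bc f G) ≅ Red.bc π G :=
    ⟨(E.app (Grp.mk G)).hom.hom.hom, (E.app (Grp.mk G)).inv.hom.hom,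
      congrArg (fun φ => φ.hom.hom) (E.app (Grp.mk G)).hom_inv_id, congrArg (fun φ => φ.hom.hom) (E.app (Grp.mk G)).inv_hom_id⟩
  let βC : Red.bc q (Red.bc f C) ⟶ Red.bc π C := (E.app (Grp.mk C)).hom.hom.hom
  haveI : IsMonHom βG.hom := inferInstanceAs (IsMonHom (E.app (Grp.mk G)).hom.hom.hom)
  let cG : Grp.mk C ⟶ Grp.mk G := Grp.homMk' ⟨c⟩
  have enat : (Over.pullback q).map ((Over.pullback f).map c) ≫ βG.hom = βC ≫ (Over.pullback π).map c :=
    congrArg (fun φ => φ.hom.hom) (E.hom.naturality cG)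
  obtain ⟨e, hedef⟩ : ∃ e : T' ⟶ Red.bc π C, e = e' ≫ βC := ⟨_, rfl⟩
  have he : e ≫ (Over.pullback π).map c = i' ≫ βG.hom := by
    rw [hedef, Category.assoc, ← enat, reassoc_of% he']
  have hmax : Red.IsMaximalTorus (e ≫ (Over.pullback π).map c) := he ▸ isMaximalTorus_of_iso βG i' hi'
  haveI := hmax.1; haveI := hmax.2.1
  haveI : IsAffineHom T'.hom := (TransLib.multTypeFT_essFree (RankOne.isMultTypeFT_of_isTorus hmax.2.2.1)).1
  haveI : Mono ((Over.pullback π).map c) := inferInstance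
  haveI : Mono e := mono_of_mono e ((Over.pullback π).map c)
  haveI : IsMonHom e :=
    { one_hom := by rw [← cancel_mono ((Over.pullback π).map c), Category.assoc,
        IsMonHom.one_hom (e ≫ (Over.pullback π).map c), IsMonHom.one_hom ((Over.pullback π).map c)]
      mul_hom := by
        rw [← cancel_mono ((Over.pullback π).map c), Category.assoc, IsMonHom.mul_hom (e ≫ (Over.pullback π).map c),
          Category.assoc, IsMonHom.mul_hom ((Over.pullback π).map c),
          ← Category.assoc (_ ⊗ₘ _), MonoidalCategory.tensorHom_comp_tensorHom] }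
  obtain ⟨T, _, j, φ, hjm, hjmo, hφm, hφ⟩ := MonoSubgroupDescent.exists_descent e hπ (key_cartan c hC π e hmax)
  haveI := hjm; haveI := hjmo; haveI := hφm
  have hT : Red.IsTorus T := by
    obtain ⟨U, g, hgf, hgs, hgc, hgl⟩ := hmax.2.2.1
    haveI := hgf; haveI := hgs
    obtain ⟨hfl', hcov'⟩ := SubgroupEqLocus.flat_hcov_of_isCovering ((FpqcDescLib.isCovering_of_flat g hgc).comp hπ)
    refine ⟨U, g ≫ π, hfl', inferInstance, hcov', fun s => ?_⟩
    obtain ⟨W, hsW, n, ⟨w⟩⟩ := hgl s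
    obtain ⟨e₁⟩ := MultTypeBC.bc_bc (W.ι ≫ g) π T
    obtain ⟨e₂⟩ := MultTypeBC.bc_congr (Category.assoc W.ι g π) T
    obtain ⟨e₃⟩ := MultTypeBC.bc_iso (W.ι ≫ g) (Grp.mkIso' φ)
    exact ⟨W, hsW, n, ⟨e₂.symm ≪≫ e₁.symm ≪≫ e₃ ≪≫ w⟩⟩
  have hbc : (Over.pullback π).map (j ≫ c) = φ.hom ≫ (e ≫ (Over.pullback π).map c) := by
    rw [Functor.map_comp, ← hφ, Category.assoc]
  have hmax' : Red.IsMaximalTorus ((Over.pullback π).map (j ≫ c)) := by
    refine ⟨inferInstance, inferInstance, isTorus_bc π hT, fun s T'' _ j' _ _ f' hT'' hf' => ?_⟩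
    let σ := Red.geomPt s
    haveI : IsIso ((Over.pullback σ).map φ.inv ≫ f') := hmax.2.2.2 s T'' j' ((Over.pullback σ).map φ.inv ≫ f') hT'' (by
      rw [Category.assoc, hf', ← Functor.map_comp, hbc, φ.inv_hom_id_assoc])
    exact IsIso.of_isIso_comp_left ((Over.pullback σ).map φ.inv) f'
  have hmaxT : Red.IsMaximalTorus (j ≫ c) := isMaximalTorus_of_bc (j ≫ c) hT π hmax'
  exact ⟨T, inferInstance, j ≫ c, hmaxT, isCentralizerOf_of_cartan _ c j rfl hmaxT hC⟩

end Groth.Agent.GModLib
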