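import Groth.Agent.GModLib.CartanImage
import Groth.Agent.GModLib.CartanBC
import Groth.Agent.GModLib.CartanTorusDescent

/-!
# The Cartan subgroups of a quotient
-/

set_option autoImplicit false
set_option linter.style.haveILetI false
set_option backward.isDefEq.respectTransparency false
set_option backward.isDefEq.respectTransparency.types false

universe u

open CategoryTheory Limits AlgebraicGeometry MonoidalCategory CartesianMonoidalCategory MonObj GrpObj

namespace Groth.Agent.GModLib

open GrpSchLib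

/-- Being a maximal torus passes to isomorphic subgroups. -/
theorem isMaximalTorus_of_iso_source {S : Scheme.{u}} {T T' G : Over S} [GrpObj T] [GrpObj T'] [GrpObj G]
    (i : T ⟶ G) (h : Red.IsMaximalTorus i) (φ : T' ≅ T) (i' : T' ⟶ G) [IsMonHom i'] (e : φ.hom ≫ i = i') :
    Red.IsMaximalTorus i' := by
  haveI := h.1; haveI := h.2.1
  haveI : IsMonHom (φ.hom ≫ i) := e.symm ▸ inferInstance
  haveI : IsMonHom φ.hom :=
    { one_hom := by rw [← cancel_mono i, Category.assoc, IsMonHom.one_hom (φ.hom ≫ i), IsMonHom.one_hom i]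
      mul_hom := by
        rw [← cancel_mono i, Category.assoc, IsMonHom.mul_hom (φ.hom ≫ i), Category.assoc, IsMonHom.mul_hom i,
          ← Category.assoc (_ ⊗ₘ _), MonoidalCategory.tensorHom_comp_tensorHom] }
  haveI : Mono i' := e ▸ inferInstance
  refine ⟨inferInstance, inferInstance, TorusBasic.isTorus_of_iso (Grp.mkIso' φ).symm h.2.2.1,
    fun s T'' _ j _ _ f hT'' hf => ?_⟩
  haveI := h.2.2.2 s T'' j ((Over.pullback (Red.geomPt s)).map φ.inv ≫ f) hT'' (by
    rw [Category.assoc, hf, ← Functor.map_comp, ← e, φ.inv_hom_id_assoc])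
  exact IsIso.of_isIso_comp_left ((Over.pullback (Red.geomPt s)).map φ.inv) f

variable {k : Type u} [Field k] [IsAlgClosed k] {G H : Over (Spec (CommRingCat.of k))} [GrpObj G] [GrpObj H]
  [Smooth G.hom] [QuasiCompact G.hom] [ConnectedSpace G.left] [Smooth H.hom] [QuasiCompact H.hom]

/-- The image of a maximal torus is a maximal torus. -/
theorem exists_maxTorus_image (v : G ⟶ H) [IsMonHom v] [Surjective v.left] {T : Over (Spec (CommRingCat.of k))}
    [GrpObj T] (i : T ⟶ G) (hi : Red.IsMaximalTorus i) :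
    ∃ (T' : Over (Spec (CommRingCat.of k))) (_ : GrpObj T') (t' : T' ⟶ H) (w : T ⟶ T'), Red.IsMaximalTorus t' ∧
      IsMonHom w ∧ w ≫ t' = i ≫ v ∧ Surjective w.left ∧ Flat w.left := by
  haveI : IsSeparated G.hom := AntiAffine.isSeparated_grp G
  haveI : IsSeparated H.hom := AntiAffine.isSeparated_grp H
  exact Groth.Agent.S4147.result _ G H (hasMaxTorusFpqcLocally_algClosed G) v
    (fun _ => MorphismProperty.overPullbackMap _ _ ‹Surjective v.left›) T i hi

/-- The image of the centralizer of a maximal torus is the centralizer of the image. -/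
theorem isCentralizerOf_image [ConnectedSpace H.left] (v : G ⟶ H) [IsMonHom v] [Surjective v.left]
    {T C T' C' : Over (Spec (CommRingCat.of k))} [GrpObj T] [GrpObj C] [GrpObj T'] [GrpObj C'] (i : T ⟶ G)
    (hi : Red.IsMaximalTorus i) (c : C ⟶ G) (hc : Red.IsCentralizerOf i c) (t' : T' ⟶ H)
    (ht' : Red.IsMaximalTorus t') (wT : T ⟶ T') [Surjective wT.left] [Flat wT.left] (e : wT ≫ t' = i ≫ v)
    (c' : C' ⟶ H) [IsMonHom c'] [Mono c'] (wC : C ⟶ C') [Flat wC.left] [Surjective wC.left] (e' : wC ≫ c' = c ≫ v) :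
    Red.IsCentralizerOf t' c' := by
  haveI := hi.1; haveI := hi.2.1; haveI := ht'.1; haveI := ht'.2.1; haveI := hc.1; haveI := hc.2.1
  haveI : IsSeparated G.hom := AntiAffine.isSeparated_grp G
  haveI : IsSeparated H.hom := AntiAffine.isSeparated_grp H
  obtain ⟨q1, q2, q3, -, -⟩ := TorusBasic.torus_props hi.2.2.1
  obtain ⟨r1, r2, r3, -, -⟩ := TorusBasic.torus_props ht'.2.2.1
  haveI := q1; haveI := q2; haveI := r1; haveI := r2
  haveI : QuasiCompact wT.left := by
    haveI : QuasiCompact (wT.left ≫ T'.hom) := by rw [Over.w wT]; infer_instance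
    exact QuasiCompact.of_comp wT.left T'.hom
  have hv : FpqcDescLib.Covers wT.left :=
    FpqcDescLib.covers_of_isCovering (FpqcDescLib.isCovering_of_quasiCompact _)
  obtain ⟨D, _, d, hd, -, -, -⟩ := exists_centralizer_maxTorus t' ht'
  haveI := hd.1; haveI := hd.2.1
  obtain ⟨w, hw⟩ := (hd.2.2 C (c ≫ v)).mpr (commute_image v i t' wT hv e c ((hc.2.2 C c).mp ⟨𝟙 C, Category.id_comp c⟩))
  obtain ⟨-, hws, hwf⟩ := surjective_centralizer_image v i hi c hc t' ht'.2.2.1 wT e d hd w hw
  haveI := hws; haveI := hwf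
  haveI : IsClosedImmersion c.left := by
    haveI : Smooth C.hom := (centralizer_smooth_connected_nonaffine i hi.2.2.1 c hc).1
    haveI : ConnectedSpace C.left := (centralizer_smooth_connected_nonaffine i hi.2.2.1 c hc).2
    exact isClosedImmersion_of_mono_connected c
  haveI : QuasiCompact C.hom := by rw [← Over.w c]; infer_instance
  haveI : IsSeparated D.hom := AntiAffine.isSeparated_grp D
  haveI : IsSeparated C'.hom := AntiAffine.isSeparated_grp C'
  haveI : QuasiCompact w.left := by
    haveI : QuasiCompact (w.left ≫ D.hom) := by rw [Over.w w]; infer_instance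
    exact QuasiCompact.of_comp w.left D.hom
  haveI : QuasiCompact wC.left := by
    haveI : QuasiCompact (wC.left ≫ C'.hom) := by rw [Over.w wC]; infer_instance
    exact QuasiCompact.of_comp wC.left C'.hom
  obtain ⟨φ, hφ⟩ := exists_iso_of_covers wC w c' d (e'.trans hw.symm)
  haveI : IsMonHom (Iso.refl H).hom := inferInstanceAs (IsMonHom (𝟙 H))
  exact isCentralizerOf_of_iso (Iso.refl T') φ (Iso.refl H) (by simp) (by simp [hφ]) hd

end Groth.Agent.GModLib
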