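import Groth.Agent.GModLib.TorusNormalizer

/-!
# A Cartan subgroup of a connected solvable group is its own normalizer
-/

set_option autoImplicit false
set_option backward.isDefEq.respectTransparency false
set_option backward.isDefEq.respectTransparency.types false

universe u

open CategoryTheory Limits AlgebraicGeometry MonoidalCategory CartesianMonoidalCategory MonObj GrpObj

namespace Groth.Agent.GModLib

open GrpSchLib GrpSchLib.Kunneth

variable {k : Type u} [Field k] [IsAlgClosed k] {B T C : Over (Spec (CommRingCat.of k))} [GrpObj B] [GrpObj T] [GrpObj C]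
  [Smooth B.hom] [QuasiCompact B.hom] [ConnectedSpace B.left]

set_option maxHeartbeats 1000000 in
/-- A point of a connected solvable group normalizing a torus centralizes it. -/
theorem commute_of_normalizes_solvable (hsol : Red.IsSolvableGrp B) (t : T ⟶ B) [IsMonHom t] [Mono t]
    (hT : Red.IsTorus T) (g : VecGrp.pt k k ⟶ B) (τ : T ⟶ T) (hτ : τ ≫ t = t ≫ inner (toPt _ ≫ g))
    (s : VecGrp.pt k k ⟶ T) : Commute g (s ≫ t) := by
  obtain ⟨q1, q2, q3, -, -⟩ := TorusBasic.torus_props hT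
  haveI := q1; haveI := q2; haveI := q3
  obtain ⟨L, _, l, hl, hfac⟩ := Chevalley.BC.exists_affPart B
  haveI := hl.hom; haveI := hl.closed; haveI := hl.smooth; haveI := hl.conn
  haveI : IsAffine L.left := hl.prop
  haveI : Mono l := Over.mono_of_mono_left l
  obtain ⟨eT, heT⟩ := hfac T t
  haveI : IsMonHom (eT ≫ l) := heT ▸ inferInstance
  haveI : IsMonHom eT := isMonHom_of_comp eT l
  haveI : Mono (eT ≫ l) := heT ▸ inferInstance
  haveI : Mono eT := mono_of_mono eT l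
  obtain ⟨Q, _, q, hq, hqs, hqf, hkq, hQp, -, -⟩ :=
    Chevalley.BC.exists_quot_of_max l fun N' _ i' _ _ _ _ _ _ => hfac N' i'
  haveI := hq; haveI := hqs; haveI := hqf; haveI := hQp
  obtain ⟨I, _, p, K, _, κ, hp, hI, hIl, hIq, hfl, hs, hκ, hκc, hk, hbij⟩ := Rosenlicht.exists_antiAffine_kernel B
  haveI := hp; haveI := hI; haveI := hIl; haveI := hIq; haveI := hfl; haveI := hs; haveI := hκ; haveI := hκc
  haveI : LocallyOfFiniteType K.hom := by rw [← Over.w κ]; infer_instance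
  haveI : QuasiCompact K.hom := by rw [← Over.w κ]; infer_instance
  have hO := (AntiAffine.bijective_appTop_iff K.hom).mpr hbij
  haveI := Chevalley.BC.surjective_comp_affine l hl.normal q hkq p
  haveI : LocallyOfFiniteType (l ≫ p).left := by
    haveI : LocallyOfFiniteType ((l ≫ p).left ≫ I.hom) := by rw [Over.w (l ≫ p)]; infer_instance
    exact locallyOfFiniteType_of_comp (l ≫ p).left I.hom
  -- the point is a central one times one of the affine part
  obtain ⟨l₀, hl₀⟩ := exists_point_lift (K := k) (l ≫ p) (g ≫ p)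
  obtain ⟨z, hz⟩ : ∃ z : VecGrp.pt k k ⟶ K, z ≫ κ = g * (l₀ ≫ l)⁻¹ :=
    ⟨hk.lift (g * (l₀ ≫ l)⁻¹) (toUnit _) (by
      rw [MonObj.mul_comp, GrpObj.inv_comp, Category.assoc l₀, hl₀, mul_inv_cancel, Hom.one_def]),
      hk.lift_fst _ _ _⟩
  have hcz : ∀ y : VecGrp.pt k k ⟶ B, Commute (z ≫ κ) y := fun y => by
    have h := S7996.result k K B hO κ (VecGrp.pt k k) z (VecGrp.pt k k) (𝟙 _) y
    rw [Category.id_comp] at h
    exact h
  have hg : g = (z ≫ κ) * (l₀ ≫ l) := by rw [hz, inv_mul_cancel_right]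
  have hconj : ∀ r : VecGrp.pt k k ⟶ T, (r ≫ τ) ≫ eT = l₀ * (r ≫ eT) * l₀⁻¹ := fun r => by
    rw [← cancel_mono l, MonObj.mul_comp, MonObj.mul_comp, GrpObj.inv_comp, Category.assoc, Category.assoc,
      Category.assoc r eT l, heT, hτ, comp_inner_point', hg,
      show (z ≫ κ) * (l₀ ≫ l) * (r ≫ t) * ((z ≫ κ) * (l₀ ≫ l))⁻¹ =
        (z ≫ κ) * ((l₀ ≫ l) * (r ≫ t) * (l₀ ≫ l)⁻¹) * (z ≫ κ)⁻¹ by group,
      (hcz _).eq, mul_inv_cancel_right]
  obtain ⟨d, M, hM⟩ := exists_triangular (isSolvableGrp_of_mono_hom l hsol)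
  obtain ⟨T₁, _, i₁, hT₁⟩ := exists_fullTorus hM
  obtain ⟨x, e, he⟩ := exists_conj_into_fullTorus hM i₁ hT₁ hT eT
  haveI := hT₁.1
  haveI : IsClosedImmersion i₁.left := hT₁.2.1
  haveI : Mono i₁ := Over.mono_of_mono_left i₁
  haveI : IsMonHom (e ≫ i₁) := he ▸ inferInstance
  haveI : IsMonHom e := isMonHom_of_comp e i₁
  haveI : Mono (e ≫ i₁) := he ▸ inferInstance
  haveI : Mono e := mono_of_mono e i₁
  have hfix : s ≫ τ = s := by
    rw [← cancel_mono e]
    refine (inv_mul_eq_one.mp (hT₁.2.2.2.2 _ ((mem_uni_iff_diagHom hM _).mpr ?_))).symm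
    have h1 : diagHom hM ((s ≫ e) ≫ i₁) = diagHom hM (((s ≫ τ) ≫ e) ≫ i₁) := by
      rw [Category.assoc s e, he, Category.assoc (s ≫ τ) e, he, ← Category.assoc s eT, comp_inner, diagHom_conj,
        ← Category.assoc (s ≫ τ) eT, comp_inner, diagHom_conj, hconj, diagHom_conj]
    rw [MonObj.mul_comp, GrpObj.inv_comp, map_mul, ← h1, ← map_mul, inv_mul_cancel, map_one]
  have h : (s ≫ τ) ≫ t = g * (s ≫ t) * g⁻¹ := by rw [Category.assoc, hτ, comp_inner_point']
  rw [hfix] at h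
  show g * (s ≫ t) = (s ≫ t) * g
  exact (eq_mul_inv_iff_mul_eq.mp h).symm

set_option maxHeartbeats 1000000 in
/-- A Cartan subgroup of a connected solvable group contains the points normalizing it. -/
theorem cartan_self_normalizing (hsol : Red.IsSolvableGrp B) (t : T ⟶ B) (hT : AGF.IsMaxTorus t) (c : C ⟶ B)
    (hC : Red.IsCentralizerOf t c) {X : Over (Spec (CommRingCat.of k))} (y : X ⟶ B)
    (hy : ∀ (X' : Over (Spec (CommRingCat.of k))) (x : X' ⟶ X) (h : X' ⟶ C),
      (∃ h' : X' ⟶ C, (x ≫ y) * (h ≫ c) * (x ≫ y)⁻¹ = h' ≫ c) ∧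
        ∃ h' : X' ⟶ C, (x ≫ y)⁻¹ * (h ≫ c) * (x ≫ y) = h' ≫ c) : ∃ v, v ≫ c = y := by
  haveI := hT.1; haveI := hT.2.1; haveI := hC.1; haveI := hC.2.1
  haveI := MultConjLib.smooth_of_isTorus hT.2.2.1
  have hD := MultConjLib.isLocDS_of_multTypeFT (RankOne.isMultTypeFT_of_isTorus hT.2.2.1)
  have hconn := MultConjLib.neutralSet_eq_univ_of_isTorus hT.2.2.1
  obtain ⟨N, _, n, hn, hnc, hnf⟩ := GrpFieldLib.Jet.exists_normalizer t hconn
  haveI := hnc
  haveI : Mono n.left := IsPreimmersion.instMonoScheme _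
  haveI : Smooth N.hom := (Groth.Agent.S1488.result N.hom).mpr ⟨by rw [← Over.w n]; infer_instance,
    MultConjLib.isFormallySmoothHom_sub_transporter hD hD ‹_› t t n fun X g => (hn.2.2 X g).trans
      (forall₂_congr fun X' x => forall_and)⟩
  haveI : IsReduced N.left := GrpSchLib.isReduced_of_smooth_field N.hom
  obtain ⟨C₁, _, c₁, hm₁, hcc₁, hcu₁⟩ := TransLib.exists_centralizer t
  haveI := hm₁; haveI := hcc₁
  obtain ⟨q1, q2, q3, -, -⟩ := TorusBasic.torus_props hT.2.2.1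
  haveI := q1; haveI := q2; haveI := q3
  haveI : IsReduced T.left := GrpSchLib.isReduced_of_smooth_field T.hom
  haveI : IsSeparated B.hom := AntiAffine.isSeparated_grp B
  obtain ⟨f, hf⟩ := exists_factor_of_points c₁ n fun p => by
    obtain ⟨τ, hτ⟩ : ∃ τ, τ ≫ t = t ≫ inner (toPt _ ≫ p ≫ n) := by
      obtain ⟨⟨τ, hτ⟩, -⟩ := (hn.2.2 _ (p ≫ n)).mp ⟨p, rfl⟩ T (toPt T) (𝟙 T)
      rw [Category.id_comp] at hτ
      refine ⟨τ, ?_⟩
      rw [← hτ, comp_inner, ← Category.assoc (toUnit T), show toUnit T ≫ toPt _ = toPt T by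
        conv_rhs => rw [← Category.comp_id (toPt T), ← toUnit_toPt, ← Category.assoc, comp_toUnit]]
    refine (hcu₁ _ (p ≫ n)).mpr fun X' r a => ?_
    have hinv : t ≫ inner (toPt _ ≫ p ≫ n) = t := hom_ext_points_sep fun s => by
      rw [comp_inner_point', (commute_of_normalizes_solvable hsol t hT.2.2.1 (p ≫ n) τ hτ s).eq, mul_inv_cancel_right]
    have e := comp_inner (toPt _ ≫ p ≫ n) (a ≫ t)
    rw [Category.assoc a, hinv, ← Category.assoc (toUnit X'), show toUnit X' ≫ toPt _ = r by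
      conv_rhs => rw [← Category.comp_id r, ← toUnit_toPt, ← Category.assoc, comp_toUnit]] at e
    exact (eq_mul_inv_iff_mul_eq.mp e).symm
  obtain ⟨w, hw⟩ := (((isNormalizerOf_centralizer_iff t hT c hC n).mpr hn).2.2 X y).mpr hy
  obtain ⟨v, hv⟩ := (hC.2.2 X y).mpr ((hcu₁ X y).mp ⟨w ≫ f, by rw [Category.assoc, hf, hw]⟩)
  exact ⟨v, hv⟩

end Groth.Agent.GModLib
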