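import Groth.Agent.GModLib.OpenIsoLocus
import Groth.Agent.GModLib.CentralizerNonAffine
import Groth.Agent.S3025

/-!
# Being a Cartan subgroup is an open condition
-/

set_option autoImplicit false
set_option backward.isDefEq.respectTransparency false
set_option backward.isDefEq.respectTransparency.types false

universe u

open CategoryTheory Limits AlgebraicGeometry MonoidalCategory CartesianMonoidalCategory MonObj GrpObj

namespace Groth.Agent.GModLib

open GrpSchLib GrpFieldLib

variable {S : Scheme.{u}}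

/-- Connected geometric fibres after a base change. -/
theorem connectedSpace_bc_point {G : Over S} [GrpObj G] [LocallyOfFiniteType G.hom] [QuasiCompact G.hom]
    (hconn : ∀ s : S, _root_.IsConnected (G.hom.base ⁻¹' {s})) {S' : Scheme.{u}} (g : S' ⟶ S) {K : Type u} [Field K]
    [IsAlgClosed K] (α : Spec (CommRingCat.of K) ⟶ S') : ConnectedSpace (Red.bc α (Red.bc g G)).left := by
  haveI : ConnectedSpace ↥(pullback G.hom (α ≫ g)) := connectedSpace_point hconn (α ≫ g)
  let e : pullback (pullback.snd G.hom g) α ≅ pullback G.hom (α ≫ g) := pullbackLeftPullbackSndIso G.hom g α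
  exact e.inv.homeomorph.surjective.connectedSpace e.inv.homeomorph.continuous

set_option maxHeartbeats 2000000 in
/-- Near a Cartan fibre a smooth subgroup with connected fibres containing a maximal torus is Cartan. -/
theorem exists_open_cartan_of_torus {G C T : Over S} [GrpObj G] [GrpObj C] [GrpObj T] [Smooth G.hom]
    [IsSeparated G.hom] [QuasiCompact G.hom] (hGconn : ∀ s : S, ConnectedSpace (Red.bc (Red.geomPt s) G).left)
    (c : C ⟶ G) [IsMonHom c] [Mono c] [Smooth C.hom]
    (hCconn : ∀ s : S, ConnectedSpace (Red.bc (Red.geomPt s) C).left) (i : T ⟶ G) (e : T ⟶ C) (he : e ≫ c = i)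
    (hT : Red.IsMaximalTorus i) {K : Type u} [Field K] [IsAlgClosed K] (a : Spec (CommRingCat.of K) ⟶ S)
    (hC : SGA3x.IsCartanOver K ((Over.pullback a).map c)) :
    ∃ U : S.Opens, a (IsLocalRing.closedPoint K) ∈ U ∧
      ∀ t ∈ U, SGA3x.IsCartanOver (AlgebraicClosure (S.residueField t)) ((Over.pullback (Red.geomPt t)).map c) := by
  obtain ⟨him, himo, hTt, -⟩ := id hT
  haveI := him; haveI := himo
  haveI := MultConjLib.smooth_of_isTorus hTt
  haveI : IsMonHom (e ≫ c) := he ▸ him
  haveI : IsMonHom e :=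
    { one_hom := by rw [← cancel_mono c, Category.assoc, IsMonHom.one_hom (e ≫ c), IsMonHom.one_hom c]
      mul_hom := by
        rw [← cancel_mono c, Category.assoc, IsMonHom.mul_hom (e ≫ c), Category.assoc, IsMonHom.mul_hom c,
          ← Category.assoc (_ ⊗ₘ _), MonoidalCategory.tensorHom_comp_tensorHom] }
  have hD := MultConjLib.isLocDS_of_multTypeFT (RankOne.isMultTypeFT_of_isTorus hTt)
  obtain ⟨Z, _, z, hz, hzc, hzf⟩ := Jet.exists_centralizer e (MultConjLib.neutralSet_eq_univ_of_isTorus hTt)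
  haveI := hz.1; haveI := hz.2.1; haveI := hzc; haveI := hzf
  haveI : Smooth Z.hom := (Groth.Agent.S1488.result Z.hom).mpr ⟨by
      rw [← Over.w z]
      exact locallyOfFinitePresentation_comp z.left C.hom,
    MultConjLib.isFormallySmoothHom_transporter hD ‹_› e e z fun X g => (hz.2.2 X g).trans
      (forall₃_congr fun X' x h => mul_inv_eq_iff_eq_mul.symm)⟩
  obtain ⟨D, _, d, hd, hdc, hdC, -⟩ := exists_centralizer_maxTorus i hT
  haveI := hd.1; haveI := hd.2.1; haveI := hdc; haveI := hdC.2.2.1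
  obtain ⟨f, hf⟩ := (hd.2.2 Z (z ≫ c)).mpr fun X' x t => by
    rw [← he, ← Category.assoc x, ← Category.assoc t, ← MonObj.mul_comp, ← MonObj.mul_comp]
    exact congrArg (· ≫ c) ((hz.2.2 Z z).mp ⟨𝟙 Z, Category.id_comp _⟩ X' x t)
  haveI : Mono (f ≫ d) := hf ▸ inferInstance
  haveI : Mono f := mono_of_mono f d
  haveI : IsMonHom (f ≫ d) := hf ▸ inferInstance
  haveI : IsMonHom f :=
    { one_hom := by rw [← cancel_mono d, Category.assoc, IsMonHom.one_hom (f ≫ d), IsMonHom.one_hom d]
      mul_hom := by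
        rw [← cancel_mono d, Category.assoc, IsMonHom.mul_hom (f ≫ d), Category.assoc, IsMonHom.mul_hom d,
          ← Category.assoc (_ ⊗ₘ _), MonoidalCategory.tensorHom_comp_tensorHom] }
  have hDconn : ∀ s : S, ConnectedSpace (Red.bc (Red.geomPt s) D).left := fun s => by
    let σ := Red.geomPt s
    haveI : Smooth (Red.bc σ G).hom := inferInstanceAs (Smooth (pullback.snd G.hom σ))
    haveI : QuasiCompact (Red.bc σ G).hom := inferInstanceAs (QuasiCompact (pullback.snd G.hom σ))
    haveI := hGconn s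
    exact (centralizer_smooth_connected_nonaffine ((Over.pullback σ).map i) (isTorus_bc σ hTt)
      ((Over.pullback σ).map d) (BC.isCentralizerOf_bc σ hd)).2
  -- at the given point all three coincide
  obtain ⟨-, -, T', _, i', hi', hcC⟩ := hC
  haveI : Smooth (Red.bc a G).hom := inferInstanceAs (Smooth (pullback.snd G.hom a))
  haveI : QuasiCompact (Red.bc a G).hom := inferInstanceAs (QuasiCompact (pullback.snd G.hom a))
  have hmax : Red.IsMaximalTorus ((Over.pullback a).map i) := isMaximalTorus_bc i hT a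
  obtain ⟨φ, hφ⟩ := maxTori_eq_of_commute i' ((Over.pullback a).map i) hi' hmax fun X u v => by
    have h := (hcC.2.2 X (v ≫ (Over.pullback a).map i)).mp
      ⟨v ≫ (Over.pullback a).map e, by rw [Category.assoc, ← Functor.map_comp, he]⟩ X (𝟙 X) u
    rwa [Category.id_comp] at h
  haveI : IsIso ((Over.pullback a).map z) := by
    obtain ⟨w, hw⟩ := ((BC.isCentralizerOf_bc a hz).2.2 _ (𝟙 _)).mpr fun X' x t => by
      have h := (hcC.2.2 X' (x ≫ (Over.pullback a).map c)).mp ⟨x, rfl⟩ X' (𝟙 X') (t ≫ φ.hom)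
      rw [Category.id_comp, Category.assoc, hφ, ← he, Functor.map_comp, ← Category.assoc, ← MonObj.mul_comp,
        ← MonObj.mul_comp, cancel_mono] at h
      rw [Category.comp_id]
      exact h
    exact ⟨w, (cancel_mono ((Over.pullback a).map z)).mp (by rw [Category.assoc, hw, Category.comp_id, Category.id_comp]), hw⟩
  haveI : IsIso ((Over.pullback a).map f) := by
    obtain ⟨w, hw⟩ := (hcC.2.2 _ ((Over.pullback a).map d)).mpr fun X' x t' => by
      have h := ((BC.isCentralizerOf_bc a hd).2.2 X' (x ≫ (Over.pullback a).map d)).mp ⟨x, rfl⟩ X' (𝟙 X') (t' ≫ φ.inv)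
      rwa [Category.id_comp, Category.assoc, ← hφ, φ.inv_hom_id_assoc] at h
    have hfc : (Over.pullback a).map f ≫ (Over.pullback a).map d =
        (Over.pullback a).map z ≫ (Over.pullback a).map c := by
      rw [← Functor.map_comp, hf, Functor.map_comp]
    refine ⟨w ≫ inv ((Over.pullback a).map z), ?_, ?_⟩
    · rw [← cancel_mono ((Over.pullback a).map z), Category.assoc, Category.assoc, IsIso.inv_hom_id, Category.comp_id,
        Category.id_comp, ← cancel_mono ((Over.pullback a).map c), Category.assoc, hw, hfc]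
    · rw [← cancel_mono ((Over.pullback a).map d), Category.assoc, hfc, Category.assoc, IsIso.inv_hom_id_assoc, hw,
        Category.id_comp]
  obtain ⟨U₁, hU₁, h₁⟩ := exists_open_isIso_fibres z hCconn a
  obtain ⟨U₂, hU₂, h₂⟩ := exists_open_isIso_fibres f hDconn a
  refine ⟨U₁ ⊓ U₂, ⟨hU₁, hU₂⟩, fun t ht => ?_⟩
  let σ := Red.geomPt t
  haveI : Smooth (Red.bc σ G).hom := inferInstanceAs (Smooth (pullback.snd G.hom σ))
  haveI : QuasiCompact (Red.bc σ G).hom := inferInstanceAs (QuasiCompact (pullback.snd G.hom σ))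
  haveI := h₁ t ht.1; haveI := h₂ t ht.2
  refine ⟨inferInstance, inferInstance, Red.bc σ T, inferInstance, (Over.pullback σ).map i,
    isMaximalTorus_bc i hT σ, ?_⟩
  haveI : IsMonHom (Iso.refl ((Over.pullback σ).obj G)).hom := inferInstanceAs (IsMonHom (𝟙 (Red.bc σ G)))
  refine isCentralizerOf_of_iso (Iso.refl _) ((asIso ((Over.pullback σ).map z)).symm ≪≫ asIso ((Over.pullback σ).map f))
    (Iso.refl _) (by simp) ?_ (BC.isCentralizerOf_bc σ hd)
  simp only [Iso.trans_hom, Iso.symm_hom, asIso_hom, asIso_inv, Iso.refl_hom, Category.comp_id, Category.assoc]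
  rw [← Functor.map_comp, hf, Functor.map_comp, IsIso.inv_hom_id_assoc]

variable {G C : Over S} [GrpObj G] [GrpObj C] [Smooth G.hom] [IsSeparated G.hom] [QuasiCompact G.hom]
  (hGconn : ∀ s : S, _root_.IsConnected (G.hom.base ⁻¹' {s})) (c : C ⟶ G) [IsMonHom c] [Mono c] [Smooth C.hom]
  (hCconn : ∀ s : S, _root_.IsConnected (C.hom.base ⁻¹' {s}))

include hGconn hCconn in
set_option maxHeartbeats 2000000 in
/-- Over a base with a maximal torus every Cartan point has a neighbourhood of Cartan points. -/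
theorem exists_open_cartan {T₀ : Over S} [GrpObj T₀] (i₀ : T₀ ⟶ G) (h₀ : Red.IsMaximalTorus i₀) (t : S)
    (hC : SGA3x.IsCartanOver (AlgebraicClosure (S.residueField t)) ((Over.pullback (Red.geomPt t)).map c)) :
    ∃ U : S.Opens, t ∈ U ∧
      ∀ v ∈ U, SGA3x.IsCartanOver (AlgebraicClosure (S.residueField v)) ((Over.pullback (Red.geomPt v)).map c) := by
  haveI := h₀.1; haveI := h₀.2.1
  haveI := MultConjLib.smooth_of_isTorus h₀.2.2.1
  haveI : QuasiCompact C.hom := (Groth.Agent.S3025.result S C hCconn).2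
  haveI : LocallyOfFinitePresentation c.left := by
    haveI : LocallyOfFinitePresentation (c.left ≫ G.hom) := by rw [Over.w c]; infer_instance
    exact AlgSpPts.locallyOfFinitePresentation_of_comp c.left G.hom
  obtain ⟨A, q, hac, haf, hA⟩ := Jet.exists_transporter_conj
    (MultConjLib.neutralSet_eq_univ_of_isTorus h₀.2.2.1) i₀ c
  haveI := hac; haveI := haf
  haveI : Mono q.left := inferInstance
  haveI : Smooth A.hom := (Groth.Agent.S1488.result A.hom).mpr ⟨by
      rw [← Over.w q]; exact locallyOfFinitePresentation_comp q.left G.hom,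
    isFormallySmoothHom_transporter_into (MultConjLib.isLocDS_of_multTypeFT
      (RankOne.isMultTypeFT_of_isTorus h₀.2.2.1)) ‹_› ‹_› i₀ c q hA⟩
  let σ := Red.geomPt t
  haveI : Smooth (Red.bc σ G).hom := inferInstanceAs (Smooth (pullback.snd G.hom σ))
  haveI : QuasiCompact (Red.bc σ G).hom := inferInstanceAs (QuasiCompact (pullback.snd G.hom σ))
  obtain ⟨-, -, T', _, i', hi', hcC⟩ := id hC
  haveI := hi'.1; haveI := hi'.2.1
  obtain ⟨tC, htC⟩ := (hcC.2.2 T' i').mpr fun X' x y => by
    rw [← MonObj.mul_comp, ← MonObj.mul_comp, TorusBilin.comm_of_isTorus hi'.2.2.1]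
  obtain ⟨g, φ, hφ⟩ := maxTori_conj_all ((Over.pullback σ).map i₀) i'
    (isMaxTorus_of_isMaximalTorus (isMaximalTorus_bc i₀ h₀ σ)) (isMaxTorus_of_isMaximalTorus hi')
  obtain ⟨pz, -⟩ := (hA _ (DSPtsLib.theta σ g)).mpr fun X x u => by
    obtain ⟨X', x', e, _, rfl⟩ := BC.exists_lift σ x
    have hx' : x' = toUnit X' := toUnit_unique _ _
    subst hx'
    obtain ⟨u', hu'⟩ := (DSPtsLib.theta_bijective σ).2 (inv e ≫ u)
    have hu : u = e ≫ DSPtsLib.theta σ u' := by rw [hu', IsIso.hom_inv_id_assoc]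
    have hconj : (toUnit X' ≫ g) * (u' ≫ (Over.pullback σ).map i₀) * (toUnit X' ≫ g)⁻¹ =
        (u' ≫ φ.hom ≫ tC) ≫ (Over.pullback σ).map c := by
      simp only [Category.assoc]
      rw [htC, ← hφ, MonObj.comp_mul, MonObj.comp_mul, GrpObj.comp_inv, ← Category.assoc, comp_toUnit]
    refine ⟨e ≫ DSPtsLib.theta σ (u' ≫ φ.hom ≫ tC), ?_⟩
    have h := congrArg (DSPtsLib.theta σ) hconj
    rw [DSPtsLib.theta_mul, DSPtsLib.theta_mul, BC.theta_inv, BC.theta_map, DSPtsLib.theta_comp,
      BC.theta_map] at h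
    rw [hu]
    simp only [Category.assoc, ← h, MonObj.comp_mul, GrpObj.comp_inv]
  let α : Spec (CommRingCat.of (AlgebraicClosure (S.residueField t))) ⟶ A.left := pz.left
  have hα : α ≫ A.hom = σ := (Over.w pz).trans (Category.id_comp _)
  -- the universal conjugate
  let π := A.hom
  let pA : (Over.map π).obj (𝟙_ (Over A.left)) ⟶ A := Over.homMk (𝟙 A.left) (by
    show 𝟙 A.left ≫ A.hom = 𝟙 A.left ≫ π
    rfl)
  obtain ⟨γ', hγ⟩ := (DSPtsLib.theta_bijective (H := G) π).2 (pA ≫ q)
  haveI : Smooth (Red.bc π G).hom := inferInstanceAs (Smooth (pullback.snd G.hom π))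
  haveI : QuasiCompact (Red.bc π G).hom := inferInstanceAs (QuasiCompact (pullback.snd G.hom π))
  haveI : IsSeparated (Red.bc π G).hom := inferInstanceAs (IsSeparated (pullback.snd G.hom π))
  haveI : Smooth (Red.bc π C).hom := inferInstanceAs (Smooth (pullback.snd C.hom π))
  let i := (Over.pullback π).map i₀ ≫ innerS γ'
  obtain ⟨κ, hκ⟩ := (hA _ (pA ≫ q)).mp ⟨pA, rfl⟩ ((Over.map π).obj (Red.bc π T₀))
    ((Over.map π).map (toUnit (Red.bc π T₀))) (DSPtsLib.theta π (𝟙 (Red.bc π T₀)))
  obtain ⟨e, he⟩ := (DSPtsLib.theta_bijective (H := C) π).2 κ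
  have hei : e ≫ (Over.pullback π).map c = i := by
    refine (DSPtsLib.theta_bijective π).1 ?_
    show DSPtsLib.theta π (e ≫ (Over.pullback π).map c) = DSPtsLib.theta π ((Over.pullback π).map i₀ ≫ innerS γ')
    rw [BC.theta_map, he, ← hκ, comp_innerS, DSPtsLib.theta_mul, DSPtsLib.theta_mul, BC.theta_inv,
      DSPtsLib.theta_comp, hγ]
    have h3 := BC.theta_map π i₀ (𝟙 (Red.bc π T₀))
    rw [Category.id_comp] at h3
    rw [h3]
  obtain ⟨U, hαU, hU⟩ := exists_open_cartan_of_torus (fun a => connectedSpace_bc_point hGconn π (Red.geomPt a))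
    ((Over.pullback π).map c) (fun a => connectedSpace_bc_point hCconn π (Red.geomPt a)) i e hei
    (isMaximalTorus_innerS _ (isMaximalTorus_bc i₀ h₀ π) γ') α ((isCartanOver_comp σ c π α hα).mpr hC)
  refine ⟨⟨π '' (U : Set A.left), π.isOpenMap _ U.2⟩, ⟨α (IsLocalRing.closedPoint _), hαU, ?_⟩, ?_⟩
  · rw [← Scheme.Hom.comp_apply, show α ≫ π = σ from hα]
    exact Scheme.fromSpecResidueField_apply t _
  · rintro _ ⟨p, hp, rfl⟩
    obtain ⟨s', hs'⟩ := exists_geomPt_lift π p
    haveI := connectedSpace_point hCconn (Red.geomPt (π p))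
    exact isCartanOver_down (Red.geomPt (π p)) s' _ hs' c
      ((isCartanOver_comp (Red.geomPt p ≫ π) c π (Red.geomPt p) rfl).mp (hU p hp))

include hGconn hCconn in
/-- The Cartan locus is open. -/
theorem isOpen_cartanLocus (hG : SGA3x.HasMaxTorusFpqcLocally G) :
    IsOpen {t : S | SGA3x.IsCartanOver (AlgebraicClosure (S.residueField t))
      ((Over.pullback (Red.geomPt t)).map c)} := by
  obtain ⟨S', f, hfl, hfs, hcov, T₀, _, i₀, h₀⟩ := hG
  haveI := hfl; haveI := hfs
  haveI : QuasiCompact C.hom := (Groth.Agent.S3025.result S C hCconn).2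
  haveI : Smooth (Red.bc f G).hom := inferInstanceAs (Smooth (pullback.snd G.hom f))
  haveI : QuasiCompact (Red.bc f G).hom := inferInstanceAs (QuasiCompact (pullback.snd G.hom f))
  haveI : IsSeparated (Red.bc f G).hom := inferInstanceAs (IsSeparated (pullback.snd G.hom f))
  haveI : Smooth (Red.bc f C).hom := inferInstanceAs (Smooth (pullback.snd C.hom f))
  refine HomUnitLocus.isOpen_of_preimage f hcov ?_
  have hconnbc : ∀ {H : Over S} [GrpObj H] [LocallyOfFiniteType H.hom] [QuasiCompact H.hom],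
      (∀ s : S, _root_.IsConnected (H.hom.base ⁻¹' {s})) →
        ∀ s' : S', _root_.IsConnected ((Red.bc f H).hom.base ⁻¹' {s'}) := by
    intro H _ _ _ hH s'
    haveI := connectedSpace_bc_point hH f (Red.geomPt s')
    let p := pullback.fst (Red.bc f H).hom (Red.geomPt s')
    have hr : Set.range p = (Red.bc f H).hom.base ⁻¹' {s'} := by
      rw [Scheme.Pullback.range_fst]
      have : Set.range (Red.geomPt s') = {s'} := by
        refine Set.eq_singleton_iff_unique_mem.mpr ⟨⟨IsLocalRing.closedPoint _, Scheme.fromSpecResidueField_apply s' _⟩, ?_⟩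
        rintro _ ⟨w, rfl⟩
        exact Scheme.fromSpecResidueField_apply s' _
      rw [this]
    rw [← hr]
    haveI : ConnectedSpace ↥(pullback (Red.bc f H).hom (Red.geomPt s')) := connectedSpace_bc_point hH f (Red.geomPt s')
    exact isConnected_range p.continuous
  rw [isOpen_iff_forall_mem_open]
  intro s' hs'
  obtain ⟨σ, hσ⟩ := exists_geomPt_lift f s'
  have h1 := (isCartanOver_comp (Red.geomPt s' ≫ f) c f (Red.geomPt s') rfl).mpr
    (isCartanOver_up (Red.geomPt (f s')) σ _ hσ c hs')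
  obtain ⟨U, hU, hUC⟩ := exists_open_cartan (hconnbc hGconn) ((Over.pullback f).map c) (hconnbc hCconn) i₀ h₀ s' h1
  refine ⟨U, fun v hv => ?_, U.2, hU⟩
  obtain ⟨σv, hσv⟩ := exists_geomPt_lift f v
  haveI := connectedSpace_point hCconn (Red.geomPt (f v))
  exact isCartanOver_down (Red.geomPt (f v)) σv _ hσv c
    ((isCartanOver_comp (Red.geomPt v ≫ f) c f (Red.geomPt v) rfl).mp (hUC v hv))

end Groth.Agent.GModLib
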