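import Groth.Agent.GModLib.CartanTorusDescent
import Groth.Agent.GModLib.NilpotentTori
import Groth.Agent.GModLib.CentralKernelRelative

/-!
# Cartan subgroups at geometric points with values in any algebraically closed field
-/

set_option autoImplicit false
set_option backward.isDefEq.respectTransparency false
set_option backward.isDefEq.respectTransparency.types false

universe u

open CategoryTheory Limits AlgebraicGeometry MonoidalCategory CartesianMonoidalCategory MonObj GrpObj

namespace Groth.Agent.GModLib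

open GrpSchLib GrpFieldLib

/-- An algebraically closed point factors through the geometric point at its image. -/
theorem exists_factor_geomPt {S : Scheme.{u}} {K : Type u} [Field K] [IsAlgClosed K]
    (a : Spec (CommRingCat.of K) ⟶ S) :
    ∃ σ : Spec (CommRingCat.of K) ⟶
        Spec (CommRingCat.of (AlgebraicClosure (S.residueField (a (IsLocalRing.closedPoint K))))),
      σ ≫ Red.geomPt (a (IsLocalRing.closedPoint K)) = a := by
  let s := a (IsLocalRing.closedPoint K)
  let χ : S.residueField s ⟶ CommRingCat.of K :=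
    (Scheme.SpecToEquivOfField K S a).2
  letI : Algebra (S.residueField s) K := χ.hom.toAlgebra
  let ψ : AlgebraicClosure (S.residueField s) →ₐ[S.residueField s] K := IsAlgClosed.lift
  refine ⟨Spec.map (CommRingCat.ofHom ψ.toRingHom), ?_⟩
  have ha : Spec.map χ ≫ S.fromSpecResidueField s = a :=
    (Scheme.SpecToEquivOfField K S).left_inv a
  conv_rhs => rw [← ha]
  show Spec.map _ ≫ Spec.map _ ≫ _ = _
  rw [← Spec.map_comp_assoc]
  congr 2
  exact CommRingCat.hom_ext ψ.comp_algebraMap

variable {S : Scheme.{u}}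

/-- Connected geometric fibres stay connected at any algebraically closed point. -/
theorem connectedSpace_point {G : Over S} [GrpObj G] [LocallyOfFiniteType G.hom] [QuasiCompact G.hom]
    (hconn : ∀ s : S, _root_.IsConnected (G.hom.base ⁻¹' {s})) {K : Type u} [Field K] [IsAlgClosed K]
    (a : Spec (CommRingCat.of K) ⟶ S) : ConnectedSpace (Red.bc a G).left := by
  obtain ⟨σ, hσ⟩ := exists_factor_geomPt a
  haveI : ConnectedSpace (Red.bc (Red.geomPt (a (IsLocalRing.closedPoint K))) G).left :=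
    connectedSpace_geomFibre hconn _
  obtain ⟨φ, rfl⟩ := Spec.map_surjective σ
  haveI : ConnectedSpace ↥(pullback (pullback.snd G.hom (Red.geomPt (a (IsLocalRing.closedPoint K)))) (Spec.map φ)) := by
    haveI : LocallyOfFiniteType (Red.bc (Red.geomPt (a (IsLocalRing.closedPoint K))) G).hom :=
      inferInstanceAs (LocallyOfFiniteType (pullback.snd G.hom _))
    exact AntiAffine.connectedSpace_bc (Red.bc (Red.geomPt (a (IsLocalRing.closedPoint K))) G) φ.hom
  let e := pullbackLeftPullbackSndIso G.hom (Red.geomPt (a (IsLocalRing.closedPoint K))) (Spec.map φ) ≪≫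
    pullback.congrHom rfl hσ
  exact e.hom.homeomorph.surjective.connectedSpace e.hom.homeomorph.continuous

variable {G C : Over S} [GrpObj G] [GrpObj C]
  {K K' : Type u} [Field K] [IsAlgClosed K] [Field K'] [IsAlgClosed K']
  (a : Spec (CommRingCat.of K) ⟶ S) (σ : Spec (CommRingCat.of K') ⟶ Spec (CommRingCat.of K))
  (b : Spec (CommRingCat.of K') ⟶ S) (h : σ ≫ a = b) (c : C ⟶ G) [IsMonHom c] [Mono c]

include h in
/-- Cartan subgroups go up along extensions of algebraically closed points. -/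
theorem isCartanOver_up [Smooth G.hom] [QuasiCompact G.hom] (hC : SGA3x.IsCartanOver K ((Over.pullback a).map c)) :
    SGA3x.IsCartanOver K' ((Over.pullback b).map c) := by
  obtain ⟨-, -, T, _, t, ht, hcC⟩ := hC
  haveI := ht.1; haveI := ht.2.1
  haveI : Smooth (Red.bc a G).hom := inferInstanceAs (Smooth (pullback.snd G.hom a))
  haveI : QuasiCompact (Red.bc a G).hom := inferInstanceAs (QuasiCompact (pullback.snd G.hom a))
  let E := bcGrpIso σ a b h
  let β := E.app (Grp.mk G)
  let γ' := E.app (Grp.mk C)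
  let cG : Grp.mk C ⟶ Grp.mk G := Grp.homMk' ⟨c⟩
  have e := congrArg (fun φ => φ.hom.hom) (E.hom.naturality cG)
  let βo : Red.bc σ (Red.bc a G) ≅ Red.bc b G :=
    ⟨β.hom.hom.hom, β.inv.hom.hom, congrArg (fun φ => φ.hom.hom) β.hom_inv_id, congrArg (fun φ => φ.hom.hom) β.inv_hom_id⟩
  let cI : Red.bc σ (Red.bc a C) ≅ Red.bc b C :=
    ⟨γ'.hom.hom.hom, γ'.inv.hom.hom, congrArg (fun φ => φ.hom.hom) γ'.hom_inv_id, congrArg (fun φ => φ.hom.hom) γ'.inv_hom_id⟩
  haveI : IsMonHom βo.hom := inferInstanceAs (IsMonHom β.hom.hom.hom)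
  refine ⟨inferInstance, inferInstance, Red.bc σ T, inferInstance, (Over.pullback σ).map t ≫ βo.hom, ?_, ?_⟩
  · refine isMaximalTorus_of_isMaxTorus (isMaxTorus_of_iso (Iso.refl _) β ((Over.pullback σ).map t) _ ?_
      (isTorus_bc σ ht.2.2.1) (isMaxTorus_bc t (isMaxTorus_of_isMaximalTorus ht) σ))
    exact Category.id_comp _
  · refine isCentralizerOf_of_iso (Iso.refl _) cI.symm βo (by rw [Iso.refl_hom, Category.id_comp]) ?_
      (BC.isCentralizerOf_bc σ hcC)
    rw [Iso.symm_hom, eq_comm, cI.inv_comp_eq]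
    exact e

include h in
set_option maxHeartbeats 1000000 in
/-- Cartan subgroups descend along extensions of algebraically closed points. -/
theorem isCartanOver_down [Smooth G.hom] [QuasiCompact G.hom] [IsSeparated G.hom] [Smooth C.hom] [QuasiCompact C.hom]
    [ConnectedSpace (Red.bc a C).left]
    (hC : SGA3x.IsCartanOver K' ((Over.pullback b).map c)) : SGA3x.IsCartanOver K ((Over.pullback a).map c) := by
  haveI : Smooth (Red.bc a G).hom := inferInstanceAs (Smooth (pullback.snd G.hom a))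
  haveI : QuasiCompact (Red.bc a G).hom := inferInstanceAs (QuasiCompact (pullback.snd G.hom a))
  haveI : IsSeparated (Red.bc a G).hom := inferInstanceAs (IsSeparated (pullback.snd G.hom a))
  haveI : Smooth (Red.bc a C).hom := inferInstanceAs (Smooth (pullback.snd C.hom a))
  haveI : QuasiCompact (Red.bc a C).hom := inferInstanceAs (QuasiCompact (pullback.snd C.hom a))
  haveI : Smooth (Red.bc b G).hom := inferInstanceAs (Smooth (pullback.snd G.hom b))
  haveI : QuasiCompact (Red.bc b G).hom := inferInstanceAs (QuasiCompact (pullback.snd G.hom b))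
  obtain ⟨TC, _, tC, htC, -⟩ := exists_maxTorus_all (Red.bc a C)
  haveI := htC.1; haveI := htC.2.1
  obtain ⟨-, -, T', _, t', ht', hcC⟩ := hC
  haveI := ht'.1; haveI := ht'.2.1
  let E := bcGrpIso σ a b h
  let β := E.app (Grp.mk G)
  let cG : Grp.mk C ⟶ Grp.mk G := Grp.homMk' ⟨c⟩
  let βo : Red.bc σ (Red.bc a G) ≅ Red.bc b G :=
    ⟨β.hom.hom.hom, β.inv.hom.hom, congrArg (fun φ => φ.hom.hom) β.hom_inv_id, congrArg (fun φ => φ.hom.hom) β.inv_hom_id⟩
  let cI : Red.bc σ (Red.bc a C) ≅ Red.bc b C :=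
    ⟨(E.app (Grp.mk C)).hom.hom.hom, (E.app (Grp.mk C)).inv.hom.hom,
      congrArg (fun φ => φ.hom.hom) (E.app (Grp.mk C)).hom_inv_id, congrArg (fun φ => φ.hom.hom) (E.app (Grp.mk C)).inv_hom_id⟩
  haveI : IsMonHom βo.hom := inferInstanceAs (IsMonHom β.hom.hom.hom)
  haveI : IsMonHom cI.hom := inferInstanceAs (IsMonHom (E.app (Grp.mk C)).hom.hom.hom)
  have enat : (Over.pullback σ).map ((Over.pullback a).map c) ≫ βo.hom = cI.hom ≫ (Over.pullback b).map c :=
    congrArg (fun φ => φ.hom.hom) (E.hom.naturality cG)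
  haveI : Flat σ := by
    obtain ⟨φ, rfl⟩ := Spec.map_surjective σ
    exact GrpSchLib.flat_spec_map_field φ.hom
  haveI : Surjective σ := ⟨fun x => ⟨IsLocalRing.closedPoint _, @Subsingleton.elim (PrimeSpectrum _) _ _ _⟩⟩
  haveI : Smooth (Red.bc σ (Red.bc a C)).hom := inferInstanceAs (Smooth (pullback.snd (Red.bc a C).hom σ))
  haveI : Smooth (Red.bc b C).hom := inferInstanceAs (Smooth (pullback.snd C.hom b))
  haveI : QuasiCompact (Red.bc b C).hom := inferInstanceAs (QuasiCompact (pullback.snd C.hom b))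
  -- the two tori agree in the big fibre
  let e₁ := (Over.pullback σ).map tC ≫ cI.hom
  have he₁ : Red.IsMaximalTorus e₁ :=
    isMaximalTorus_of_iso cI _ (isMaximalTorus_of_isMaxTorus (isMaxTorus_bc tC htC σ))
  obtain ⟨e₂, he₂⟩ := (hcC.2.2 T' t').mpr fun X' x y => by
    rw [← MonObj.mul_comp, ← MonObj.mul_comp, TorusBilin.comm_of_isTorus ht'.2.2.1]
  haveI : IsMonHom (e₂ ≫ (Over.pullback b).map c) := he₂ ▸ ht'.1
  haveI : Mono (e₂ ≫ (Over.pullback b).map c) := he₂ ▸ ht'.2.1
  haveI : Mono e₂ := mono_of_mono e₂ ((Over.pullback b).map c)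
  haveI : IsMonHom e₂ :=
    { one_hom := by rw [← cancel_mono ((Over.pullback b).map c), Category.assoc,
        IsMonHom.one_hom (e₂ ≫ (Over.pullback b).map c), IsMonHom.one_hom ((Over.pullback b).map c)]
      mul_hom := by
        rw [← cancel_mono ((Over.pullback b).map c), Category.assoc, IsMonHom.mul_hom (e₂ ≫ (Over.pullback b).map c),
          Category.assoc, IsMonHom.mul_hom ((Over.pullback b).map c),
          ← Category.assoc (_ ⊗ₘ _), MonoidalCategory.tensorHom_comp_tensorHom] }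
  have hcent : ∀ (X : Over (Spec (CommRingCat.of K'))) (g : X ⟶ Red.bc b C) (y : X ⟶ T'),
      g * (y ≫ e₂) = (y ≫ e₂) * g := fun X g y => by
    have h := (hcC.2.2 X (g ≫ (Over.pullback b).map c)).mp ⟨g, rfl⟩ X (𝟙 X) y
    rwa [Category.id_comp, ← he₂, ← Category.assoc, ← MonObj.mul_comp, ← MonObj.mul_comp, cancel_mono] at h
  have hmax₂ : Red.IsMaximalTorus e₂ := ⟨inferInstance, inferInstance, ht'.2.2.1, fun s T'' _ j _ _ f hT'' hf =>
    ht'.2.2.2 s T'' (j ≫ (Over.pullback (Red.geomPt s)).map ((Over.pullback b).map c)) f hT''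
      (by rw [← Category.assoc, hf, ← Functor.map_comp, he₂])⟩
  obtain ⟨φ, hφ⟩ := maxTorus_unique_of_central e₂ (isMaxTorus_of_isMaximalTorus hmax₂) e₁
    (isMaxTorus_of_isMaximalTorus he₁) hcent
  -- the torus of the small fibre is maximal
  let tG := tC ≫ (Over.pullback a).map c
  have hφ' : φ.hom ≫ t' = (Over.pullback σ).map tG ≫ βo.hom := by
    rw [Functor.map_comp, Category.assoc, enat, ← he₂, reassoc_of% hφ, Category.assoc]
  have hmaxG : Red.IsMaximalTorus tG := by
    refine isMaximalTorus_of_bc tG htC.2.2.1 σ ⟨inferInstance, inferInstance, isTorus_bc σ htC.2.2.1,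
      fun s T'' _ j _ _ f hT'' hf => ?_⟩
    let ψ := (Over.pullback (Red.geomPt s)).map φ.inv
    haveI : IsIso (ψ ≫ f) := ht'.2.2.2 s T'' (j ≫ (Over.pullback (Red.geomPt s)).map βo.hom) (ψ ≫ f) hT'' (by
      rw [Category.assoc, ← Category.assoc f, hf, ← Functor.map_comp, ← hφ', ← Functor.map_comp, φ.inv_hom_id_assoc])
    exact IsIso.of_isIso_comp_left ψ f
  haveI := hmaxG.1; haveI := hmaxG.2.1
  obtain ⟨D, _, d, hd, -, -, -⟩ := exists_centralizer_maxTorus tG hmaxG
  haveI := hd.1; haveI := hd.2.1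
  obtain ⟨f, hf⟩ := (hd.2.2 (Red.bc a C) ((Over.pullback a).map c)).mpr fun X' x y => by
    show (x ≫ (Over.pullback a).map c) * (y ≫ tC ≫ (Over.pullback a).map c) = _
    rw [← Category.assoc y, ← MonObj.mul_comp, ← MonObj.mul_comp]
    congr 1
    let g : X' ⟶ Red.bc a C := x
    let k : (Over.map σ).obj ((Over.pullback σ).obj X') ⟶ X' := DSPtsLib.theta σ (𝟙 _)
    haveI : Epi k := by
      refine FpqcDescLib.Covers.over_epi ?_
      show FpqcDescLib.Covers (𝟙 _ ≫ pullback.fst X'.hom σ)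
      rw [Category.id_comp]
      exact (FpqcDescLib.covers_of_isCovering (FpqcDescLib.isCovering_of_quasiCompact σ)).pullback X'.hom _
        (pullback.snd X'.hom σ) (IsPullback.of_hasPullback X'.hom σ)
    rw [← cancel_epi k, MonObj.comp_mul, MonObj.comp_mul, ← BC.theta_map σ g (𝟙 _), ← Category.assoc k y tC,
      ← BC.theta_map σ y (𝟙 _), Category.id_comp, Category.id_comp, ← BC.theta_map σ tC ((Over.pullback σ).map y),
      ← DSPtsLib.theta_mul, ← DSPtsLib.theta_mul]
    congr 1
    rw [← cancel_mono cI.hom, MonObj.mul_comp, MonObj.mul_comp, Category.assoc _ _ cI.hom,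
      show (Over.pullback σ).map tC ≫ cI.hom = e₁ from rfl, ← hφ, ← Category.assoc _ φ.hom e₂]
    exact hcent _ _ _
  haveI : IsIso ((Over.pullback σ).map f) := by
    let βc := (Over.pullback σ).map d ≫ βo.hom
    obtain ⟨w, hw⟩ := (hcC.2.2 _ βc).mpr fun X' x y => by
      have h1 := ((BC.isCentralizerOf_bc σ hd).2.2 X' (x ≫ (Over.pullback σ).map d)).mp ⟨x, rfl⟩ X' (𝟙 X') (y ≫ φ.inv)
      have h2 := congrArg (· ≫ βo.hom) h1
      simp only [Category.id_comp, MonObj.mul_comp, Category.assoc] at h2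
      rw [← hφ', φ.inv_hom_id_assoc] at h2
      exact h2
    refine ⟨w ≫ cI.inv, ?_, ?_⟩
    · rw [← cancel_mono cI.hom, Category.assoc, Category.assoc, cI.inv_hom_id, Category.comp_id, Category.id_comp,
        ← cancel_mono ((Over.pullback b).map c), Category.assoc, hw, ← enat]
      show (Over.pullback σ).map f ≫ (Over.pullback σ).map d ≫ βo.hom = _
      rw [← Functor.map_comp_assoc, hf]
    · rw [← cancel_mono ((Over.pullback σ).map d), Category.assoc, ← Functor.map_comp, hf, Category.id_comp,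
        ← cancel_mono βo.hom, Category.assoc, enat, Category.assoc, cI.inv_hom_id_assoc, hw]
  haveI : IsIso f := isIso_of_isIso_bc σ f
  refine ⟨inferInstance, inferInstance, TC, inferInstance, tG, hmaxG, inferInstance, inferInstance, fun X g => ?_⟩
  refine ⟨fun ⟨y, hy⟩ => (hd.2.2 X g).mp ⟨y ≫ f, by rw [Category.assoc, hf, hy]⟩, fun h => ?_⟩
  obtain ⟨y, hy⟩ := (hd.2.2 X g).mpr h
  exact ⟨y ≫ inv f, by rw [Category.assoc, ← hf, IsIso.inv_hom_id_assoc, hy]⟩

omit [Mono c] in
/-- A Cartan subgroup at a composite point is one at the point of the base change. -/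
theorem isCartanOver_comp {S' : Scheme.{u}} (g : S' ⟶ S) (α : Spec (CommRingCat.of K) ⟶ S')
    (hαa : α ≫ g = a) [Mono c] :
    SGA3x.IsCartanOver K ((Over.pullback α).map ((Over.pullback g).map c)) ↔
      SGA3x.IsCartanOver K ((Over.pullback a).map c) := by
  let E := bcGrpIso α g a hαa
  let cG : Grp.mk C ⟶ Grp.mk G := Grp.homMk' ⟨c⟩
  have key : ∀ {A A' B B' : Over (Spec (CommRingCat.of K))} [GrpObj A] [GrpObj A'] [GrpObj B] [GrpObj B']
      (γA : Grp.mk A ≅ Grp.mk A') (γB : Grp.mk B ≅ Grp.mk B') (m : A ⟶ B) (m' : A' ⟶ B') [IsMonHom m'] [Mono m'],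
      γA.hom.hom.hom ≫ m' = m ≫ γB.hom.hom.hom → SGA3x.IsCartanOver K m → SGA3x.IsCartanOver K m' := by
    intro A A' B B' _ _ _ _ γA γB m m' _ _ hsq hm
    obtain ⟨-, -, T, _, t, ht, hcT⟩ := hm
    let βo : B ≅ B' :=
      ⟨γB.hom.hom.hom, γB.inv.hom.hom, congrArg (fun φ => φ.hom.hom) γB.hom_inv_id, congrArg (fun φ => φ.hom.hom) γB.inv_hom_id⟩
    let aI : A ≅ A' :=
      ⟨γA.hom.hom.hom, γA.inv.hom.hom, congrArg (fun φ => φ.hom.hom) γA.hom_inv_id, congrArg (fun φ => φ.hom.hom) γA.inv_hom_id⟩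
    haveI : IsMonHom βo.hom := inferInstanceAs (IsMonHom γB.hom.hom.hom)
    refine ⟨inferInstance, inferInstance, T, inferInstance, t ≫ βo.hom, isMaximalTorus_of_iso βo t ht,
      isCentralizerOf_of_iso (Iso.refl _) aI.symm βo (by rw [Iso.refl_hom, Category.id_comp]) ?_ hcT⟩
    rw [Iso.symm_hom, eq_comm, aI.inv_comp_eq]
    exact hsq.symm
  constructor
  · exact key (E.app (Grp.mk C)) (E.app (Grp.mk G)) _ _ (congrArg (fun φ => φ.hom.hom) (E.hom.naturality cG)).symm
  · exact key (E.app (Grp.mk C)).symm (E.app (Grp.mk G)).symm _ _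
      (congrArg (fun φ => φ.hom.hom) (E.inv.naturality cG)).symm

end Groth.Agent.GModLib
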