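import Groth.Agent.MultConjLib.EtaleConj
import Groth.Agent.MultConjLib.SubTransporter
import Groth.Agent.GrpFieldLib.JetTransporter
import Groth.Agent.GModLib.CentralizerRelative
import Groth.Agent.GModLib.CentralizerBC
import Groth.Agent.S0412

/-!
# Maximal tori are conjugate locally for the etale topology
-/

set_option autoImplicit false
set_option backward.isDefEq.respectTransparency false
set_option backward.isDefEq.respectTransparency.types false

universe u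

open CategoryTheory Limits AlgebraicGeometry MonoidalCategory CartesianMonoidalCategory MonObj GrpObj

namespace Groth.Agent.GModLib

section AlgClosed

variable {k : Type u} [Field k] [IsAlgClosed k]

/-- Maximal tori of a smooth algebraic group, connected or not, are conjugate. -/
theorem maxTori_conj_all {G T₁ T₂ : Over (Spec (CommRingCat.of k))} [GrpObj G] [Smooth G.hom] [QuasiCompact G.hom]
    [GrpObj T₁] [GrpObj T₂] (i₁ : T₁ ⟶ G) (i₂ : T₂ ⟶ G) (h₁ : AGF.IsMaxTorus i₁) (h₂ : AGF.IsMaxTorus i₂) :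
    ∃ g : 𝟙_ (Over (Spec (CommRingCat.of k))) ⟶ G, SGA3x.ConjBy i₁ i₂ g := by
  obtain ⟨L, _, l, hl, hfac⟩ := Chevalley.BC.exists_affPart G
  haveI := hl.hom; haveI := hl.closed; haveI := hl.smooth; haveI := hl.conn
  haveI : IsAffine L.left := hl.prop
  haveI : Mono l := Over.mono_of_mono_left l
  have hfac' : ∀ (T : Over (Spec (CommRingCat.of k))) [GrpObj T] (i : T ⟶ G) (h : AGF.IsMaxTorus i),
      ∃ e : T ⟶ L, e ≫ l = i ∧ AGF.IsMaxTorus e := by
    intro T _ i ⟨hm, hmo, ht, hmax⟩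
    haveI := hm; haveI := hmo
    obtain ⟨q1, q2, q3, -, -⟩ := TorusBasic.torus_props ht
    haveI := q1; haveI := q2; haveI := q3
    obtain ⟨e, he⟩ := hfac T i
    haveI : IsMonHom (e ≫ l) := he ▸ hm
    haveI : IsMonHom e := isMonHom_of_comp e l
    haveI : Mono (e ≫ l) := he ▸ hmo
    haveI : Mono e := mono_of_mono e l
    exact ⟨e, he, inferInstance, inferInstance, ht, fun T' _ j _ _ f hT' hf =>
      hmax T' (j ≫ l) f hT' (by rw [← Category.assoc, hf, he])⟩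
  obtain ⟨e₁, he₁, hM₁⟩ := hfac' T₁ i₁ h₁
  obtain ⟨e₂, he₂, hM₂⟩ := hfac' T₂ i₂ h₂
  obtain ⟨g, φ, hφ⟩ := Groth.Agent.S3901.result k L T₁ T₂ e₁ e₂ hM₁ hM₂
  refine ⟨g ≫ l, φ, ?_⟩
  rw [← he₂, ← Category.assoc φ.hom e₂ l, hφ]
  simp only [AGF.conjBy, MonObj.mul_comp, GrpObj.inv_comp, Category.assoc, he₁]

end AlgClosed

variable {S : Scheme.{u}}

/-- A smooth surjection has a section over an etale surjection. -/
theorem exists_etale_surjective_lift (Z : Over S) [Smooth Z.hom] [Surjective Z.hom] :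
    ∃ (S' : Scheme.{u}) (e : S' ⟶ S) (h : S' ⟶ Z.left), Etale e ∧ Surjective e ∧ h ≫ Z.hom = e := by
  choose X g x hg hx h hh using fun t : S => Groth.Agent.S0412.result Z.hom t (Z.hom.surjective t)
  refine ⟨∐ X, Sigma.desc g, Sigma.desc h, IsZariskiLocalAtSource.sigmaDesc hg,
    ⟨fun t => ⟨Sigma.ι X t (x t), ?_⟩⟩, Sigma.hom_ext _ _ fun t => by rw [Sigma.ι_desc_assoc, Sigma.ι_desc, hh]⟩
  show (Sigma.ι X t ≫ Sigma.desc g) (x t) = t
  rw [Sigma.ι_desc]
  exact hx t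

set_option maxHeartbeats 1000000 in
/-- The transporter of one maximal torus to another is smooth and surjective. -/
theorem exists_maxTori_transporter {G T₁ T₂ : Over S} [GrpObj G] [Smooth G.hom] [IsSeparated G.hom] [QuasiCompact G.hom]
    [GrpObj T₁] [GrpObj T₂] (i₁ : T₁ ⟶ G) (i₂ : T₂ ⟶ G) (h₁ : Red.IsMaximalTorus i₁) (h₂ : Red.IsMaximalTorus i₂) :
    ∃ (Z : Over S) (c : Z ⟶ G), Smooth Z.hom ∧ Surjective Z.hom ∧ ∀ (X : Over S) (g : X ⟶ G),
      (∃ t : X ⟶ Z, t ≫ c = g) ↔ ∀ (X' : Over S) (x : X' ⟶ X),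
        (∀ u : X' ⟶ T₁, ∃ v : X' ⟶ T₂, (x ≫ g) * (u ≫ i₁) * (x ≫ g)⁻¹ = v ≫ i₂) ∧
        (∀ v : X' ⟶ T₂, ∃ u : X' ⟶ T₁, (x ≫ g)⁻¹ * (v ≫ i₂) * (x ≫ g) = u ≫ i₁) := by
  haveI := h₁.1; haveI := h₁.2.1; haveI := h₂.1; haveI := h₂.2.1
  haveI := MultConjLib.smooth_of_isTorus h₁.2.2.1
  haveI := MultConjLib.smooth_of_isTorus h₂.2.2.1
  have hn₁ := MultConjLib.neutralSet_eq_univ_of_isTorus h₁.2.2.1
  have hn₂ := MultConjLib.neutralSet_eq_univ_of_isTorus h₂.2.2.1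
  have hl : ∀ {T : Over S} (i : T ⟶ G) [Smooth T.hom], LocallyOfFinitePresentation i.left := fun {T} i _ => by
    haveI : LocallyOfFinitePresentation (i.left ≫ G.hom) := by rw [Over.w i]; infer_instance
    exact Groth.Agent.S12442.locallyOfFinitePresentation_of_comp i.left G.hom
  haveI := hl i₁; haveI := hl i₂
  obtain ⟨A, a, hac, haf, hA⟩ := GrpFieldLib.Jet.exists_transporter_conj hn₁ i₁ i₂
  obtain ⟨B, b, hbc, hbf, hB⟩ := GrpFieldLib.Jet.exists_transporter_conj_inv hn₂ i₂ i₁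
  haveI := hac; haveI := haf; haveI := hbc; haveI := hbf
  obtain ⟨Z, c, hcc, hcf, hZ⟩ := GrpFieldLib.Jet.exists_inter_fp a b
  haveI := hcc; haveI := hcf
  have hpts : ∀ (X : Over S) (g : X ⟶ G), (∃ t : X ⟶ Z, t ≫ c = g) ↔
      ∀ (X' : Over S) (x : X' ⟶ X),
        (∀ u : X' ⟶ T₁, ∃ v : X' ⟶ T₂, (x ≫ g) * (u ≫ i₁) * (x ≫ g)⁻¹ = v ≫ i₂) ∧
        (∀ v : X' ⟶ T₂, ∃ u : X' ⟶ T₁, (x ≫ g)⁻¹ * (v ≫ i₂) * (x ≫ g) = u ≫ i₁) := fun X g => by
    rw [hZ, hA, hB]
    exact ⟨fun h X' x => ⟨h.1 X' x, h.2 X' x⟩, fun h => ⟨fun X' x => (h X' x).1, fun X' x => (h X' x).2⟩⟩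
  haveI : Mono c.left := inferInstance
  haveI : Smooth Z.hom := (Groth.Agent.S1488.result Z.hom).mpr ⟨by rw [← Over.w c]; infer_instance,
    MultConjLib.isFormallySmoothHom_sub_transporter
      (MultConjLib.isLocDS_of_multTypeFT (GrpSchLib.RankOne.isMultTypeFT_of_isTorus h₁.2.2.1))
      (MultConjLib.isLocDS_of_multTypeFT (GrpSchLib.RankOne.isMultTypeFT_of_isTorus h₂.2.2.1)) ‹_› i₁ i₂ c hpts⟩
  haveI : Surjective Z.hom := ⟨fun s => by
    let σ := Red.geomPt s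
    haveI : Smooth (Red.bc σ G).hom := inferInstanceAs (Smooth (pullback.snd G.hom σ))
    haveI : QuasiCompact (Red.bc σ G).hom := inferInstanceAs (QuasiCompact (pullback.snd G.hom σ))
    have hmax : ∀ {T : Over S} [GrpObj T] (i : T ⟶ G), Red.IsMaximalTorus i →
        AGF.IsMaxTorus ((Over.pullback σ).map i) := fun {T} _ i hT => by
      haveI := hT.1; haveI := hT.2.1
      exact ⟨inferInstance, inferInstance, isTorus_bc σ hT.2.2.1, fun T'' _ j _ _ f hT'' hf =>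
        hT.2.2.2 s T'' j f hT'' hf⟩
    obtain ⟨g, φ, hφ⟩ := maxTori_conj_all _ _ (hmax i₁ h₁) (hmax i₂ h₂)
    obtain ⟨t, -⟩ := (hpts _ (DSPtsLib.theta σ g)).mpr fun X x => by
      obtain ⟨X', x', e, _, rfl⟩ := BC.exists_lift σ x
      have hx' : x' = toUnit X' := toUnit_unique _ _
      subst hx'
      have hconj : ∀ u : X' ⟶ Red.bc σ T₁, (toUnit X' ≫ g) * (u ≫ (Over.pullback σ).map i₁) * (toUnit X' ≫ g)⁻¹ =
          (u ≫ φ.hom) ≫ (Over.pullback σ).map i₂ := fun u => by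
        rw [Category.assoc, ← hφ, MonObj.comp_mul, MonObj.comp_mul, GrpObj.comp_inv, ← Category.assoc,
          comp_toUnit]
      refine ⟨fun u => ?_, fun v => ?_⟩
      · obtain ⟨u', hu'⟩ := (DSPtsLib.theta_bijective σ).2 (inv e ≫ u)
        have hu : u = e ≫ DSPtsLib.theta σ u' := by rw [hu', IsIso.hom_inv_id_assoc]
        refine ⟨e ≫ DSPtsLib.theta σ (u' ≫ φ.hom), ?_⟩
        have h := congrArg (DSPtsLib.theta σ) (hconj u')
        rw [DSPtsLib.theta_mul, DSPtsLib.theta_mul, BC.theta_inv, BC.theta_map, DSPtsLib.theta_comp,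
          BC.theta_map] at h
        rw [hu]
        simp only [Category.assoc, ← h, MonObj.comp_mul, GrpObj.comp_inv]
      · obtain ⟨v', hv'⟩ := (DSPtsLib.theta_bijective σ).2 (inv e ≫ v)
        have hv : v = e ≫ DSPtsLib.theta σ v' := by rw [hv', IsIso.hom_inv_id_assoc]
        refine ⟨e ≫ DSPtsLib.theta σ (v' ≫ φ.inv), ?_⟩
        have h := congrArg (DSPtsLib.theta σ) (hconj (v' ≫ φ.inv))
        rw [DSPtsLib.theta_mul, DSPtsLib.theta_mul, BC.theta_inv, BC.theta_map, DSPtsLib.theta_comp,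
          BC.theta_map, Category.assoc v' φ.inv φ.hom, Iso.inv_hom_id, Category.comp_id] at h
        rw [hv]
        simp only [Category.assoc, ← h, MonObj.comp_mul, GrpObj.comp_inv]
        group
    obtain ⟨p⟩ : Nonempty ↥(Spec (CommRingCat.of (AlgebraicClosure (S.residueField s)))) :=
      ⟨IsLocalRing.closedPoint _⟩
    refine ⟨t.left p, ?_⟩
    show (t.left ≫ Z.hom) p = s
    rw [Over.w t]
    show (𝟙 _ ≫ σ) p = s
    rw [Category.id_comp]
    exact Scheme.fromSpecResidueField_apply s _⟩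
  exact ⟨Z, c, inferInstance, inferInstance, hpts⟩

/-- Maximal tori are conjugate over any point of their transporter. -/
theorem maxTori_conj_etale {G T₁ T₂ : Over S} [GrpObj G] [Smooth G.hom] [IsSeparated G.hom] [QuasiCompact G.hom]
    [GrpObj T₁] [GrpObj T₂] (i₁ : T₁ ⟶ G) (i₂ : T₂ ⟶ G) (h₁ : Red.IsMaximalTorus i₁) (h₂ : Red.IsMaximalTorus i₂) :
    ∃ (S' : Scheme.{u}) (f : S' ⟶ S), Etale f ∧ Surjective f ∧
      ∃ g : 𝟙_ (Over S') ⟶ Red.bc f G, SGA3x.ConjBy ((Over.pullback f).map i₁) ((Over.pullback f).map i₂) g := by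
  haveI := h₁.1; haveI := h₁.2.1; haveI := h₂.1; haveI := h₂.2.1
  obtain ⟨Z, c, hZs, hZj, hpts⟩ := exists_maxTori_transporter i₁ i₂ h₁ h₂
  haveI := hZs; haveI := hZj
  obtain ⟨S', e, h, he, hes, hh⟩ := exists_etale_surjective_lift Z
  let z : (Over.map e).obj (𝟙_ (Over S')) ⟶ Z := Over.homMk h (by
    show h ≫ Z.hom = 𝟙 S' ≫ e
    rw [hh, Category.id_comp])
  obtain ⟨g, hg⟩ := (DSPtsLib.theta_bijective (g := e) (H := G) (Y := 𝟙_ (Over S'))).surjective (z ≫ c)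
  exact ⟨S', e, he, hes, g, MultConjLib.conjBy_of_point i₁ i₂ c hpts e g z hg⟩

end Groth.Agent.GModLib
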