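import Groth.Agent.GModLib.CartanCentralTorus
import Groth.Agent.GModLib.TorusConjEtale

/-!
# A Cartan subgroup contains, locally for the etale topology, a maximal torus
-/

set_option autoImplicit false
set_option backward.isDefEq.respectTransparency false
set_option backward.isDefEq.respectTransparency.types false

universe u

open CategoryTheory Limits AlgebraicGeometry MonoidalCategory CartesianMonoidalCategory MonObj GrpObj

namespace Groth.Agent.GModLib

open GrpSchLib GrpFieldLib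

variable {S : Scheme.{u}} {G : Over S} [GrpObj G]

/-- Conjugation by a section. -/
noncomputable def innerS (g : 𝟙_ (Over S) ⟶ G) : G ⟶ G :=
  (toUnit G ≫ g) * 𝟙 G * (toUnit G ≫ g)⁻¹

theorem comp_innerS {T : Over S} (g : 𝟙_ (Over S) ⟶ G) (f : T ⟶ G) :
    f ≫ innerS g = (toUnit T ≫ g) * f * (toUnit T ≫ g)⁻¹ := by
  simp only [innerS, MonObj.comp_mul, GrpObj.comp_inv, Category.comp_id, ← Category.assoc]
  rw [toUnit_unique (f ≫ toUnit G) (toUnit T)]

theorem innerS_innerS (g h : 𝟙_ (Over S) ⟶ G) : innerS g ≫ innerS h = innerS (h * g) := by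
  rw [comp_innerS, innerS, innerS, MonObj.comp_mul, _root_.mul_inv_rev]
  simp only [_root_.mul_assoc]

theorem innerS_one : innerS (1 : 𝟙_ (Over S) ⟶ G) = 𝟙 G := by
  rw [innerS, MonObj.comp_one, _root_.one_mul, _root_.inv_one, _root_.mul_one]

instance isMonHom_innerS (g : 𝟙_ (Over S) ⟶ G) : IsMonHom (innerS g) where
  one_hom := by
    rw [comp_innerS, MonObj.one_eq_one, _root_.mul_one, mul_inv_cancel]
  mul_hom := by
    rw [comp_innerS, show μ[G] = fst G G * snd G G by rw [Hom.mul_def, lift_fst_snd, Category.id_comp], MonObj.comp_mul,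
      tensorHom_fst, tensorHom_snd, comp_innerS, comp_innerS]
    group

instance isIso_innerS (g : 𝟙_ (Over S) ⟶ G) : IsIso (innerS g) :=
  ⟨innerS g⁻¹, by rw [innerS_innerS, inv_mul_cancel, innerS_one], by rw [innerS_innerS, mul_inv_cancel, innerS_one]⟩

/-- A conjugate of a maximal torus is a maximal torus. -/
theorem isMaximalTorus_innerS {T : Over S} [GrpObj T] (i : T ⟶ G) (h : Red.IsMaximalTorus i)
    (g : 𝟙_ (Over S) ⟶ G) : Red.IsMaximalTorus (i ≫ innerS g) := by
  haveI := h.1; haveI := h.2.1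
  refine ⟨inferInstance, inferInstance, h.2.2.1, fun s T'' _ j _ _ f hT'' hf => ?_⟩
  let σ := Red.geomPt s
  let b : Red.bc σ G ≅ Red.bc σ G := (Over.pullback σ).mapIso (asIso (innerS g))
  haveI : IsMonHom b.hom := inferInstanceAs (IsMonHom ((Over.pullback σ).map (innerS g)))
  have hm := isMaxTorus_of_iso (Iso.refl _) (Grp.mkIso' b) ((Over.pullback σ).map i)
    ((Over.pullback σ).map (i ≫ innerS g)) (by rw [Functor.map_comp]; exact Category.id_comp _)
    (isTorus_bc σ h.2.2.1) ⟨inferInstance, inferInstance, isTorus_bc σ h.2.2.1, fun T₁ _ j₁ _ _ f₁ h₁ h₁' =>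
      h.2.2.2 s T₁ j₁ f₁ h₁ h₁'⟩
  exact hm.2.2.2 T'' j f hT'' hf

set_option maxHeartbeats 1000000 in
/-- A smooth subgroup containing a maximal torus on every geometric fibre contains one etale locally. -/
theorem exists_maxTorus_in_etale {C T₀ : Over S} [GrpObj C] [GrpObj T₀] [Smooth G.hom] [IsSeparated G.hom]
    [QuasiCompact G.hom] (i₀ : T₀ ⟶ G) (h₀ : Red.IsMaximalTorus i₀) (c : C ⟶ G) [IsMonHom c] [Mono c] [Smooth C.hom]
    (hfib : ∀ s : S, ∃ (T' : Over (Spec (CommRingCat.of (AlgebraicClosure (S.residueField s))))) (_ : GrpObj T')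
      (i' : T' ⟶ Red.bc (Red.geomPt s) G) (t : T' ⟶ Red.bc (Red.geomPt s) C),
      Red.IsMaximalTorus i' ∧ t ≫ (Over.pullback (Red.geomPt s)).map c = i') :
    ∃ (S' : Scheme.{u}) (q : S' ⟶ S), Etale q ∧ Surjective q ∧
      ∃ (T : Over S') (_ : GrpObj T) (i : T ⟶ Red.bc q G) (e : T ⟶ Red.bc q C),
        e ≫ (Over.pullback q).map c = i ∧ Red.IsMaximalTorus i := by
  haveI := h₀.1; haveI := h₀.2.1
  haveI := MultConjLib.smooth_of_isTorus h₀.2.2.1
  haveI : LocallyOfFinitePresentation c.left := by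
    haveI : LocallyOfFinitePresentation (c.left ≫ G.hom) := by rw [Over.w c]; infer_instance
    exact AlgSpPts.locallyOfFinitePresentation_of_comp c.left G.hom
  obtain ⟨A, a, hac, haf, hA⟩ := Jet.exists_transporter_conj
    (MultConjLib.neutralSet_eq_univ_of_isTorus h₀.2.2.1) i₀ c
  haveI := hac; haveI := haf
  haveI : Mono a.left := inferInstance
  haveI : Smooth A.hom := (Groth.Agent.S1488.result A.hom).mpr ⟨by
      rw [← Over.w a]; exact locallyOfFinitePresentation_comp a.left G.hom,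
    isFormallySmoothHom_transporter_into (MultConjLib.isLocDS_of_multTypeFT
      (RankOne.isMultTypeFT_of_isTorus h₀.2.2.1)) ‹_› ‹_› i₀ c a hA⟩
  haveI : Surjective A.hom := ⟨fun s => by
    let σ := Red.geomPt s
    haveI : Smooth (Red.bc σ G).hom := inferInstanceAs (Smooth (pullback.snd G.hom σ))
    haveI : QuasiCompact (Red.bc σ G).hom := inferInstanceAs (QuasiCompact (pullback.snd G.hom σ))
    obtain ⟨T', _, i', t, hi', ht⟩ := hfib s
    haveI := hi'.1; haveI := hi'.2.1
    obtain ⟨g, φ, hφ⟩ := maxTori_conj_all ((Over.pullback σ).map i₀) i'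
      ⟨inferInstance, inferInstance, isTorus_bc σ h₀.2.2.1, fun T'' _ j _ _ f hT'' hf => h₀.2.2.2 s T'' j f hT'' hf⟩
      (isMaxTorus_of_isMaximalTorus hi')
    obtain ⟨z, -⟩ := (hA _ (DSPtsLib.theta σ g)).mpr fun X x u => by
      obtain ⟨X', x', e, _, rfl⟩ := BC.exists_lift σ x
      have hx' : x' = toUnit X' := toUnit_unique _ _
      subst hx'
      obtain ⟨u', hu'⟩ := (DSPtsLib.theta_bijective σ).2 (inv e ≫ u)
      have hu : u = e ≫ DSPtsLib.theta σ u' := by rw [hu', IsIso.hom_inv_id_assoc]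
      have hconj : (toUnit X' ≫ g) * (u' ≫ (Over.pullback σ).map i₀) * (toUnit X' ≫ g)⁻¹ =
          (u' ≫ φ.hom ≫ t) ≫ (Over.pullback σ).map c := by
        simp only [Category.assoc]
        rw [ht, ← hφ, MonObj.comp_mul, MonObj.comp_mul, GrpObj.comp_inv, ← Category.assoc, comp_toUnit]
      refine ⟨e ≫ DSPtsLib.theta σ (u' ≫ φ.hom ≫ t), ?_⟩
      have h := congrArg (DSPtsLib.theta σ) hconj
      rw [DSPtsLib.theta_mul, DSPtsLib.theta_mul, BC.theta_inv, BC.theta_map, DSPtsLib.theta_comp,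
        BC.theta_map] at h
      rw [hu]
      simp only [Category.assoc, ← h, MonObj.comp_mul, GrpObj.comp_inv]
    let p₀ := IsLocalRing.closedPoint (AlgebraicClosure (S.residueField s))
    exact ⟨z.left p₀, by rw [← Scheme.Hom.comp_apply, Over.w z]; exact Scheme.fromSpecResidueField_apply s _⟩⟩
  obtain ⟨S', q, h, hq, hqs, hh⟩ := exists_etale_surjective_lift A
  let pA : (Over.map q).obj (𝟙_ (Over S')) ⟶ A := Over.homMk h (by
    show h ≫ A.hom = 𝟙 S' ≫ q
    rw [Category.id_comp, hh])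
  obtain ⟨g, hg⟩ := (DSPtsLib.theta_bijective (H := G) q).2 (pA ≫ a)
  haveI : Smooth (Red.bc q G).hom := inferInstanceAs (Smooth (pullback.snd G.hom q))
  let T := Red.bc q T₀
  let i := (Over.pullback q).map i₀ ≫ innerS g
  obtain ⟨κ, hκ⟩ := (hA _ (pA ≫ a)).mp ⟨pA, rfl⟩ ((Over.map q).obj T) ((Over.map q).map (toUnit T))
    (DSPtsLib.theta q (𝟙 T))
  obtain ⟨e, he⟩ := (DSPtsLib.theta_bijective (H := C) q).2 κ
  refine ⟨S', q, hq, hqs, T, inferInstance, i, e, ?_,
    isMaximalTorus_innerS _ (isMaximalTorus_bc i₀ h₀ q) g⟩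
  refine (DSPtsLib.theta_bijective q).1 ?_
  show DSPtsLib.theta q (e ≫ (Over.pullback q).map c) = DSPtsLib.theta q ((Over.pullback q).map i₀ ≫ innerS g)
  rw [BC.theta_map, he, ← hκ, comp_innerS, DSPtsLib.theta_mul, DSPtsLib.theta_mul, BC.theta_inv,
    DSPtsLib.theta_comp, hg]
  have h3 := BC.theta_map q i₀ (𝟙 T)
  rw [Category.id_comp] at h3
  rw [h3]

/-- A Cartan subgroup of a group with a maximal torus contains a maximal torus etale locally. -/
theorem exists_maxTorus_in_cartan_etale {C T₀ : Over S} [GrpObj C] [GrpObj T₀] [Smooth G.hom] [IsSeparated G.hom]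
    [QuasiCompact G.hom] (i₀ : T₀ ⟶ G) (h₀ : Red.IsMaximalTorus i₀) (c : C ⟶ G) (hC : SGA3x.IsCartan c) :
    ∃ (S' : Scheme.{u}) (q : S' ⟶ S), Etale q ∧ Surjective q ∧
      ∃ (T : Over S') (_ : GrpObj T) (i : T ⟶ Red.bc q G) (e : T ⟶ Red.bc q C),
        e ≫ (Over.pullback q).map c = i ∧ Red.IsMaximalTorus i := by
  haveI := hC.1; haveI := hC.2.1; haveI := hC.2.2.1
  refine exists_maxTorus_in_etale i₀ h₀ c fun s => ?_
  obtain ⟨-, -, T', _, i', hi', hcC⟩ := hC.2.2.2 s
  haveI := hi'.1; haveI := hi'.2.1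
  obtain ⟨t, ht⟩ := (hcC.2.2 T' i').mpr fun X' x y => by
    rw [← MonObj.mul_comp, ← MonObj.mul_comp, TorusBilin.comm_of_isTorus hi'.2.2.1]
  exact ⟨T', inferInstance, i', t, hi', ht⟩

end Groth.Agent.GModLib
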