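import Groth.Agent.GModLib.BorelCentralizing
import Groth.Agent.GrpSchLib.HomFlat
import Groth.Agent.GrpSchLib.ImageFactor
import Groth.Agent.S7983
import Groth.Agent.S7997
import Groth.Agent.EtFound.Descent

/-!
# Proper quotients, parabolic subgroups and images of Borel subgroups
-/

set_option autoImplicit false
set_option backward.isDefEq.respectTransparency false
set_option backward.isDefEq.respectTransparency.types false

universe u

open CategoryTheory Limits AlgebraicGeometry MonoidalCategory CartesianMonoidalCategory MonObj GrpObj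

namespace Groth.Agent.GModLib

open GrpSchLib GrpSchLib.Kunneth GrpFieldLib

variable {k : Type u} [Field k]

theorem isPullback_whiskerLeft {S : Scheme.{u}} {A B : Over S} (g : A ⟶ B) (P : Over S) :
    IsPullback (P ◁ g).left (snd P A).left (snd P B).left g.left := by
  have h : IsPullback (P ◁ g) (snd P A) (snd P B) g := by
    refine IsPullback.of_isLimit' ⟨by simp⟩ (Limits.PullbackCone.IsLimit.mk _
      (fun s => lift (s.fst ≫ fst P B) s.snd) (fun s => ?_) (fun s => by simp) (fun s m h1 h2 => ?_))
    · apply CartesianMonoidalCategory.hom_ext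
      · simp
      · simpa using s.condition.symm
    · apply CartesianMonoidalCategory.hom_ext
      · rw [lift_fst, ← h1]; simp
      · simpa using h2
  exact h.map (Over.forget S)

/-- A quotient by a closed subgroup is separated. -/
theorem isSeparated_of_isQuotient {G P : Over (Spec (CommRingCat.of k))} [GrpObj G] [GrpObj P] [QuasiCompact G.hom]
    (iP : P ⟶ G) [IsClosedImmersion iP.left] (X : Over (Spec (CommRingCat.of k))) (a : AlgGrp.Action G X)
    (o : 𝟙_ (Over (Spec (CommRingCat.of k))) ⟶ X) (hX : AGF.IsQuotient iP X a o) : IsSeparated X.hom := by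
  haveI := hX.1; haveI := hX.2.1; haveI := hX.2.2.1
  haveI := QuotTower.orbit_qc (a.orbitMap o)
  let π := a.orbitMap o
  let q : G ⊗ G ⟶ X ⊗ X := (π ▷ G) ≫ (X ◁ π)
  have hq : (@Surjective ⊓ @Flat ⊓ @QuasiCompact : MorphismProperty Scheme.{u}) q.left := by
    have hπ : (@Surjective ⊓ @Flat ⊓ @QuasiCompact : MorphismProperty Scheme.{u}) π.left :=
      ⟨⟨hX.2.2.1, hX.2.1⟩, inferInstance⟩
    exact MorphismProperty.comp_mem _ _ _ (GrpSchLib.property_whiskerRight π G _ hπ)
      (MorphismProperty.of_isPullback (isPullback_whiskerLeft π X).flip hπ)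
  let d : X ⟶ X ⊗ X := lift (𝟙 X) (𝟙 X)
  let p : G ⊗ P ⟶ G ⊗ G := lift (fst G P) ((G ◁ iP) ≫ μ[G])
  haveI : IsClosedImmersion p.left := by
    let sh : G ⊗ G ⟶ G ⊗ G := lift (fst G G) μ[G]
    haveI : IsIso sh := by
      refine ⟨lift (fst G G) ((fst G G)⁻¹ * snd G G), ?_, ?_⟩
      · apply CartesianMonoidalCategory.hom_ext
        · simp [sh]
        · simp only [sh, Category.assoc, lift_snd, Category.id_comp, MonObj.comp_mul, GrpObj.comp_inv, lift_fst]
          rw [show μ[G] = fst G G * snd G G by rw [Hom.mul_def, lift_fst_snd, Category.id_comp], inv_mul_cancel_left]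
      · apply CartesianMonoidalCategory.hom_ext
        · simp [sh]
        · simp only [sh, Category.assoc, lift_snd, Category.id_comp]
          rw [show μ[G] = fst G G * snd G G by rw [Hom.mul_def, lift_fst_snd, Category.id_comp]]
          simp [MonObj.comp_mul]
    haveI : IsIso sh.left := inferInstanceAs (IsIso ((Over.forget _).map sh))
    haveI : IsClosedImmersion (G ◁ iP).left :=
      MorphismProperty.of_isPullback (P := @IsClosedImmersion) (isPullback_whiskerLeft iP G).flip ‹_›
    have : p = (G ◁ iP) ≫ sh := by apply CartesianMonoidalCategory.hom_ext <;> simp [p, sh]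
    rw [this, Over.comp_left]
    infer_instance
  have hpb : IsPullback (fst G P ≫ π) p d q := by
    refine IsPullback.of_isLimit' ⟨?_⟩ (Limits.PullbackCone.IsLimit.mk _
      (fun s => hX.2.2.2.lift (s.snd ≫ fst G G) (s.snd ≫ snd G G) ?_) (fun s => ?_) (fun s => ?_) (fun s m h1 h2 => ?_))
    · apply CartesianMonoidalCategory.hom_ext <;> simp [d, q, p, π]
      simpa using hX.2.2.2.w
    · have e1 := congrArg (· ≫ fst X X) s.condition
      have e2 := congrArg (· ≫ snd X X) s.condition
      simp [d, q, π] at e1 e2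
      simp only [Category.assoc]
      exact e1.symm.trans e2
    · have e1 := congrArg (· ≫ fst X X) s.condition
      simp [d, q, π] at e1
      rw [← Category.assoc, IsPullback.lift_fst, Category.assoc]
      exact e1.symm
    · apply CartesianMonoidalCategory.hom_ext
      · simp [p]
      · simpa [p] using hX.2.2.2.lift_snd (s.snd ≫ fst G G) (s.snd ≫ snd G G) _
    · apply hX.2.2.2.hom_ext
      · rw [IsPullback.lift_fst, ← h2]; simp [p]
      · rw [IsPullback.lift_snd, ← h2]; simp [p]
  have hpb' : IsPullback (fst G P ≫ π).left p.left d.left q.left := hpb.map (Over.forget _)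
  haveI := EtFound.fpqc_isClosedImmersion.{u}
  haveI : IsClosedImmersion (pullback.snd d.left q.left) := by
    rw [← hpb'.isoPullback_inv_snd]
    infer_instance
  haveI hd : IsClosedImmersion d.left :=
    MorphismProperty.of_pullback_snd_of_descendsAlong (P := @IsClosedImmersion)
      (Q := @Surjective ⊓ @Flat ⊓ @QuasiCompact) hq ‹_›
  have e : d.left = pullback.diagonal X.hom := by
    apply pullback.hom_ext
    · rw [pullback.diagonal_fst]
      exact congrArg CommaMorphism.left (lift_fst (𝟙 X) (𝟙 X))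
    · rw [pullback.diagonal_snd]
      exact congrArg CommaMorphism.left (lift_snd (𝟙 X) (𝟙 X))
  rw [e] at hd
  exact ⟨hd⟩

/-- A closed subgroup containing a cocompact subgroup is cocompact. -/
theorem cocompact_of_le {G H P : Over (Spec (CommRingCat.of k))} [GrpObj G] [GrpObj H] [GrpObj P] [IsAffine G.left]
    [LocallyOfFiniteType G.hom] [LocallyOfFiniteType H.hom] [QuasiCompact H.hom] (iH : H ⟶ G) [IsMonHom iH]
    [IsClosedImmersion iH.left] (iP : P ⟶ G) [IsMonHom iP] [IsClosedImmersion iP.left] (l : H ⟶ P) (hl : l ≫ iP = iH)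
    (hH : Cocompact iH) : Cocompact iP := by
  haveI : QuasiCompact G.hom := inferInstance
  haveI : LocallyOfFiniteType P.hom := by rw [← Over.w iP]; infer_instance
  haveI : QuasiCompact P.hom := by rw [← Over.w iP]; infer_instance
  haveI : Mono iP := Over.mono_of_mono_left _
  obtain ⟨X, a, o, hX, hXp⟩ := hH
  obtain ⟨X', a', o', hX'l, hX'q, hX'f, hX's, hX'pb⟩ := HomogeneousQuot.exists_quot G P iP
  have hX' : AGF.IsQuotient iP X' a' o' := ⟨hX'l, hX'f, hX's, hX'pb⟩
  haveI := hX'l; haveI := hX'q; haveI := hX's; haveI := hXp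
  obtain ⟨f, ⟨-, hf⟩, -⟩ := S8014.result k G H iH X a o hX X' a' o' fun T h => by
    have e := ((QuotTower.orbit_eq_iff iP X' a' o' hX' 1 (h ≫ iH)).mpr ⟨h ≫ l, by
      rw [_root_.one_mul, Category.assoc, hl]⟩).symm
    rwa [comp_orbitMap, comp_orbitMap, act_one] at e
  haveI := isSeparated_of_isQuotient iP X' a' o' hX'
  haveI : Surjective f.left := by
    haveI : Surjective ((a.orbitMap o).left ≫ f.left) := by
      rw [← Over.comp_left, hf]; infer_instance
    exact Surjective.of_comp (a.orbitMap o).left f.left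
  haveI : UniversallyClosed (f.left ≫ X'.hom) := by rw [Over.w f]; infer_instance
  haveI : UniversallyClosed X'.hom := UniversallyClosed.of_comp_surjective f.left X'.hom
  exact ⟨X', a', o', hX', {}⟩

variable [IsAlgClosed k]

/-- A quotient by a smooth closed subgroup is proper iff the subgroup is parabolic. -/
theorem isProper_iff_isParabolicOver {G : Over (Spec (CommRingCat.of k))} [GrpObj G] [IsAffine G.left] [Smooth G.hom]
    [ConnectedSpace G.left] {P : Over (Spec (CommRingCat.of k))} [GrpObj P] (iP : P ⟶ G) [IsMonHom iP]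
    [IsClosedImmersion iP.left] [Smooth P.hom] (X : Over (Spec (CommRingCat.of k))) (a : AlgGrp.Action G X)
    (o : 𝟙_ (Over (Spec (CommRingCat.of k))) ⟶ X) (hX : AGF.IsQuotient iP X a o) :
    IsProper X.hom ↔ Red.IsParabolicOver k iP := by
  constructor
  · intro hp
    obtain ⟨B, _, iB, hB, -⟩ := exists_borel (G := G)
    haveI := hB.1; haveI := hB.2.1; haveI := hB.2.2.1; haveI := hB.2.2.2.1
    haveI : QuasiCompact G.hom := inferInstance
    obtain ⟨g, h, hh⟩ := exists_conj_factor iP ⟨X, a, o, hX, hp⟩ iB hB.2.2.2.2.1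
    refine ⟨inferInstance, inferInstance, inferInstance, B, inferInstance, h, ?_⟩
    have e : h ≫ iP = iB ≫ inner g⁻¹ := by
      rw [hh, Category.assoc, Category.assoc, inner_inner, inv_mul_cancel, inner_one, Category.comp_id]
    exact e ▸ isBorelOver_inner iB hB g⁻¹
  · rintro ⟨-, -, -, B, _, b, hB⟩
    obtain ⟨h1, h2, h3, -⟩ := id hB
    haveI := h1; haveI := h2; haveI := h3
    haveI : QuasiCompact B.hom := by rw [← Over.w (b ≫ iP)]; infer_instance
    exact cocompact_of_isQuotient (cocompact_of_le (b ≫ iP) iP b rfl (borel_cocompact (b ≫ iP) hB)) X a o hX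

/-- The image of a Borel subgroup under a surjective homomorphism is a Borel subgroup. -/
theorem exists_borel_image_affine {G Q : Over (Spec (CommRingCat.of k))} [GrpObj G] [IsAffine G.left] [Smooth G.hom]
    [ConnectedSpace G.left] [GrpObj Q] [IsAffine Q.left] [Smooth Q.hom] (q : G ⟶ Q) [IsMonHom q] [Surjective q.left]
    {B : Over (Spec (CommRingCat.of k))} [GrpObj B] (iB : B ⟶ G) (hB : Red.IsBorelOver k iB) :
    ∃ (B' : Over (Spec (CommRingCat.of k))) (_ : GrpObj B') (iB' : B' ⟶ Q) (p : B ⟶ B'),
      Red.IsBorelOver k iB' ∧ p ≫ iB' = iB ≫ q ∧ IsMonHom p ∧ Surjective p.left ∧ Flat p.left := by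
  obtain ⟨hBm, hBcl, hBsm, hBconn, hBsol, -⟩ := id hB
  haveI := hBm; haveI := hBcl; haveI := hBsm; haveI := hBconn
  haveI : QuasiCompact B.hom := by rw [← Over.w iB]; infer_instance
  haveI : QuasiCompact G.hom := inferInstance
  obtain ⟨B', _, p, j, hp, hj, hpj, hjc, hjf, hjs, hjl, hjq⟩ := ImageFactor.exists_image (iB ≫ q)
  haveI := hp; haveI := hj; haveI := hjc; haveI := hjf; haveI := hjs; haveI := hjl; haveI := hjq
  haveI : Smooth B'.hom := (S7983.result k B B' p).2.1 inferInstance
  haveI : ConnectedSpace B'.left := (S7983.result k B B' p).2.2 inferInstance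
  have hsol := S7997.result k B B' p hBsol
  haveI : Mono j := Over.mono_of_mono_left j
  haveI : IsSeparated Q.hom := inferInstance
  refine ⟨B', inferInstance, j, p, isBorelOver_of_cocompact j hsol ?_, hpj, inferInstance, inferInstance, inferInstance⟩
  -- its quotient is the image of that of the Borel subgroup
  obtain ⟨X, a, o, hX, hXp⟩ := borel_cocompact iB hB
  obtain ⟨Y, b, y, hYl, hYq, hYf, hYs, hYpb⟩ := HomogeneousQuot.exists_quot Q B' j
  have hY : AGF.IsQuotient j Y b y := ⟨hYl, hYf, hYs, hYpb⟩
  haveI := hX.1; haveI := hX.2.1; haveI := hX.2.2.1; haveI := hXp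
  haveI := hYl; haveI := hYs; haveI := hYq
  haveI := QuotTower.orbit_qc (a.orbitMap o)
  obtain ⟨f, hf⟩ := QuotTower.exists_desc (a.orbitMap o) (q ≫ b.orbitMap y) fun u u' e => by
    obtain ⟨w, hw⟩ := (QuotTower.orbit_eq_iff iB X a o hX u u').mp e
    rw [← Category.assoc, ← Category.assoc]
    exact (QuotTower.orbit_eq_iff j Y b y hY _ _).mpr ⟨w ≫ p, by
      rw [← hw, MonObj.mul_comp, Category.assoc, Category.assoc, hpj]⟩
  haveI := isSeparated_of_isQuotient j Y b y hY
  haveI : Surjective f.left := by
    haveI : Surjective ((a.orbitMap o).left ≫ f.left) := by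
      rw [← Over.comp_left, hf, Over.comp_left]; infer_instance
    exact Surjective.of_comp (a.orbitMap o).left f.left
  haveI : UniversallyClosed (f.left ≫ Y.hom) := by rw [Over.w f]; infer_instance
  haveI : UniversallyClosed Y.hom := UniversallyClosed.of_comp_surjective f.left Y.hom
  exact ⟨Y, b, y, hY, {}⟩

/-- Every Borel subgroup of a quotient is the image of one. -/
theorem exists_borel_onto {G Q : Over (Spec (CommRingCat.of k))} [GrpObj G] [IsAffine G.left] [Smooth G.hom]
    [ConnectedSpace G.left] [GrpObj Q] [IsAffine Q.left] [Smooth Q.hom] [ConnectedSpace Q.left] (q : G ⟶ Q)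
    [IsMonHom q] [Surjective q.left] {B' : Over (Spec (CommRingCat.of k))} [GrpObj B'] (iB' : B' ⟶ Q)
    (hB' : Red.IsBorelOver k iB') :
    ∃ (B : Over (Spec (CommRingCat.of k))) (_ : GrpObj B) (iB : B ⟶ G) (p : B ⟶ B'),
      Red.IsBorelOver k iB ∧ Surjective p.left ∧ p ≫ iB' = iB ≫ q := by
  obtain ⟨B, _, iB, hB, -⟩ := exists_borel (G := G)
  obtain ⟨B₁, _, iB₁, p, hB₁, hp, -, hps, -⟩ := exists_borel_image_affine q iB hB
  obtain ⟨g, e, he⟩ := borel_conj iB₁ iB' hB₁ hB'
  haveI := hps
  haveI : LocallyOfFiniteType q.left := by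
    haveI : LocallyOfFiniteType (q.left ≫ Q.hom) := by rw [Over.w q]; infer_instance
    exact locallyOfFiniteType_of_comp q.left Q.hom
  obtain ⟨x, hx⟩ := exists_point_lift (K := k) q (toUnit (VecGrp.pt k k) ≫ g)
  refine ⟨B, inferInstance, iB ≫ inner (toPt _ ≫ x), p ≫ e.hom, isBorelOver_inner iB hB _, ?_, ?_⟩
  · haveI : IsIso e.hom.left := inferInstanceAs (IsIso ((Over.forget _).map e.hom))
    rw [Over.comp_left]; infer_instance
  · have hxq : (toPt (𝟙_ (Over (Spec (CommRingCat.of k)))) ≫ x) ≫ q = g := by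
      rw [Category.assoc, hx, ← Category.assoc, toUnit_unique (toPt _ ≫ toUnit _) (𝟙 _), Category.id_comp]
    rw [Category.assoc, he, ← Category.assoc, hp, Category.assoc, Category.assoc, ← hxq, inner_comp]

end Groth.Agent.GModLib
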