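import Groth.Agent.GModLib.BorelRelative
import Groth.Agent.GModLib.Parabolic
import Groth.Agent.GModLib.BorelImage
import Groth.Agent.Chevalley.BC.NonConn
import Groth.Agent.LargeNormal.Basic
import Groth.Agent.GrpdLib.QuasiSection
import Groth.Agent.S5233
import Mathlib.AlgebraicGeometry.Morphisms.SmoothFiber
import Mathlib.AlgebraicGeometry.Morphisms.LocalFlatDescent

/-!
# Borel subgroups and homomorphisms with central kernel
-/

set_option autoImplicit false
set_option backward.isDefEq.respectTransparency false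
set_option backward.isDefEq.respectTransparency.types false

universe u

open CategoryTheory Limits AlgebraicGeometry MonoidalCategory CartesianMonoidalCategory MonObj GrpObj

namespace Groth.Agent.GModLib

open GrpSchLib GrpSchLib.Kunneth GrpFieldLib

/-- A self-normalizing subgroup mapping onto another one under a map with central kernel is its preimage. -/
theorem isPullback_of_normalizer {S : Scheme.{u}} {G G' B B' : Over S} [GrpObj G] [GrpObj G'] [GrpObj B]
    (u : G ⟶ G') [IsMonHom u] (b : B ⟶ G) (hn : Red.IsNormalizerOf b b) (b' : B' ⟶ G') [Mono b']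
    (r : B ⟶ B') [Flat r.left] [Surjective r.left] [QuasiCompact r.left] (hr : r ≫ b' = b ≫ u)
    (hker : ∀ (X : Over S) (z : X ⟶ G), z ≫ u = 1 → ∀ (X' : Over S) (x : X' ⟶ X) (g : X' ⟶ G),
      (x ≫ z) * g = g * (x ≫ z)) : IsPullback b r u b' := by
  haveI := hn.1; haveI := hn.2.1
  have hlift : ∀ {X : Over S} (x : X ⟶ G) (y : X ⟶ B'), x ≫ u = y ≫ b' → ∃ l, l ≫ b = x ∧ l ≫ r = y := by
    intro X x y hxy
    let W : Over S := Over.mk (pullback.fst y.left r.left ≫ X.hom)
    let w : W ⟶ X := Over.homMk (pullback.fst y.left r.left) rfl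
    let a : W ⟶ B := Over.homMk (pullback.snd y.left r.left) (by
      show pullback.snd y.left r.left ≫ B.hom = pullback.fst y.left r.left ≫ X.hom
      rw [← Over.w y, ← Over.w r, pullback.condition_assoc])
    have hwa : w ≫ y = a ≫ r := Over.OverMorphism.ext pullback.condition
    haveI : Flat w.left := inferInstanceAs (Flat (pullback.fst y.left r.left))
    haveI : Surjective w.left := inferInstanceAs (Surjective (pullback.fst y.left r.left))
    haveI : QuasiCompact w.left := inferInstanceAs (QuasiCompact (pullback.fst y.left r.left))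
    have hz : ((w ≫ x) * (a ≫ b)⁻¹) ≫ u = 1 := by
      rw [MonObj.mul_comp, GrpObj.inv_comp, Category.assoc, hxy, reassoc_of% hwa, hr, Category.assoc, mul_inv_cancel]
    obtain ⟨c, hc⟩ := (hn.2.2 W _).mpr fun X' x' h => by
      have e := hker W _ hz X' x' (h ≫ b)
      exact ⟨⟨h, by rw [e, mul_inv_cancel_right]⟩,
        ⟨h, by rw [_root_.mul_assoc, ← e, inv_mul_cancel_left]⟩⟩
    obtain ⟨l, hl⟩ := exists_factor_of_cover w b x (c * a) (by
      rw [MonObj.mul_comp, hc, inv_mul_cancel_right])
    refine ⟨l, hl, ?_⟩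
    rw [← cancel_mono b', Category.assoc, hr, reassoc_of% hl, hxy]
  refine ⟨⟨hr.symm⟩, ⟨PullbackCone.IsLimit.mk _ (fun c => (hlift c.fst c.snd c.condition).choose)
    (fun c => (hlift c.fst c.snd c.condition).choose_spec.1) (fun c => (hlift c.fst c.snd c.condition).choose_spec.2)
    fun c m h1 _ => by rw [← cancel_mono b, h1, (hlift c.fst c.snd c.condition).choose_spec.1]⟩⟩

variable {k : Type u} [Field k] [IsAlgClosed k]

/-- A Borel subgroup of a smooth connected group is its own normalizer. -/
theorem borel_isNormalizerOf_self_nonaffine {G B : Over (Spec (CommRingCat.of k))} [GrpObj G] [Smooth G.hom]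
    [QuasiCompact G.hom] [ConnectedSpace G.left] [GrpObj B] (iB : B ⟶ G) (hB : Red.IsBorelOver k iB) :
    Red.IsNormalizerOf iB iB := by
  haveI := hB.1; haveI := hB.2.1; haveI := hB.2.2.1; haveI := hB.2.2.2.1
  haveI : Mono iB := Over.mono_of_mono_left iB
  haveI : Subsingleton ↥(Spec (CommRingCat.of k)) := inferInstanceAs (Subsingleton (PrimeSpectrum k))
  have hconn : SGA3x.neutralSet B = Set.univ := Jet.neutralSet_eq_univ_of_isConnected B fun s => by
    rw [show B.hom.base ⁻¹' {s} = Set.univ from Set.eq_univ_of_forall fun z => Subsingleton.elim _ _]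
    exact isConnected_univ
  obtain ⟨N, _, n, hn, -, -⟩ := Jet.exists_normalizer iB hconn
  obtain ⟨u, hu⟩ := normalizer_borel_factors_nonaffine iB hB n hn
  refine ⟨inferInstance, inferInstance, fun X g => ⟨?_, fun h => ?_⟩⟩
  · rintro ⟨z, rfl⟩ X' x h
    exact ⟨⟨(x ≫ z) * h * (x ≫ z)⁻¹, by simp only [MonObj.mul_comp, GrpObj.inv_comp, Category.assoc]⟩,
      ⟨(x ≫ z)⁻¹ * h * (x ≫ z), by simp only [MonObj.mul_comp, GrpObj.inv_comp, Category.assoc]⟩⟩
  · obtain ⟨z, hz⟩ := (hn.2.2 X g).mpr h
    exact ⟨z ≫ u, by rw [Category.assoc, hu, hz]⟩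

section Preimage

variable {G G' : Over (Spec (CommRingCat.of k))} [GrpObj G] [GrpObj G'] [Smooth G.hom] [QuasiCompact G.hom]
  [Smooth G'.hom] [QuasiCompact G'.hom] (u : G ⟶ G') [IsMonHom u] [Surjective u.left]
  (hker : ∀ (X : Over (Spec (CommRingCat.of k))) (z : X ⟶ G), z ≫ u = 1 →
    ∀ (X' : Over (Spec (CommRingCat.of k))) (x : X' ⟶ X) (g : X' ⟶ G), (x ≫ z) * g = g * (x ≫ z))

set_option maxHeartbeats 1000000 in
/-- The identity component of the preimage of a connected subgroup maps onto it. -/
theorem exists_preimage_component {B' : Over (Spec (CommRingCat.of k))} [GrpObj B'] (b' : B' ⟶ G') [IsMonHom b']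
    [IsClosedImmersion b'.left] [Smooth B'.hom] [ConnectedSpace B'.left] :
    ∃ (N : Over (Spec (CommRingCat.of k))) (_ : GrpObj N) (c : N ⟶ G) (r : N ⟶ B'),
      IsMonHom c ∧ IsMonHom r ∧ IsClosedImmersion c.left ∧ Smooth N.hom ∧ ConnectedSpace N.left ∧
      Surjective r.left ∧ r ≫ b' = c ≫ u ∧
      ∀ (D : Over (Spec (CommRingCat.of k))) [GrpObj D] [Smooth D.hom] [ConnectedSpace D.left] (i : D ⟶ G)
        [IsMonHom i] (w : D ⟶ B'), w ≫ b' = i ≫ u → ∃ g : D ⟶ N, g ≫ c = i := by
  obtain ⟨E, _, e, q', he, hec, hq', sq⟩ := LargeNormal.exists_preimage u b'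
  haveI := he; haveI := hec; haveI := hq'
  haveI : Mono e := Over.mono_of_mono_left e
  haveI : LocallyOfFiniteType E.hom := by rw [← Over.w e]; infer_instance
  haveI : QuasiCompact E.hom := by rw [← Over.w e]; infer_instance
  haveI : QuasiCompact B'.hom := by rw [← Over.w b']; infer_instance
  haveI : Surjective q'.left := MorphismProperty.of_isPullback (P := @Surjective)
    (sq.map (Over.forget _)) ‹Surjective u.left›
  obtain ⟨N, _, c₀, hm, hcc, hNs, hNq, hNc, hcr⟩ := Chevalley.BC.exists_comp E
  haveI := hm; haveI := hcc; haveI := hNs; haveI := hNq; haveI := hNc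
  haveI : IsClosedImmersion (c₀ ≫ e).left := by rw [Over.comp_left]; infer_instance
  haveI : Surjective (c₀ ≫ q').left := by
    -- finitely many translates of the closed image cover
    obtain ⟨D, _, s, hs⟩ := Chevalley.BC.exists_cover E c₀ hcr
    haveI := hs
    let m := ((fst D N ≫ s) * (snd D N ≫ c₀)) ≫ q'
    haveI : Surjective m.left := by rw [Over.comp_left]; infer_instance
    haveI : LocallyOfFiniteType m.left := by
      haveI : LocallyOfFiniteType (m.left ≫ B'.hom) := by
        rw [Over.w m]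
        exact inferInstanceAs (LocallyOfFiniteType (pullback.fst D.hom N.hom ≫ D.hom))
      exact locallyOfFiniteType_of_comp m.left B'.hom
    haveI : IsSeparated B'.hom := AntiAffine.isSeparated_grp B'
    haveI : Finite D.left := by
      haveI : Subsingleton ↥(Spec (CommRingCat.of k)) := inferInstanceAs (Subsingleton (PrimeSpectrum k))
      refine Set.finite_univ_iff.mp ((D.hom.finite_preimage_singleton (IsLocalRing.closedPoint k)).subset
        fun x _ => Subsingleton.elim _ _)
    have hpt : (VecGrp.pt k k).hom = 𝟙 _ := by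
      show Spec.map (CommRingCat.ofHom (algebraMap k k)) = 𝟙 _
      rw [show CommRingCat.ofHom (algebraMap k k) = 𝟙 _ from rfl, Spec.map_id]
    haveI : Finite (VecGrp.pt k k ⟶ D) :=
      Finite.of_injective (fun d => d.left (IsLocalRing.closedPoint k)) fun d d' h =>
        Over.OverMorphism.ext (ext_of_apply_closedPoint_eq D.hom ((Over.w d).trans hpt) ((Over.w d').trans hpt) h)
    haveI : QuasiCompact (c₀ ≫ q').left := by
      haveI : QuasiCompact ((c₀ ≫ q').left ≫ B'.hom) := by rw [Over.w (c₀ ≫ q')]; infer_instance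
      exact QuasiCompact.of_comp (c₀ ≫ q').left B'.hom
    let tr : (VecGrp.pt k k ⟶ D) → (B' ≅ B') := fun d =>
      GrpSchLib.HomFinite.trans (toPt (𝟙_ (Over (Spec (CommRingCat.of k)))) ≫ d ≫ s ≫ q')
    let U : (VecGrp.pt k k ⟶ D) → Set B'.left := fun d => (tr d).hom.left '' Set.range (c₀ ≫ q').left
    have hU : ∀ d, IsClosed (U d) := fun d => by
      haveI : IsIso (tr d).hom.left := ((Over.forget _).mapIso (tr d)).isIso_hom
      exact (tr d).hom.left.homeomorph.isClosedMap _ (GrpSchLib.HomClosedRange.isClosed_range _)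
    haveI : IsReduced B'.left := GrpSchLib.isReduced_of_smooth_field B'.hom
    have huniv : (⋃ d, U d) = Set.univ := by
      by_contra hne
      obtain ⟨p, hp⟩ := exists_point_mem (D := B') (U := (⋃ d, U d)ᶜ)
        (isClosed_iUnion_of_finite hU).isOpen_compl (Set.nonempty_compl.mpr hne)
      obtain ⟨dn, hdn⟩ := exists_point_lift (K := k) m p
      refine hp (Set.mem_iUnion.mpr ⟨dn ≫ fst D N, (dn ≫ snd D N ≫ c₀ ≫ q').left (IsLocalRing.closedPoint k), ?_, ?_⟩)
      · exact ⟨(dn ≫ snd D N).left (IsLocalRing.closedPoint k), by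
          rw [← Scheme.Hom.comp_apply, ← Over.comp_left, Category.assoc]⟩
      · rw [← Scheme.Hom.comp_apply, ← Over.comp_left]
        refine congrArg (fun f : VecGrp.pt k k ⟶ B' => f.left (IsLocalRing.closedPoint k)) ?_
        show (dn ≫ snd D N ≫ c₀ ≫ q') ≫
          ((toUnit B' ≫ toPt (𝟙_ _) ≫ (dn ≫ fst D N) ≫ s ≫ q') * 𝟙 B') = p
        rw [MonObj.comp_mul, Category.comp_id, ← Category.assoc _ (toUnit B'), comp_toUnit,
          ← Category.assoc (toUnit _), toUnit_toPt, Category.id_comp, ← hdn]
        simp only [m, MonObj.comp_mul, MonObj.mul_comp, Category.assoc]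
    haveI : IrreducibleSpace B'.left := GrpFieldLib.SmoothDense.irreducibleSpace_of_connected B'.hom
    obtain ⟨d, hd⟩ : ∃ d, U d = Set.univ := by
      classical
      haveI := Fintype.ofFinite (VecGrp.pt k k ⟶ D)
      obtain ⟨z, hz, hsub⟩ := isIrreducible_iff_sUnion_isClosed.mp (IrreducibleSpace.isIrreducible_univ B'.left)
        (Finset.univ.image U) (fun z hz => by
          obtain ⟨d, -, rfl⟩ := Finset.mem_image.mp hz
          exact hU d) (fun x _ => by
          obtain ⟨d, hd⟩ := Set.mem_iUnion.mp (huniv.symm ▸ Set.mem_univ x : x ∈ ⋃ d, U d)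
          exact Set.mem_sUnion.mpr ⟨U d, by simp, hd⟩)
      obtain ⟨d, -, rfl⟩ := Finset.mem_image.mp hz
      exact ⟨d, Set.univ_subset_iff.mp hsub⟩
    haveI : IsIso (tr d).hom.left := ((Over.forget _).mapIso (tr d)).isIso_hom
    refine ⟨fun y => ?_⟩
    obtain ⟨x, hx, hxy⟩ := (hd.symm ▸ Set.mem_univ ((tr d).hom.left y) : (tr d).hom.left y ∈ U d)
    exact (tr d).hom.left.homeomorph.injective hxy ▸ hx
  refine ⟨N, inferInstance, c₀ ≫ e, c₀ ≫ q', inferInstance, inferInstance, inferInstance, inferInstance,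
    inferInstance, inferInstance, by rw [Category.assoc, Category.assoc, sq.w], fun D _ _ _ i _ w hw => ?_⟩
  haveI : IsReduced D.left := GrpSchLib.isReduced_of_smooth_field D.hom
  have hone : η[D] ≫ sq.lift i w hw.symm = η[E] := by
    rw [← cancel_mono e, Category.assoc, sq.lift_fst, IsMonHom.one_hom i, IsMonHom.one_hom e]
  obtain ⟨g, hg⟩ := Chevalley.BC.exists_factor E hcr (sq.lift i w hw.symm) (Chevalley.Val.pp η[D]) (by
    show (η[D] ≫ sq.lift i w hw.symm).left (IsLocalRing.closedPoint k) = _
    rw [hone]; rfl)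
  exact ⟨g, by rw [reassoc_of% hg, sq.lift_fst]⟩

include hker in
set_option maxHeartbeats 1000000 in
/-- The preimage component of a Borel subgroup under a map with central kernel is a Borel subgroup. -/
theorem exists_borel_over {B' : Over (Spec (CommRingCat.of k))} [GrpObj B'] (b' : B' ⟶ G')
    (hB' : Red.IsBorelOver k b') :
    ∃ (N : Over (Spec (CommRingCat.of k))) (_ : GrpObj N) (c : N ⟶ G) (r : N ⟶ B'),
      Red.IsBorelOver k c ∧ IsMonHom r ∧ Surjective r.left ∧ r ≫ b' = c ≫ u := by
  obtain ⟨hm, hcl, hsm, hcn, ⟨n, hn⟩, -⟩ := id hB'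
  haveI := hm; haveI := hcl; haveI := hsm; haveI := hcn
  haveI : QuasiCompact B'.hom := by rw [← Over.w b']; infer_instance
  haveI : Mono b' := Over.mono_of_mono_left b'
  obtain ⟨N, _, c, r, hcm, hrm, hcc, hNs, hNc, hrs, hr, huniv⟩ := exists_preimage_component u b'
  haveI := hcm; haveI := hrm; haveI := hcc; haveI := hNs; haveI := hNc; haveI := hrs
  haveI : Mono c := Over.mono_of_mono_left c
  haveI : QuasiCompact N.hom := by rw [← Over.w c]; infer_instance
  have hsol : Red.IsSolvableGrp N := by
    refine isSolvableGrp_of_points (n := n + 1) (eq_bot_iff.mpr ?_)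
    rw [derivedSeries_succ, Subgroup.commutator_le]
    intro a ha b _
    have h1 := map_derivedSeries_le_derivedSeries (pushPt r) n (Subgroup.mem_map_of_mem _ ha)
    rw [hn, Subgroup.mem_bot, pushPt_apply] at h1
    rw [Subgroup.mem_bot, commutatorElement_eq_one_iff_mul_comm, ← cancel_mono c, MonObj.mul_comp, MonObj.mul_comp]
    have h2 := hker _ (a ≫ c) (by rw [Category.assoc, ← hr, ← Category.assoc, h1, MonObj.one_comp]) _ (𝟙 _) (b ≫ c)
    rwa [Category.id_comp] at h2
  refine ⟨N, inferInstance, c, r, ⟨inferInstance, inferInstance, inferInstance, inferInstance, hsol,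
    fun N' _ i' _ f hcl' hsm' hcn' hsol' hf => ?_⟩, inferInstance, inferInstance, hr⟩
  haveI := hcl'; haveI := hsm'; haveI := hcn'
  haveI : Mono i' := Over.mono_of_mono_left i'
  haveI : QuasiCompact N'.hom := by rw [← Over.w i']; infer_instance
  obtain ⟨J, _, p', j, hp', hj, hpj, hjc, hjf, hjs, hjl, hjq⟩ := ImageFactor.exists_image (i' ≫ u)
  haveI := hp'; haveI := hj; haveI := hjc; haveI := hjf; haveI := hjs; haveI := hjl; haveI := hjq
  haveI : Smooth J.hom := (S7983.result k N' J p').2.1 inferInstance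
  haveI : ConnectedSpace J.left := (S7983.result k N' J p').2.2 inferInstance
  haveI : IsReduced B'.left := GrpSchLib.isReduced_of_smooth_field B'.hom
  obtain ⟨f', hf'⟩ := H23.RedSub.exists_lift_closed b'.left j.left (by
    rintro _ ⟨y, rfl⟩
    obtain ⟨z, rfl⟩ := r.left.surjective y
    refine ⟨(f ≫ p').left z, ?_⟩
    rw [← Scheme.Hom.comp_apply, ← Scheme.Hom.comp_apply, ← Over.comp_left, ← Over.comp_left, Category.assoc, hpj,
      reassoc_of% hf, hr])
  obtain ⟨f₁, hf₁⟩ : ∃ f₁ : B' ⟶ J, f₁ ≫ j = b' :=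
    ⟨Over.homMk f' (by rw [← Over.w j, reassoc_of% hf', Over.w b']), Over.OverMorphism.ext hf'⟩
  haveI : IsIso f₁ := hB'.2.2.2.2.2 J j f₁ inferInstance inferInstance inferInstance (S7997.result k N' J p' hsol') hf₁
  obtain ⟨g, hg⟩ := huniv N' i' (p' ≫ inv f₁) (by
    rw [← hf₁, Category.assoc, IsIso.inv_hom_id_assoc, hpj])
  exact ⟨g, by rw [← cancel_mono c, Category.assoc, hg, hf, Category.id_comp],
    by rw [← cancel_mono i', Category.assoc, hf, hg, Category.id_comp]⟩

include hker in
set_option maxHeartbeats 1000000 in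
/-- The preimage of a Borel subgroup under a map with central kernel is a Borel subgroup. -/
theorem isBorelOver_preimage [ConnectedSpace G.left] [Flat u.left] {B B' : Over (Spec (CommRingCat.of k))}
    [GrpObj B] [GrpObj B'] (b' : B' ⟶ G') (hB' : Red.IsBorelOver k b') (b : B ⟶ G) [IsMonHom b] (v : B ⟶ B')
    (h : IsPullback b v u b') : Red.IsBorelOver k b := by
  haveI := hB'.1; haveI := hB'.2.1; haveI := hB'.2.2.1
  haveI : Mono b' := Over.mono_of_mono_left b'
  haveI : QuasiCompact B'.hom := by rw [← Over.w b']; infer_instance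
  obtain ⟨N, _, c, r, hc, hrm, hrs, hr⟩ := exists_borel_over u hker b' hB'
  haveI := hrm; haveI := hrs; haveI := hc.1; haveI := hc.2.1; haveI := hc.2.2.1
  haveI : QuasiCompact N.hom := by rw [← Over.w c]; infer_instance
  haveI : LocallyOfFiniteType r.left := by
    haveI : LocallyOfFiniteType (r.left ≫ B'.hom) := by rw [Over.w r]; infer_instance
    exact locallyOfFiniteType_of_comp r.left B'.hom
  haveI : QuasiCompact r.left := by
    haveI : IsSeparated B'.hom := AntiAffine.isSeparated_grp B'
    haveI : QuasiCompact (r.left ≫ B'.hom) := by rw [Over.w r]; infer_instance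
    exact QuasiCompact.of_comp r.left B'.hom
  haveI : IsReduced B'.left := GrpSchLib.isReduced_of_smooth_field B'.hom
  haveI : Flat r.left := GrpSchLib.flat_of_surjective_hom r
  have hpb := isPullback_of_normalizer u c (borel_isNormalizerOf_self_nonaffine c hc) b' r hr hker
  exact isBorelOver_of_iso c hc b (h.isoIsPullback _ _ hpb) (h.isoIsPullback_hom_fst _ _ hpb)

include hker in
set_option maxHeartbeats 1000000 in
/-- A subgroup whose preimage is a Borel subgroup is a Borel subgroup. -/
theorem isBorelOver_of_preimage [Flat u.left] {B B' : Over (Spec (CommRingCat.of k))}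
    [GrpObj B] [GrpObj B'] (b : B ⟶ G) (hB : Red.IsBorelOver k b) (b' : B' ⟶ G') [IsMonHom b']
    [IsClosedImmersion b'.left] (v : B ⟶ B') [IsMonHom v] [Flat v.left] [Surjective v.left]
    [LocallyOfFiniteType B'.hom]
    (hv : v ≫ b' = b ≫ u) : Red.IsBorelOver k b' := by
  haveI := hB.1; haveI := hB.2.1; haveI := hB.2.2.1; haveI := hB.2.2.2.1
  haveI : Mono b' := Over.mono_of_mono_left b'
  haveI : QuasiCompact B.hom := by rw [← Over.w b]; infer_instance
  haveI : QuasiCompact B'.hom := by rw [← Over.w b']; infer_instance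
  haveI : Smooth B'.hom := (S7983.result k B B' v).2.1 inferInstance
  haveI : ConnectedSpace B'.left := (S7983.result k B B' v).2.2 inferInstance
  refine ⟨inferInstance, inferInstance, inferInstance, inferInstance, S7997.result k B B' v hB.2.2.2.2.1,
    fun B'' _ i'' _ f hcl hsm hcn hsol hf => ?_⟩
  haveI := hcl; haveI := hsm; haveI := hcn
  haveI : Mono i'' := Over.mono_of_mono_left i''
  haveI : QuasiCompact B''.hom := by rw [← Over.w i'']; infer_instance
  obtain ⟨N, _, c, r, hcm, hrm, hcc, hNs, hNc, hrs, hr, huniv⟩ := exists_preimage_component u i''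
  haveI := hcm; haveI := hrm; haveI := hcc; haveI := hNs; haveI := hNc; haveI := hrs
  haveI : Mono c := Over.mono_of_mono_left c
  haveI : QuasiCompact N.hom := by rw [← Over.w c]; infer_instance
  obtain ⟨n, hn⟩ := hsol
  have hsolN : Red.IsSolvableGrp N := by
    refine isSolvableGrp_of_points (n := n + 1) (eq_bot_iff.mpr ?_)
    rw [derivedSeries_succ, Subgroup.commutator_le]
    intro a ha b₁ _
    have h1 := map_derivedSeries_le_derivedSeries (pushPt r) n (Subgroup.mem_map_of_mem _ ha)
    rw [hn, Subgroup.mem_bot, pushPt_apply] at h1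
    rw [Subgroup.mem_bot, commutatorElement_eq_one_iff_mul_comm, ← cancel_mono c, MonObj.mul_comp, MonObj.mul_comp]
    have h2 := hker _ (a ≫ c) (by rw [Category.assoc, ← hr, ← Category.assoc, h1, MonObj.one_comp]) _ (𝟙 _) (b₁ ≫ c)
    rwa [Category.id_comp] at h2
  obtain ⟨g, hg⟩ := huniv B b (v ≫ f) (by rw [Category.assoc, hf, hv])
  haveI : IsIso g := hB.2.2.2.2.2 N c g inferInstance inferInstance inferInstance hsolN hg
  haveI : IsReduced B''.left := GrpSchLib.isReduced_of_smooth_field B''.hom
  haveI : LocallyOfFiniteType r.left := by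
    haveI : LocallyOfFiniteType (r.left ≫ B''.hom) := by rw [Over.w r]; infer_instance
    exact locallyOfFiniteType_of_comp r.left B''.hom
  obtain ⟨f', hf'⟩ := exists_factor_of_points b' i'' fun p => by
    obtain ⟨z, hz⟩ := exists_point_lift (K := k) r p
    refine ⟨z ≫ inv g ≫ v, ?_⟩
    rw [Category.assoc, Category.assoc, hv, ← hg, Category.assoc, IsIso.inv_hom_id_assoc, ← hr, reassoc_of% hz]
  exact ⟨f', by rw [← cancel_mono b', Category.assoc, hf', hf, Category.id_comp],
    by rw [← cancel_mono i'', Category.assoc, hf, hf', Category.id_comp]⟩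

end Preimage

end Groth.Agent.GModLib
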