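import Groth.Agent.GModLib.CentralKernelTori
import Groth.Agent.GModLib.CentralizerRelative
import Groth.Agent.GModLib.CentralKernelRelative
import Groth.Agent.GModLib.CentralizerNonAffine
import Groth.Agent.MultConjLib.Rigidity

/-!
# Centralizers of maximal tori and homomorphisms with central kernel
-/

set_option autoImplicit false
set_option linter.style.haveILetI false
set_option backward.isDefEq.respectTransparency false
set_option backward.isDefEq.respectTransparency.types false

universe u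

open CategoryTheory CategoryTheory.Limits MonoidalCategory CartesianMonoidalCategory MonObj GrpObj AlgebraicGeometry

namespace Groth.Agent.GModLib

open DSPtsLib (theta theta_bijective theta_mul theta_comp)
open GrpSchLib.HomUnitLocus (theta_comp_map theta_one)

variable {S : Scheme.{u}}

/-- What centralizes a torus maps to what centralizes its image. -/
theorem commute_image {G G' T T' : Over S} [GrpObj G] [GrpObj G'] (u : G ⟶ G') [IsMonHom u] (i : T ⟶ G) (i' : T' ⟶ G')
    (v : T ⟶ T') (hv : FpqcDescLib.Covers v.left) (e : v ≫ i' = i ≫ u) {X : Over S} (g : X ⟶ G)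
    (hg : ∀ (X' : Over S) (x : X' ⟶ X) (t : X' ⟶ T), (x ≫ g) * (t ≫ i) = (t ≫ i) * (x ≫ g))
    (X' : Over S) (x : X' ⟶ X) (h : X' ⟶ T') :
    (x ≫ g ≫ u) * (h ≫ i') = (h ≫ i') * (x ≫ g ≫ u) := by
  let P : Over S := Over.mk (pullback.fst h.left v.left ≫ X'.hom)
  let p : P ⟶ X' := Over.homMk (pullback.fst h.left v.left) rfl
  let w : P ⟶ T := Over.homMk (pullback.snd h.left v.left) (by
    show pullback.snd _ _ ≫ T.hom = pullback.fst _ _ ≫ X'.hom
    rw [← Over.w v, ← pullback.condition_assoc, Over.w h])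
  have hp : FpqcDescLib.Covers p.left :=
    hv.pullback h.left p.left w.left (IsPullback.of_hasPullback h.left v.left)
  haveI := hp.over_epi
  have hw : p ≫ h = w ≫ v := Over.OverMorphism.ext pullback.condition
  have h1 := congrArg (· ≫ u) (hg P (p ≫ x) w)
  simp only [MonObj.mul_comp, Category.assoc] at h1
  rw [← cancel_epi p, MonObj.comp_mul, MonObj.comp_mul, reassoc_of% hw, e]
  exact h1

set_option maxHeartbeats 1000000 in
/-- A point whose image centralizes the image of a maximal torus normalizes the torus. -/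
theorem exists_conj_mem {G G' T T' : Over S} [GrpObj G] [GrpObj G'] [GrpObj T] [GrpObj T'] [Smooth G.hom]
    [IsSeparated G.hom] [QuasiCompact G.hom]
    (u : G ⟶ G') [IsMonHom u] (hker : IsCentralKer u) (i : T ⟶ G) (hi : Red.IsMaximalTorus i) (i' : T' ⟶ G')
    (v : T ⟶ T') [Surjective v.left] [Flat v.left] [QuasiCompact v.left] (e : v ≫ i' = i ≫ u) {X : Over S} (g : X ⟶ G)
    (hg : ∀ (X' : Over S) (x : X' ⟶ X) (h : X' ⟶ T'), (x ≫ g ≫ u) * (h ≫ i') = (h ≫ i') * (x ≫ g ≫ u))
    (t : X ⟶ T) : ∃ t' : X ⟶ T, g * (t ≫ i) * g⁻¹ = t' ≫ i := by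
  haveI := hi.1; haveI := hi.2.1
  let q : X.left ⟶ S := X.hom
  haveI : Smooth (Red.bc q G).hom := inferInstanceAs (Smooth (pullback.snd G.hom q))
  haveI : IsSeparated (Red.bc q G).hom := inferInstanceAs (IsSeparated (pullback.snd G.hom q))
  let eX : (Over.map q).obj (𝟙_ (Over X.left)) ≅ X := Over.isoMk (Iso.refl _) (by
    show 𝟙 X.left ≫ X.hom = 𝟙 X.left ≫ q
    rfl)
  obtain ⟨d, hd⟩ := (theta_bijective q).2 (eX.hom ≫ g)
  obtain ⟨tX, htX⟩ := (theta_bijective q).2 (eX.hom ≫ t)
  let iX := (Over.pullback q).map i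
  let uX := (Over.pullback q).map u
  let vX := (Over.pullback q).map v
  let i'X := (Over.pullback q).map i'
  have hfix : i'X ≫ innerS (d ≫ uX) = i'X := by
    rw [comp_innerS]
    have hcomm : (toUnit _ ≫ d ≫ uX) * i'X = i'X * (toUnit _ ≫ d ≫ uX) := by
      apply (theta_bijective q).1
      have h1 := hg ((Over.map q).obj (Red.bc q T')) ((Over.map q).map (toUnit _) ≫ eX.hom) (theta q (𝟙 _))
      have h2 := theta_comp_map q _ (𝟙 (Red.bc q T')) i'
      rw [Category.id_comp] at h2
      rw [theta_mul, theta_mul, theta_comp, h2, theta_comp_map, hd, Category.assoc]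
      simp only [Category.assoc] at h1
      exact h1
    rw [hcomm, mul_inv_cancel_right]
  have e₁ : vX ≫ i'X = iX ≫ uX := by
    rw [← Functor.map_comp, e, Functor.map_comp]
  have e₂ : vX ≫ i'X = (iX ≫ innerS d) ≫ uX := by
    rw [Category.assoc, innerS_naturality, ← Category.assoc iX, ← e₁, Category.assoc, hfix]
  haveI : Surjective vX.left := MorphismProperty.overPullbackMap _ _ ‹Surjective v.left›
  haveI : Flat vX.left := MorphismProperty.overPullbackMap _ _ ‹Flat v.left›
  haveI : QuasiCompact vX.left := MorphismProperty.overPullbackMap _ _ ‹QuasiCompact v.left›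
  have hmax : Red.IsMaximalTorus iX := isMaximalTorus_bc i hi q
  obtain ⟨φ, hφ⟩ := exists_iso_of_image uX (hker.bc q) iX hmax (iX ≫ innerS d) (isMaximalTorus_innerS iX hmax d) i'X vX
    (FpqcDescLib.covers_of_isCovering (FpqcDescLib.isCovering_of_quasiCompact _)) vX e₁ e₂
  refine ⟨eX.inv ≫ theta q (tX ≫ φ.inv), ?_⟩
  have h3 : tX ≫ iX ≫ innerS d = (tX ≫ φ.inv) ≫ iX := by
    conv_rhs => rw [← hφ, Category.assoc, φ.inv_hom_id_assoc]
  have hinv : ∀ (a : 𝟙_ (Over X.left) ⟶ Red.bc q G), theta q a⁻¹ = (theta q a)⁻¹ := fun a =>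
    eq_inv_of_mul_eq_one_left (by rw [← theta_mul, inv_mul_cancel, theta_one])
  have h4 := congrArg (theta q) h3
  rw [← Category.assoc tX, comp_innerS, toUnit_unit, Category.id_comp, theta_mul, theta_mul, hinv, hd,
    theta_comp_map, theta_comp_map, htX, Category.assoc] at h4
  rw [← cancel_epi eX.hom, MonObj.comp_mul, MonObj.comp_mul, GrpObj.comp_inv, Category.assoc, eX.hom_inv_id_assoc]
  exact h4

set_option maxHeartbeats 1000000 in
/-- A point over the centralizer of the image centralizes the torus. -/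
theorem commute_of_image {G G' T T' C' : Over S} [GrpObj G] [GrpObj G'] [GrpObj T] [GrpObj T'] [GrpObj C']
    [Smooth G.hom] [IsSeparated G.hom] [QuasiCompact G.hom] (u : G ⟶ G') [IsMonHom u] [Flat u.left] [Surjective u.left] [LocallyOfFinitePresentation u.left]
    (hker : IsCentralKer u) (i : T ⟶ G) (hi : Red.IsMaximalTorus i) (i' : T' ⟶ G') (v : T ⟶ T') [Surjective v.left]
    [Flat v.left] [QuasiCompact v.left] (e : v ≫ i' = i ≫ u) (c' : C' ⟶ G') (hc' : Red.IsCentralizerOf i' c')
    (hconn : ∀ s : S, _root_.IsPreconnected (C'.hom.base ⁻¹' {s}))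
    {X : Over S} (g : X ⟶ G) (y : X ⟶ C') (hgy : g ≫ u = y ≫ c') (X' : Over S) (x : X' ⟶ X) (t : X' ⟶ T) :
    (x ≫ g) * (t ≫ i) = (t ≫ i) * (x ≫ g) := by
  haveI := hi.1; haveI := hi.2.1; haveI := hc'.1
  let P : Over S := Over.mk (pullback.fst u.left c'.left ≫ G.hom)
  let p₁ : P ⟶ G := Over.homMk (pullback.fst u.left c'.left) rfl
  let p₂ : P ⟶ C' := Over.homMk (pullback.snd u.left c'.left) (by
    show pullback.snd _ _ ≫ C'.hom = pullback.fst _ _ ≫ G.hom
    rw [← Over.w c', ← pullback.condition_assoc, Over.w u])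
  have hp : p₁ ≫ u = p₂ ≫ c' := Over.OverMorphism.ext pullback.condition
  obtain ⟨a, ha⟩ := exists_conj_mem u hker i hi i' v e (fst P T ≫ p₁) (fun X' x h => by
    have h1 := (hc'.2.2 _ (fst P T ≫ p₂ ≫ c')).mp ⟨fst P T ≫ p₂, Category.assoc _ _ _⟩ X' x h
    rwa [← hp, ← Category.assoc (fst P T)] at h1) (snd P T)
  have hact : ∀ (Y : Over S) (y : Y ⟶ P) (t : Y ⟶ T),
      lift y t ≫ a ≫ i = (y ≫ p₁) * (t ≫ i) * (y ≫ p₁)⁻¹ := fun Y y t => by
    rw [← ha, MonObj.comp_mul, MonObj.comp_mul, GrpObj.comp_inv, lift_fst_assoc, lift_snd_assoc]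
  obtain ⟨U, hUc, hU1, hU2⟩ := MultConjLib.exists_clopen_trivAt (GrpSchLib.RankOne.isMultTypeFT_of_isTorus hi.2.2.1) a
    (fun Y y t t' => by
      rw [← cancel_mono i, Category.assoc, MonObj.mul_comp, Category.assoc, Category.assoc, hact, hact, hact,
        MonObj.mul_comp]
      group)
  -- the unit section
  let y₁ : 𝟙_ (Over S) ⟶ P := Over.homMk (pullback.lift (1 : 𝟙_ (Over S) ⟶ G).left (1 : 𝟙_ (Over S) ⟶ C').left (by
      rw [← Over.comp_left, ← Over.comp_left, MonObj.one_comp, MonObj.one_comp])) (by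
    show pullback.lift _ _ _ ≫ pullback.fst _ _ ≫ G.hom = _
    rw [pullback.lift_fst_assoc, Over.w])
  have hy₁ : y₁ ≫ p₁ = 1 := Over.OverMorphism.ext (pullback.lift_fst _ _ _)
  have htriv₁ : MultConjLib.TrivAt a y₁ := fun X' x' h => by
    rw [← cancel_mono i, Category.assoc, hact, Category.assoc, hy₁, MonObj.comp_one, _root_.one_mul, inv_one,
      _root_.mul_one]
  -- saturation
  have hsat : ∀ z z' : P.left, z ∈ U → p₂.left z = p₂.left z' → z' ∈ U := fun z z' hz hzz' => by
    obtain ⟨w, hw1, hw2⟩ := Scheme.Pullback.exists_preimage_pullback (f := p₂.left) (g := p₂.left) z z' hzz'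
    let O : (pullback p₂.left p₂.left).Opens := (pullback.fst p₂.left p₂.left) ⁻¹ᵁ U
    let Y : Over S := Over.mk (O.ι ≫ pullback.fst p₂.left p₂.left ≫ P.hom)
    let y : Y ⟶ P := Over.homMk (O.ι ≫ pullback.fst p₂.left p₂.left) (Category.assoc _ _ _)
    let y' : Y ⟶ P := Over.homMk (O.ι ≫ pullback.snd p₂.left p₂.left) (by
      show (O.ι ≫ pullback.snd _ _) ≫ P.hom = O.ι ≫ pullback.fst _ _ ≫ P.hom
      rw [Category.assoc, ← Over.w p₂, pullback.condition_assoc])
    have hyy' : y ≫ p₂ = y' ≫ p₂ := Over.OverMorphism.ext (by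
      show (O.ι ≫ _) ≫ p₂.left = (O.ι ≫ _) ≫ p₂.left
      rw [Category.assoc, Category.assoc, pullback.condition])
    have hy : MultConjLib.TrivAt a y := hU1 Y y fun q => by
      show (O.ι ≫ pullback.fst p₂.left p₂.left) q ∈ U
      rw [Scheme.Hom.comp_apply]
      exact q.2
    have hy' : MultConjLib.TrivAt a y' := fun Z r h => by
      have h1 := congrArg (· ≫ i) (hy Z r h)
      rw [Category.assoc, hact] at h1
      rw [← cancel_mono i, Category.assoc, hact]
      let k : Z ⟶ G := ((r ≫ y') ≫ p₁) * ((r ≫ y) ≫ p₁)⁻¹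
      have hk : k ≫ u = 1 := by
        rw [MonObj.mul_comp, GrpObj.inv_comp, Category.assoc, Category.assoc, Category.assoc, Category.assoc, hp,
          ← reassoc_of% hyy', mul_inv_cancel]
      have hk1 : k * (h ≫ i) = (h ≫ i) * k := by
        have := hker Z k hk Z (𝟙 Z) (h ≫ i)
        rwa [Category.id_comp] at this
      calc ((r ≫ y') ≫ p₁) * (h ≫ i) * ((r ≫ y') ≫ p₁)⁻¹
          = k * (((r ≫ y) ≫ p₁) * (h ≫ i) * ((r ≫ y) ≫ p₁)⁻¹) * k⁻¹ := by simp only [k]; group
        _ = h ≫ i := by rw [h1, hk1, mul_inv_cancel_right]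
    have hwO : w ∈ O := by
      show pullback.fst p₂.left p₂.left w ∈ U
      rw [hw1]; exact hz
    have h2 := hU2 Y y' ⟨w, hwO⟩ hy'
    have h3 : y'.left ⟨w, hwO⟩ = z' := by
      show (O.ι ≫ pullback.snd p₂.left p₂.left) _ = z'
      rw [Scheme.Hom.comp_apply]
      exact hw2
    rwa [h3] at h2
  haveI : Surjective p₂.left := inferInstanceAs (Surjective (pullback.snd u.left c'.left))
  haveI : Flat p₂.left := inferInstanceAs (Flat (pullback.snd u.left c'.left))
  haveI : LocallyOfFinitePresentation p₂.left :=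
    inferInstanceAs (LocallyOfFinitePresentation (pullback.snd u.left c'.left))
  let V : Set C'.left := p₂.left '' (U : Set P.left)
  have hVc : Vᶜ = p₂.left '' (U : Set P.left)ᶜ := by
    ext w
    obtain ⟨z, rfl⟩ := p₂.left.surjective w
    exact ⟨fun h => ⟨z, fun hz => h ⟨z, hz, rfl⟩, rfl⟩,
      fun ⟨z', hz', hzz'⟩ ⟨z'', hz'', h''⟩ => hz' (hsat z'' z' hz'' (h''.trans hzz'.symm))⟩
  have hopen : IsOpenMap p₂.left := p₂.left.isOpenMap
  have hV : IsClopen V :=
    ⟨⟨by rw [hVc]; exact hopen _ hUc.isOpen_compl⟩, hopen _ U.isOpen⟩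
  have hall : ∀ z : P.left, z ∈ U := fun z => by
    let s := C'.hom (p₂.left z)
    have hmem₁ : y₁.left s ∈ U := hU2 _ y₁ s htriv₁
    have hs : C'.hom (p₂.left (y₁.left s)) = s := by
      rw [← Scheme.Hom.comp_apply, ← Scheme.Hom.comp_apply, Over.w p₂, Over.w y₁]
      rfl
    have hsub := (hconn s).subset_isClopen hV ⟨p₂.left (y₁.left s), hs, _, hmem₁, rfl⟩
    obtain ⟨z', hz', hzz'⟩ := hsub (show p₂.left z ∈ C'.hom.base ⁻¹' {s} from rfl)
    exact hsat z' z hz' hzz'
  let yP : X ⟶ P := Over.homMk (pullback.lift g.left y.left (congrArg (fun m => m.left) hgy)) (by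
    show pullback.lift _ _ _ ≫ pullback.fst _ _ ≫ G.hom = _
    rw [pullback.lift_fst_assoc, Over.w g])
  have hyP : yP ≫ p₁ = g := Over.OverMorphism.ext (pullback.lift_fst _ _ _)
  have h1 := congrArg (· ≫ i) (hU1 X yP (fun w => hall _) X' x t)
  rw [Category.assoc, hact, Category.assoc, hyP, mul_inv_eq_iff_eq_mul] at h1
  exact h1

/-- The centralizer of a maximal torus of a group with connected fibres has connected fibres. -/
theorem isPreconnected_fibre_centralizer {G T C : Over S} [GrpObj G] [GrpObj T] [GrpObj C] [Smooth G.hom]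
    [QuasiCompact G.hom] (hconn : ∀ s : S, _root_.IsConnected (G.hom.base ⁻¹' {s})) (i : T ⟶ G) [IsMonHom i] [Mono i]
    (hT : Red.IsTorus T) (c : C ⟶ G) (hc : Red.IsCentralizerOf i c) (s : S) :
    _root_.IsPreconnected (C.hom.base ⁻¹' {s}) := by
  let σ := Red.geomPt s
  haveI := connectedSpace_geomFibre hconn s
  haveI : Smooth (Red.bc σ G).hom := inferInstanceAs (Smooth (pullback.snd G.hom σ))
  haveI : QuasiCompact (Red.bc σ G).hom := inferInstanceAs (QuasiCompact (pullback.snd G.hom σ))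
  haveI : ConnectedSpace (Red.bc σ C).left := (centralizer_smooth_connected_nonaffine ((Over.pullback σ).map i)
    (isTorus_bc σ hT) ((Over.pullback σ).map c) (BC.isCentralizerOf_bc σ hc)).2
  haveI : ConnectedSpace ↥(pullback C.hom σ) := ‹ConnectedSpace (Red.bc σ C).left›
  have hr : Set.range (pullback.fst C.hom σ) = C.hom.base ⁻¹' {s} := by
    rw [Scheme.Pullback.range_fst]
    have : Set.range σ = {s} := by
      refine Set.eq_singleton_iff_unique_mem.mpr
        ⟨⟨IsLocalRing.closedPoint _, Scheme.fromSpecResidueField_apply s _⟩, ?_⟩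
      rintro _ ⟨w, rfl⟩
      exact Scheme.fromSpecResidueField_apply s _
    rw [this]
  rw [← hr]
  exact (isConnected_range (pullback.fst C.hom σ).continuous).isPreconnected

/-- The centralizer of a maximal torus is the inverse image of the centralizer of its image. -/
theorem exists_isPullback_centralizer {G G' T T' C C' : Over S} [GrpObj G] [GrpObj G'] [GrpObj T] [GrpObj T']
    [GrpObj C] [GrpObj C'] [Smooth G.hom] [IsSeparated G.hom] [QuasiCompact G.hom] [Smooth G'.hom]
    [IsSeparated G'.hom] [QuasiCompact G'.hom] (u : G ⟶ G') [IsMonHom u]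
    (hu : ∀ s : S, Surjective ((Over.pullback (Red.geomPt s)).map u).left)
    (hconn' : ∀ s : S, _root_.IsConnected (G'.hom.base ⁻¹' {s})) (hker : IsCentralKer u)
    (i : T ⟶ G) (hi : Red.IsMaximalTorus i) (i' : T' ⟶ G') (hi' : Red.IsMaximalTorus i') (v : T ⟶ T')
    [Surjective v.left] [Flat v.left] (e : v ≫ i' = i ≫ u)
    (c : C ⟶ G) (hc : Red.IsCentralizerOf i c) (c' : C' ⟶ G') (hc' : Red.IsCentralizerOf i' c') :
    ∃ w : C ⟶ C', IsMonHom w ∧ Surjective w.left ∧ Flat w.left ∧ IsPullback c w u c' := by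
  haveI := hi.1; haveI := hi'.1; haveI := hi'.2.1; haveI := hc.1; haveI := hc.2.1; haveI := hc'.1; haveI := hc'.2.1
  haveI := surjective_of_geomFibres u hu
  haveI : GeometricallyReduced G'.hom := GrpSchLib.IsogenyFibre.geometricallyReduced_of_smooth' G'.hom
  haveI : Flat u.left := (GrpSchLib.HomFlatLft.flat_hom u).1
  haveI : LocallyOfFinitePresentation u.left := by
    haveI : LocallyOfFinitePresentation (u.left ≫ G'.hom) := by rw [Over.w u]; infer_instance
    exact AlgSpPts.locallyOfFinitePresentation_of_comp u.left G'.hom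
  haveI : IsAffineHom T.hom := (TransLib.multTypeFT_essFree (GrpSchLib.RankOne.isMultTypeFT_of_isTorus hi.2.2.1)).1
  haveI : IsAffineHom T'.hom := (TransLib.multTypeFT_essFree (GrpSchLib.RankOne.isMultTypeFT_of_isTorus hi'.2.2.1)).1
  haveI : QuasiCompact v.left := by
    haveI : QuasiCompact (v.left ≫ T'.hom) := by rw [Over.w v]; infer_instance
    exact QuasiCompact.of_comp v.left T'.hom
  have hv : FpqcDescLib.Covers v.left :=
    FpqcDescLib.covers_of_isCovering (FpqcDescLib.isCovering_of_quasiCompact _)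
  obtain ⟨w, hw⟩ := (hc'.2.2 C (c ≫ u)).mpr
    (commute_image u i i' v hv e c ((hc.2.2 C c).mp ⟨𝟙 C, Category.id_comp c⟩))
  haveI : IsMonHom (w ≫ c') := hw.symm ▸ (inferInstance : IsMonHom (c ≫ u))
  have hwm : IsMonHom w :=
    { one_hom := by rw [← cancel_mono c', Category.assoc, IsMonHom.one_hom (w ≫ c'), IsMonHom.one_hom c']
      mul_hom := by
        rw [← cancel_mono c', Category.assoc, IsMonHom.mul_hom (w ≫ c'), Category.assoc, IsMonHom.mul_hom c',
          ← Category.assoc (_ ⊗ₘ _), MonoidalCategory.tensorHom_comp_tensorHom] }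
  have hlift : ∀ (X : Over S) (g : X ⟶ G) (y : X ⟶ C'), g ≫ u = y ≫ c' → ∃ z : X ⟶ C, z ≫ c = g :=
    fun X g y hgy => (hc.2.2 X g).mpr fun X' x t =>
      commute_of_image u hker i hi i' v e c' hc'
        (isPreconnected_fibre_centralizer hconn' i' hi'.2.2.1 c' hc') g y hgy X' x t
  have hsq : IsPullback c w u c' := by
    refine IsPullback.of_isLimit' ⟨hw.symm⟩ (PullbackCone.IsLimit.mk _
      (fun s => (hlift _ s.fst s.snd s.condition).choose) (fun s => (hlift _ s.fst s.snd s.condition).choose_spec)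
      (fun s => ?_) (fun s m h₁ _ => ?_))
    · rw [← cancel_mono c', Category.assoc, hw, ← Category.assoc, (hlift _ s.fst s.snd s.condition).choose_spec,
        s.condition]
    · rw [← cancel_mono c, h₁, (hlift _ s.fst s.snd s.condition).choose_spec]
  have hsq' : IsPullback c.left w.left u.left c'.left := hsq.map (Over.forget S)
  exact ⟨w, hwm, MorphismProperty.of_isPullback hsq' ‹Surjective u.left›,
    MorphismProperty.of_isPullback hsq' ‹Flat u.left›, hsq⟩

end Groth.Agent.GModLib
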