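import Groth.Agent.GModLib.MaxTorusBC

/-!
# Fibrewise surjectivity is stable under base change
-/

set_option autoImplicit false
set_option backward.isDefEq.respectTransparency false
set_option backward.isDefEq.respectTransparency.types false

universe u

open CategoryTheory CategoryTheory.Limits MonoidalCategory CartesianMonoidalCategory MonObj AlgebraicGeometry

namespace Groth.Agent.GModLib

variable {S S' : Scheme.{u}}

/-- Surjectivity over a composite is surjectivity of the iterated base change. -/
theorem surjective_bc_comp_iff {U : Scheme.{u}} (a : U ⟶ S') (g : S' ⟶ S) (b : U ⟶ S) (h : a ≫ g = b) {G G' : Over S}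
    (u : G ⟶ G') :
    Surjective ((Over.pullback a).map ((Over.pullback g).map u)).left ↔ Surjective ((Over.pullback b).map u).left := by
  subst h
  let E := Over.pullbackComp a g
  have e := congrArg (fun f => Over.Hom.left f) (E.hom.naturality u)
  simp only [Over.comp_left] at e
  haveI : IsIso (E.hom.app G).left := inferInstanceAs (IsIso ((Over.forget _).map (E.hom.app G)))
  haveI : IsIso (E.hom.app G').left := inferInstanceAs (IsIso ((Over.forget _).map (E.hom.app G')))
  exact (MorphismProperty.cancel_left_of_respectsIso @Surjective (E.hom.app G).left _).symm.trans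
    ((iff_of_eq (congrArg (fun f => Surjective f) e.symm)).trans
      (MorphismProperty.cancel_right_of_respectsIso @Surjective _ (E.hom.app G').left))

/-- Fibrewise surjectivity passes to base changes. -/
theorem surjective_geomFibre_bc {G G' : Over S} (u : G ⟶ G')
    (hu : ∀ s : S, Surjective ((Over.pullback (Red.geomPt s)).map u).left) (g : S' ⟶ S) (s' : S') :
    Surjective ((Over.pullback (Red.geomPt s')).map ((Over.pullback g).map u)).left := by
  obtain ⟨σ, hσ⟩ := exists_geomPt_lift g s'
  rw [surjective_bc_comp_iff (Red.geomPt s') g _ rfl, ← surjective_bc_comp_iff σ (Red.geomPt (g s')) _ hσ]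
  exact MorphismProperty.overPullbackMap (P := @Surjective) σ _ (hu (g s'))

end Groth.Agent.GModLib
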