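import Groth.Agent.GModLib.FibreHom
import Groth.Agent.GModLib.CartanOpen
import Groth.Agent.GrpFieldLib.NeutralImage
import Groth.Agent.GrpSchLib.HomFibre
import Groth.Agent.GrpFieldLib.JetTransporter
import Groth.Agent.MultConjLib.Torus
import Groth.Agent.S4098
import Groth.Agent.S3025

/-!
# Maximal tori and the neutral component
-/

set_option autoImplicit false
set_option backward.isDefEq.respectTransparency false
set_option backward.isDefEq.respectTransparency.types false

universe u

open CategoryTheory Limits AlgebraicGeometry MonoidalCategory CartesianMonoidalCategory MonObj GrpObj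

namespace Groth.Agent.GModLib

variable {S : Scheme.{u}}

theorem isConnected_fibres_bc {G : Over S} [GrpObj G] [LocallyOfFiniteType G.hom] [QuasiCompact G.hom]
    (hconn : ∀ s : S, _root_.IsConnected (G.hom.base ⁻¹' {s})) {S' : Scheme.{u}} (f : S' ⟶ S) (s' : S') :
    _root_.IsConnected ((Red.bc f G).hom.base ⁻¹' {s'}) := by
  let p := pullback.fst (Red.bc f G).hom (Red.geomPt s')
  have hr : Set.range p = (Red.bc f G).hom.base ⁻¹' {s'} := by
    rw [Scheme.Pullback.range_fst]
    have : Set.range (Red.geomPt s') = {s'} := by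
      refine Set.eq_singleton_iff_unique_mem.mpr
        ⟨⟨IsLocalRing.closedPoint _, Scheme.fromSpecResidueField_apply s' _⟩, ?_⟩
      rintro _ ⟨w, rfl⟩
      exact Scheme.fromSpecResidueField_apply s' _
    rw [this]
  rw [← hr]
  haveI : ConnectedSpace ↥(pullback (Red.bc f G).hom (Red.geomPt s')) := connectedSpace_bc_point hconn f (Red.geomPt s')
  exact isConnected_range p.continuous

/-- The open subgroup of neutral components. -/
structure IsNeutral {G G0 : Over S} [GrpObj G] [GrpObj G0] (i : G0 ⟶ G) : Prop where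
  isMonHom : IsMonHom i
  openImm : IsOpenImmersion i.left
  range : Set.range i.left = SGA3x.neutralSet G

theorem IsNeutral.bc {G G0 : Over S} [GrpObj G] [GrpObj G0] {i : G0 ⟶ G} [LocallyOfFinitePresentation G.hom]
    (h : IsNeutral i) {S' : Scheme.{u}} (g : S' ⟶ S) : IsNeutral ((Over.pullback g).map i) := by
  haveI := h.isMonHom; haveI := h.openImm
  refine ⟨inferInstance, MorphismProperty.baseChange_map (P := @IsOpenImmersion) g i h.openImm, ?_⟩
  rw [GrpSchLib.Neutral.neutralSet_bc, ← h.range]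
  have hsq := (GrpSchLib.HomFibre.map_isPullback i g).flip
  have hc := congrArg (fun m => Set.range m.base) hsq.isoPullback_hom_fst.symm
  refine hc.trans ?_
  show Set.range ⇑(hsq.isoPullback.hom ≫ pullback.fst (pullback.fst G.hom g) i.left) = _
  rw [Scheme.Hom.comp_base, TopCat.coe_comp, Set.range_comp,
    show Set.range ⇑hsq.isoPullback.hom = Set.univ from hsq.isoPullback.hom.surjective.range_eq, Set.image_univ, Scheme.Pullback.range_fst]

/-- A homomorphism from a group with connected fibres lands in the neutral component. -/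
theorem IsNeutral.exists_factor {G G0 T : Over S} [GrpObj G] [GrpObj G0] [GrpObj T] [LocallyOfFinitePresentation G.hom]
    [LocallyOfFinitePresentation T.hom] {i : G0 ⟶ G} (h : IsNeutral i) (hT : SGA3x.neutralSet T = Set.univ)
    (t : T ⟶ G) [IsMonHom t] : ∃ t₀ : T ⟶ G0, IsMonHom t₀ ∧ t₀ ≫ i = t := by
  haveI := h.isMonHom; haveI := h.openImm
  have hr : Set.range t.left ⊆ Set.range i.left := by
    rw [h.range]
    rintro _ ⟨y, rfl⟩
    exact GrpFieldLib.NeutralImage.map_mem t (hT ▸ Set.mem_univ y)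
  let l := IsOpenImmersion.lift i.left t.left hr
  have hl : l ≫ i.left = t.left := IsOpenImmersion.lift_fac _ _ _
  let t₀ : T ⟶ G0 := Over.homMk l (by rw [← Over.w i, reassoc_of% hl, Over.w t])
  have ht₀ : t₀ ≫ i = t := Over.OverMorphism.ext hl
  haveI : Mono i := Over.mono_of_mono_left i
  haveI : IsMonHom (t₀ ≫ i) := ht₀ ▸ ‹IsMonHom t›
  exact ⟨t₀,
    { one_hom := by rw [← cancel_mono i, Category.assoc, IsMonHom.one_hom (t₀ ≫ i), IsMonHom.one_hom i]
      mul_hom := by
        rw [← cancel_mono i, Category.assoc, IsMonHom.mul_hom (t₀ ≫ i), Category.assoc, IsMonHom.mul_hom i,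
          ← Category.assoc (_ ⊗ₘ _), MonoidalCategory.tensorHom_comp_tensorHom] }, ht₀⟩

/-- A smooth group has an open subgroup of neutral components, with connected fibres. -/
theorem exists_neutral (G : Over S) [GrpObj G] [Smooth G.hom] :
    ∃ (G0 : Over S) (_ : GrpObj G0) (i : G0 ⟶ G), IsNeutral i ∧ Smooth G0.hom ∧ QuasiCompact G0.hom ∧
      IsSeparated G0.hom ∧ ∀ s : S, _root_.IsConnected (G0.hom.base ⁻¹' {s}) := by
  obtain ⟨-, G0, _, i, hi, hio, hr, hs, hqc⟩ := Groth.Agent.S4098.result S G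
    ⟨⊤, inferInstance, fun _ => trivial⟩
  haveI := hi; haveI := hio; haveI := hs
  have hconn : ∀ s : S, _root_.IsConnected (G0.hom.base ⁻¹' {s}) := by
    intro s
    have hw : ∀ x, G.hom (i.left x) = G0.hom x := fun x => by rw [← Scheme.Hom.comp_apply, Over.w i]
    have hη : G.hom (η[G].left s) = s := by
      rw [← Scheme.Hom.comp_apply, Over.w (η[G])]
      rfl
    have himg : i.left '' (G0.hom.base ⁻¹' {s}) = connectedComponentIn (G.hom.base ⁻¹' {s}) (η[G].left s) := by
      ext z
      constructor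
      · rintro ⟨x, hx, rfl⟩
        have hx' : i.left x ∈ SGA3x.neutralSet G := hr ▸ ⟨x, rfl⟩
        obtain ⟨p, hp⟩ := Set.mem_iUnion.mp hx'
        have hps : p = s := by
          have h1 := connectedComponentIn_subset _ _ hp
          have h2 : G.hom (i.left x) = p := h1
          rw [← h2, hw]
          exact hx
        subst hps
        exact hp
      · intro hz
        have hz' : z ∈ SGA3x.neutralSet G := Set.mem_iUnion.mpr ⟨s, hz⟩
        rw [← hr] at hz'
        obtain ⟨x, rfl⟩ := hz'
        refine ⟨x, ?_, rfl⟩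
        have h1 : G.hom (i.left x) = s := connectedComponentIn_subset (G.hom.base ⁻¹' {s}) (η[G].left s) hz
        rw [hw] at h1
        exact h1
    have hc : _root_.IsConnected (connectedComponentIn (G.hom.base ⁻¹' {s}) (η[G].left s)) :=
      isConnected_connectedComponentIn_iff.mpr hη
    rw [← himg] at hc
    exact ⟨Set.image_nonempty.mp hc.nonempty,
      i.left.isOpenEmbedding.toIsEmbedding.isInducing.isPreconnected_image.mp hc.isPreconnected⟩
  exact ⟨G0, inferInstance, i, ⟨hi, hio, hr⟩, hs, hqc, (Groth.Agent.S3025.result S G0 hconn).1, hconn⟩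

/-- Maximal tori of the neutral component are maximal tori. -/
theorem IsNeutral.isMaximalTorus_up {G G0 T : Over S} [GrpObj G] [GrpObj G0] [GrpObj T]
    [LocallyOfFinitePresentation G.hom] {i : G0 ⟶ G} (h : IsNeutral i) (t : T ⟶ G0) (ht : Red.IsMaximalTorus t) :
    Red.IsMaximalTorus (t ≫ i) := by
  haveI := h.isMonHom; haveI := h.openImm; haveI := ht.1; haveI := ht.2.1
  haveI : Mono i := Over.mono_of_mono_left i
  refine ⟨inferInstance, inferInstance, ht.2.2.1, fun s T'' _ j _ _ f hT'' hf => ?_⟩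
  haveI := MultConjLib.smooth_of_isTorus hT''
  haveI : LocallyOfFinitePresentation (Red.geomFibre s G).hom :=
    inferInstanceAs (LocallyOfFinitePresentation (pullback.snd G.hom _))
  obtain ⟨j₀, hj₀, hj₀i⟩ := (h.bc (Red.geomPt s)).exists_factor (MultConjLib.neutralSet_eq_univ_of_isTorus hT'') j
  haveI := hj₀
  haveI : Mono (j₀ ≫ (Over.pullback (Red.geomPt s)).map i) := hj₀i ▸ ‹Mono j›
  haveI : Mono j₀ := mono_of_mono j₀ ((Over.pullback (Red.geomPt s)).map i)
  refine ht.2.2.2 s T'' j₀ f hT'' ?_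
  rw [← cancel_mono ((Over.pullback (Red.geomPt s)).map i), Category.assoc, hj₀i, hf, Functor.map_comp]

/-- A maximal torus lies in the neutral component and is maximal there. -/
theorem IsNeutral.isMaximalTorus_down {G G0 T : Over S} [GrpObj G] [GrpObj G0] [GrpObj T]
    [LocallyOfFinitePresentation G.hom] {i : G0 ⟶ G} (h : IsNeutral i) (t : T ⟶ G) (ht : Red.IsMaximalTorus t) :
    ∃ t₀ : T ⟶ G0, t₀ ≫ i = t ∧ Red.IsMaximalTorus t₀ := by
  haveI := h.isMonHom; haveI := h.openImm; haveI := ht.1; haveI := ht.2.1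
  haveI : Mono i := Over.mono_of_mono_left i
  haveI := MultConjLib.smooth_of_isTorus ht.2.2.1
  obtain ⟨t₀, ht₀, hti⟩ := h.exists_factor (MultConjLib.neutralSet_eq_univ_of_isTorus ht.2.2.1) t
  haveI := ht₀
  haveI : Mono (t₀ ≫ i) := hti ▸ ‹Mono t›
  haveI : Mono t₀ := mono_of_mono t₀ i
  refine ⟨t₀, hti, inferInstance, inferInstance, ht.2.2.1, fun s T'' _ j _ _ f hT'' hf => ?_⟩
  exact ht.2.2.2 s T'' (j ≫ (Over.pullback (Red.geomPt s)).map i) f hT'' (by
    rw [← Category.assoc, hf, ← Functor.map_comp, hti])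

/-- Acquiring a maximal torus fpqc locally passes to base changes. -/
theorem hasMaxTorusFpqcLocally_bc {G : Over S} [GrpObj G] [Smooth G.hom] [QuasiCompact G.hom]
    (hG : SGA3x.HasMaxTorusFpqcLocally G) {S' : Scheme.{u}} (g : S' ⟶ S) :
    SGA3x.HasMaxTorusFpqcLocally (Red.bc g G) := by
  obtain ⟨S₁, f, hfl, hfs, hqc, T, _, t, ht⟩ := hG
  have hcf : FpqcDescLib.Covers f :=
    FpqcDescLib.covers_of_hcov f ⟨S₁, f, 𝟙 _, Category.id_comp _, hfs, hfl, hqc⟩
  obtain ⟨Z, r, hr⟩ := hcf.pullback g (pullback.fst g f) (pullback.snd g f) (IsPullback.of_hasPullback g f)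
  obtain ⟨hfl', hcov⟩ := GrpSchLib.SubgroupEqLocus.flat_hcov_of_isCovering hr
  have hsurj : Surjective (r ≫ pullback.fst g f) := ⟨fun x => by
    obtain ⟨V, hV, hxV, -⟩ := exists_isAffineOpen_mem_and_subset (show x ∈ (⊤ : S'.Opens) from trivial)
    obtain ⟨W, -, hW⟩ := hcov V hV
    have hx : x ∈ (V : Set S') := hxV
    rw [← hW] at hx
    obtain ⟨w, -, hw⟩ := hx
    exact ⟨w, hw⟩⟩
  haveI : Smooth (Red.bc f G).hom := inferInstanceAs (Smooth (pullback.snd G.hom f))
  haveI : QuasiCompact (Red.bc f G).hom := inferInstanceAs (QuasiCompact (pullback.snd G.hom f))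
  let q := r ≫ pullback.snd g f
  have hm : q ≫ f = (r ≫ pullback.fst g f) ≫ g := by
    show (r ≫ pullback.snd g f) ≫ f = _
    rw [Category.assoc, Category.assoc, pullback.condition]
  let β := fibreIso (a := q) hm G ≪≫ (fibreIso (a := r ≫ pullback.fst g f) (rfl : _ ≫ g = _) G).symm
  haveI : IsMonHom β.hom := inferInstanceAs (IsMonHom ((fibreIso (a := q) hm G).hom ≫
    (fibreIso (a := r ≫ pullback.fst g f) (rfl : _ ≫ g = _) G).inv))
  exact ⟨Z, r ≫ pullback.fst g f, hfl', hsurj, hcov, Red.bc q T, inferInstance, _,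
    isMaximalTorus_of_iso β _ (isMaximalTorus_bc t ht q)⟩

end Groth.Agent.GModLib
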