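import Groth.Agent.GModLib.SigmaSubgroup
import Groth.Agent.GModLib.TorusBC

/-!
# Maximal tori over a disjoint union of bases
-/

set_option autoImplicit false
set_option backward.isDefEq.respectTransparency false
set_option backward.isDefEq.respectTransparency.types false

universe u

open CategoryTheory Limits AlgebraicGeometry MonoidalCategory CartesianMonoidalCategory MonObj GrpObj

namespace Groth.Agent.GModLib

open GrpSchLib.MultTypeBC (bc_bc bc_congr bc_iso bc_DS)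

variable {J : Type u} {X : J → Scheme.{u}}

theorem isAffineHom_sigmaι (i : J) : IsAffineHom (Sigma.ι X i) := by
  haveI : IsClosedImmersion (Sigma.ι X i) := by
    refine IsClosedImmersion.of_isPreimmersion _ ?_
    have h : Set.range (Sigma.ι X i) = (⋃ j : {j // j ≠ i}, Set.range (Sigma.ι X j.1))ᶜ := by
      ext z
      simp only [Set.mem_compl_iff, Set.mem_iUnion, not_exists]
      constructor
      · rintro ⟨w, rfl⟩ ⟨j, hj⟩ ⟨v, hv⟩
        exact hj (congrArg Sigma.fst ((sigmaι_eq_iff X _ _ _ _).mp hv))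
      · intro h
        obtain ⟨j, w, rfl⟩ := ModPairLib.sigma_surj X z
        by_cases hj : j = i
        · subst hj; exact ⟨w, rfl⟩
        · exact absurd ⟨w, rfl⟩ (h ⟨j, hj⟩)
    rw [h]
    exact (isOpen_iUnion fun (j : {j // j ≠ i}) => (Sigma.ι X j.1).isOpenEmbedding.isOpen_range).isClosed_compl
  infer_instance

/-- Being a torus is local for a disjoint union. -/
theorem isTorus_sigma (T : Over (∐ X)) [GrpObj T] (h : ∀ i, Red.IsTorus (Red.bc (Sigma.ι X i) T)) :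
    Red.IsTorus T := by
  classical
  choose S' f hflat hsurj hqc hloc using h
  let F : (∐ S') ⟶ ∐ X := Sigma.desc fun i => f i ≫ Sigma.ι X i
  haveI hF : Flat F := IsZariskiLocalAtSource.sigmaDesc fun i => by
    haveI := hflat i
    infer_instance
  have hFι : ∀ i (w : S' i), F (Sigma.ι S' i w) = Sigma.ι X i (f i w) := fun i w => by
    rw [← Scheme.Hom.comp_apply, Sigma.ι_desc, Scheme.Hom.comp_apply]
  refine ⟨∐ S', F, hF, ⟨fun z => ?_⟩, fun V hV => ?_, fun z => ?_⟩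
  · obtain ⟨i, w, rfl⟩ := ModPairLib.sigma_surj X z
    obtain ⟨v, rfl⟩ := (hsurj i).1 w
    exact ⟨_, hFι i v⟩
  · obtain ⟨s, hs⟩ := hV.isCompact.elim_finite_subcover (fun i => Set.range (Sigma.ι X i))
      (fun i => (Sigma.ι X i).isOpenEmbedding.isOpen_range) fun z _ => by
        obtain ⟨i, w, rfl⟩ := ModPairLib.sigma_surj X z
        exact Set.mem_iUnion.mpr ⟨i, w, rfl⟩
    haveI : ∀ i, IsAffineHom (Sigma.ι X i) := isAffineHom_sigmaι
    choose W hW hWV using fun i => hqc i (Sigma.ι X i ⁻¹ᵁ V) (hV.preimage (Sigma.ι X i))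
    refine ⟨⟨⋃ i ∈ s, Sigma.ι S' i '' (W i : Set (S' i)),
      isOpen_biUnion fun i _ => (Sigma.ι S' i).isOpenMap _ (W i).2⟩,
      s.finite_toSet.isCompact_biUnion fun i _ => (hW i).image (Sigma.ι S' i).continuous, ?_⟩
    ext z
    simp only [TopologicalSpace.Opens.coe_mk, Set.mem_image, Set.mem_iUnion, exists_prop]
    constructor
    · rintro ⟨_, ⟨i, _, v, hv, rfl⟩, rfl⟩
      have h1 : f i v ∈ f i '' (W i : Set (S' i)) := ⟨v, hv, rfl⟩
      rw [hWV i] at h1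
      show F (Sigma.ι S' i v) ∈ V
      rw [hFι]
      exact h1
    · intro hz
      obtain ⟨i, his, hi⟩ := Set.mem_iUnion₂.mp (hs hz)
      obtain ⟨w, rfl⟩ := hi
      have h1 : w ∈ ((Sigma.ι X i ⁻¹ᵁ V : (X i).Opens) : Set (X i)) := hz
      rw [← hWV i] at h1
      obtain ⟨v, hv, rfl⟩ := h1
      exact ⟨_, ⟨i, his, v, hv, rfl⟩, hFι i v⟩
  · obtain ⟨i, w, rfl⟩ := ModPairLib.sigma_surj S' z
    obtain ⟨U, hwU, r, ⟨e⟩⟩ := hloc i w
    let U' : (∐ S').Opens := Sigma.ι S' i ''ᵁ U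
    let l : (U' : Scheme.{u}) ⟶ (U : Scheme.{u}) := ((Sigma.ι S' i).isoImage U).inv
    have hl : U'.ι ≫ F = (l ≫ U.ι ≫ f i) ≫ Sigma.ι X i := by
      rw [show U'.ι = l ≫ U.ι ≫ Sigma.ι S' i by
        rw [← Scheme.Hom.isoImage_hom_ι, ← Category.assoc, Iso.inv_hom_id, Category.id_comp]]
      simp only [Category.assoc, F, Sigma.ι_desc]
    obtain ⟨e₁⟩ := bc_congr hl T
    obtain ⟨e₂⟩ := bc_bc (l ≫ U.ι ≫ f i) (Sigma.ι X i) T
    obtain ⟨e₃⟩ := bc_bc l (U.ι ≫ f i) (Red.bc (Sigma.ι X i) T)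
    obtain ⟨e₄⟩ := bc_iso l e
    obtain ⟨e₅⟩ := bc_DS l (Fin r → ℤ)
    exact ⟨U', ⟨w, hwU, rfl⟩, r, ⟨e₁ ≪≫ e₂.symm ≪≫ e₃.symm ≪≫ e₄ ≪≫ e₅⟩⟩

/-- Maximal tori given on the pieces of a disjoint union glue. -/
theorem exists_maxTorus_sigma (G : Over (∐ X)) [GrpObj G]
    (h : ∀ i, ∃ (T : Over (X i)) (_ : GrpObj T) (t : T ⟶ Red.bc (Sigma.ι X i) G), Red.IsMaximalTorus t) :
    ∃ (T : Over (∐ X)) (_ : GrpObj T) (t : T ⟶ G), Red.IsMaximalTorus t := by
  choose T iT t ht using h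
  haveI : ∀ i, IsMonHom (t i) := fun i => (ht i).1
  haveI : ∀ i, Mono (t i) := fun i => (ht i).2.1
  obtain ⟨TT, _, tt, htm, htmo, hφ⟩ := exists_sigma_subgroup G T t
  haveI := htm; haveI := htmo
  have hTT : Red.IsTorus TT := isTorus_sigma TT fun i => by
    obtain ⟨φ, hφm, -⟩ := hφ i
    haveI := hφm
    exact TorusBasic.isTorus_of_iso (Grp.mkIso φ.symm) (ht i).2.2.1
  refine ⟨TT, inferInstance, tt, htm, htmo, hTT, fun z T' _ j _ _ f hT' hf => ?_⟩
  obtain ⟨i, w, rfl⟩ := ModPairLib.sigma_surj X z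
  obtain ⟨φ, hφm, hφt⟩ := hφ i
  haveI := hφm
  let g := Sigma.ι X i
  obtain ⟨σ, hσ⟩ := exists_geomPt_lift g w
  have h0 : AGF.IsMaxTorus ((Over.pullback (Red.geomPt w)).map (t i)) :=
    ⟨inferInstance, inferInstance, isTorus_bc _ (ht i).2.2.1,
      fun T₁ _ j₁ _ _ f₁ h₁ h₁' => (ht i).2.2.2 w T₁ j₁ f₁ h₁ h₁'⟩
  let φw : Grp.mk (Red.bc (Red.geomPt w) (T i)) ≅ Grp.mk (Red.bc (Red.geomPt w) (Red.bc g TT)) :=
    (Over.pullback (Red.geomPt w)).mapGrp.mapIso (Grp.mkIso φ.symm : Grp.mk (T i) ≅ Grp.mk (Red.bc g TT))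
  have hs : AGF.IsMaxTorus ((Over.pullback (Red.geomPt w)).map ((Over.pullback g).map tt)) := by
    refine isMaxTorus_of_iso φw (Iso.refl _) _ _ ?_ (isTorus_bc _ (isTorus_bc g hTT)) h0
    show (Over.pullback (Red.geomPt w)).map φ.inv ≫ (Over.pullback (Red.geomPt w)).map ((Over.pullback g).map tt) =
      (Over.pullback (Red.geomPt w)).map (t i) ≫ 𝟙 _
    rw [← hφt, ← Functor.map_comp, Iso.inv_hom_id_assoc, Category.comp_id]
  have hK := (isMaxTorus_bc_iff σ (Red.geomPt (g w)) (Red.geomPt w ≫ g) hσ tt hTT).mpr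
    ((isMaxTorus_bc_iff (Red.geomPt w) g _ rfl tt hTT).mp hs)
  haveI : IsIso ((Over.pullback σ).map f) := hK.2.2.2 _ ((Over.pullback σ).map j) ((Over.pullback σ).map f)
    (isTorus_bc σ hT') (by rw [← Functor.map_comp, hf])
  haveI : Flat σ := by
    obtain ⟨ψ, rfl⟩ := Spec.map_surjective σ
    exact GrpSchLib.flat_spec_map_field ψ.hom
  haveI : Surjective σ := ⟨fun x => ⟨IsLocalRing.closedPoint _, @Subsingleton.elim (PrimeSpectrum _) _ _ _⟩⟩
  exact isIso_of_isIso_bc σ f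

end Groth.Agent.GModLib
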