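import Groth.Agent.GModLib.TorsionFamily
import Groth.Agent.GModLib.SigmaTorus
import Groth.Agent.GModLib.NeutralTorus
import Groth.Agent.GModLib.NilpotentTori
import Groth.Agent.GModLib.MaxTorusGeomConv
import Groth.Agent.GModLib.CartanTorusDescent
import Groth.Agent.S0412

/-!
# Maximal tori exist locally for the etale topology when they exist locally for the fpqc topology
-/

set_option autoImplicit false
set_option backward.isDefEq.respectTransparency false
set_option backward.isDefEq.respectTransparency.types false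

universe u

open CategoryTheory Limits AlgebraicGeometry MonoidalCategory CartesianMonoidalCategory MonObj GrpObj

namespace Groth.Agent.GModLib

/-- Cartan subgroups are preserved by isomorphisms of subgroup and group. -/
theorem isCartanOver_of_iso {K : Type u} [Field K] {C C' G G' : Over (Spec (CommRingCat.of K))} [GrpObj C] [GrpObj C']
    [GrpObj G] [GrpObj G'] (α : C ≅ C') (β : G ≅ G') [IsMonHom β.hom] (m : C ⟶ G) (m' : C' ⟶ G') [IsMonHom m'] [Mono m']
    (hw : α.hom ≫ m' = m ≫ β.hom) (h : SGA3x.IsCartanOver K m) : SGA3x.IsCartanOver K m' := by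
  obtain ⟨-, -, T, _, t, ht, hcT⟩ := h
  refine ⟨inferInstance, inferInstance, T, inferInstance, t ≫ β.hom, isMaximalTorus_of_iso β t ht,
    isCentralizerOf_of_iso (Iso.refl _) α.symm β (by rw [Iso.refl_hom, Category.id_comp]) ?_ hcT⟩
  rw [Iso.symm_hom, eq_comm, α.inv_comp_eq]
  exact hw.symm

variable {S : Scheme.{u}}

set_option maxHeartbeats 1000000 in
/-- Near every point of the base a smooth base change has a Cartan subgroup, hence a maximal torus. -/
theorem exists_smooth_maxTorus {G : Over S} [GrpObj G] [Smooth G.hom] [IsSeparated G.hom] [QuasiCompact G.hom]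
    (hconn : ∀ s : S, _root_.IsConnected (G.hom.base ⁻¹' {s})) (hG : SGA3x.HasMaxTorusFpqcLocally G) (s : S) :
    ∃ (X : Scheme.{u}) (g : X ⟶ S) (_ : Etale g) (x : X), g x = s ∧
      ∃ (T : Over X) (_ : GrpObj T) (t : T ⟶ Red.bc g G), Red.IsMaximalTorus t := by
  let k := AlgebraicClosure (S.residueField s)
  let a := Red.geomPt s
  haveI : Smooth (Red.bc a G).hom := inferInstanceAs (Smooth (pullback.snd G.hom a))
  haveI : QuasiCompact (Red.bc a G).hom := inferInstanceAs (QuasiCompact (pullback.snd G.hom a))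
  haveI : ConnectedSpace (Red.bc a G).left := connectedSpace_geomFibre hconn s
  obtain ⟨T, _, i, hi, -⟩ := exists_maxTorus_all (Red.bc a G)
  haveI := hi.1; haveI := hi.2.1
  obtain ⟨Y, π, σ, hσ, C, _, c, hπ, hCs, hcm, hcc, hC⟩ := exists_family G a i hi.2.2.1
  haveI := hπ; haveI := hCs; haveI := hcm; haveI := hcc
  let G' := Red.bc π G
  haveI : Smooth G'.hom := inferInstanceAs (Smooth (pullback.snd G.hom π))
  haveI : QuasiCompact G'.hom := inferInstanceAs (QuasiCompact (pullback.snd G.hom π))
  haveI : IsSeparated G'.hom := inferInstanceAs (IsSeparated (pullback.snd G.hom π))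
  obtain ⟨C0, _, io, hio, hC0s, hC0qc, hC0sep, hC0conn⟩ := exists_neutral C
  haveI := hC0s; haveI := hC0qc; haveI := hio.isMonHom; haveI := hio.openImm
  haveI : Mono io := Over.mono_of_mono_left io
  haveI : Mono c := Over.mono_of_mono_left c
  let c0 : C0 ⟶ G' := io ≫ c
  haveI : IsMonHom c0 := inferInstanceAs (IsMonHom (io ≫ c))
  haveI : Mono c0 := mono_comp io c
  -- the fibre of the neutral component is the whole centralizer
  have hcart : SGA3x.IsCartanOver k ((Over.pullback σ).map c0) := by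
    have h1 : SGA3x.IsCartanOver k (fibreHom hσ c) :=
      ⟨hC.1, hC.2.1, T, inferInstance, i, isMaximalTorus_of_isMaxTorus hi, hC⟩
    haveI : ConnectedSpace (Red.bc σ C).left :=
      (centralizer_smooth_connected_nonaffine i hi.2.2.1 (fibreHom hσ c) hC).2
    haveI : LocallyOfFinitePresentation C.hom := inferInstance
    let m := (Over.pullback σ).map io
    have hm := hio.bc σ
    haveI : IsOpenImmersion m.left := hm.openImm
    have hr : Set.range m.left = Set.univ := by
      rw [hm.range]
      refine GrpFieldLib.Jet.neutralSet_eq_univ_of_isConnected (Red.bc σ C) fun p => ?_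
      rw [show (Red.bc σ C).hom.base ⁻¹' {p} = Set.univ from
        Set.eq_univ_of_forall fun z => @Subsingleton.elim (PrimeSpectrum k) _ _ _]
      exact isConnected_univ
    let l := IsOpenImmersion.lift m.left (𝟙 _) (by rw [hr]; exact Set.subset_univ _)
    have hl : l ≫ m.left = 𝟙 _ := IsOpenImmersion.lift_fac _ _ _
    haveI : IsIso m.left := ⟨l, by rw [← cancel_mono m.left, Category.assoc, hl, Category.comp_id, Category.id_comp], hl⟩
    haveI : IsIso ((Over.forget _).map m) := inferInstanceAs (IsIso m.left)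
    haveI : IsIso m := isIso_of_reflects_iso m (Over.forget _)
    haveI : IsMonHom (fibreIso hσ G).symm.hom := inferInstanceAs (IsMonHom (fibreIso hσ G).inv)
    refine isCartanOver_of_iso (asIso m).symm (fibreIso hσ G).symm (fibreHom hσ c) _ ?_ h1
    rw [Iso.symm_hom, Iso.symm_hom, asIso_inv, IsIso.inv_comp_eq, fibreHom_eq', Category.assoc, Iso.hom_inv_id,
      Category.comp_id]
    exact Functor.map_comp _ _ _
  -- the locus of Cartan fibres
  have hG'conn : ∀ y : Y, _root_.IsConnected (G'.hom.base ⁻¹' {y}) := isConnected_fibres_bc hconn π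
  have hG' := hasMaxTorusFpqcLocally_bc hG π
  let y : Y := σ (IsLocalRing.closedPoint k)
  obtain ⟨σ', hσ'⟩ := exists_factor_geomPt σ
  haveI := connectedSpace_point hC0conn (Red.geomPt y)
  let U : Y.Opens := ⟨_, isOpen_cartanLocus hG'conn c0 hC0conn hG'⟩
  have hyU : y ∈ U := isCartanOver_down (Red.geomPt y) σ' σ hσ' c0 hcart
  let CU := Red.bc U.ι C0
  let cU := (Over.pullback U.ι).map c0
  let GU := Red.bc U.ι G'
  haveI : Smooth GU.hom := inferInstanceAs (Smooth (pullback.snd G'.hom U.ι))
  haveI : QuasiCompact GU.hom := inferInstanceAs (QuasiCompact (pullback.snd G'.hom U.ι))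
  haveI : IsSeparated GU.hom := inferInstanceAs (IsSeparated (pullback.snd G'.hom U.ι))
  have hcU : SGA3x.IsCartan cU := by
    refine ⟨inferInstance, inferInstance, inferInstanceAs (Smooth (pullback.snd C0.hom U.ι)), fun v => ?_⟩
    obtain ⟨σv, hσv⟩ := exists_geomPt_lift U.ι v
    exact (isCartanOver_comp (Red.geomPt v ≫ U.ι) c0 U.ι (Red.geomPt v) rfl).mpr
      (isCartanOver_up (Red.geomPt (U.ι v)) σv _ hσv c0 v.2)
  obtain ⟨TU, _, tU, htU, -⟩ := exists_maxTorus_of_cartan (hasMaxTorusFpqcLocally_bc hG' U.ι) cU hcU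
  -- an etale neighbourhood
  obtain ⟨X, g, x, hg, hgx, h, hh⟩ := Groth.Agent.S0412.result (U.ι ≫ π) s ⟨⟨y, hyU⟩, by
    show π (σ (IsLocalRing.closedPoint k)) = s
    rw [← Scheme.Hom.comp_apply, hσ]
    exact Scheme.fromSpecResidueField_apply s _⟩
  let e₁ : Red.bc U.ι (Red.bc π G) ≅ Red.bc (U.ι ≫ π) G := fibreIso (a := U.ι) rfl G
  haveI : IsMonHom e₁.hom := inferInstanceAs (IsMonHom (fibreIso (a := U.ι) rfl G).hom)
  haveI : Smooth (Red.bc (U.ι ≫ π) G).hom := inferInstanceAs (Smooth (pullback.snd G.hom _))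
  haveI : QuasiCompact (Red.bc (U.ι ≫ π) G).hom := inferInstanceAs (QuasiCompact (pullback.snd G.hom _))
  exact ⟨X, g, hg, x, hgx, Red.bc h TU, inferInstance, _,
    isMaximalTorus_of_iso (fibreIso (a := h) hh G) _ (isMaximalTorus_bc _ (isMaximalTorus_of_iso e₁ tU htU) h)⟩

/-- Maximal tori exist etale locally when they exist fpqc locally. -/
theorem hasMaxTorusEtaleLocally_of_fpqc (G : Over S) [GrpObj G] [Smooth G.hom] [IsSeparated G.hom]
    [QuasiCompact G.hom] (hG : SGA3x.HasMaxTorusFpqcLocally G) : SGA3x.HasMaxTorusEtaleLocally G := by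
  obtain ⟨G0, _, io, hio, hG0s, hG0qc, hG0sep, hG0conn⟩ := exists_neutral G
  haveI := hG0s; haveI := hG0qc; haveI := hG0sep; haveI := hio.isMonHom
  have hG0 : SGA3x.HasMaxTorusFpqcLocally G0 := by
    obtain ⟨S', f, hf, hfs, hcov, T, _, t, ht⟩ := hG
    haveI : LocallyOfFinitePresentation (Red.bc f G).hom :=
      inferInstanceAs (LocallyOfFinitePresentation (pullback.snd G.hom f))
    obtain ⟨t₀, -, ht₀⟩ := (hio.bc f).isMaximalTorus_down t ht
    exact ⟨S', f, hf, hfs, hcov, T, inferInstance, t₀, ht₀⟩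
  choose X g hg x hx T iT t ht using exists_smooth_maxTorus hG0conn hG0
  let f : (∐ X) ⟶ S := Sigma.desc g
  have hf : ∀ s, Sigma.ι X s ≫ f = g s := fun s => Sigma.ι_desc _ _
  haveI hfe : Etale f := IsZariskiLocalAtSource.sigmaDesc hg
  have hfs : Surjective f := ⟨fun s => ⟨Sigma.ι X s (x s), by rw [← Scheme.Hom.comp_apply, hf, hx]⟩⟩
  obtain ⟨TT, _, tt, htt⟩ := exists_maxTorus_sigma (Red.bc f G0) fun s => by
    letI := iT s
    haveI : IsMonHom (fibreIso (a := Sigma.ι X s) (hf s) G0).symm.hom :=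
      inferInstanceAs (IsMonHom (fibreIso (a := Sigma.ι X s) (hf s) G0).inv)
    exact ⟨T s, inferInstance, _, isMaximalTorus_of_iso (fibreIso (a := Sigma.ι X s) (hf s) G0).symm (t s) (ht s)⟩
  haveI : LocallyOfFinitePresentation (Red.bc f G).hom :=
    inferInstanceAs (LocallyOfFinitePresentation (pullback.snd G.hom f))
  exact ⟨∐ X, f, hfe, hfs, TT, inferInstance, _, (hio.bc f).isMaximalTorus_up tt htt⟩

end Groth.Agent.GModLib
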