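import Groth.Agent.GModLib.CommutingTori
import Groth.Agent.GModLib.CartanTorusDescent
import Groth.Agent.GModLib.FibreSurj
import Groth.Agent.GModLib.NeutralTorus
import Groth.Agent.GrpSchLib.HomFlatLft
import Groth.Agent.GrpSchLib.IsogenyFibre
import Groth.Agent.S4147
import Groth.Agent.S4117
import Groth.Agent.S4116

/-!
# Maximal tori and homomorphisms with central kernel
-/

set_option autoImplicit false
set_option linter.style.haveILetI false
set_option backward.isDefEq.respectTransparency false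
set_option backward.isDefEq.respectTransparency.types false

universe u

open CategoryTheory CategoryTheory.Limits MonoidalCategory CartesianMonoidalCategory MonObj GrpObj AlgebraicGeometry

namespace Groth.Agent.GModLib

open DSPtsLib (theta theta_bijective theta_mul theta_comp)
open GrpSchLib.HomUnitLocus (theta_comp_map theta_one)

variable {S : Scheme.{u}}

/-- The kernel of `u` is central. -/
def IsCentralKer {G G' : Over S} [GrpObj G] [GrpObj G'] (u : G ⟶ G') : Prop :=
  ∀ (X : Over S) (z : X ⟶ G), z ≫ u = 1 → ∀ (X' : Over S) (x : X' ⟶ X) (g : X' ⟶ G), (x ≫ z) * g = g * (x ≫ z)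

theorem IsCentralKer.bc {G G' : Over S} [GrpObj G] [GrpObj G'] {u : G ⟶ G'} (h : IsCentralKer u) {U : Scheme.{u}}
    (q : U ⟶ S) : IsCentralKer ((Over.pullback q).map u) := by
  intro X z hz X' x g
  have hz' : theta q z ≫ u = 1 := by rw [← theta_comp_map, hz, theta_one]
  apply (theta_bijective q).1
  rw [theta_mul, theta_mul, theta_comp]
  exact h _ _ hz' _ _ _

/-- Conjugation after base change. -/
theorem map_innerS {G : Over S} [GrpObj G] {U : Scheme.{u}} (q : U ⟶ S) (c : 𝟙_ (Over S) ⟶ G)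
    (c' : 𝟙_ (Over U) ⟶ Red.bc q G) (hc : theta q c' = toUnit _ ≫ c) :
    (Over.pullback q).map (innerS c) = innerS c' := by
  apply (theta_bijective q).1
  have h1 : theta q (toUnit (Red.bc q G) ≫ c') = toUnit _ ≫ c := by
    rw [theta_comp, hc, ← Category.assoc, comp_toUnit]
  have hinv : ∀ (a : Red.bc q G ⟶ Red.bc q G), theta q a⁻¹ = (theta q a)⁻¹ := fun a =>
    eq_inv_of_mul_eq_one_left (by rw [← theta_mul, inv_mul_cancel, theta_one])
  have h2 := theta_comp_map q _ (𝟙 (Red.bc q G)) (innerS c)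
  rw [Category.id_comp] at h2
  rw [h2, comp_innerS, innerS, theta_mul, theta_mul, hinv, h1]

theorem innerS_naturality {G G' : Over S} [GrpObj G] [GrpObj G'] (u : G ⟶ G') [IsMonHom u] (d : 𝟙_ (Over S) ⟶ G) :
    innerS d ≫ u = u ≫ innerS (d ≫ u) := by
  rw [comp_innerS, innerS, MonObj.mul_comp, MonObj.mul_comp, GrpObj.inv_comp, Category.id_comp, Category.assoc]

set_option maxHeartbeats 1000000 in
/-- Two maximal tori with the same image under a homomorphism with central kernel coincide. -/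
theorem exists_iso_of_image {G G' T₁ T₂ T' : Over S} [GrpObj G] [GrpObj G'] [GrpObj T₁] [GrpObj T₂]
    [IsSeparated G.hom] [LocallyOfFinitePresentation G.hom] (u : G ⟶ G') [IsMonHom u] (hker : IsCentralKer u)
    (i₁ : T₁ ⟶ G) (h₁ : Red.IsMaximalTorus i₁) (i₂ : T₂ ⟶ G) (h₂ : Red.IsMaximalTorus i₂) (i' : T' ⟶ G')
    (v₁ : T₁ ⟶ T') (hv₁ : FpqcDescLib.Covers v₁.left) (v₂ : T₂ ⟶ T') (e₁ : v₁ ≫ i' = i₁ ≫ u) (e₂ : v₂ ≫ i' = i₂ ≫ u) :
    ∃ φ : T₁ ≅ T₂, φ.hom ≫ i₂ = i₁ := by
  haveI := h₁.1; haveI := h₂.1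
  refine exists_iso_of_commute i₁ h₁ i₂ h₂ fun X a b => ?_
  let P : Over S := Over.mk (pullback.fst (b ≫ v₂).left v₁.left ≫ X.hom)
  let p : P ⟶ X := Over.homMk (pullback.fst (b ≫ v₂).left v₁.left) rfl
  let w : P ⟶ T₁ := Over.homMk (pullback.snd (b ≫ v₂).left v₁.left) (by
    show pullback.snd _ _ ≫ T₁.hom = pullback.fst _ _ ≫ X.hom
    rw [← Over.w v₁, ← pullback.condition_assoc, Over.w (b ≫ v₂)])
  have hp : FpqcDescLib.Covers p.left :=
    hv₁.pullback (b ≫ v₂).left p.left w.left (IsPullback.of_hasPullback (b ≫ v₂).left v₁.left)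
  haveI := hp.over_epi
  have hw : p ≫ b ≫ v₂ = w ≫ v₁ := Over.OverMorphism.ext pullback.condition
  have hz : ((p ≫ b ≫ i₂) * (w ≫ i₁)⁻¹) ≫ u = 1 := by
    rw [MonObj.mul_comp, GrpObj.inv_comp, Category.assoc, Category.assoc, Category.assoc, ← e₁, ← e₂,
      reassoc_of% hw, mul_inv_cancel]
  have hc := hker P _ hz P (𝟙 P) ((p ≫ a) ≫ i₁)
  rw [Category.id_comp] at hc
  have hT : ((p ≫ a) ≫ i₁) * (w ≫ i₁) = (w ≫ i₁) * ((p ≫ a) ≫ i₁) := by
    rw [← MonObj.mul_comp, ← MonObj.mul_comp, GrpSchLib.RankOne.torus_mul_comm h₁.2.2.1 _ (p ≫ a) w]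
  rw [← cancel_epi p, MonObj.comp_mul, MonObj.comp_mul, ← Category.assoc p a]
  calc ((p ≫ a) ≫ i₁) * (p ≫ b ≫ i₂)
      = ((p ≫ a) ≫ i₁) * (((p ≫ b ≫ i₂) * (w ≫ i₁)⁻¹) * (w ≫ i₁)) := by rw [inv_mul_cancel_right]
    _ = ((p ≫ b ≫ i₂) * (w ≫ i₁)⁻¹) * ((w ≫ i₁) * ((p ≫ a) ≫ i₁)) := by
        rw [← _root_.mul_assoc, ← hc, _root_.mul_assoc, hT]
    _ = (p ≫ b ≫ i₂) * ((p ≫ a) ≫ i₁) := by rw [← _root_.mul_assoc, inv_mul_cancel_right]

set_option maxHeartbeats 1000000 in
/-- The two pullbacks of a maximal torus over a given image agree. -/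
theorem key_centralKer {S' : Scheme.{u}} {G G' T' : Over S} [GrpObj G] [GrpObj G'] [GrpObj T'] [Smooth G.hom]
    [IsSeparated G.hom] [QuasiCompact G.hom] (u : G ⟶ G') [IsMonHom u] (hker : IsCentralKer u) (i' : T' ⟶ G')
    [IsMonHom i'] (q : S' ⟶ S) {T : Over S'} [GrpObj T] (i : T ⟶ Red.bc q G) (h : Red.IsMaximalTorus i)
    (v : T ⟶ Red.bc q T') [Surjective v.left] [Flat v.left] [QuasiCompact v.left]
    (hv : v ≫ (Over.pullback q).map i' = i ≫ (Over.pullback q).map u)
    (Y : Scheme.{u}) (a b : Y ⟶ pullback G.hom q) (hab : a ≫ pullback.fst G.hom q = b ≫ pullback.fst G.hom q)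
    (hl : ∃ l, l ≫ i.left = a) : ∃ l, l ≫ i.left = b := by
  haveI := h.1; haveI := h.2.1
  haveI : Smooth (Red.bc q G).hom := inferInstanceAs (Smooth (pullback.snd G.hom q))
  haveI : QuasiCompact (Red.bc q G).hom := inferInstanceAs (QuasiCompact (pullback.snd G.hom q))
  let r : pullback q q ⟶ S := pullback.fst q q ≫ q
  haveI : Smooth (Red.bc r G).hom := inferInstanceAs (Smooth (pullback.snd G.hom r))
  haveI : IsSeparated (Red.bc r G).hom := inferInstanceAs (IsSeparated (pullback.snd G.hom r))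
  haveI : QuasiCompact (Red.bc r G).hom := inferInstanceAs (QuasiCompact (pullback.snd G.hom r))
  have side : ∀ (p : pullback q q ⟶ S') (hp : p ≫ q = r),
      ∃ (e : Red.bc p T ⟶ Red.bc r G) (w : Red.bc p T ⟶ Red.bc r T'), Red.IsMaximalTorus e ∧
        FpqcDescLib.Covers w.left ∧ w ≫ (Over.pullback r).map i' = e ≫ (Over.pullback r).map u ∧
        e.left ≫ pullback.fst G.hom r = pullback.fst T.hom p ≫ i.left ≫ pullback.fst G.hom q := by
    intro p hp
    let E := bcGrpIso p q r hp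
    let β : ∀ (A : Over S) [GrpObj A], Red.bc p (Red.bc q A) ≅ Red.bc r A := fun A _ =>
      ⟨(E.app (Grp.mk A)).hom.hom.hom, (E.app (Grp.mk A)).inv.hom.hom,
        congrArg (fun φ => φ.hom.hom) (E.app (Grp.mk A)).hom_inv_id,
        congrArg (fun φ => φ.hom.hom) (E.app (Grp.mk A)).inv_hom_id⟩
    haveI : ∀ (A : Over S) [GrpObj A], IsMonHom (β A).hom := fun A _ =>
      inferInstanceAs (IsMonHom (E.app (Grp.mk A)).hom.hom.hom)
    have nat : ∀ {A B : Over S} [GrpObj A] [GrpObj B] (f : A ⟶ B) [IsMonHom f],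
        (Over.pullback p).map ((Over.pullback q).map f) ≫ (β B).hom = (β A).hom ≫ (Over.pullback r).map f :=
      fun {A B} _ _ f _ => congrArg (fun φ => φ.hom.hom) (E.hom.naturality (Grp.homMk' ⟨f⟩ : Grp.mk A ⟶ Grp.mk B))
    refine ⟨(Over.pullback p).map i ≫ (β G).hom, (Over.pullback p).map v ≫ (β T').hom,
      isMaximalTorus_of_iso (β G) _ (isMaximalTorus_bc _ h p), ?_, ?_, ?_⟩
    · haveI : Surjective ((Over.pullback p).map v).left := MorphismProperty.overPullbackMap _ _ ‹Surjective v.left›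
      haveI : Flat ((Over.pullback p).map v).left := MorphismProperty.overPullbackMap _ _ ‹Flat v.left›
      haveI : QuasiCompact ((Over.pullback p).map v).left := MorphismProperty.overPullbackMap _ _ ‹QuasiCompact v.left›
      haveI : IsIso (β T').hom.left := inferInstanceAs (IsIso ((Over.forget _).map (β T').hom))
      rw [Over.comp_left]
      exact FpqcDescLib.covers_of_isCovering (FpqcDescLib.isCovering_of_quasiCompact _)
    · rw [Category.assoc, ← nat i', ← Category.assoc, ← Functor.map_comp, hv, Functor.map_comp, Category.assoc,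
        nat u, ← Category.assoc]
    · rw [Over.comp_left, Category.assoc]
      refine (congrArg (_ ≫ ·) (bcGrpIso_left_fst p q r hp G)).trans ?_
      rw [← Category.assoc, ← Category.assoc (pullback.fst T.hom p)]
      refine congrArg (· ≫ _) ?_
      exact pullback.lift_fst _ _ _
  obtain ⟨e₁, w₁, h₁, hw₁, hwe₁, h₁f⟩ := side (pullback.fst q q) rfl
  obtain ⟨e₂, w₂, h₂, hw₂, hwe₂, h₂f⟩ := side (pullback.snd q q) pullback.condition.symm
  obtain ⟨α, hα⟩ := exists_iso_of_image _ (hker.bc r) e₁ h₁ e₂ h₂ _ w₁ hw₁ w₂ hwe₁ hwe₂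
  obtain ⟨l, hl⟩ := hl
  have hw : (a ≫ pullback.snd G.hom q) ≫ q = (b ≫ pullback.snd G.hom q) ≫ q := by
    rw [Category.assoc, Category.assoc, ← pullback.condition, reassoc_of% hab]
  let t : Y ⟶ pullback q q := pullback.lift (a ≫ pullback.snd G.hom q) (b ≫ pullback.snd G.hom q) hw
  have he : i.left ≫ pullback.snd G.hom q = T.hom := Over.w i
  have hlT : l ≫ T.hom = t ≫ pullback.fst q q := by
    rw [← he, reassoc_of% hl]
    exact (pullback.lift_fst _ _ _).symm
  let y : Over.mk t ⟶ Red.bc (pullback.fst q q) T := Over.homMk (pullback.lift l t hlT) (pullback.lift_snd _ _ _)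
  refine ⟨(y ≫ α.hom).left ≫ pullback.fst T.hom (pullback.snd q q), pullback.hom_ext ?_ ?_⟩
  · rw [Category.assoc, Category.assoc, ← h₂f, Over.comp_left, Category.assoc, ← Category.assoc α.hom.left,
      show α.hom.left ≫ e₂.left = e₁.left from congrArg (fun m => m.left) hα, h₁f]
    show pullback.lift l t hlT ≫ _ = _
    rw [pullback.lift_fst_assoc, reassoc_of% hl, hab]
  · have h3 : (y ≫ α.hom).left ≫ pullback.snd T.hom (pullback.snd q q) = t := Over.w (y ≫ α.hom)
    rw [Category.assoc, Category.assoc, he, pullback.condition, reassoc_of% h3]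
    exact pullback.lift_snd _ _ _

/-- The data over a base change: a maximal torus mapping onto the base change of a given torus. -/
def HasTorusOver {G G' T' : Over S} [GrpObj G] [GrpObj G'] (u : G ⟶ G') (i' : T' ⟶ G') {S' : Scheme.{u}}
    (g : S' ⟶ S) : Prop :=
  ∃ (T : Over S') (_ : GrpObj T) (i : T ⟶ Red.bc g G) (v : T ⟶ Red.bc g T'), Red.IsMaximalTorus i ∧
    Surjective v.left ∧ Flat v.left ∧ v ≫ (Over.pullback g).map i' = i ≫ (Over.pullback g).map u

theorem hasTorusOver_trans {G G' T' : Over S} [GrpObj G] [GrpObj G'] [GrpObj T'] (u : G ⟶ G') [IsMonHom u]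
    (i' : T' ⟶ G') [IsMonHom i'] {S₁ S₂ : Scheme.{u}} (l : S₂ ⟶ S₁) (g : S₁ ⟶ S)
    (h : HasTorusOver ((Over.pullback g).map u) ((Over.pullback g).map i') l) : HasTorusOver u i' (l ≫ g) := by
  obtain ⟨T, _, i, v, hi, hvs, hvf, hv⟩ := h
  haveI := hvs; haveI := hvf
  let E := bcGrpIso l g (l ≫ g) rfl
  let β : ∀ (A : Over S) [GrpObj A], Red.bc l (Red.bc g A) ≅ Red.bc (l ≫ g) A := fun A _ =>
    ⟨(E.app (Grp.mk A)).hom.hom.hom, (E.app (Grp.mk A)).inv.hom.hom,
      congrArg (fun φ => φ.hom.hom) (E.app (Grp.mk A)).hom_inv_id,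
      congrArg (fun φ => φ.hom.hom) (E.app (Grp.mk A)).inv_hom_id⟩
  haveI : ∀ (A : Over S) [GrpObj A], IsMonHom (β A).hom := fun A _ =>
    inferInstanceAs (IsMonHom (E.app (Grp.mk A)).hom.hom.hom)
  have nat : ∀ {A B : Over S} [GrpObj A] [GrpObj B] (f : A ⟶ B) [IsMonHom f],
      (Over.pullback l).map ((Over.pullback g).map f) ≫ (β B).hom = (β A).hom ≫ (Over.pullback (l ≫ g)).map f :=
    fun {A B} _ _ f _ => congrArg (fun φ => φ.hom.hom) (E.hom.naturality (Grp.homMk' ⟨f⟩ : Grp.mk A ⟶ Grp.mk B))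
  haveI : IsIso (β T').hom.left := inferInstanceAs (IsIso ((Over.forget _).map (β T').hom))
  refine ⟨T, inferInstance, i ≫ (β G).hom, v ≫ (β T').hom, isMaximalTorus_of_iso (β G) i hi,
    by rw [Over.comp_left]; infer_instance, by rw [Over.comp_left]; infer_instance, ?_⟩
  rw [Category.assoc, ← nat i', reassoc_of% hv, Category.assoc, nat u]

/-- A homomorphism surjective on geometric fibres is surjective. -/
theorem surjective_of_geomFibres {X Y : Over S} (u : X ⟶ Y)
    (hu : ∀ s : S, Surjective ((Over.pullback (Red.geomPt s)).map u).left) : Surjective u.left := by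
  refine ⟨fun y => ?_⟩
  let σ := Red.geomPt (Y.hom y)
  obtain ⟨z, hz, -⟩ := Scheme.Pullback.exists_preimage_pullback (f := Y.hom) (g := σ) y (IsLocalRing.closedPoint _)
    (by rw [Scheme.Hom.comp_apply]; exact (Scheme.fromSpecResidueField_apply _ _).symm)
  obtain ⟨w, hw⟩ := (hu (Y.hom y)).1 z
  refine ⟨pullback.fst X.hom σ w, ?_⟩
  refine Eq.trans ?_ hz
  rw [← hw, ← Scheme.Hom.comp_apply]
  have h : ((Over.pullback σ).map u).left ≫ pullback.fst Y.hom σ = pullback.fst X.hom σ ≫ u.left :=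
    pullback.lift_fst _ _ _
  rw [← h]
  exact Scheme.Hom.comp_apply _ _ _

set_option maxHeartbeats 4000000 in
/-- Every maximal torus of the target is the image of one of the source. -/
theorem exists_maxTorus_over {G G' T' : Over S} [GrpObj G] [GrpObj G'] [GrpObj T'] [Smooth G.hom] [IsSeparated G.hom]
    [QuasiCompact G.hom] [Smooth G'.hom] [IsSeparated G'.hom] [QuasiCompact G'.hom]
    (hG : SGA3x.HasMaxTorusFpqcLocally G) (u : G ⟶ G') [IsMonHom u]
    (hu : ∀ s : S, Surjective ((Over.pullback (Red.geomPt s)).map u).left) (hker : IsCentralKer u) (i' : T' ⟶ G')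
    (hT' : Red.IsMaximalTorus i') :
    ∃ (T : Over S) (_ : GrpObj T) (i : T ⟶ G) (v : T ⟶ T'), Red.IsMaximalTorus i ∧ IsMonHom v ∧
      v ≫ i' = i ≫ u ∧ Surjective v.left ∧ Flat v.left := by
  haveI := hT'.1; haveI := hT'.2.1
  haveI : IsAffineHom T'.hom := (TransLib.multTypeFT_essFree (GrpSchLib.RankOne.isMultTypeFT_of_isTorus hT'.2.2.1)).1
  haveI := surjective_of_geomFibres u hu
  haveI : GeometricallyReduced G'.hom := GrpSchLib.IsogenyFibre.geometricallyReduced_of_smooth' G'.hom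
  haveI : Flat u.left := (GrpSchLib.HomFlatLft.flat_hom u).1
  haveI : QuasiCompact u.left := by
    haveI : QuasiCompact (u.left ≫ G'.hom) := by rw [Over.w u]; infer_instance
    exact QuasiCompact.of_comp u.left G'.hom
  haveI : LocallyOfFinitePresentation u.left := by
    haveI : LocallyOfFinitePresentation (u.left ≫ G'.hom) := by rw [Over.w u]; infer_instance
    exact AlgSpPts.locallyOfFinitePresentation_of_comp u.left G'.hom
  -- a maximal torus of `G`, etale locally, and its image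
  obtain ⟨S₁, g₁, hg₁e, hg₁s, T₁, _, i₁, h₁⟩ := Groth.Agent.S4117.result S G hG
  haveI := hg₁e; haveI := hg₁s
  haveI : Smooth (Red.bc g₁ G).hom := inferInstanceAs (Smooth (pullback.snd G.hom g₁))
  haveI : IsSeparated (Red.bc g₁ G).hom := inferInstanceAs (IsSeparated (pullback.snd G.hom g₁))
  haveI : QuasiCompact (Red.bc g₁ G).hom := inferInstanceAs (QuasiCompact (pullback.snd G.hom g₁))
  haveI : Smooth (Red.bc g₁ G').hom := inferInstanceAs (Smooth (pullback.snd G'.hom g₁))
  haveI : IsSeparated (Red.bc g₁ G').hom := inferInstanceAs (IsSeparated (pullback.snd G'.hom g₁))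
  haveI : QuasiCompact (Red.bc g₁ G').hom := inferInstanceAs (QuasiCompact (pullback.snd G'.hom g₁))
  let u₁ := (Over.pullback g₁).map u
  obtain ⟨A, _, a, v₁, hA, hv₁m, hva, hv₁s, hv₁f⟩ := Groth.Agent.S4147.result S₁ (Red.bc g₁ G) (Red.bc g₁ G')
    (hasMaxTorusFpqcLocally_bc hG g₁) u₁ (fun s => surjective_geomFibre_bc u hu g₁ s) T₁ i₁ h₁
  haveI := hA.1; haveI := h₁.1; haveI := h₁.2.1; haveI := hv₁m; haveI := hv₁s; haveI := hv₁f
  -- conjugate the image to the given torus
  obtain ⟨S₂, f₂, hf₂e, hf₂s, c, φ, hφ⟩ := Groth.Agent.S4116.result S₁ (Red.bc g₁ G') A (Red.bc g₁ T') a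
    ((Over.pullback g₁).map i') hA (isMaximalTorus_bc i' hT' g₁)
  haveI := hf₂e; haveI := hf₂s
  let u₂ := (Over.pullback f₂).map u₁
  -- lift the conjugating point
  let W : Scheme.{u} := pullback c.left u₂.left
  let π₃ : W ⟶ S₂ := pullback.fst c.left u₂.left
  haveI hs1 : Surjective u₁.left := MorphismProperty.overPullbackMap _ u ‹Surjective u.left›
  haveI hf1 : Flat u₁.left := MorphismProperty.overPullbackMap _ u ‹Flat u.left›
  haveI hq1 : QuasiCompact u₁.left := MorphismProperty.overPullbackMap _ u ‹QuasiCompact u.left›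
  haveI hl1 : LocallyOfFinitePresentation u₁.left :=
    MorphismProperty.overPullbackMap _ u ‹LocallyOfFinitePresentation u.left›
  haveI : Surjective u₂.left := MorphismProperty.overPullbackMap _ u₁ hs1
  haveI : Flat u₂.left := MorphismProperty.overPullbackMap _ u₁ hf1
  haveI : QuasiCompact u₂.left := MorphismProperty.overPullbackMap _ u₁ hq1
  haveI : LocallyOfFinitePresentation u₂.left := MorphismProperty.overPullbackMap _ u₁ hl1
  haveI : Surjective π₃ := inferInstanceAs (Surjective (pullback.fst c.left u₂.left))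
  haveI : Flat π₃ := inferInstanceAs (Flat (pullback.fst c.left u₂.left))
  haveI : QuasiCompact π₃ := inferInstanceAs (QuasiCompact (pullback.fst c.left u₂.left))
  haveI : LocallyOfFinitePresentation π₃ := inferInstanceAs (LocallyOfFinitePresentation (pullback.fst c.left u₂.left))
  let d₀ : (Over.map π₃).obj (𝟙_ (Over W)) ⟶ Red.bc f₂ (Red.bc g₁ G) := Over.homMk (pullback.snd c.left u₂.left) (by
    show pullback.snd c.left u₂.left ≫ (Red.bc f₂ (Red.bc g₁ G)).hom = 𝟙 W ≫ π₃
    rw [← Over.w u₂, ← pullback.condition_assoc, Category.id_comp]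
    show π₃ ≫ c.left ≫ _ = π₃
    rw [Over.w c]
    exact Category.comp_id π₃)
  obtain ⟨d, hd⟩ := (theta_bijective π₃).2 d₀
  let u₃ := (Over.pullback π₃).map u₂
  have hdu : theta π₃ (d ≫ u₃) = toUnit _ ≫ c := by
    rw [theta_comp_map, hd]
    refine Over.OverMorphism.ext ?_
    show pullback.snd c.left u₂.left ≫ u₂.left = (𝟙 W ≫ π₃) ≫ c.left
    rw [Category.id_comp, pullback.condition]
  have hinner : (Over.pullback π₃).map (innerS c) = innerS (d ≫ u₃) := map_innerS π₃ c _ hdu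
  -- the maximal torus over `W`
  haveI : Smooth (Red.bc f₂ (Red.bc g₁ G)).hom := inferInstanceAs (Smooth (pullback.snd (Red.bc g₁ G).hom f₂))
  haveI : QuasiCompact (Red.bc f₂ (Red.bc g₁ G)).hom :=
    inferInstanceAs (QuasiCompact (pullback.snd (Red.bc g₁ G).hom f₂))
  haveI : Flat (v₁.left) := hv₁f
  have hW : HasTorusOver u₂ ((Over.pullback f₂).map ((Over.pullback g₁).map i')) π₃ := by
    haveI : Surjective ((Over.pullback f₂).map v₁).left := MorphismProperty.overPullbackMap _ _ hv₁s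
    haveI : Flat ((Over.pullback f₂).map v₁).left := MorphismProperty.overPullbackMap _ _ hv₁f
    haveI : IsIso φ.hom.left := inferInstanceAs (IsIso ((Over.forget _).map φ.hom))
    let v₂ := (Over.pullback f₂).map v₁ ≫ φ.hom
    haveI : Surjective v₂.left := by rw [Over.comp_left]; infer_instance
    haveI : Flat v₂.left := by rw [Over.comp_left]; infer_instance
    refine ⟨Red.bc π₃ (Red.bc f₂ T₁), inferInstance, (Over.pullback π₃).map ((Over.pullback f₂).map i₁) ≫ innerS d,
      (Over.pullback π₃).map v₂,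
      isMaximalTorus_innerS _ (isMaximalTorus_bc _ (isMaximalTorus_bc i₁ h₁ f₂) π₃) d,
      MorphismProperty.overPullbackMap _ _ ‹Surjective v₂.left›, MorphismProperty.overPullbackMap _ _ ‹Flat v₂.left›, ?_⟩
    have h2 : v₂ ≫ (Over.pullback f₂).map ((Over.pullback g₁).map i') =
        (Over.pullback f₂).map i₁ ≫ u₂ ≫ innerS c := by
      rw [Category.assoc, ← hφ, ← comp_innerS, ← Category.assoc, ← Functor.map_comp, hva, Functor.map_comp,
        Category.assoc]
    rw [← Functor.map_comp, h2, Functor.map_comp, Functor.map_comp, hinner, Category.assoc, innerS_naturality]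
  have hπW := hasTorusOver_trans u i' (π₃ ≫ f₂) g₁
    (hasTorusOver_trans u₁ ((Over.pullback g₁).map i') π₃ f₂ hW)
  let π := (π₃ ≫ f₂) ≫ g₁
  obtain ⟨T₀, _, i₀, v₀, h₀, hv₀s, hv₀f, hv₀⟩ := hπW
  haveI := h₀.1; haveI := h₀.2.1; haveI := hv₀s; haveI := hv₀f
  have hπ : FpqcDescLib.IsCovering π :=
    ((FpqcDescLib.isCovering_of_lfp π₃).comp (FpqcDescLib.isCovering_of_lfp f₂)).comp
      (FpqcDescLib.isCovering_of_lfp g₁)
  haveI : Flat π := inferInstanceAs (Flat ((π₃ ≫ f₂) ≫ g₁))
  haveI : Surjective π := inferInstanceAs (Surjective ((π₃ ≫ f₂) ≫ g₁))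
  haveI : IsAffineHom T₀.hom := (TransLib.multTypeFT_essFree (GrpSchLib.RankOne.isMultTypeFT_of_isTorus h₀.2.2.1)).1
  haveI : IsSeparated (Red.bc π T').hom := inferInstanceAs (IsSeparated (pullback.snd T'.hom π))
  haveI : QuasiCompact v₀.left := by
    haveI : QuasiCompact (v₀.left ≫ (Red.bc π T').hom) := by rw [Over.w v₀]; infer_instance
    exact QuasiCompact.of_comp v₀.left (Red.bc π T').hom
  obtain ⟨T, _, i, ψ, him, himo, hψm, hψ⟩ :=
    GrpSchLib.MonoSubgroupDescent.exists_descent i₀ hπ (key_centralKer u hker i' π i₀ h₀ v₀ hv₀)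
  haveI := him; haveI := himo; haveI := hψm
  have hT : Red.IsTorus T := by
    obtain ⟨U, g, hgf, hgs, hgc, hgl⟩ := h₀.2.2.1
    haveI := hgf; haveI := hgs
    obtain ⟨hfl', hcov'⟩ :=
      GrpSchLib.SubgroupEqLocus.flat_hcov_of_isCovering ((FpqcDescLib.isCovering_of_flat g hgc).comp hπ)
    refine ⟨U, g ≫ π, hfl', inferInstance, hcov', fun s => ?_⟩
    obtain ⟨V, hsV, n, ⟨w⟩⟩ := hgl s
    obtain ⟨e₁⟩ := GrpSchLib.MultTypeBC.bc_bc (V.ι ≫ g) π T
    obtain ⟨e₂⟩ := GrpSchLib.MultTypeBC.bc_congr (Category.assoc V.ι g π) T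
    obtain ⟨e₃⟩ := GrpSchLib.MultTypeBC.bc_iso (V.ι ≫ g) (Grp.mkIso' ψ)
    exact ⟨V, hsV, n, ⟨e₂.symm ≪≫ e₁.symm ≪≫ e₃ ≪≫ w⟩⟩
  have hmax' : Red.IsMaximalTorus ((Over.pullback π).map i) := by
    refine ⟨inferInstance, inferInstance, isTorus_bc π hT, fun s T'' _ j' _ _ f' hT'' hf' => ?_⟩
    let σ := Red.geomPt s
    haveI : IsIso ((Over.pullback σ).map ψ.inv ≫ f') := h₀.2.2.2 s T'' j' ((Over.pullback σ).map ψ.inv ≫ f') hT'' (by
      refine (Category.assoc _ _ _).trans ((congrArg (_ ≫ ·) hf').trans ?_)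
      refine ((Over.pullback σ).map_comp _ _).symm.trans (congrArg (Over.pullback σ).map ?_)
      exact (congrArg (ψ.inv ≫ ·) hψ).symm.trans (ψ.inv_hom_id_assoc i₀))
    exact IsIso.of_isIso_comp_left ((Over.pullback σ).map ψ.inv) f'
  have hmax : Red.IsMaximalTorus i := isMaximalTorus_of_bc i hT π hmax'
  -- the map onto `T'` descends
  let w : Red.bc π T ⟶ Red.bc π T' := ψ.hom ≫ v₀
  have hw : w ≫ (Over.pullback π).map i' = (Over.pullback π).map (i ≫ u) := by
    rw [Category.assoc, hv₀, ← Category.assoc, hψ, Functor.map_comp]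
  let k : (Over.map π).obj (Red.bc π T) ⟶ T := theta π (𝟙 _)
  have hk : FpqcDescLib.Covers k.left := by
    show FpqcDescLib.Covers (𝟙 (pullback T.hom π) ≫ pullback.fst T.hom π)
    rw [Category.id_comp]
    exact (FpqcDescLib.covers_of_isCovering hπ).pullback T.hom _ (pullback.snd T.hom π) (IsPullback.of_hasPullback T.hom π)
  have hkw : theta π w ≫ i' = k ≫ i ≫ u := by
    rw [← theta_comp_map, hw, ← theta_comp_map π _ (𝟙 _) (i ≫ u), Category.id_comp]
  obtain ⟨v, hkv, -⟩ := hk.over_desc (theta π w) fun Y x y e => by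
    rw [← cancel_mono i', Category.assoc, Category.assoc, hkw, reassoc_of% e]
  haveI := hk.over_epi
  have hv : v ≫ i' = i ≫ u := by rw [← cancel_epi k, reassoc_of% hkv, hkw]
  haveI : IsMonHom (v ≫ i') := hv.symm ▸ (inferInstance : IsMonHom (i ≫ u))
  have hvm : IsMonHom v :=
    { one_hom := by rw [← cancel_mono i', Category.assoc, IsMonHom.one_hom (v ≫ i'), IsMonHom.one_hom i']
      mul_hom := by
        rw [← cancel_mono i', Category.assoc, IsMonHom.mul_hom (v ≫ i'), Category.assoc, IsMonHom.mul_hom i',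
          ← Category.assoc (_ ⊗ₘ _), MonoidalCategory.tensorHom_comp_tensorHom] }
  haveI : IsIso ψ.hom.left := inferInstanceAs (IsIso ((Over.forget _).map ψ.hom))
  have hkl : k.left ≫ v.left = w.left ≫ pullback.fst T'.hom π := by
    rw [← Over.comp_left, hkv]; rfl
  haveI : Surjective w.left := by rw [Over.comp_left]; infer_instance
  haveI : Flat w.left := by rw [Over.comp_left]; infer_instance
  haveI : Surjective k.left := by
    show Surjective (𝟙 (pullback T.hom π) ≫ pullback.fst T.hom π)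
    infer_instance
  haveI : Flat k.left := by
    show Flat (𝟙 (pullback T.hom π) ≫ pullback.fst T.hom π)
    infer_instance
  haveI : Surjective (k.left ≫ v.left) := by rw [hkl]; infer_instance
  haveI : Flat (k.left ≫ v.left) := by rw [hkl]; infer_instance
  exact ⟨T, inferInstance, i, v, hmax, hvm, hv, Surjective.of_comp k.left v.left,
    GrpSchLib.RankOne.flat_of_comp k.left v.left⟩

end Groth.Agent.GModLib
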