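import Groth.Agent.GModLib.Cocompact
import Groth.Agent.GModLib.PtSubgroup
import Groth.Agent.GrpSchLib.AntiAffineHom
import Groth.Agent.GrpSchLib.LineVec
import Groth.Agent.H23.RigidGamma

/-!
# Functions invariant under a subgroup with proper quotient are constant
-/

set_option autoImplicit false
set_option backward.isDefEq.respectTransparency false
set_option backward.isDefEq.respectTransparency.types false

universe u

open CategoryTheory Limits AlgebraicGeometry MonoidalCategory CartesianMonoidalCategory MonObj GrpObj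

namespace Groth.Agent.GModLib

open GrpSchLib GrpSchLib.Kunneth GrpFieldLib GrpSchLib.AffineHopf

variable {k : Type u} [Field k] [IsAlgClosed k]

/-- Global functions on a connected reduced proper scheme are constant. -/
theorem bijective_appTop_of_proper {X : Scheme.{u}} (v : X ⟶ Spec (CommRingCat.of k)) [IsProper v] [IsReduced X]
    [ConnectedSpace X] : Function.Bijective v.appTop := by
  let ψ : CommRingCat.of k ⟶ Γ(X, ⊤) := (Scheme.ΓSpecIso _).inv ≫ v.appTop
  have hψ : Function.Bijective ψ.hom := by
    have : ψ.hom.IsIntegral := (RingHom.isIntegral_of_surjective _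
      (ConcreteCategory.bijective_of_isIso (Scheme.ΓSpecIso (CommRingCat.of k)).inv).2).trans _ _
      (isIntegral_appTop_of_universallyClosed v)
    algebraize [ψ.hom]
    have hne : Nonempty X := ConnectedSpace.toNonempty
    have : Nonempty (⊤ : X.Opens) := ⟨⟨hne.some, trivial⟩⟩
    have : Nontrivial Γ(X, ⊤) := inferInstance
    exact ⟨ψ.hom.injective, H23.RigidGamma.surjective_of_isIntegral H23.RigidGamma.eq_zero_or_one_of_idem⟩
  rw [show v.appTop = (Scheme.ΓSpecIso _).hom ≫ ψ by simp [ψ]]
  exact hψ.comp (ConcreteCategory.bijective_of_isIso (Scheme.ΓSpecIso (CommRingCat.of k)).hom)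

variable {G : Over (Spec (CommRingCat.of k))} [GrpObj G] [Smooth G.hom] [QuasiCompact G.hom] [ConnectedSpace G.left]
  {B : Over (Spec (CommRingCat.of k))} [GrpObj B] [Smooth B.hom] (iB : B ⟶ G)

/-- A morphism to an affine scheme invariant under a subgroup with proper quotient is constant. -/
theorem comp_eq_of_invariant (hco : Cocompact iB) {Y : Over (Spec (CommRingCat.of k))} [IsAffine Y.left] (f : G ⟶ Y)
    (h : ∀ (g : VecGrp.pt k k ⟶ G) (b : VecGrp.pt k k ⟶ B), (g * (b ≫ iB)) ≫ f = g ≫ f)
    (g g' : VecGrp.pt k k ⟶ G) : g ≫ f = g' ≫ f := by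
  obtain ⟨X, a, o, hX, hXp⟩ := hco
  haveI := hXp; haveI := hX.1
  let π := a.orbitMap o
  haveI : Flat π.left := hX.2.1
  haveI : Surjective π.left := hX.2.2.1
  haveI : QuasiCompact π.left := QuotTower.orbit_qc π
  haveI : Smooth (G ⊗ B).hom := inferInstanceAs (Smooth (pullback.fst G.hom B.hom ≫ G.hom))
  haveI : IsReduced (G ⊗ B).left := GrpSchLib.isReduced_of_smooth_field (G ⊗ B).hom
  have hinv : (G ◁ iB ≫ μ[G]) ≫ f = fst G B ≫ f := by
    refine LineGroups.ext_ev (AlgHom.ext fun y => eq_of_forall_point fun p => ?_)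
    have e : p ≫ (G ◁ iB ≫ μ[G]) = (p ≫ fst G B) * ((p ≫ snd G B) ≫ iB) := by
      rw [Hom.mul_def, ← lift_whiskerLeft_assoc, ← comp_lift_assoc, lift_fst_snd]
      simp
    rw [pullFn_ev, pullFn_ev, ← Category.assoc, e, h, Category.assoc]
  obtain ⟨u, hu⟩ := QuotTower.exists_desc π f fun {T} t t' e => by
    obtain ⟨j, rfl⟩ := (QuotTower.orbit_eq_iff iB X a o hX t t').mp e
    have e1 : lift t j ≫ (G ◁ iB ≫ μ[G]) = t * (j ≫ iB) := by
      rw [Hom.mul_def, lift_whiskerLeft_assoc]
    rw [← e1, Category.assoc, hinv, ← Category.assoc, lift_fst]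
  haveI : IrreducibleSpace G.left := GrpFieldLib.SmoothDense.irreducibleSpace_of_connected G.hom
  haveI : ConnectedSpace X.left := by
    haveI : Nonempty X.left := ⟨π.left (Classical.arbitrary G.left)⟩
    refine { toPreconnectedSpace := ⟨?_⟩, toNonempty := inferInstance }
    rw [← π.left.surjective.range_eq]
    exact isPreconnected_range π.left.continuous
  haveI : IsReduced X.left := by
    haveI : IsReduced G.left := GrpSchLib.isReduced_of_smooth_field G.hom
    haveI : ∀ x : X.left, _root_.IsReduced (X.left.presheaf.stalk x) := fun x => by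
      obtain ⟨y, rfl⟩ := π.left.surjective x
      have hfl : (π.left.stalkMap y).hom.Flat := Flat.stalkMap π.left y
      algebraize [(π.left.stalkMap y).hom]
      haveI : IsLocalHom (algebraMap (X.left.presheaf.stalk (π.left y)) (G.left.presheaf.stalk y)) :=
        inferInstanceAs (IsLocalHom (π.left.stalkMap y).hom)
      haveI : Module.FaithfullyFlat (X.left.presheaf.stalk (π.left y)) (G.left.presheaf.stalk y) :=
        Module.FaithfullyFlat.of_flat_of_isLocalHom
      exact isReduced_of_injective (algebraMap (X.left.presheaf.stalk (π.left y)) (G.left.presheaf.stalk y))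
        (FaithfulSMul.algebraMap_injective _ _)
    exact isReduced_of_isReduced_stalk X.left
  have hc := GrpSchLib.AntiAffine.eq_const_of_isAffine (bijective_appTop_of_proper X.hom) u o
  rw [← hu, hc]
  simp only [← Category.assoc]
  rw [toUnit_unique ((g ≫ π) ≫ toUnit X) ((g' ≫ π) ≫ toUnit X)]

/-- A function invariant under a subgroup with proper quotient is constant. -/
theorem pullFn_eq_of_invariant (hco : Cocompact iB) (f : Fn G)
    (h : ∀ (g : VecGrp.pt k k ⟶ G) (b : VecGrp.pt k k ⟶ B), pullFn (g * (b ≫ iB)) f = pullFn g f)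
    (g g' : VecGrp.pt k k ⟶ G) : pullFn g f = pullFn g' f := by
  let φ : Polynomial k →ₐ[k] Fn G := Polynomial.aeval f
  let F : G ⟶ sp k (Polynomial k) := LineVec.aff G ≫ spMap φ
  let e := LineGroups.spEquiv (k := k) (Polynomial k)
  have hFe : ∀ a, ev F (e a) = φ a := fun a => by
    show (G.left.toSpecΓ ≫ Spec.map (CommRingCat.ofHom φ.toRingHom)).appTop
      ((Scheme.ΓSpecIso (CommRingCat.of (Polynomial k))).inv a) = φ a
    rw [Scheme.Hom.comp_appTop, Scheme.toSpecΓ_appTop, ← CommRingCat.comp_apply, ← Category.assoc,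
      ← Scheme.ΓSpecIso_inv_naturality, Category.assoc, Iso.inv_hom_id, Category.comp_id]
    rfl
  have hF : ∀ p : VecGrp.pt k k ⟶ G, pullFn (p ≫ F) (e Polynomial.X) = pullFn p f := fun p => by
    rw [← pullFn_ev, hFe]
    simp [φ]
  haveI : IsAffine (sp k (Polynomial k)).left := isAffine_Spec _
  rw [← hF g, ← hF g', comp_eq_of_invariant iB hco F (fun g b => ?_) g g']
  refine LineGroups.ext_ev (AlgHom.ext fun y => ?_)
  obtain ⟨a, rfl⟩ := e.surjective y
  refine AlgHom.congr_fun (show (ev ((g * (b ≫ iB)) ≫ F)).comp e.toAlgHom = (ev (g ≫ F)).comp e.toAlgHom from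
    Polynomial.algHom_ext ?_) a
  exact (Scheme.ΓSpecIso (CommRingCat.of k)).commRingCatIsoToRingEquiv.injective ((hF _).trans ((h g b).trans (hF g).symm))

end Groth.Agent.GModLib
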