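import Groth.Agent.S11188
import Mathlib.Algebra.Module.Submodule.Union

/-!
# Semi-invariant functions of inverse weight for observable subgroups
-/

universe u

open CategoryTheory Limits AlgebraicGeometry MonoidalCategory CartesianMonoidalCategory MonObj GrpObj TensorProduct
open TopologicalSpace

set_option backward.isDefEq.respectTransparency false
set_option backward.isDefEq.respectTransparency.types false

namespace Groth.Agent.GModLib

open GrpSchLib GrpSchLib.Kunneth

section Topology

/-- The frontier of a constructible set is nowhere dense. -/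
theorem interior_frontier_of_isConstructible {X : Type*} [TopologicalSpace X] {s : Set X}
    (hs : Topology.IsConstructible s) : interior (frontier s) = ∅ := by
  induction hs using Topology.IsConstructible.empty_union_induction with
  | open_retrocompact U hU hU' =>
    rw [← frontier_compl]
    exact interior_frontier hU.isClosed_compl
  | union s _ t _ hs ht =>
    refine Set.subset_empty_iff.mp ?_
    refine (interior_mono ((frontier_union_subset s t).trans
      (Set.union_subset_union Set.inter_subset_left Set.inter_subset_right))).trans ?_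
    rw [interior_union_isClosed_of_interior_empty isClosed_frontier ht, hs]
  | compl s _ hs => rwa [frontier_compl]

end Topology

variable {k : Type u} [Field k] {G H : Over (Spec (CommRingCat.of k))} [GrpObj G] [GrpObj H]

/-- Translates of a function on the left. -/
theorem exists_translate (a : VecGrp.pt k k ⟶ G) (f : Fn G) :
    ∃ f' : Fn G, ∀ y : VecGrp.pt k k ⟶ G, pullFn y f' = pullFn (a * y) f := by
  let q : G ⟶ VecGrp.pt k k := Over.homMk G.hom (by
    show G.hom ≫ Spec.map (CommRingCat.ofHom (algebraMap k k)) = G.hom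
    rw [show CommRingCat.ofHom (algebraMap k k) = 𝟙 _ from rfl, Spec.map_id, Category.comp_id])
  refine ⟨ev ((q ≫ a) * 𝟙 G) f, fun y => ?_⟩
  rw [pullFn_ev, MonObj.comp_mul, ← Category.assoc, S11188.pt_end_eq (y ≫ q), Category.id_comp, Category.comp_id]

omit [GrpObj G] in
/-- The functions on an affine scheme of finite type form a finitely generated algebra. -/
theorem finiteType_fn [IsAffine G.left] [LocallyOfFiniteType G.hom] : Algebra.FiniteType k (Fn G) := by
  have h1 : G.hom.appTop.hom.FiniteType := HasRingHomProperty.appTop (P := @LocallyOfFiniteType) G.hom inferInstance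
  have h2 : (str G).FiniteType := RingHom.FiniteType.comp h1 (RingHom.FiniteType.of_surjective _
    (ConcreteCategory.bijective_of_isIso (Scheme.ΓSpecIso (CommRingCat.of k)).inv).2)
  exact h2

omit [GrpObj G] in
/-- Maximal ideals of functions are given by rational points. -/
theorem exists_point_of_isMaximal [IsAlgClosed k] [IsAffine G.left] [LocallyOfFiniteType G.hom] (n : Ideal (Fn G))
    [n.IsMaximal] : ∃ z : VecGrp.pt k k ⟶ G, ∀ f ∈ n, pullFn z f = 0 := by
  haveI := finiteType_fn (k := k) (G := G)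
  letI := Ideal.Quotient.field n
  haveI : Module.Finite k (Fn G ⧸ n) := finite_of_finite_type_of_isJacobsonRing k (Fn G ⧸ n)
  let e := AlgEquiv.ofBijective (Algebra.ofId k (Fn G ⧸ n))
    (IsAlgClosed.algebraMap_bijective_of_isIntegral (k := k) (K := Fn G ⧸ n))
  let φ : Fn G →ₐ[k] k := e.symm.toAlgHom.comp (Ideal.Quotient.mkₐ k n)
  have hφ : ∀ f ∈ n, φ f = 0 := fun f hf => by
    show e.symm (Ideal.Quotient.mk n f) = 0
    rw [Ideal.Quotient.eq_zero_iff_mem.mpr hf, map_zero]
  have hw : G.left.isoSpec.inv ≫ G.hom = Spec.map (CommRingCat.ofHom (str G)) := by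
    rw [show CommRingCat.ofHom (str G) = (Scheme.ΓSpecIso (CommRingCat.of k)).inv ≫ G.hom.appTop from rfl,
      Spec.map_comp, Iso.inv_comp_eq, Scheme.isoSpec_hom, ← Scheme.toSpecΓ_naturality_assoc,
      toSpecΓ_SpecMap_ΓSpecIso_inv, Category.comp_id]
  let z : VecGrp.pt k k ⟶ G := Over.homMk (Spec.map (CommRingCat.ofHom φ.toRingHom) ≫ G.left.isoSpec.inv) (by
    rw [Category.assoc, hw, ← Spec.map_comp]
    refine congrArg Spec.map (CommRingCat.hom_ext (RingHom.ext fun c => ?_))
    exact φ.commutes c)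
  refine ⟨z, fun f hf => ?_⟩
  have e1 : G.left.isoSpec.inv.appTop = (Scheme.ΓSpecIso Γ(G.left, ⊤)).inv := by
    rw [← cancel_mono G.left.isoSpec.hom.appTop, ← Scheme.Hom.comp_appTop, Iso.hom_inv_id]
    simp [Scheme.isoSpec_hom, Scheme.toSpecΓ_appTop]
  show (Scheme.ΓSpecIso (CommRingCat.of k)).hom
    ((Spec.map (CommRingCat.ofHom φ.toRingHom) ≫ G.left.isoSpec.inv).appTop f) = 0
  rw [Scheme.Hom.comp_appTop, CommRingCat.comp_apply, e1,
    ← CommRingCat.comp_apply (Spec.map (CommRingCat.ofHom φ.toRingHom)).appTop, Scheme.ΓSpecIso_naturality,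
    CommRingCat.comp_apply]
  erw [Iso.inv_hom_id_apply]
  exact hφ f hf

variable [IsAlgClosed k] [IsAffine G.left] [Smooth G.hom] [Smooth H.hom] (i : H ⟶ G) [IsMonHom i]
  [IsClosedImmersion i.left]

/-- Over an observable subgroup a weight with a nonzero semi-invariant function has an inverse. -/
theorem exists_inverse_weight (hobs : AGF.IsObservableIn k i) (c : (VecGrp.pt k k ⟶ H) → k) (f : Fn G)
    (hf : f ≠ 0) (hw : ∀ x h, pullFn (x * (h ≫ i)) f = c h * pullFn x f) :
    ∃ g : Fn G, pullFn (1 : VecGrp.pt k k ⟶ G) g = 1 ∧ ∀ x h, c h * pullFn (x * (h ≫ i)) g = pullFn x g := by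
  classical
  haveI : IsAffineHom G.hom := inferInstance
  haveI : IsReduced G.left := GrpSchLib.isReduced_of_smooth_field G.hom
  haveI : LocallyOfFiniteType G.hom := inferInstance
  haveI := finiteType_fn (k := k) (G := G)
  haveI : IsNoetherianRing (Fn G) := Algebra.FiniteType.isNoetherianRing k _
  obtain ⟨s, hs, hsep⟩ := ((S11188.result k G H i).out 0 2).mp hobs
  -- a semi-invariant function which is not a zero divisor
  let W : Submodule k (Fn G) :=
    { carrier := {f | ∀ x h, pullFn (x * (h ≫ i)) f = c h * pullFn x f}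
      add_mem' := fun {a b} ha hb x h => by rw [map_add, map_add, ha x h, hb x h, mul_add]
      zero_mem' := fun x h => by simp
      smul_mem' := fun r a ha x h => by rw [map_smul, map_smul, ha x h, smul_eq_mul, smul_eq_mul]; ring }
  haveI : Finite (minimalPrimes (Fn G)) := (minimalPrimes.finite_of_isNoetherianRing (Fn G)).to_subtype
  obtain ⟨f₀, hf₀⟩ := Submodule.exists_forall_notMem_of_forall_ne_top
    (fun P : minimalPrimes (Fn G) => ((P.1.restrictScalars k).comap W.subtype : Submodule k W)) fun P htop => by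
      haveI : P.1.IsPrime := P.2.1.1
      obtain ⟨n, hn, hPn⟩ := P.1.exists_le_maximal (Ideal.IsPrime.ne_top ‹_›)
      haveI := hn
      obtain ⟨a, ha⟩ := exists_point_of_isMaximal (G := G) n
      obtain ⟨x₀, hx₀⟩ : ∃ x : VecGrp.pt k k ⟶ G, pullFn x f ≠ 0 := by
        by_contra hall
        push_neg at hall
        exact hf (eq_of_forall_point fun p => (hall p).trans (map_zero (pullFn p)).symm)
      obtain ⟨f', hf'⟩ := exists_translate (x₀ * a⁻¹) f
      have hmem : f' ∈ W := fun x h => by rw [hf', hf', ← _root_.mul_assoc, hw]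
      have : (⟨f', hmem⟩ : W) ∈ ((P.1.restrictScalars k).comap W.subtype : Submodule k W) :=
        htop ▸ Submodule.mem_top
      refine hx₀ ?_
      rw [show x₀ = x₀ * a⁻¹ * a from (inv_mul_cancel_right x₀ a).symm, ← hf']
      exact ha _ (hPn this)
  have hw₀ : ∀ x h, pullFn (x * (h ≫ i)) f₀.1 = c h * pullFn x f₀.1 := f₀.2
  have hreg : ∀ r : Fn G, f₀.1 * r = 0 → r = 0 := by
    intro r hr
    refine IsReduced.eq_zero r ?_
    rw [← mem_nilradical, nilradical, ← Ideal.sInf_minimalPrimes, Ideal.mem_sInf]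
    intro P hP
    refine (hP.1.1.mem_or_mem (x := f₀.1) (y := r) ?_).resolve_left fun h => hf₀ ⟨P, hP⟩ h
    rw [hr]
    exact P.zero_mem
  -- the invariant functions given by the separating set
  let R₀ := Algebra.adjoin k (s : Set (Fn G))
  have hR : ∀ p ∈ R₀, ∀ x h, pullFn (x * (h ≫ i)) p = pullFn x p := fun p hp x h => by
    induction hp using Algebra.adjoin_induction with
    | mem p hp => exact (isRTransInv_iff_points i p).mp (hs p hp) x h
    | algebraMap r => rw [AlgHom.commutes, AlgHom.commutes]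
    | add a b _ _ ha hb => rw [map_add, map_add, ha, hb]
    | mul a b _ _ ha hb => rw [map_mul, map_mul, ha, hb]
  let J : Ideal (Fn G) := (Ideal.span {f₀.1}).radical
  obtain ⟨p, hp, hpJ, hp0⟩ : ∃ p : Fn G, p ∈ R₀ ∧ p ∈ J ∧ p ≠ 0 := by
    by_contra hall
    push_neg at hall
    let φ : R₀ →+* Fn G ⧸ J := (Ideal.Quotient.mk J).comp R₀.val.toRingHom
    haveI : Algebra.FiniteType k R₀ := (Subalgebra.fg_iff_finiteType _).mp (Subalgebra.fg_adjoin_finset s)
    haveI : IsNoetherianRing R₀ := Algebra.FiniteType.isNoetherianRing k _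
    letI := φ.toAlgebra
    haveI : IsScalarTower k R₀ (Fn G ⧸ J) := IsScalarTower.of_algebraMap_eq fun r => rfl
    haveI : Algebra.FiniteType R₀ (Fn G ⧸ J) := Algebra.FiniteType.of_restrictScalars_finiteType k R₀ _
    have hfp' : (algebraMap R₀ (Fn G ⧸ J)).FinitePresentation :=
      RingHom.finitePresentation_algebraMap.mpr (Algebra.FinitePresentation.of_finiteType.mp inferInstance)
    have hfp : φ.FinitePresentation := hfp'
    have hdense : DenseRange (PrimeSpectrum.comap φ) := by
      rw [PrimeSpectrum.denseRange_comap_iff_ker_le_nilRadical]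
      intro r hr
      have : r = 0 := Subtype.ext (hall r.1 r.2 (Ideal.Quotient.eq_zero_iff_mem.mp hr))
      rw [this]
      exact Ideal.zero_mem _
    have hint : (interior (Set.range (PrimeSpectrum.comap φ))).Nonempty := by
      rw [Set.nonempty_iff_ne_empty]
      intro he
      have hfr := interior_frontier_of_isConstructible (PrimeSpectrum.isConstructible_range_comap hfp)
      rw [frontier, hdense.closure_range, he, Set.diff_empty, interior_univ] at hfr
      haveI : Nontrivial R₀ := by
        refine ⟨⟨0, 1, fun h => ?_⟩⟩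
        have h' : (0 : k) = 1 := by simpa using congrArg (fun r : R₀ => pullFn (1 : VecGrp.pt k k ⟶ G) r.1) h
        exact zero_ne_one h'
      exact (Set.univ_nonempty.ne_empty) hfr
    obtain ⟨v, hv⟩ := hint
    obtain ⟨_, ⟨r, rfl⟩, hvr, hrsub⟩ :=
      PrimeSpectrum.isTopologicalBasis_basic_opens.exists_subset_of_mem_open hv isOpen_interior
    have hr0 : r.1 ≠ 0 := fun h => by
      have : r = 0 := Subtype.ext h
      rw [this] at hvr
      exact hvr (Ideal.zero_mem _)
    obtain ⟨x, hx⟩ : ∃ x : VecGrp.pt k k ⟶ G, pullFn x (f₀.1 * r.1) ≠ 0 := by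
      by_contra h
      push_neg at h
      exact hr0 (hreg _ (eq_of_forall_point fun p => (h p).trans (map_zero (pullFn p)).symm))
    rw [map_mul] at hx
    let ψ : R₀ →ₐ[k] k := (pullFn x).comp R₀.val
    let m : PrimeSpectrum R₀ := ⟨RingHom.ker ψ, RingHom.ker_isPrime _⟩
    have hmmax : m.asIdeal.IsMaximal := RingHom.ker_isMaximal_of_surjective ψ fun a => ⟨algebraMap k R₀ a, ψ.commutes a⟩
    obtain ⟨q, hq⟩ : m ∈ Set.range (PrimeSpectrum.comap φ) :=
      interior_subset (hrsub (show r ∉ m.asIdeal from (right_ne_zero_of_mul hx : pullFn x r.1 ≠ 0)))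
    let n₀ : Ideal (Fn G) := q.asIdeal.comap (Ideal.Quotient.mk J)
    obtain ⟨n, hn, hle⟩ := n₀.exists_le_maximal (Ideal.IsPrime.ne_top (Ideal.IsPrime.comap _))
    haveI := hn
    obtain ⟨z, hz⟩ := exists_point_of_isMaximal (G := G) n
    have hf₀z : pullFn z f₀.1 = 0 := by
      refine hz _ (hle ?_)
      show Ideal.Quotient.mk J f₀.1 ∈ q.asIdeal
      rw [Ideal.Quotient.eq_zero_iff_mem.mpr (Ideal.le_radical (Ideal.mem_span_singleton_self _))]
      exact q.asIdeal.zero_mem
    obtain ⟨h, hh⟩ := hsep z x fun f hfs => by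
      apply (Scheme.ΓSpecIso (CommRingCat.of k)).commRingCatIsoToRingEquiv.injective
      show pullFn z f = pullFn x f
      let d : R₀ := ⟨f, Algebra.subset_adjoin hfs⟩ - algebraMap k R₀ (pullFn x f)
      have hd : d ∈ m.asIdeal := by
        show ψ d = 0
        rw [map_sub, AlgHom.commutes, sub_eq_zero]
        rfl
      rw [← hq] at hd
      have h0 := hz _ (hle (show d.1 ∈ n₀ from hd))
      change pullFn z (f - algebraMap k (Fn G) (pullFn x f)) = 0 at h0
      rwa [map_sub, AlgHom.commutes, sub_eq_zero] at h0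
    refine left_ne_zero_of_mul hx ?_
    rw [hh, hw₀, hf₀z, MulZeroClass.mul_zero]
  obtain ⟨N, g₁, hg₁⟩ : ∃ (N : ℕ) (g₁ : Fn G), p ^ N = f₀.1 * g₁ := by
    obtain ⟨N, hN⟩ := hpJ
    obtain ⟨g₁, hg₁⟩ := Ideal.mem_span_singleton'.mp hN
    exact ⟨N, g₁, by rw [← hg₁, _root_.mul_comm]⟩
  let P : Fn G := p ^ N
  let g₂ : Fn G := P * g₁
  have hg₂ : ∀ x h, c h * pullFn (x * (h ≫ i)) g₂ = pullFn x g₂ := by
    intro x h
    have hP : pullFn (x * (h ≫ i)) P = pullFn x P := by simp only [P, map_pow, hR p hp]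
    have hPe : ∀ y : VecGrp.pt k k ⟶ G, pullFn y P = pullFn y f₀.1 * pullFn y g₁ := fun y => by
      simp only [P]; rw [hg₁, map_mul]
    by_cases h0 : pullFn x f₀.1 = 0
    · have hx0 : pullFn x P = 0 := by rw [hPe, h0, MulZeroClass.zero_mul]
      simp only [g₂, map_mul, hP, hx0, MulZeroClass.zero_mul, MulZeroClass.mul_zero]
    · have e := hPe (x * (h ≫ i))
      rw [hP, hPe x, hw₀] at e
      have e' : c h * pullFn (x * (h ≫ i)) g₁ = pullFn x g₁ := mul_left_cancel₀ h0 (by linear_combination -e)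
      simp only [g₂, map_mul, hP]
      linear_combination (pullFn x P) * e'
  have hP0 : P ≠ 0 := fun h => hp0 (IsReduced.eq_zero p ⟨N, h⟩)
  obtain ⟨a, ha⟩ : ∃ a : VecGrp.pt k k ⟶ G, pullFn a g₂ ≠ 0 := by
    obtain ⟨a, ha⟩ : ∃ a : VecGrp.pt k k ⟶ G, pullFn a P ≠ 0 := by
      by_contra hall
      push_neg at hall
      exact hP0 (eq_of_forall_point fun p => (hall p).trans (map_zero (pullFn p)).symm)
    refine ⟨a, ?_⟩
    have hPa : pullFn a P = pullFn a f₀.1 * pullFn a g₁ := by simp only [P]; rw [hg₁, map_mul]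
    simp only [g₂, map_mul]
    exact mul_ne_zero ha fun h => ha (by rw [hPa, h, MulZeroClass.mul_zero])
  obtain ⟨g₃, hg₃⟩ := exists_translate a g₂
  refine ⟨(pullFn a g₂)⁻¹ • g₃, ?_, fun x h => ?_⟩
  · rw [map_smul, hg₃, _root_.mul_one, smul_eq_mul, inv_mul_cancel₀ ha]
  · rw [map_smul, map_smul, hg₃, hg₃, ← _root_.mul_assoc a, smul_eq_mul, smul_eq_mul, mul_left_comm, hg₂]

omit [GrpObj G] [GrpObj H] [IsAffine G.left] [Smooth G.hom] in
/-- Natural families on a smooth scheme which agree on rational points agree. -/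
theorem eq_fam_of_points (F F' : ∀ (B : Type u) [CommRing B] [Algebra k B], (VecGrp.pt k B ⟶ H) → B)
    (hF : ∀ {B B' : Type u} [CommRing B] [Algebra k B] [CommRing B'] [Algebra k B'] (φ : B →ₐ[k] B') (g : VecGrp.pt k B ⟶ H),
      φ (F B g) = F B' (VecGrp.ptMap φ ≫ g))
    (hF' : ∀ {B B' : Type u} [CommRing B] [Algebra k B] [CommRing B'] [Algebra k B'] (φ : B →ₐ[k] B') (g : VecGrp.pt k B ⟶ H),
      φ (F' B g) = F' B' (VecGrp.ptMap φ ≫ g))
    (h : ∀ g : VecGrp.pt k k ⟶ H, F k g = F' k g) (B : Type u) [CommRing B] [Algebra k B] (g : VecGrp.pt k B ⟶ H) :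
    F B g = F' B g := by
  haveI : IsReduced H.left := GrpSchLib.isReduced_of_smooth_field H.hom
  obtain ⟨s, hs⟩ := exists_fn F hF
  obtain ⟨s', hs'⟩ := exists_fn F' hF'
  have : s = s' := eq_of_forall_point fun p => by rw [← hs, ← hs', h]
  rw [hs, hs', this]

end Groth.Agent.GModLib
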