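import Groth.Agent.GModLib.SolvableEigen
import Groth.Agent.GModLib.InverseWeight
import Groth.Agent.GrpSchLib.LineVec
import Groth.Agent.GrpSchLib.HomClosedRange
import Groth.Agent.GrpSchLib.CharZeroPts
import Groth.Agent.TorusBilin.Split
import Groth.Agent.GModLib.TorusBasic

/-!
# Characters of a connected group and the torus they define
-/

set_option autoImplicit false
set_option backward.isDefEq.respectTransparency false
set_option backward.isDefEq.respectTransparency.types false

universe u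

open CategoryTheory Limits AlgebraicGeometry MonoidalCategory CartesianMonoidalCategory MonObj GrpObj WithConv

namespace Groth.Agent.GModLib

open GrpSchLib GrpSchLib.Kunneth GrpSchLib.AffineHopf TorusBilin

variable {k : Type u} [Field k] {G : Over (Spec (CommRingCat.of k))} [GrpObj G]

/-- A function multiplicative on the rational points. -/
def IsChar (χ : Fn G) : Prop :=
  (∀ g h : VecGrp.pt k k ⟶ G, pullFn (g * h) χ = pullFn g χ * pullFn h χ) ∧ pullFn (1 : VecGrp.pt k k ⟶ G) χ = 1

theorem isChar_one : IsChar (1 : Fn G) :=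
  ⟨fun g h => by rw [map_one, map_one, map_one, _root_.mul_one], map_one _⟩

theorem IsChar.mul {a b : Fn G} (ha : IsChar a) (hb : IsChar b) : IsChar (a * b) :=
  ⟨fun g h => by rw [map_mul, map_mul, map_mul, ha.1, hb.1]; ring, by rw [map_mul, ha.2, hb.2, _root_.mul_one]⟩

theorem IsChar.unit_inv {u : (Fn G)ˣ} (hu : IsChar (u : Fn G)) : IsChar (↑u⁻¹ : Fn G) := by
  have e : ∀ g : VecGrp.pt k k ⟶ G, pullFn g (↑u⁻¹ : Fn G) = (pullFn g (u : Fn G))⁻¹ := fun g =>
    eq_inv_of_mul_eq_one_left (by rw [← map_mul, Units.inv_mul, map_one])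
  exact ⟨fun g h => by rw [e, e, e, hu.1, _root_.mul_inv], by rw [e, hu.2, inv_one]⟩

variable [IsAlgClosed k]

theorem IsChar.isUnit [IsAffine G.left] [LocallyOfFiniteType G.hom] {χ : Fn G} (hχ : IsChar χ) : IsUnit χ := by
  by_contra h
  obtain ⟨n, hn, hmem⟩ := exists_max_ideal_of_mem_nonunits (mem_nonunits_iff.mpr h)
  haveI := hn
  obtain ⟨z, hz⟩ := exists_point_of_isMaximal n
  have := hχ.2
  rw [← mul_inv_cancel z, hχ.1, hz χ hmem, MulZeroClass.zero_mul] at this
  exact zero_ne_one this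

section Tor

variable {r : ℕ}

/-- The value of a monomial at a point of the split torus. -/
noncomputable def val (p : VecGrp.pt k k ⟶ Tor k r) (m : Multiplicative (Fin r → ℤ)) : k :=
  pullFn p (LineVec.toFn (MonoidAlgebra.single m (1 : k)))

theorem ext_val {p p' : VecGrp.pt k k ⟶ Tor k r} (h : ∀ m, val p m = val p' m) : p = p' := by
  refine LineVec.fn_injective (MonoidAlgebra.algHom_ext (fun m => ?_) (by ext))
  exact (Scheme.ΓSpecIso (CommRingCat.of k)).commRingCatIsoToRingEquiv.injective (h m)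

theorem val_mul (p p' : VecGrp.pt k k ⟶ Tor k r) (m : Multiplicative (Fin r → ℤ)) :
    val (p * p') m = val p m * val p' m := by
  show (Scheme.ΓSpecIso (CommRingCat.of k)).hom (LineVec.fn (p * p') (MonoidAlgebra.single m (1 : k))) = _
  rw [LineVec.fn_mul, AlgHom.convMul_apply, MonoidAlgebra.comul_single]
  simp only [CommSemiring.comul_apply, TensorProduct.map_tmul, MonoidAlgebra.lsingle_apply,
    Algebra.TensorProduct.lmul'_apply_tmul, map_mul]
  rw [Algebra.TensorProduct.lift_tmul, map_mul]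
  rfl

theorem val_one (m : Multiplicative (Fin r → ℤ)) : val (1 : VecGrp.pt k k ⟶ Tor k r) m = 1 := by
  show (Scheme.ΓSpecIso (CommRingCat.of k)).hom (LineVec.fn (1 : VecGrp.pt k k ⟶ Tor k r) (MonoidAlgebra.single m (1 : k))) = _
  rw [LineVec.fn_one]
  show (Scheme.ΓSpecIso (CommRingCat.of k)).hom ((1 : WithConv (Coord k r →ₐ[k] Fn (VecGrp.pt k k))) (MonoidAlgebra.single m (1 : k))) = _
  rw [AlgHom.convOne_apply, MonoidAlgebra.counit_single]
  simp

theorem val_pow (p : VecGrp.pt k k ⟶ Tor k r) (n : ℕ) (m : Multiplicative (Fin r → ℤ)) :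
    val (p ^ n) m = val p m ^ n := by
  induction n with
  | zero => rw [pow_zero, pow_zero, val_one]
  | succ n ih => rw [pow_succ, pow_succ, val_mul, ih]

theorem val_spMap (f : Coord k r →ₐ[k] k) (m : Multiplicative (Fin r → ℤ)) :
    val (spMap f : sp k k ⟶ Tor k r) m = f (MonoidAlgebra.single m (1 : k)) := by
  show (Scheme.ΓSpecIso (CommRingCat.of k)).hom ((Spec.map (CommRingCat.ofHom f.toRingHom)).appTop
    ((Scheme.ΓSpecIso (CommRingCat.of (Coord k r))).inv (MonoidAlgebra.single m (1 : k)))) = _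
  rw [← CommRingCat.comp_apply, Scheme.ΓSpecIso_naturality, CommRingCat.comp_apply]
  erw [Iso.inv_hom_id_apply]
  rfl

/-- A closed set containing the torsion points is everything. -/
theorem tor_eq_univ {S : Set (Tor k r).left} (hS : IsClosed S)
    (h : ∀ p : VecGrp.pt k k ⟶ Tor k r, (∃ n, 0 < n ∧ p ^ n = 1) → p.left (IsLocalRing.closedPoint k) ∈ S) :
    S = Set.univ := by
  obtain ⟨I, rfl⟩ := (PrimeSpectrum.isClosed_iff_zeroLocus_ideal (R := Coord k r) S).mp hS
  refine (PrimeSpectrum.zeroLocus_bot (R := Coord k r)) ▸ congrArg (fun J : Ideal (Coord k r) => PrimeSpectrum.zeroLocus (J : Set (Coord k r))) ?_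
  refine eq_bot_iff.mpr fun z hz => (Submodule.mem_bot _).mpr (eq_zero_of_torsion z fun x hx => ?_)
  obtain ⟨n, hn, hxn⟩ := hx
  have hp : (spMap (charAlg x) : sp k k ⟶ Tor k r) ^ n = 1 := by
    show (pts k r x) ^ n = 1
    rw [← map_pow, hxn, map_one]
  have h1 := h (spMap (charAlg x)) ⟨n, hn, hp⟩
  have h2 : z ∈ (PrimeSpectrum.comap (charAlg x).toRingHom (IsLocalRing.closedPoint k)).asIdeal :=
    (PrimeSpectrum.mem_zeroLocus _ _).mp h1 hz
  rw [PrimeSpectrum.comap_asIdeal, Ideal.mem_comap] at h2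
  by_contra hne
  exact (IsLocalRing.mem_maximalIdeal _).mp h2 (Ne.isUnit hne)

end Tor

/-- The torus defined by finitely many characters of a connected group. -/
theorem exists_torus_map [IsAffine G.left] [Smooth G.hom] [ConnectedSpace G.left] {m : ℕ} (χ : Fin m → Fn G)
    (hχ : ∀ i, IsChar (χ i)) :
    ∃ (r : ℕ) (q : G ⟶ Tor k r), IsMonHom q ∧ Surjective q.left ∧
      (∀ g : VecGrp.pt k k ⟶ G, g ≫ q = 1 ↔ ∀ i, pullFn g (χ i) = 1) ∧
      (Algebra.adjoin k (Set.range χ) = ⊤ → IsIso q) := by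
  classical
  haveI : IsReduced G.left := GrpSchLib.isReduced_of_smooth_field G.hom
  let u : Fin m → (Fn G)ˣ := fun i => (hχ i).isUnit.unit
  let H := Subgroup.closure (Set.range u)
  have hH : ∀ x ∈ H, IsChar (x : Fn G) := fun x hx => by
    induction hx using Subgroup.closure_induction with
    | mem x hx => obtain ⟨i, rfl⟩ := hx; exact hχ i
    | one => exact isChar_one
    | mul x y _ _ hx hy => exact hx.mul hy
    | inv x _ hx => exact hx.unit_inv
  haveI : Group.FG H := by
    rw [Group.fg_iff_subgroup_fg]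
    exact (Subgroup.fg_iff _).mpr ⟨Set.range u, rfl, Set.finite_range u⟩
  have htf : ∀ x : H, IsOfFinOrder x → x = 1 := by
    intro x hx
    obtain ⟨n, hn, hxn⟩ := isOfFinOrder_iff_pow_eq_one.mp hx
    have e : ((x.1 : Fn G)) ^ n = 1 := by
      rw [← Units.val_pow_eq_pow_val, ← SubmonoidClass.coe_pow, hxn]; rfl
    have hv : ∀ g : VecGrp.pt k k ⟶ G, pullFn g (x.1 : Fn G) = 1 := fun g =>
      ((regSystem (G := G)).conn (fun g => pullFn g (x.1 : Fn G)) ⟨_, fun _ => rfl⟩
        ((Polynomial.nthRootsFinset n (1 : k)).finite_toSet.subset (by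
          rintro _ ⟨g, rfl⟩
          refine Finset.mem_coe.mpr ((Polynomial.mem_nthRootsFinset hn _).mpr ?_)
          rw [← map_pow, e, map_one])) g).trans (hH _ x.2).2
    exact Subtype.ext (Units.ext (eq_of_forall_point fun g => (hv g).trans (map_one _).symm))
  obtain ⟨r, ⟨e⟩⟩ := TorusBasic.exists_free_model H htf
  let ψ : Multiplicative (Fin r → ℤ) →* Fn G := (Units.coeHom (Fn G)).comp (H.subtype.comp e.symm.toMonoidHom)
  have hψ : ∀ a, IsChar (ψ a) := fun a => hH _ (e.symm a).2
  let Φ : Coord k r →ₐ[k] Fn G := MonoidAlgebra.lift k (Fn G) (Multiplicative (Fin r → ℤ)) ψ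
  have hΦs : ∀ a, Φ (MonoidAlgebra.single a (1 : k)) = ψ a := fun a => by
    rw [MonoidAlgebra.lift_single, _root_.one_smul]
  -- distinct monomials give distinct characters
  let c : Multiplicative (Fin r → ℤ) → ((VecGrp.pt k k ⟶ G) →* k) := fun a =>
    { toFun := fun g => pullFn g (ψ a), map_one' := (hψ a).2, map_mul' := (hψ a).1 }
  have hc : Function.Injective c := fun a b hab => by
    refine e.symm.injective (Subtype.ext (Units.ext (eq_of_forall_point fun g => ?_)))
    exact DFunLike.congr_fun hab g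
  have hli : LinearIndependent k fun a => (c a : (VecGrp.pt k k ⟶ G) → k) :=
    (linearIndependent_monoidHom (VecGrp.pt k k ⟶ G) k).comp c hc
  have hΦ : Function.Injective Φ := by
    rw [injective_iff_map_eq_zero]
    intro z hz
    refine MonoidAlgebra.coeff_inj.mp ((linearIndependent_iff.mp hli) z.coeff ?_)
    funext g
    have h0 := congrArg (pullFn g) hz
    rw [map_zero, MonoidAlgebra.lift_apply] at h0
    rw [Pi.zero_apply, ← h0, Finsupp.linearCombination_apply]
    simp only [Finsupp.sum, map_sum, map_smul, Finset.sum_apply, Pi.smul_apply]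
    rfl
  let q : G ⟶ Tor k r := LineVec.aff G ≫ spMap Φ
  have hq : ∀ (g : VecGrp.pt k k ⟶ G) a, val (g ≫ q) a = pullFn g (ψ a) := fun g a => by
    show pullFn (g ≫ q) (LineVec.toFn _) = _
    rw [← pullFn_ev, show ev q (LineVec.toFn (MonoidAlgebra.single a (1 : k))) = LineVec.fn q (MonoidAlgebra.single a (1 : k)) from rfl,
      show LineVec.fn q = Φ from LineVec.fn_aff Φ, hΦs]
  have hmul : ∀ g h : VecGrp.pt k k ⟶ G, (g * h) ≫ q = (g ≫ q) * (h ≫ q) := fun g h =>
    ext_val fun a => by rw [val_mul, hq, hq, hq, (hψ a).1]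
  haveI : IsMonHom q := by
    haveI := GrpSchLib.AntiAffine.isSeparated_grp (Tor k r)
    haveI : Smooth (G ⊗ G).hom := inferInstanceAs (Smooth (pullback.fst G.hom G.hom ≫ G.hom))
    haveI : IsReduced (G ⊗ G).left := GrpSchLib.isReduced_of_smooth_field (G ⊗ G).hom
    have hm : μ[G] ≫ q = (q ⊗ₘ q) ≫ μ[Tor k r] := by
      refine LineVec.fn_injective (AlgHom.ext fun z => eq_of_forall_point fun p => ?_)
      have e1 : p ≫ μ[G] ≫ q = p ≫ (q ⊗ₘ q) ≫ μ[Tor k r] := by
        rw [show μ[G] = fst G G * snd G G by rw [Hom.mul_def, lift_fst_snd, Category.id_comp],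
          show μ[Tor k r] = fst _ _ * snd _ _ by rw [Hom.mul_def, lift_fst_snd, Category.id_comp]]
        rw [MonObj.comp_mul (q ⊗ₘ q), tensorHom_fst, tensorHom_snd, MonObj.comp_mul, ← Category.assoc p _ q,
          MonObj.comp_mul, ← Category.assoc, ← Category.assoc]
        exact hmul _ _
      show pullFn p (ev (μ[G] ≫ q) (LineVec.toFn z)) = pullFn p (ev ((q ⊗ₘ q) ≫ μ[Tor k r]) (LineVec.toFn z))
      rw [pullFn_ev, pullFn_ev, e1]
    refine ⟨?_, hm⟩
    have h1 : ((1 : VecGrp.pt k k ⟶ G)) ≫ q = 1 := ext_val fun a => by rw [hq, val_one, (hψ a).2]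
    have h2 := congrArg (fun x => toPt (𝟙_ (Over (Spec (CommRingCat.of k)))) ≫ x) h1
    simp only [← Category.assoc, MonObj.comp_one] at h2
    rwa [MonObj.one_eq_one, MonObj.one_eq_one]
  haveI : LocallyOfFiniteType (Tor k r).hom := by
    haveI : Algebra.FiniteType k (Coord k r) := inferInstance
    exact (HasRingHomProperty.Spec_iff (P := @LocallyOfFiniteType)).mpr (RingHom.finiteType_algebraMap.mpr ‹_›)
  haveI : QuasiCompact q.left := inferInstance
  haveI : IsIso (LineVec.aff G).left := inferInstanceAs (IsIso G.left.toSpecΓ)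
  refine ⟨r, q, inferInstance, ⟨fun p => ?_⟩, fun g => ⟨fun h i => ?_, fun h => ext_val fun a => ?_⟩, fun hgen => ?_⟩
  · have hcl := GrpSchLib.HomClosedRange.isClosed_range q
    have hd : DenseRange (PrimeSpectrum.comap Φ.toRingHom) :=
      (PrimeSpectrum.denseRange_comap_iff_ker_le_nilRadical (f := Φ.toRingHom)).mpr (by
        rw [(RingHom.injective_iff_ker_eq_bot Φ.toRingHom).mp hΦ]; exact bot_le)
    have hr : Set.range q.left = Set.range (PrimeSpectrum.comap Φ.toRingHom) := by
      show Set.range ((LineVec.aff G).left ≫ (spMap Φ).left) = _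
      rw [Scheme.Hom.comp_base, TopCat.coe_comp, Set.range_comp, (LineVec.aff G).left.surjective.range_eq, Set.image_univ]
      rfl
    have h3 : DenseRange q.left := by
      unfold DenseRange
      rw [hr]
      exact hd
    show p ∈ Set.range q.left
    rw [← hcl.closure_eq, h3.closure_range]
    trivial
  · have := hq g (e ⟨u i, Subgroup.subset_closure ⟨i, rfl⟩⟩)
    rw [h, val_one] at this
    refine Eq.trans ?_ this.symm
    simp [ψ, u]
  · rw [hq, val_one]
    have : ∀ x ∈ H, pullFn g (x : Fn G) = 1 := fun x hx => by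
      induction hx using Subgroup.closure_induction with
      | mem x hx => obtain ⟨i, rfl⟩ := hx; exact h i
      | one => exact map_one _
      | mul x y _ _ hx hy => rw [Units.val_mul, map_mul, hx, hy, _root_.mul_one]
      | inv x _ hx =>
        have h1 : pullFn g (↑x⁻¹ : Fn G) * pullFn g (x : Fn G) = 1 := by rw [← map_mul, Units.inv_mul, map_one]
        rwa [hx, _root_.mul_one] at h1
    exact this _ (e.symm a).2
  · have hs : Function.Surjective Φ := fun f => by
      have hle : Algebra.adjoin k (Set.range χ) ≤ Φ.range := Algebra.adjoin_le (by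
        rintro _ ⟨i, rfl⟩
        refine ⟨MonoidAlgebra.single (e ⟨u i, Subgroup.subset_closure ⟨i, rfl⟩⟩) 1, ?_⟩
        refine (hΦs _).trans ?_
        simp [ψ, u])
      rw [hgen] at hle
      exact hle (Algebra.mem_top (x := f))
    haveI : IsIso (CommRingCat.ofHom Φ.toRingHom) :=
      (ConcreteCategory.isIso_iff_bijective _).mpr ⟨hΦ, hs⟩
    haveI : IsIso (spMap Φ).left := inferInstanceAs (IsIso (Spec.map (CommRingCat.ofHom Φ.toRingHom)))
    haveI : IsIso q.left := by
      show IsIso ((LineVec.aff G).left ≫ (spMap Φ).left)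
      infer_instance
    haveI : IsIso ((Over.forget _).map q) := ‹IsIso q.left›
    exact isIso_of_reflects_iso q (Over.forget _)

/-- A group isomorphic to a split torus is a torus. -/
theorem isTorus_of_iso_tor {r : ℕ} (q : G ⟶ Tor k r) [IsMonHom q] [IsIso q] : Red.IsTorus G := by
  obtain ⟨e⟩ := nonempty_DS_iso k (Fin r → ℤ)
  haveI : IsMonHom (asIso q).hom := ‹IsMonHom q›
  exact TorusBasic.isTorus_of_split (r := r) ⟨(Grp.mkIso (asIso q)) ≪≫ e⟩

/-- The functions on a torus are generated by finitely many characters. -/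
theorem exists_chars_of_isTorus {T : Over (Spec (CommRingCat.of k))} [GrpObj T] (hT : Red.IsTorus T) :
    ∃ (m : ℕ) (χ : Fin m → Fn T), (∀ i, IsChar (χ i)) ∧ Algebra.adjoin k (Set.range χ) = ⊤ := by
  classical
  obtain ⟨h1, h2, h3, h4, h5⟩ := TorusBasic.torus_props hT
  haveI := h2
  haveI : LocallyOfFiniteType T.hom := inferInstance
  obtain ⟨C, _, _, ⟨eC⟩⟩ := exists_hopf T
  have hspan := TorusBasic.span_grouplike hT eC
  let e' : sp k C ≅ T := (Grp.forget _).mapIso eC
  haveI : IsMonHom e'.inv := eC.inv.hom.isMonHom_hom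
  let F : C →ₐ[k] Fn T := LineVec.fn e'.inv
  have hF : Function.Surjective F := fun f => by
    obtain ⟨c, hc⟩ := (LineVec.toFn (k := k) (A := C)).surjective (ev e'.hom f)
    refine ⟨c, ?_⟩
    show ev e'.inv (LineVec.toFn c) = f
    rw [hc, ev_ev, e'.inv_hom_id, ev_id]
  have hchar : ∀ c : C, IsGroupLikeElem k c → IsChar (F c) := fun c hc => by
    have e : ∀ g : VecGrp.pt k k ⟶ T, pullFn g (F c) = (Scheme.ΓSpecIso (CommRingCat.of k)).hom (LineVec.fn (g ≫ e'.inv) c) := fun g => by
      show pullFn g (ev e'.inv (LineVec.toFn c)) = _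
      rw [pullFn_ev]
      rfl
    refine ⟨fun g h => ?_, ?_⟩
    · rw [e, e, e, MonObj.mul_comp, LineVec.fn_mul, AlgHom.convMul_apply, hc.comul_eq_tmul_self]
      simp [map_mul]
    · rw [e, MonObj.one_comp, LineVec.fn_one]
      show (Scheme.ΓSpecIso (CommRingCat.of k)).hom ((1 : WithConv (C →ₐ[k] Fn (VecGrp.pt k k))) c) = _
      rw [AlgHom.convOne_apply, hc.counit_eq_one]
      simp
  obtain ⟨s, hs⟩ := (finiteType_fn (k := k) (G := T)).out
  have hmem : ∀ f : Fn T, f ∈ Submodule.span k (F '' {c : C | IsGroupLikeElem k c}) := fun f => by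
    obtain ⟨c, rfl⟩ := hF f
    rw [← AlgHom.toLinearMap_apply F, ← AlgHom.coe_toLinearMap, Submodule.span_image, hspan]
    exact Submodule.mem_map_of_mem Submodule.mem_top
  choose t ht using fun f => Submodule.mem_span_finite_of_mem_span (hmem f)
  let U := s.biUnion t
  have hU : ∀ x ∈ U, IsChar x := fun x hx => by
    obtain ⟨f, -, hxf⟩ := Finset.mem_biUnion.mp hx
    obtain ⟨c, hc, rfl⟩ := (ht f).1 hxf
    exact hchar c hc
  refine ⟨U.card, fun i => (U.equivFin.symm i).1, fun i => hU _ (U.equivFin.symm i).2, eq_top_iff.mpr ?_⟩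
  rw [← hs]
  refine Algebra.adjoin_le fun f hf => ?_
  let W := Algebra.adjoin k (Set.range fun i => (U.equivFin.symm i).1)
  have hW : (t f : Set (Fn T)) ⊆ (Subalgebra.toSubmodule W : Set (Fn T)) := fun x hx =>
    Algebra.subset_adjoin ⟨U.equivFin ⟨x, Finset.mem_biUnion.mpr ⟨f, hf, hx⟩⟩, by simp⟩
  exact Submodule.span_le.mpr hW (ht f).2

/-- A torus over an algebraically closed field is split. -/
theorem exists_iso_tor {T : Over (Spec (CommRingCat.of k))} [GrpObj T] (hT : Red.IsTorus T) :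
    ∃ (r : ℕ) (q : T ⟶ Tor k r), IsMonHom q ∧ IsIso q := by
  obtain ⟨h1, h2, h3, h4, h5⟩ := TorusBasic.torus_props hT
  haveI := h2; haveI := h3; haveI := h4
  obtain ⟨m, χ, hχ, hgen⟩ := exists_chars_of_isTorus hT
  obtain ⟨r, q, hq, -, -, hiso⟩ := exists_torus_map χ hχ
  exact ⟨r, q, hq, hiso hgen⟩

/-- A closed subset of a torus containing the torsion points is everything. -/
theorem torus_eq_univ {T : Over (Spec (CommRingCat.of k))} [GrpObj T] (hT : Red.IsTorus T) {S : Set T.left}
    (hS : IsClosed S)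
    (h : ∀ t : VecGrp.pt k k ⟶ T, (∃ n, 0 < n ∧ t ^ n = 1) → t.left (IsLocalRing.closedPoint k) ∈ S) :
    S = Set.univ := by
  obtain ⟨r, q, hq, hqi⟩ := exists_iso_tor hT
  haveI := hq; haveI := hqi
  haveI : IsIso q.left := inferInstanceAs (IsIso ((Over.forget _).map q))
  haveI : IsMonHom (inv q) := inferInstanceAs (IsMonHom (asIso q).inv)
  have h1 : (inv q).left ⁻¹' S = Set.univ := tor_eq_univ (hS.preimage (inv q).left.continuous) (fun p hp => by
    obtain ⟨n, hn, hpn⟩ := hp
    have h2 := h (p ≫ inv q) ⟨n, hn, by rw [← MonObj.pow_comp, hpn, MonObj.one_comp]⟩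
    exact h2)
  refine Set.eq_univ_of_forall fun x => ?_
  have h2 : q.left x ∈ (inv q).left ⁻¹' S := h1 ▸ Set.mem_univ _
  rw [Set.mem_preimage, ← Scheme.Hom.comp_apply, ← Over.comp_left, IsIso.hom_inv_id] at h2
  exact h2

end Groth.Agent.GModLib
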