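import Groth.Agent.GModLib.SolvableCriterion
import Groth.Agent.GModLib.CharTorus
import Groth.Agent.GModLib.PtSubgroup
import Groth.Agent.GrpSchLib.LineVecSemi

/-!
# Semi-invariant functions
-/

set_option autoImplicit false
set_option backward.isDefEq.respectTransparency false
set_option backward.isDefEq.respectTransparency.types false

universe u

open CategoryTheory Limits AlgebraicGeometry MonoidalCategory CartesianMonoidalCategory MonObj GrpObj TensorProduct

namespace Groth.Agent.GModLib

open GrpSchLib GrpSchLib.Kunneth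

variable {k : Type u} [Field k] [IsAlgClosed k] {G : Over (Spec (CommRingCat.of k))} [GrpObj G] [IsAffine G.left]
  [Smooth G.hom]

/-- The determinant of the translates of a function is a character inverse to the central weights. -/
theorem exists_det_char [ConnectedSpace G.left] (f : Fn G) (hf : f ≠ 0) :
    ∃ (δ : Fn G) (m : ℕ), 0 < m ∧ IsChar δ ∧
      ∀ (t : VecGrp.pt k k ⟶ G) (a : k), (∀ y, Commute t y) → (∀ y, pullFn (y * t) f = a * pullFn y f) →
        pullFn t δ * a ^ m = 1 := by
  classical
  haveI : IsAffineHom G.hom := inferInstance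
  haveI : IsReduced G.left := GrpSchLib.isReduced_of_smooth_field G.hom
  obtain ⟨m, M, w, cv, hM, -, hcv, hE⟩ := exists_matrix_vec (G := G) f
  let T : (VecGrp.pt k k ⟶ G) → Fn G →ₗ[k] Fn G := fun a => (ev ((toPt G ≫ a⁻¹) * 𝟙 G)).toLinearMap
  have hT : ∀ a y (F : Fn G), pullFn y (T a F) = pullFn (a⁻¹ * y) F := fun a y F => by
    simp only [T, AlgHom.toLinearMap_apply]
    rw [pullFn_ev, MonObj.comp_mul, ← Category.assoc, comp_toPt, Category.id_comp, Category.comp_id]
  let W : Submodule k (Fn G) := Submodule.span k (Set.range fun a => T a f)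
  have hWle : W ≤ Submodule.span k (Set.range fun i => ∑ j, cv j • M i j) := by
    refine Submodule.span_le.mpr ?_
    rintro _ ⟨a, rfl⟩
    have e : T a f = ∑ i, pullFn (a⁻¹) (w i) • ∑ j, cv j • M i j := eq_of_forall_point fun y => by
      have hb : ∀ j, pullFn (a⁻¹ * y) (w j) = ∑ i, pullFn (a⁻¹) (w i) * pullFn y (M i j) := fun j => by
        have := congrArg (fun z => (Scheme.ΓSpecIso (CommRingCat.of k)).hom z) (hE _ a⁻¹ y j)
        simp only [map_sum, map_mul] at this
        exact this
      rw [hT]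
      conv_lhs => rw [← hcv]
      simp only [map_sum, map_smul, hb, smul_eq_mul, Finset.mul_sum]
      rw [Finset.sum_comm]
      exact Finset.sum_congr rfl fun i _ => Finset.sum_congr rfl fun j _ => by ring
    show T a f ∈ _
    rw [e]
    exact Submodule.sum_mem _ fun i _ => Submodule.smul_mem _ _ (Submodule.subset_span ⟨i, rfl⟩)
  haveI : Module.Finite k (Submodule.span k (Set.range fun i => ∑ j, cv j • M i j)) :=
    Module.Finite.span_of_finite k (Set.finite_range _)
  haveI : Module.Finite k W := Submodule.finiteDimensional_of_le hWle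
  have hTW : ∀ a, ∀ F ∈ W, T a F ∈ W := by
    intro a F hF
    induction hF using Submodule.span_induction with
    | mem F hF =>
      obtain ⟨b, rfl⟩ := hF
      refine Submodule.subset_span ⟨a * b, eq_of_forall_point fun y => ?_⟩
      rw [hT, hT, hT, _root_.mul_inv_rev, _root_.mul_assoc]
    | zero => rw [map_zero]; exact W.zero_mem
    | add x y _ _ hx hy => rw [map_add]; exact W.add_mem hx hy
    | smul r x _ hx => rw [map_smul]; exact W.smul_mem r hx
  let ρ : (VecGrp.pt k k ⟶ G) →* Module.End k W :=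
    { toFun := fun a => (T a).restrict (hTW a)
      map_one' := LinearMap.ext fun F => Subtype.ext (eq_of_forall_point fun y => by
        simp only [LinearMap.coe_restrict_apply, Module.End.one_apply, hT, _root_.inv_one, _root_.one_mul])
      map_mul' := fun a b => LinearMap.ext fun F => Subtype.ext (eq_of_forall_point fun y => by
        simp only [LinearMap.coe_restrict_apply, Module.End.mul_apply, hT, _root_.mul_inv_rev, _root_.mul_assoc]) }
  have hreg : (regSystem (G := G)).Reg ρ := by
    intro φ v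
    have hsp : φ ∈ Submodule.span k (Set.range fun y : VecGrp.pt k k ⟶ G => (pullFn y).toLinearMap ∘ₗ W.subtype) := by
      rw [← Subspace.dualCoannihilator_dualAnnihilator_eq (W := Submodule.span k _), Submodule.mem_dualAnnihilator]
      intro F hF
      rw [show F = 0 from ?_, map_zero]
      refine Subtype.ext (eq_of_forall_point fun y => ?_)
      have := (Submodule.mem_dualCoannihilator _).mp hF _ (Submodule.subset_span ⟨y, rfl⟩)
      simpa using this
    induction hsp using Submodule.span_induction with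
    | mem φ hφ =>
      obtain ⟨y, rfl⟩ := hφ
      exact ⟨ev ((𝟙 G)⁻¹ * (toPt G ≫ y)) v.1, fun g => by
        rw [pullFn_ev, MonObj.comp_mul, GrpObj.comp_inv, ← Category.assoc, comp_toPt, Category.id_comp,
          Category.comp_id]
        show pullFn y (T g v.1) = _
        rw [hT]⟩
    | zero => exact ⟨0, fun g => by simp⟩
    | add φ ψ _ _ hφ hψ =>
      obtain ⟨a, ha⟩ := hφ
      obtain ⟨b, hb⟩ := hψ
      exact ⟨a + b, fun g => by rw [map_add, ← ha, ← hb]; rfl⟩
    | smul r φ _ hφ =>
      obtain ⟨a, ha⟩ := hφ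
      exact ⟨r • a, fun g => by rw [map_smul, ← ha]; rfl⟩
  have hWne : (⊤ : Submodule k W) ≠ ⊥ := by
    intro h
    refine hf ?_
    have hmem : f ∈ W := by
      refine Submodule.subset_span ⟨1, eq_of_forall_point fun y => ?_⟩
      rw [hT, _root_.inv_one, _root_.one_mul]
    have : (⟨f, hmem⟩ : W) = 0 := (Submodule.mem_bot k).mp (h ▸ Submodule.mem_top)
    exact congrArg Subtype.val this
  haveI : Nontrivial W := by
    obtain ⟨v, -, hv⟩ := Submodule.exists_mem_ne_zero_of_ne_bot hWne
    exact nontrivial_of_ne v 0 hv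
  let b := Module.finBasis k W
  obtain ⟨R, hR, hRρ⟩ := exists_isRepMatrix b ρ hreg
  have hdet : ∀ g, pullFn g R.det = LinearMap.det (ρ g) := fun g => by
    rw [AlgHom.map_det, AlgHom.mapMatrix_apply, hRρ, LinearMap.det_toMatrix]
  refine ⟨R.det, Module.finrank k W, Module.finrank_pos, ⟨fun g h => ?_, ?_⟩, fun t a hc ht => ?_⟩
  · rw [hdet, hdet, hdet, map_mul, map_mul]
  · rw [hdet, map_one, map_one]
  · have hW : ∀ F ∈ W, ∀ y, pullFn (y * t) F = a * pullFn y F := by
      intro F hF
      induction hF using Submodule.span_induction with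
      | mem F hF =>
        obtain ⟨c, rfl⟩ := hF
        intro y
        rw [hT, hT, ← _root_.mul_assoc, ht]
      | zero => simp
      | add x y _ _ hx hy => intro z; rw [map_add, map_add, hx, hy, mul_add]
      | smul r x _ hx => intro z; rw [map_smul, map_smul, hx, smul_eq_mul, smul_eq_mul, mul_left_comm]
    have h1 : a • ρ t = 1 := LinearMap.ext fun F => Subtype.ext (eq_of_forall_point fun y => by
      show pullFn y (a • T t F.1) = pullFn y F.1
      rw [map_smul, hT, smul_eq_mul, ← hW _ F.2, _root_.mul_assoc, ← (hc y).eq, inv_mul_cancel_left])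
    have h2 := congrArg LinearMap.det h1
    rw [LinearMap.det_smul, map_one] at h2
    rw [hdet, mul_comm, h2]

/-- A point outside a subgroup is detected by a semi-invariant function vanishing at the identity. -/
theorem exists_point_of_semiInvariant {H : Over (Spec (CommRingCat.of k))} [GrpObj H] (iH : H ⟶ G) [IsMonHom iH]
    [IsClosedImmersion iH.left] (g : VecGrp.pt k k ⟶ G)
    (hg : ∀ f : Fn G, (∃ c : (VecGrp.pt k k ⟶ H) → k, ∀ x h, pullFn (x * (h ≫ iH)) f = c h * pullFn x f) →
      pullFn (1 : VecGrp.pt k k ⟶ G) f = 0 → pullFn g f = 0) :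
    ∃ h : VecGrp.pt k k ⟶ H, h ≫ iH = g := by
  haveI : IsAffine H.left := isAffine_of_isAffineHom iH.left
  haveI : LocallyOfFiniteType H.hom := by rw [← Over.w iH]; infer_instance
  obtain ⟨A, _, _, ⟨eG⟩⟩ := AffineHopf.exists_hopf G
  obtain ⟨B, _, _, ⟨eH⟩⟩ := AffineHopf.exists_hopf H
  let e : AffineHopf.sp k A ≅ G := (Grp.forget _).mapIso eG
  let e' : AffineHopf.sp k B ≅ H := (Grp.forget _).mapIso eH
  haveI : IsMonHom e.hom := eG.hom.hom.isMonHom_hom
  haveI : IsMonHom e.inv := eG.inv.hom.isMonHom_hom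
  haveI : IsMonHom e'.hom := eH.hom.hom.isMonHom_hom
  haveI : IsMonHom e'.inv := eH.inv.hom.isMonHom_hom
  haveI : IsIso e.inv.left := inferInstanceAs (IsIso ((Over.forget _).map e.inv))
  haveI : IsIso e.hom.left := inferInstanceAs (IsIso ((Over.forget _).map e.hom))
  haveI : IsIso e'.hom.left := inferInstanceAs (IsIso ((Over.forget _).map e'.hom))
  haveI : LocallyOfFiniteType (AffineHopf.sp k A).hom := by rw [← Over.w e.hom]; infer_instance
  haveI : Algebra.FiniteType k A :=
    RingHom.finiteType_algebraMap.mp ((HasRingHomProperty.Spec_iff (P := @LocallyOfFiniteType)).mp ‹_›)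
  obtain ⟨π, hπ⟩ := AffineHopf.exists_bialgHom (e'.hom ≫ iH ≫ e.inv)
  have hπs : Function.Surjective π := AffineHopf.surjective_of_isClosedImmersion (π : A →ₐ[k] B) (by
    rw [← hπ, Over.comp_left, Over.comp_left]; infer_instance)
  obtain ⟨n, z, α, c, -, hsemi, hline⟩ := LineVec.exists_vec_semi π hπs
  let Z : Fin (n + 1) → Fn G := fun x => ev e.inv (z x)
  have hval : ∀ (y : VecGrp.pt k k ⟶ G) x, pullFn y (Z x) = pullFn (y ≫ e.inv) (z x) := fun y x => pullFn_ev y e.inv (z x)
  have hsem : ∀ x y h, pullFn (y * (h ≫ iH)) (Z x) = pullFn (h ≫ e'.inv) c * pullFn y (Z x) := fun x y h => by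
    have h1 := congrArg (Scheme.ΓSpecIso (CommRingCat.of k)).hom (hsemi (VecGrp.pt k k) (y ≫ e.inv) (h ≫ e'.inv) x)
    rw [map_mul, ← hπ, Category.assoc, e'.inv_hom_id_assoc, ← Category.assoc, ← MonObj.mul_comp] at h1
    rw [hval, hval, mul_comm]
    exact h1
  have hz : ∀ x q, pullFn (1 : VecGrp.pt k k ⟶ G) (Z x) * pullFn g (Z q) =
      pullFn (1 : VecGrp.pt k k ⟶ G) (Z q) * pullFn g (Z x) := fun x q => by
    have h1 := hg (pullFn (1 : VecGrp.pt k k ⟶ G) (Z x) • Z q - pullFn (1 : VecGrp.pt k k ⟶ G) (Z q) • Z x)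
      ⟨fun h => pullFn (h ≫ e'.inv) c, fun y h => by
        simp only [map_sub, map_smul, smul_eq_mul, hsem]
        ring⟩ (by simp only [map_sub, map_smul, smul_eq_mul]; ring)
    simp only [map_sub, map_smul, smul_eq_mul, sub_eq_zero] at h1
    exact h1
  obtain ⟨h, hh⟩ := (hline (VecGrp.pt k k) 1 (g ≫ e.inv)).mp fun x q => by
    apply (Scheme.ΓSpecIso (CommRingCat.of k)).commRingCatIsoToRingEquiv.injective
    rw [map_mul, map_mul]
    have h1 := hz x q
    rw [hval, hval, hval, hval, MonObj.one_comp] at h1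
    exact h1
  refine ⟨h ≫ e'.hom, ?_⟩
  rw [_root_.inv_one, _root_.one_mul, ← hπ, ← Category.assoc, ← Category.assoc] at hh
  exact ((cancel_mono e.inv).mp hh).symm

end Groth.Agent.GModLib
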