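import Groth.Agent.GModLib.UniPart
import Groth.Agent.GModLib.SemiInv
import Groth.Agent.GModLib.InvariantConst

/-!
# A group with a Borel subgroup whose torus is central is solvable
-/

set_option autoImplicit false
set_option backward.isDefEq.respectTransparency false
set_option backward.isDefEq.respectTransparency.types false

universe u

open CategoryTheory Limits AlgebraicGeometry MonoidalCategory CartesianMonoidalCategory MonObj GrpObj

namespace Groth.Agent.GModLib

open GrpSchLib GrpSchLib.Kunneth

variable {k : Type u} [Field k] [IsAlgClosed k] {G : Over (Spec (CommRingCat.of k))} [GrpObj G] [IsAffine G.left]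
  [Smooth G.hom] [ConnectedSpace G.left]

/-- A point commuting with a Borel subgroup is central. -/
theorem central_of_commute_borel {B : Over (Spec (CommRingCat.of k))} [GrpObj B] (iB : B ⟶ G)
    (hB : Red.IsBorelOver k iB) (t : VecGrp.pt k k ⟶ G)
    (ht : ∀ b : VecGrp.pt k k ⟶ B, Commute t (b ≫ iB)) (g : VecGrp.pt k k ⟶ G) : Commute t g := by
  haveI : Smooth B.hom := hB.2.2.1
  let F : Fn G → Fn G := fun f => ev (𝟙 G * (toPt G ≫ t) * (𝟙 G)⁻¹) f
  have hF : ∀ f y, pullFn y (F f) = pullFn (y * t * y⁻¹) f := fun f y => by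
    rw [pullFn_ev, MonObj.comp_mul, MonObj.comp_mul, GrpObj.comp_inv, ← Category.assoc, comp_toPt,
      Category.id_comp, Category.comp_id]
  have h1 : g * t * g⁻¹ = t := by
    refine pullFn_injective (AlgHom.ext fun f => ?_)
    have h := pullFn_eq_of_invariant iB (borel_cocompact iB hB) (F f) (fun y b => by
      rw [hF, hF, _root_.mul_inv_rev, _root_.mul_assoc y, ← (ht b).eq]
      congr 2
      group) g 1
    rw [hF, hF] at h
    rw [h]
    simp
  calc t * g = g * t * g⁻¹ * g := by rw [h1]
    _ = g * t := by group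

/-- A connected group with a Borel subgroup whose torus is central equals that Borel subgroup. -/
theorem borel_surjective_of_central {B : Over (Spec (CommRingCat.of k))} [GrpObj B] [IsAffine B.left] [Smooth B.hom]
    (iB : B ⟶ G) (hB : Red.IsBorelOver k iB) {d : ℕ} {M : Matrix (Fin d) (Fin d) (Fn B)} (hM : IsTriangular M)
    {T : Over (Spec (CommRingCat.of k))} (iT : T ⟶ B) (hfull : Full hM iT)
    (hc : ∀ (t : VecGrp.pt k k ⟶ T) (b : VecGrp.pt k k ⟶ B), Commute (t ≫ iT) b) :
    ∀ g : VecGrp.pt k k ⟶ G, ∃ b, b ≫ iB = g := by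
  intro g
  haveI := hB.1
  haveI : IsClosedImmersion iB.left := hB.2.1
  haveI : IsReduced G.left := GrpSchLib.isReduced_of_smooth_field G.hom
  refine exists_point_of_semiInvariant iB g fun f ⟨c, hcw⟩ hf1 => ?_
  by_contra hg
  have hf : f ≠ 0 := fun h => hg (by rw [h, map_zero])
  obtain ⟨δ, m, hm, hδ, hδw⟩ := exists_det_char f hf
  -- the weight is a character
  let C : Fn B := (pullFn g f)⁻¹ • ev ((toPt B ≫ g) * iB) f
  have hC : ∀ b, pullFn b C = c b := fun b => by
    rw [map_smul, pullFn_ev, MonObj.comp_mul, ← Category.assoc, comp_toPt, Category.id_comp, hcw, smul_eq_mul]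
    field_simp
  have hcmul : ∀ b b', c (b * b') = c b * c b' := fun b b' => by
    refine mul_right_cancel₀ hg ?_
    rw [← hcw, MonObj.mul_comp, ← _root_.mul_assoc, hcw, hcw]
    ring
  have hc1 : c 1 = 1 := by
    refine mul_right_cancel₀ hg ?_
    rw [← hcw, MonObj.one_comp, _root_.mul_one, _root_.one_mul]
  let χ : Fn B := C ^ m * ev iB δ
  have hχ : IsChar χ := by
    refine ⟨fun a b => ?_, ?_⟩
    · simp only [χ, map_mul, map_pow, hC, hcmul, pullFn_ev, MonObj.mul_comp, hδ.1]
      ring
    · simp only [χ, map_mul, map_pow, hC, hc1, pullFn_ev, MonObj.one_comp, hδ.2, _root_.one_pow, _root_.mul_one]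
  have hχ1 : ∀ b, pullFn b χ = 1 := fun b => by
    refine (char_eq_of_full hM iT hfull hχ isChar_one (fun t => ?_) b).trans (map_one _)
    rw [map_one]
    simp only [χ, map_mul, map_pow, hC, pullFn_ev]
    rw [mul_comm]
    exact hδw _ _ (central_of_commute_borel iB hB _ fun b => (hc t b).map (pushPt iB)) (fun y => hcw y _)
  have key : ∀ y, pullFn y (f ^ m * δ) = pullFn 1 (f ^ m * δ) := fun y =>
    pullFn_eq_of_invariant iB (borel_cocompact iB hB) _ (fun y b => by
      have h := hχ1 b
      simp only [χ, map_mul, map_pow, hC, pullFn_ev] at h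
      simp only [map_mul, map_pow, hcw, hδ.1, mul_pow]
      linear_combination (pullFn y f ^ m * pullFn y δ) * h) y 1
  have h := key g
  rw [map_mul, map_mul, map_pow, map_pow, hf1, zero_pow hm.ne', MulZeroClass.zero_mul] at h
  rcases mul_eq_zero.mp h with h | h
  · exact hg (eq_zero_of_pow_eq_zero h)
  · exact (hδ.isUnit.map (pullFn g)).ne_zero h

end Groth.Agent.GModLib
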