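import Groth.Agent.GModLib.MaxTorusBC
import Groth.Agent.GrpSchLib.RedSubgroup
import Groth.Agent.GrpSchLib.Cartier

/-!
# Base change of maximal tori, without smoothness of the group
-/

set_option autoImplicit false
set_option linter.style.haveILetI false
set_option backward.isDefEq.respectTransparency false
set_option backward.isDefEq.respectTransparency.types false

universe u

open CategoryTheory CategoryTheory.Limits AlgebraicGeometry MonoidalCategory CartesianMonoidalCategory MonObj GrpObj

namespace Groth.Agent.GModLib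

variable {k : Type u} [Field k] [IsAlgClosed k] {K : Type u} [Field K] [IsAlgClosed K]

/-- Maximal tori stay maximal under extensions of algebraically closed fields, for any algebraic group. -/
theorem isMaxTorus_bc' {G T : Over (Spec (CommRingCat.of k))} [GrpObj G] [GrpObj T] [LocallyOfFiniteType G.hom]
    [QuasiCompact G.hom] (i : T ⟶ G) (hT : AGF.IsMaxTorus i) (σ : Spec (CommRingCat.of K) ⟶ Spec (CommRingCat.of k)) :
    AGF.IsMaxTorus ((Over.pullback σ).map i) := by
  obtain ⟨hi, himo, hTt, hTmax⟩ := hT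
  haveI := hi; haveI := himo
  obtain ⟨H, _, r, hr, hrc, hHr, hrs, hHl, hHq⟩ := GrpSchLib.RedSubgroup.exists_redSubgroup G
  haveI := hr; haveI := hrc; haveI := hHr; haveI := hrs; haveI := hHl; haveI := hHq
  haveI : Smooth H.hom := GrpSchLib.smooth_of_isReduced_of_isAlgClosed H
  haveI : Mono r := Over.mono_of_mono_left r
  obtain ⟨q1, -, -, -, -⟩ := TorusBasic.torus_props hTt
  haveI := q1
  haveI : IsReduced T.left := GrpSchLib.isReduced_of_smooth_field T.hom
  obtain ⟨g, hg⟩ := H23.RedSub.exists_lift_closed i.left r.left (by rw [r.left.surjective.range_eq]; exact Set.subset_univ _)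
  let a : T ⟶ H := Over.homMk g (by rw [← Over.w r, reassoc_of% hg, Over.w i])
  have ha : a ≫ r = i := Over.OverMorphism.ext hg
  haveI : IsMonHom (a ≫ r) := ha.symm ▸ hi
  haveI : IsMonHom a := isMonHom_of_comp a r
  haveI : Mono (a ≫ r) := ha.symm ▸ himo
  haveI : Mono a := mono_of_mono a r
  have haM : AGF.IsMaxTorus a := ⟨inferInstance, inferInstance, hTt, fun T' _ j _ _ f hT' hf =>
    hTmax T' (j ≫ r) f hT' (by rw [← Category.assoc, hf, ha])⟩
  let P := Over.pullback σ
  obtain ⟨-, -, -, hmaxK⟩ := isMaxTorus_bc a haM σ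
  refine ⟨inferInstance, inferInstance, isTorus_bc σ hTt, fun T' _ j _ _ f hT' hf => ?_⟩
  obtain ⟨p1, -, -, -, -⟩ := TorusBasic.torus_props hT'
  haveI := p1
  haveI : IsReduced T'.left := GrpSchLib.isReduced_of_smooth_field T'.hom
  haveI : IsClosedImmersion (P.map r).left := MorphismProperty.baseChange_map (P := @IsClosedImmersion) σ r hrc
  haveI : Surjective (P.map r).left := MorphismProperty.overPullbackMap _ r hrs
  obtain ⟨g', hg'⟩ := H23.RedSub.exists_lift_closed j.left (P.map r).left
    (by rw [(P.map r).left.surjective.range_eq]; exact Set.subset_univ _)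
  let j' : T' ⟶ Red.bc σ H := Over.homMk g' (by rw [← Over.w (P.map r), reassoc_of% hg', Over.w j])
  have hj' : j' ≫ P.map r = j := Over.OverMorphism.ext hg'
  haveI : Mono (P.map r) := Over.mono_of_mono_left _
  haveI : IsMonHom (j' ≫ P.map r) := hj'.symm ▸ ‹IsMonHom j›
  haveI : IsMonHom j' := isMonHom_of_comp j' (P.map r)
  haveI : Mono (j' ≫ P.map r) := hj'.symm ▸ ‹Mono j›
  haveI : Mono j' := mono_of_mono j' (P.map r)
  exact hmaxK T' j' f hT' (by
    rw [← cancel_mono (P.map r), Category.assoc, hj', hf, ← Functor.map_comp, ha])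

variable {S S' : Scheme.{u}}

/-- Base change of a maximal torus of a group of finite type. -/
theorem isMaximalTorus_bc' {G T : Over S} [GrpObj G] [GrpObj T] [LocallyOfFiniteType G.hom] [QuasiCompact G.hom]
    (i : T ⟶ G) (h : Red.IsMaximalTorus i) (g : S' ⟶ S) : Red.IsMaximalTorus ((Over.pullback g).map i) := by
  haveI := h.1; haveI := h.2.1
  refine ⟨inferInstance, inferInstance, isTorus_bc g h.2.2.1, fun s' T'' _ j _ _ f hT'' hf => ?_⟩
  obtain ⟨σ, hσ⟩ := exists_geomPt_lift g s'
  haveI : LocallyOfFiniteType (Red.bc (Red.geomPt (g s')) G).hom :=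
    inferInstanceAs (LocallyOfFiniteType (pullback.snd G.hom _))
  haveI : QuasiCompact (Red.bc (Red.geomPt (g s')) G).hom := inferInstanceAs (QuasiCompact (pullback.snd G.hom _))
  have hs : AGF.IsMaxTorus ((Over.pullback (Red.geomPt (g s'))).map i) :=
    ⟨inferInstance, inferInstance, isTorus_bc _ h.2.2.1, fun T₁ _ j₁ _ _ f₁ h₁ h₁' => h.2.2.2 (g s') T₁ j₁ f₁ h₁ h₁'⟩
  have hK := (isMaxTorus_bc_iff σ (Red.geomPt (g s')) (Red.geomPt s' ≫ g) hσ i h.2.2.1).mp (isMaxTorus_bc' _ hs σ)
  exact ((isMaxTorus_bc_iff (Red.geomPt s') g _ rfl i h.2.2.1).mpr hK).2.2.2 T'' j f hT'' hf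

end Groth.Agent.GModLib
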