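import Groth.Agent.GModLib.CommutingToriQs
import Groth.Agent.GModLib.MaxTorusBCGeneral
import Groth.Agent.GModLib.CartanTorusDescent
import Groth.Agent.GrpSchLib.MonoSubgroupDescent

/-!
# A central maximal torus existing fpqc locally descends
-/

set_option autoImplicit false
set_option linter.style.haveILetI false
set_option backward.isDefEq.respectTransparency false
set_option backward.isDefEq.respectTransparency.types false

universe u

open CategoryTheory CategoryTheory.Limits MonoidalCategory CartesianMonoidalCategory MonObj GrpObj AlgebraicGeometry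

namespace Groth.Agent.GModLib

open DSPtsLib (theta theta_bijective theta_mul theta_comp)
open GrpSchLib.HomUnitLocus (theta_comp_map theta_one)

variable {S S' : Scheme.{u}}

theorem key_centralTorus {G : Over S} [GrpObj G] [LocallyOfFinitePresentation G.hom] [QuasiCompact G.hom] (q : S' ⟶ S)
    {T : Over S'} [GrpObj T] (i : T ⟶ Red.bc q G) (h : Red.IsMaximalTorus i)
    (hc : ∀ (X : Over S') (t : X ⟶ T) (g : X ⟶ Red.bc q G), (t ≫ i) * g = g * (t ≫ i))
    (Y : Scheme.{u}) (a b : Y ⟶ pullback G.hom q) (hab : a ≫ pullback.fst G.hom q = b ≫ pullback.fst G.hom q)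
    (hl : ∃ l, l ≫ i.left = a) : ∃ l, l ≫ i.left = b := by
  haveI := h.1; haveI := h.2.1
  haveI : LocallyOfFiniteType (Red.bc q G).hom := inferInstanceAs (LocallyOfFiniteType (pullback.snd G.hom q))
  haveI : QuasiCompact (Red.bc q G).hom := inferInstanceAs (QuasiCompact (pullback.snd G.hom q))
  let r : pullback q q ⟶ S := pullback.fst q q ≫ q
  haveI : LocallyOfFinitePresentation (Red.bc r G).hom :=
    inferInstanceAs (LocallyOfFinitePresentation (pullback.snd G.hom r))
  have side : ∀ (p : pullback q q ⟶ S') (hp : p ≫ q = r),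
      ∃ (e : Red.bc p T ⟶ Red.bc r G), Red.IsMaximalTorus e ∧
        (∀ (X : Over (pullback q q)) (t : X ⟶ Red.bc p T) (g : X ⟶ Red.bc r G), (t ≫ e) * g = g * (t ≫ e)) ∧
        e.left ≫ pullback.fst G.hom r = pullback.fst T.hom p ≫ i.left ≫ pullback.fst G.hom q := by
    intro p hp
    let E := (bcGrpIso p q r hp).app (Grp.mk G)
    let β : Red.bc p (Red.bc q G) ≅ Red.bc r G :=
      ⟨E.hom.hom.hom, E.inv.hom.hom, congrArg (fun φ => φ.hom.hom) E.hom_inv_id,
        congrArg (fun φ => φ.hom.hom) E.inv_hom_id⟩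
    haveI : IsMonHom β.hom := inferInstanceAs (IsMonHom E.hom.hom.hom)
    refine ⟨(Over.pullback p).map i ≫ β.hom, isMaximalTorus_of_iso β _ (isMaximalTorus_bc' _ h p), ?_, ?_⟩
    · intro X t g
      have h1 : (t ≫ (Over.pullback p).map i) * (g ≫ β.inv) = (g ≫ β.inv) * (t ≫ (Over.pullback p).map i) :=
        (theta_bijective p).1 (by rw [theta_mul, theta_mul, theta_comp_map]; exact hc _ _ _)
      have h2 := congrArg (· ≫ β.hom) h1
      simpa only [MonObj.mul_comp, Category.assoc, Iso.inv_hom_id, Category.comp_id] using h2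
    · rw [Over.comp_left, Category.assoc]
      refine (congrArg (_ ≫ ·) (bcGrpIso_left_fst p q r hp G)).trans ?_
      rw [← Category.assoc, ← Category.assoc (pullback.fst T.hom p)]
      refine congrArg (· ≫ _) ?_
      exact pullback.lift_fst _ _ _
  obtain ⟨e₁, h₁, hc₁, h₁f⟩ := side (pullback.fst q q) rfl
  obtain ⟨e₂, h₂, -, h₂f⟩ := side (pullback.snd q q) pullback.condition.symm
  obtain ⟨α, hα⟩ := exists_iso_of_commute_qs e₁ h₁ e₂ h₂ fun X t t' => hc₁ X t _
  obtain ⟨l, hl⟩ := hl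
  have hw : (a ≫ pullback.snd G.hom q) ≫ q = (b ≫ pullback.snd G.hom q) ≫ q := by
    rw [Category.assoc, Category.assoc, ← pullback.condition, reassoc_of% hab]
  let t : Y ⟶ pullback q q := pullback.lift (a ≫ pullback.snd G.hom q) (b ≫ pullback.snd G.hom q) hw
  have he : i.left ≫ pullback.snd G.hom q = T.hom := Over.w i
  have hlT : l ≫ T.hom = t ≫ pullback.fst q q := by
    rw [← he, reassoc_of% hl]
    exact (pullback.lift_fst _ _ _).symm
  let y : Over.mk t ⟶ Red.bc (pullback.fst q q) T := Over.homMk (pullback.lift l t hlT) (pullback.lift_snd _ _ _)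
  refine ⟨(y ≫ α.hom).left ≫ pullback.fst T.hom (pullback.snd q q), pullback.hom_ext ?_ ?_⟩
  · rw [Category.assoc, Category.assoc, ← h₂f, Over.comp_left, Category.assoc, ← Category.assoc α.hom.left,
      show α.hom.left ≫ e₂.left = e₁.left from congrArg (fun m => m.left) hα, h₁f]
    show pullback.lift l t hlT ≫ _ = _
    rw [pullback.lift_fst_assoc, reassoc_of% hl, hab]
  · have h3 : (y ≫ α.hom).left ≫ pullback.snd T.hom (pullback.snd q q) = t := Over.w (y ≫ α.hom)
    rw [Category.assoc, Category.assoc, he, pullback.condition, reassoc_of% h3]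
    exact pullback.lift_snd _ _ _

set_option maxHeartbeats 1000000 in
/-- A group with a central maximal torus fpqc locally has a global one, containing every subtorus. -/
theorem exists_centralTorus {G : Over S} [GrpObj G] [LocallyOfFinitePresentation G.hom] [QuasiCompact G.hom]
    {π : S' ⟶ S} (hπ : FpqcDescLib.IsCovering π) [Surjective π] {T₀ : Over S'} [GrpObj T₀]
    (i₀ : T₀ ⟶ Red.bc π G) (h₀ : Red.IsMaximalTorus i₀)
    (hc₀ : ∀ (X : Over S') (t : X ⟶ T₀) (g : X ⟶ Red.bc π G), (t ≫ i₀) * g = g * (t ≫ i₀)) :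
    ∃ (T : Over S) (_ : GrpObj T) (i : T ⟶ G), Red.IsMaximalTorus i ∧
      (∀ (X : Over S) (t : X ⟶ T) (g : X ⟶ G), (t ≫ i) * g = g * (t ≫ i)) ∧
      ∀ (R : Over S) [GrpObj R] (j : R ⟶ G) [IsMonHom j] [Mono j], Red.IsTorus R → ∃ f : R ⟶ T, f ≫ i = j := by
  haveI := h₀.1; haveI := h₀.2.1
  haveI : IsAffineHom T₀.hom := (TransLib.multTypeFT_essFree (GrpSchLib.RankOne.isMultTypeFT_of_isTorus h₀.2.2.1)).1
  obtain ⟨T, _, i, ψ, him, himo, hψm, hψ⟩ :=
    GrpSchLib.MonoSubgroupDescent.exists_descent i₀ hπ (key_centralTorus π i₀ h₀ hc₀)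
  haveI := him; haveI := himo; haveI := hψm
  have hT : Red.IsTorus T := by
    obtain ⟨U, g, hgf, hgs, hgc, hgl⟩ := h₀.2.2.1
    haveI := hgf; haveI := hgs
    obtain ⟨hfl', hcov'⟩ :=
      GrpSchLib.SubgroupEqLocus.flat_hcov_of_isCovering ((FpqcDescLib.isCovering_of_flat g hgc).comp hπ)
    refine ⟨U, g ≫ π, hfl', inferInstance, hcov', fun s => ?_⟩
    obtain ⟨V, hsV, n, ⟨w⟩⟩ := hgl s
    obtain ⟨e₁⟩ := GrpSchLib.MultTypeBC.bc_bc (V.ι ≫ g) π T
    obtain ⟨e₂⟩ := GrpSchLib.MultTypeBC.bc_congr (Category.assoc V.ι g π) T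
    obtain ⟨e₃⟩ := GrpSchLib.MultTypeBC.bc_iso (V.ι ≫ g) (Grp.mkIso' ψ)
    exact ⟨V, hsV, n, ⟨e₂.symm ≪≫ e₁.symm ≪≫ e₃ ≪≫ w⟩⟩
  have hmax' : Red.IsMaximalTorus ((Over.pullback π).map i) := by
    refine ⟨inferInstance, inferInstance, isTorus_bc π hT, fun s T'' _ j' _ _ f' hT'' hf' => ?_⟩
    let σ := Red.geomPt s
    haveI : IsIso ((Over.pullback σ).map ψ.inv ≫ f') := h₀.2.2.2 s T'' j' ((Over.pullback σ).map ψ.inv ≫ f') hT'' (by
      refine (Category.assoc _ _ _).trans ((congrArg (_ ≫ ·) hf').trans ?_)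
      refine ((Over.pullback σ).map_comp _ _).symm.trans (congrArg (Over.pullback σ).map ?_)
      exact (congrArg (ψ.inv ≫ ·) hψ).symm.trans (ψ.inv_hom_id_assoc i₀))
    exact IsIso.of_isIso_comp_left ((Over.pullback σ).map ψ.inv) f'
  have hmax : Red.IsMaximalTorus i := isMaximalTorus_of_bc i hT π hmax'
  have hcent : ∀ (X : Over S) (t : X ⟶ T) (g : X ⟶ G), (t ≫ i) * g = g * (t ≫ i) := fun X t g => by
    have hk : FpqcDescLib.Covers (theta π (𝟙 ((Over.pullback π).obj X))).left := by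
      show FpqcDescLib.Covers (𝟙 (pullback X.hom π) ≫ pullback.fst X.hom π)
      rw [Category.id_comp]
      exact (FpqcDescLib.covers_of_isCovering hπ).pullback X.hom _ (pullback.snd X.hom π) (IsPullback.of_hasPullback X.hom π)
    haveI := hk.over_epi
    have h1 := hc₀ _ ((Over.pullback π).map t ≫ ψ.hom) ((Over.pullback π).map g)
    rw [Category.assoc, hψ, ← Functor.map_comp] at h1
    have h2 : ∀ (x : X ⟶ G), theta π (𝟙 _) ≫ x = theta π ((Over.pullback π).map x) := fun x => by
      refine Eq.trans ?_ (congrArg (theta π) (Category.id_comp ((Over.pullback π).map x)))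
      exact ((Over.mapPullbackAdj π).homEquiv_naturality_right_symm _ _).symm
    rw [← cancel_epi (theta π (𝟙 ((Over.pullback π).obj X))), MonObj.comp_mul, MonObj.comp_mul, h2, h2,
      ← theta_mul, ← theta_mul, h1]
  exact ⟨T, inferInstance, i, hmax, hcent, fun R _ j _ _ hR =>
    factor_of_commute_qs i hmax j hR fun X t r => hcent X t _⟩

end Groth.Agent.GModLib
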