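import Groth.Agent.GModLib.CentralizerTorus
import Groth.Agent.GModLib.CentralizerBC
import Groth.Agent.GModLib.TorusBC
import Groth.Agent.GrpSchLib.AntiAffineHom
import Groth.Agent.S3006

/-!
# The centralizer scheme of a torus
-/

set_option autoImplicit false
set_option backward.isDefEq.respectTransparency false
set_option backward.isDefEq.respectTransparency.types false

universe u

open CategoryTheory Limits AlgebraicGeometry MonoidalCategory CartesianMonoidalCategory MonObj GrpObj

namespace Groth.Agent.GModLib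

open GrpSchLib GrpSchLib.Kunneth

/-- Two centralizers of the same subgroup are isomorphic. -/
theorem exists_iso_of_isCentralizerOf {S : Scheme.{u}} {H G Z Z' : Over S} [GrpObj H] [GrpObj G] [GrpObj Z] [GrpObj Z']
    {i : H ⟶ G} {j : Z ⟶ G} {j' : Z' ⟶ G} (h : Red.IsCentralizerOf i j) (h' : Red.IsCentralizerOf i j') :
    ∃ e : Z ≅ Z', e.hom ≫ j' = j := by
  haveI := h.2.1; haveI := h'.2.1
  obtain ⟨a, ha⟩ := (h'.2.2 Z j).mpr ((h.2.2 Z j).mp ⟨𝟙 Z, Category.id_comp j⟩)
  obtain ⟨b, hb⟩ := (h.2.2 Z' j').mpr ((h'.2.2 Z' j').mp ⟨𝟙 Z', Category.id_comp j'⟩)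
  exact ⟨⟨a, b, by rw [← cancel_mono j, Category.assoc, hb, ha, Category.id_comp],
    by rw [← cancel_mono j', Category.assoc, ha, hb, Category.id_comp]⟩, ha⟩

theorem connectedSpace_of_isCentralizerOf_algClosed {k : Type u} [Field k] [IsAlgClosed k]
    {G T C : Over (Spec (CommRingCat.of k))} [GrpObj G] [IsAffine G.left] [Smooth G.hom] [ConnectedSpace G.left]
    [GrpObj T] [GrpObj C] [LocallyOfFiniteType C.hom] (iT : T ⟶ G) [IsMonHom iT] (hT : Red.IsTorus T) (c : C ⟶ G)
    (hc : Red.IsCentralizerOf iT c) : ConnectedSpace C.left := by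
  haveI := hc.1; haveI := hc.2.1
  obtain ⟨q1, q2, q3, -, -⟩ := TorusBasic.torus_props hT
  haveI := q1; haveI := q2; haveI := q3
  obtain ⟨C₀, _, i, hi, hcl, hsm, hcn, hmem, hall, -⟩ := exists_torus_centralizer_connected hT iT
  haveI := hi; haveI := hcl; haveI := hsm; haveI := hcn
  haveI : IsAffine C₀.left := isAffine_of_isAffineHom i.left
  haveI : IsReduced C₀.left := GrpSchLib.isReduced_of_smooth_field C₀.hom
  haveI : IsReduced T.left := GrpSchLib.isReduced_of_smooth_field T.hom
  haveI : IsReduced (C₀ ⊗ T).left := GrpSchLib.isReduced_pullback_of_perfectField C₀.hom T.hom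
  haveI : LocallyOfFiniteType (C₀ ⊗ T).hom :=
    inferInstanceAs (LocallyOfFiniteType (pullback.fst C₀.hom T.hom ≫ C₀.hom))
  have hkey : (fst C₀ T ≫ i) * (snd C₀ T ≫ iT) = (snd C₀ T ≫ iT) * (fst C₀ T ≫ i) := by
    refine hom_ext_points fun p => ?_
    simp only [MonObj.comp_mul]
    rw [← Category.assoc, ← Category.assoc]
    exact (hmem (p ≫ fst C₀ T) (p ≫ snd C₀ T)).eq.symm
  obtain ⟨u, hu⟩ := (hc.2.2 C₀ i).mpr fun X' x h => by
    have e := congrArg (lift x h ≫ ·) hkey
    simp only [MonObj.comp_mul, lift_fst_assoc, lift_snd_assoc] at e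
    exact e
  have hpts : ∀ z : VecGrp.pt k k ⟶ C, ∃ p : VecGrp.pt k k ⟶ C₀, p ≫ u = z := fun z => by
    obtain ⟨p, hp⟩ := hall (z ≫ c) fun s => by
      have h := (hc.2.2 _ (z ≫ c)).mp ⟨z, rfl⟩ _ (𝟙 _) s
      rw [Category.id_comp] at h
      exact h.symm
    exact ⟨p, by rw [← cancel_mono c, Category.assoc, hu, hp]⟩
  haveI : LocallyOfFiniteType C.hom := inferInstance
  have hdense : closure (Set.range u.left) = Set.univ := by
    by_contra hne
    obtain ⟨y, hy⟩ := (Set.ne_univ_iff_exists_notMem _).mp hne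
    obtain ⟨z, hz⟩ := exists_point_mem (D := C) isClosed_closure.isOpen_compl ⟨y, hy⟩
    obtain ⟨p, hp⟩ := hpts z
    refine hz (subset_closure ⟨p.left (IsLocalRing.closedPoint k), ?_⟩)
    rw [← Scheme.Hom.comp_apply, ← Over.comp_left, hp]
  refine connectedSpace_iff_univ.mpr ⟨?_, ?_⟩
  · exact ⟨(η[C] : _ ⟶ C).left (IsLocalRing.closedPoint k), trivial⟩
  · rw [← hdense]
    exact (isPreconnected_range u.left.continuous).closure

/-- The centralizer of a subtorus of a connected affine group is smooth and connected. -/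
theorem centralizer_smooth_connected {k : Type u} [Field k] {G T C : Over (Spec (CommRingCat.of k))} [GrpObj G]
    [IsAffine G.left] [Smooth G.hom] [ConnectedSpace G.left] [GrpObj T] [GrpObj C] (iT : T ⟶ G) [IsMonHom iT] [Mono iT]
    (hT : Red.IsTorus T) (c : C ⟶ G) (hc : Red.IsCentralizerOf iT c) :
    Smooth C.hom ∧ IsClosedImmersion c.left ∧ ConnectedSpace C.left := by
  haveI := torus_isClosedImmersion hT iT
  haveI : LocallyOfFinitePresentation G.hom := inferInstance
  obtain ⟨⟨Z, _, z, hz, hzc, hzs⟩, -⟩ := S3006.result _ G T iT ‹_› hT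
  obtain ⟨e, he⟩ := exists_iso_of_isCentralizerOf hc hz
  haveI := hzc; haveI := hzs
  haveI : IsIso e.hom.left := inferInstanceAs (IsIso ((Over.forget _).map e.hom))
  haveI hCs : Smooth C.hom := by rw [← Over.w e.hom]; infer_instance
  haveI hCc : IsClosedImmersion c.left := by rw [← he, Over.comp_left]; infer_instance
  let φ := algebraMap k (AlgebraicClosure k)
  let σ := Spec.map (CommRingCat.ofHom φ)
  haveI : IsAffine (Red.bc σ G).left := inferInstanceAs (IsAffine (pullback G.hom σ))
  haveI : Smooth (Red.bc σ G).hom := inferInstanceAs (Smooth (pullback.snd G.hom σ))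
  haveI : ConnectedSpace (Red.bc σ G).left := GrpSchLib.AntiAffine.connectedSpace_bc G φ
  haveI : LocallyOfFiniteType (Red.bc σ C).hom := inferInstanceAs (LocallyOfFiniteType (pullback.snd C.hom σ))
  haveI : ConnectedSpace (Red.bc σ C).left :=
    connectedSpace_of_isCentralizerOf_algClosed ((Over.pullback σ).map iT) (isTorus_bc σ hT) ((Over.pullback σ).map c)
      (BC.isCentralizerOf_bc σ hc)
  haveI : Surjective σ := ⟨fun x => ⟨IsLocalRing.closedPoint _, @Subsingleton.elim (PrimeSpectrum k) _ _ _⟩⟩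
  haveI : Surjective (pullback.fst C.hom σ) := inferInstance
  haveI : ConnectedSpace ↥(pullback C.hom σ) := ‹ConnectedSpace (Red.bc σ C).left›
  exact ⟨hCs, hCc, Function.Surjective.connectedSpace (pullback.fst C.hom σ).surjective (pullback.fst C.hom σ).continuous⟩

end Groth.Agent.GModLib
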