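import Groth.Agent.GModLib.BorelPoints
import Groth.Agent.GModLib.CentralizerScheme

/-!
# The Borel subgroups of a centralizer
-/

set_option autoImplicit false
set_option backward.isDefEq.respectTransparency false
set_option backward.isDefEq.respectTransparency.types false

universe u

open CategoryTheory Limits AlgebraicGeometry MonoidalCategory CartesianMonoidalCategory MonObj GrpObj

namespace Groth.Agent.GModLib

open GrpSchLib GrpSchLib.Kunneth

theorem eq_toPt {k : Type u} [Field k] {X : Over (Spec (CommRingCat.of k))} (x : X ⟶ VecGrp.pt k k) : x = toPt X :=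
  Over.OverMorphism.ext (by
    show x.left = X.hom
    have e := Over.w x
    rw [show (VecGrp.pt k k).hom = 𝟙 _ by
      show Spec.map (CommRingCat.ofHom (algebraMap k k)) = 𝟙 _
      rw [show CommRingCat.ofHom (algebraMap k k) = 𝟙 _ from rfl, Spec.map_id]] at e
    exact (Category.comp_id _).symm.trans e)

/-- The fibre product of a centralizer with a subgroup containing the torus is the centralizer in that subgroup. -/
theorem isCentralizerOf_of_isPullback {k : Type u} [Field k] {G B T C D : Over (Spec (CommRingCat.of k))} [GrpObj G] [GrpObj B] [GrpObj T] [GrpObj C]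
    [GrpObj D] {iB : B ⟶ G} [IsMonHom iB] [Mono iB] {t : T ⟶ B} {c : C ⟶ G} (hc : Red.IsCentralizerOf (t ≫ iB) c)
    {dC : D ⟶ C} [IsMonHom dC] {dB : D ⟶ B} (hD : IsPullback dC dB c iB) : Red.IsCentralizerOf t dB := by
  haveI := hc.1; haveI := hc.2.1
  haveI : IsMonHom (dB ≫ iB) := hD.w ▸ inferInstance
  haveI : IsMonHom dB := isMonHom_of_comp dB iB
  haveI : Mono dB := by
    refine ⟨fun p q e => hD.hom_ext ?_ e⟩
    rw [← cancel_mono c, Category.assoc, Category.assoc, hD.w, ← Category.assoc, e, Category.assoc]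
  refine ⟨inferInstance, inferInstance, fun X g => ⟨fun ⟨z, hz⟩ X' x h => ?_, fun hg => ?_⟩⟩
  · have e := (hc.2.2 X (g ≫ iB)).mp ⟨z ≫ dC, by rw [Category.assoc, hD.w, ← Category.assoc, hz]⟩ X' x h
    rw [← cancel_mono iB, MonObj.mul_comp, MonObj.mul_comp, Category.assoc, Category.assoc]
    exact e
  · obtain ⟨z, hz⟩ := (hc.2.2 X (g ≫ iB)).mpr fun X' x h => by
      rw [← Category.assoc, ← Category.assoc, ← MonObj.mul_comp, ← MonObj.mul_comp, hg X' x h]
    exact ⟨hD.lift z g hz, hD.lift_snd _ _ _⟩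

set_option maxHeartbeats 1000000 in
theorem isBorelOver_centralizer_inter {K : Type u} [Field K] [IsAlgClosed K]
    {G B T C D : Over (Spec (CommRingCat.of K))} [GrpObj G] [IsAffine G.left] [Smooth G.hom] [ConnectedSpace G.left]
    [GrpObj B] [GrpObj T] [GrpObj C] [GrpObj D] (iB : B ⟶ G) (hB : Red.IsBorelOver K iB) (hT : Red.IsTorus T)
    (t : T ⟶ B) [IsMonHom t] [Mono t] (c : C ⟶ G) (hc : Red.IsCentralizerOf (t ≫ iB) c)
    (dC : D ⟶ C) [IsMonHom dC] (dB : D ⟶ B) (hD : IsPullback dC dB c iB) : Red.IsBorelOver K dC := by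
  obtain ⟨hBm, hBcl, hBsm, hBconn, hBsol, -⟩ := id hB
  haveI := hBm; haveI := hBcl; haveI := hBsm; haveI := hBconn
  haveI : Mono iB := Over.mono_of_mono_left iB
  haveI : IsAffine B.left := isAffine_of_isAffineHom iB.left
  haveI := hc.1; haveI := hc.2.1
  obtain ⟨hCs, hCc, hCn⟩ := centralizer_smooth_connected (t ≫ iB) hT c hc
  haveI := hCs; haveI := hCc; haveI := hCn
  haveI : IsAffine C.left := isAffine_of_isAffineHom c.left
  have hd := isCentralizerOf_of_isPullback hc hD
  haveI := hd.1; haveI := hd.2.1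
  obtain ⟨hDs, hDc, hDn⟩ := centralizer_smooth_connected t hT dB hd
  haveI := hDs; haveI := hDc; haveI := hDn
  haveI : IsClosedImmersion dC.left :=
    MorphismProperty.of_isPullback (P := @IsClosedImmersion) (hD.map (Over.forget _)).flip ‹IsClosedImmersion iB.left›
  obtain ⟨q1, q2, q3, -, -⟩ := TorusBasic.torus_props hT
  haveI := q1; haveI := q2; haveI := q3
  haveI : IsReduced T.left := GrpSchLib.isReduced_of_smooth_field T.hom
  obtain ⟨H, _, iH, hH, hHB, -⟩ := exists_borel_of_centralizer iB hB hT t c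
    (fun z s => by
      have e := (hc.2.2 _ (z ≫ c)).mp ⟨z, rfl⟩ _ (𝟙 _) s
      rw [Category.id_comp] at e
      exact e.symm)
    (fun g hg => (hc.2.2 _ g).mpr fun X' x h => by
      have key : (toPt T ≫ g) * (t ≫ iB) = (t ≫ iB) * (toPt T ≫ g) := hom_ext_points fun p => by
        rw [MonObj.comp_mul, MonObj.comp_mul, ← Category.assoc p (toPt T), comp_toPt, Category.id_comp]
        exact (hg p).eq.symm
      have e := congrArg (h ≫ ·) key
      simp only [MonObj.comp_mul] at e
      rw [← Category.assoc h (toPt T), eq_toPt (h ≫ toPt T)] at e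
      rw [eq_toPt x]
      exact e)
  obtain ⟨hHm, hHcl, hHsm, hHconn, -, hHmax⟩ := id hH
  haveI := hHm; haveI := hHcl; haveI := hHsm; haveI := hHconn
  haveI : IsReduced H.left := GrpSchLib.isReduced_of_smooth_field H.hom
  haveI : IsAffine H.left := isAffine_of_isAffineHom iH.left
  obtain ⟨w, hw⟩ := exists_factor_of_points iB (iH ≫ c) fun p => by
    obtain ⟨b, hb⟩ := hHB p
    exact ⟨b, hb⟩
  let e := hD.lift iH w hw.symm
  have he : e ≫ dC = iH := hD.lift_fst _ _ _
  have hDsol : Red.IsSolvableGrp D := by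
    obtain ⟨n, hn⟩ := hBsol
    refine ⟨n, fun X => eq_bot_iff.mpr fun a ha => ?_⟩
    let φ : (X ⟶ D) →* (X ⟶ B) :=
      { toFun := fun y => y ≫ dB, map_one' := MonObj.one_comp dB, map_mul' := fun p q => MonObj.mul_comp p q dB }
    have h1 := map_derivedSeries_le_derivedSeries φ n (Subgroup.mem_map_of_mem _ ha)
    rw [hn, Subgroup.mem_bot] at h1
    rw [Subgroup.mem_bot, ← cancel_mono dB]
    show φ a = φ 1
    rw [h1, map_one]
  haveI : IsIso e := hHmax D dC e inferInstance hDs hDn hDsol he
  refine ⟨inferInstance, inferInstance, hDs, hDn, hDsol, fun D' _ i' _ f hfc hfs hfn hfl hf => ?_⟩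
  haveI : IsIso (e ≫ f) := hHmax D' i' (e ≫ f) hfc hfs hfn hfl (by rw [Category.assoc, hf, he])
  exact IsIso.of_isIso_comp_left e f

/-- The centralizer of a subtorus meets a Borel subgroup containing it in a Borel subgroup. -/
theorem isBorel_centralizer_inter {k : Type u} [Field k] {G B T C D : Over (Spec (CommRingCat.of k))} [GrpObj G]
    [IsAffine G.left] [Smooth G.hom] [ConnectedSpace G.left] [GrpObj B] [GrpObj T] [GrpObj C] [GrpObj D]
    (iB : B ⟶ G) (hB : Red.IsBorel iB) (hT : Red.IsTorus T) (t : T ⟶ B) [IsMonHom t] [Mono t] (c : C ⟶ G)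
    (hc : Red.IsCentralizerOf (t ≫ iB) c) (dC : D ⟶ C) [IsMonHom dC] (dB : D ⟶ B) (hD : IsPullback dC dB c iB) :
    Red.IsBorel dC := by
  obtain ⟨hm, hcl, hsm, hgeo⟩ := hB
  haveI := hm; haveI := hcl; haveI := hsm
  haveI : Mono iB := Over.mono_of_mono_left iB
  haveI : IsAffine B.left := isAffine_of_isAffineHom iB.left
  haveI := hc.1; haveI := hc.2.1
  haveI : ConnectedSpace B.left := by
    let σ := Red.geomPt (S := Spec (CommRingCat.of k)) (IsLocalRing.closedPoint k)
    haveI : Surjective σ := ⟨fun x => ⟨IsLocalRing.closedPoint _, @Subsingleton.elim (PrimeSpectrum k) _ _ _⟩⟩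
    haveI : ConnectedSpace ↥(pullback B.hom σ) := (hgeo _).2.2.2.1
    haveI : Surjective (pullback.fst B.hom σ) := inferInstance
    exact Function.Surjective.connectedSpace (pullback.fst B.hom σ).surjective (pullback.fst B.hom σ).continuous
  have hd := isCentralizerOf_of_isPullback hc hD
  haveI := hd.1; haveI := hd.2.1
  obtain ⟨hDs, -, -⟩ := centralizer_smooth_connected t hT dB hd
  refine ⟨inferInstance, MorphismProperty.of_isPullback (P := @IsClosedImmersion) (hD.map (Over.forget _)).flip
    ‹IsClosedImmersion iB.left›, hDs, fun s => ?_⟩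
  let σ := Red.geomPt s
  haveI : IsAffine (Red.bc σ G).left := inferInstanceAs (IsAffine (pullback G.hom σ))
  haveI : Smooth (Red.bc σ G).hom := inferInstanceAs (Smooth (pullback.snd G.hom σ))
  haveI : ConnectedSpace (Red.bc σ G).left := by
    have h := GrpSchLib.AntiAffine.connectedSpace_bc G (Spec.preimage σ).hom
    rwa [CommRingCat.ofHom_hom, Spec.map_preimage] at h
  have hc' := BC.isCentralizerOf_bc σ hc
  rw [Functor.map_comp] at hc'
  exact isBorelOver_centralizer_inter ((Over.pullback σ).map iB) (hgeo s) (isTorus_bc σ hT)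
    ((Over.pullback σ).map t) ((Over.pullback σ).map c) hc' ((Over.pullback σ).map dC) ((Over.pullback σ).map dB)
    (hD.map (Over.pullback σ))

end Groth.Agent.GModLib
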