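import Groth.Agent.GModLib.ConjDense

/-!
# Centralizers of tori in connected solvable groups are connected
-/

set_option autoImplicit false
set_option backward.isDefEq.respectTransparency false
set_option backward.isDefEq.respectTransparency.types false

universe u

open CategoryTheory Limits AlgebraicGeometry MonoidalCategory CartesianMonoidalCategory MonObj GrpObj

namespace Groth.Agent.GModLib

open GrpSchLib GrpSchLib.Kunneth

variable {k : Type u} [Field k] [IsAlgClosed k]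

/-- An irreducible variety through the identity with points in finitely many cosets of a closed subgroup lies in it. -/
theorem exists_factor_of_cosets {G C D : Over (Spec (CommRingCat.of k))} [GrpObj G] [GrpObj C]
    [LocallyOfFiniteType G.hom] [LocallyOfFiniteType D.hom] [IrreducibleSpace D.left] (i : C ⟶ G) [IsMonHom i]
    [IsClosedImmersion i.left] (R : Finset (VecGrp.pt k k ⟶ G)) (f : D ⟶ G) (d₀ : VecGrp.pt k k ⟶ D)
    (h₀ : d₀ ≫ f = 1) (h : ∀ p : VecGrp.pt k k ⟶ D, ∃ r ∈ R, ∃ c : VecGrp.pt k k ⟶ C, r * (c ≫ i) = p ≫ f)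
    (p : VecGrp.pt k k ⟶ D) : ∃ c : VecGrp.pt k k ⟶ C, c ≫ i = p ≫ f := by
  classical
  let g : (VecGrp.pt k k ⟶ G) → (D ⟶ G) := fun r => (toPt D ≫ r⁻¹) * f
  have hg : ∀ r q, q ≫ g r = r⁻¹ * (q ≫ f) := fun r q => by
    rw [MonObj.comp_mul, ← Category.assoc, comp_toPt, Category.id_comp]
  let Z : R → Set D.left := fun r => (g r.1).left ⁻¹' Set.range i.left
  have hZ : ∀ r, IsClosed (Z r) := fun r =>
    i.left.isClosedEmbedding.isClosed_range.preimage (Scheme.Hom.continuous _)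
  have hcov : (Set.univ : Set D.left) ⊆ ⋃ r ∈ (Set.univ : Set R), Z r := by
    intro x _
    by_contra hx
    have hop : IsOpen (⋃ r, Z r)ᶜ := (isClosed_iUnion_of_finite hZ).isOpen_compl
    obtain ⟨q, hq⟩ := exists_point_mem (D := D) hop ⟨x, by simpa using hx⟩
    obtain ⟨r, hr, c, hc⟩ := h q
    refine hq (Set.mem_iUnion.mpr ⟨⟨r, hr⟩, c.left (IsLocalRing.closedPoint k), ?_⟩)
    rw [← Scheme.Hom.comp_apply, ← Over.comp_left, ← Scheme.Hom.comp_apply, ← Over.comp_left, hg, ← hc,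
      inv_mul_cancel_left]
  obtain ⟨r, hr⟩ : ∃ r, Set.univ ⊆ Z r := by
    obtain ⟨z, hz, hsub⟩ := isIrreducible_iff_sUnion_isClosed.mp
      (IrreducibleSpace.isIrreducible_univ D.left) ((Set.finite_range Z).toFinset)
      (fun z hz => by
        obtain ⟨r, rfl⟩ := (Set.finite_range Z).mem_toFinset.mp hz
        exact hZ r)
      (by simpa using hcov)
    obtain ⟨r, rfl⟩ := (Set.finite_range Z).mem_toFinset.mp hz
    exact ⟨r, hsub⟩
  have hmem : ∀ q : VecGrp.pt k k ⟶ D, ∃ c, c ≫ i = r.1⁻¹ * (q ≫ f) := fun q =>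
    exists_lift_point i _ (by
      rw [← hg, Over.comp_left, Scheme.Hom.comp_apply]
      exact hr (Set.mem_univ _))
  obtain ⟨c₀, hc₀⟩ := hmem d₀
  obtain ⟨c, hc⟩ := hmem p
  refine ⟨c₀⁻¹ * c, ?_⟩
  rw [MonObj.mul_comp, GrpObj.inv_comp, hc₀, hc, h₀, _root_.mul_one, _root_.inv_inv, mul_inv_cancel_left]

variable {G : Over (Spec (CommRingCat.of k))} [GrpObj G] [IsAffine G.left] [Smooth G.hom] {d : ℕ}
  {M : Matrix (Fin d) (Fin d) (Fn G)}

/-- The points of a given level. -/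
noncomputable def levSubgroup (hM : IsTriangular M) (r : ℕ) : Subgroup (VecGrp.pt k k ⟶ G) where
  carrier := {g | Lev r (matHom hM g)}
  one_mem' i j _ := by rw [map_one, sub_self]; rfl
  mul_mem' {a b} ha hb i j hij := by rw [map_mul, lev_mul_sub ha hb (by omega), ha i j hij, hb i j hij, add_zero]
  inv_mem' {a} ha i j hij := by
    have e0 : matHom hM a⁻¹ - 1 = -(matHom hM a⁻¹ * (matHom hM a - 1)) := by
      rw [Matrix.mul_sub, ← map_mul, inv_mul_cancel, map_one, Matrix.mul_one, neg_sub]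
    rw [e0, Matrix.neg_apply, Matrix.mul_apply, neg_eq_zero]
    refine Finset.sum_eq_zero fun l _ => ?_
    rcases lt_or_ge l i with h1 | h1
    · rw [matHom_tri hM _ i l h1, MulZeroClass.zero_mul]
    · rw [ha l j (by have : i.val ≤ l.val := h1; omega), MulZeroClass.mul_zero]

theorem levSubgroup_conj (hM : IsTriangular M) {r : ℕ} (g : VecGrp.pt k k ⟶ G) {a : VecGrp.pt k k ⟶ G}
    (ha : a ∈ levSubgroup hM r) : g * a * g⁻¹ ∈ levSubgroup hM r := fun i j hij => by
  rw [map_mul, map_mul, lev_conj_sub ha (by rw [← map_mul, mul_inv_cancel, map_one]) (matHom_tri hM _)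
    (matHom_tri hM _) hij.le, ha i j hij, MulZeroClass.mul_zero, MulZeroClass.zero_mul]

theorem commutator_mem_levSubgroup_succ (hM : IsTriangular M) {r : ℕ} (hr : 1 ≤ r) {u w : VecGrp.pt k k ⟶ G}
    (hu : u ∈ uni hM) (hw : w ∈ levSubgroup hM r) : w⁻¹ * (u⁻¹ * w * u) ∈ levSubgroup hM (r + 1) := fun i j hij => by
  have hc : u⁻¹ * w * u ∈ levSubgroup hM r := by
    have := levSubgroup_conj hM u⁻¹ hw
    rwa [_root_.inv_inv] at this
  rw [map_mul, lev_mul_sub (inv_mem hw : w⁻¹ ∈ levSubgroup hM r) hc (by omega), map_mul, map_mul,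
    lev_conj_sub hw (by rw [← map_mul, inv_mul_cancel, map_one]) (matHom_tri hM _) (matHom_tri hM _) (by omega),
    inv_mem hu i, hu j, _root_.one_mul, _root_.mul_one]
  rw [← lev_mul_sub (inv_mem hw : w⁻¹ ∈ levSubgroup hM r) hw (by omega), ← map_mul, inv_mul_cancel, map_one, sub_self]
  rfl

/-- The product of the conjugates by the powers of a point. -/
noncomputable def avg (s : VecGrp.pt k k ⟶ G) : ℕ → (VecGrp.pt k k ⟶ G) → (VecGrp.pt k k ⟶ G)
  | 0, _ => 1
  | m + 1, g => avg s m g * (s ^ m * g * (s ^ m)⁻¹)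

theorem avg_of_commute {s g : VecGrp.pt k k ⟶ G} (h : Commute s g) : ∀ m, avg s m g = g ^ m
  | 0 => by simp [avg]
  | m + 1 => by
    rw [avg, avg_of_commute h m, (h.pow_left m).eq, mul_inv_cancel_right, pow_succ]

theorem avg_rotate (s g : VecGrp.pt k k ⟶ G) : ∀ m, g * (s * avg s m g * s⁻¹) = avg s m g * (s ^ m * g * (s ^ m)⁻¹)
  | 0 => by simp [avg]
  | m + 1 => by
    rw [avg, conj_mul.symm, ← _root_.mul_assoc g, avg_rotate s g m, pow_succ' s m]
    group

/-- Averaging raises the level of the failure to commute. -/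
theorem avg_mem_levSubgroup_succ (hM : IsTriangular M) {r : ℕ} (hr : 1 ≤ r) {n : ℕ} {s g : VecGrp.pt k k ⟶ G}
    (hs : s ^ n = 1) (hg : g ∈ uni hM) (h : g⁻¹ * (s * g * s⁻¹) ∈ levSubgroup hM r) :
    (avg s n g)⁻¹ * (s * avg s n g * s⁻¹) ∈ levSubgroup hM (r + 1) := by
  have hpow : ∀ m : ℕ, g⁻¹ * (s ^ m * g * (s ^ m)⁻¹) ∈ levSubgroup hM r := fun m => by
    induction m with
    | zero => simp
    | succ m ih =>
      have e : g⁻¹ * (s ^ (m + 1) * g * (s ^ (m + 1))⁻¹) =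
          g⁻¹ * (s * g * s⁻¹) * (s * (g⁻¹ * (s ^ m * g * (s ^ m)⁻¹)) * s⁻¹) := by rw [pow_succ' s m]; group
      rw [e]
      exact mul_mem h (levSubgroup_conj hM s ih)
  have hw : ∀ m : ℕ, (g ^ m)⁻¹ * avg s m g ∈ levSubgroup hM r := fun m => by
    induction m with
    | zero => simp [avg]
    | succ m ih =>
      have e : (g ^ (m + 1))⁻¹ * avg s (m + 1) g =
          g⁻¹ * ((g ^ m)⁻¹ * avg s m g) * g⁻¹⁻¹ * (g⁻¹ * (s ^ m * g * (s ^ m)⁻¹)) := by
        rw [avg, pow_succ g m]; group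
      rw [e]
      exact mul_mem (levSubgroup_conj hM g⁻¹ ih) (hpow m)
  have hrot := avg_rotate s g n
  rw [hs, _root_.one_mul, _root_.inv_one, _root_.mul_one] at hrot
  have hrot' : s * avg s n g * s⁻¹ = g⁻¹ * (avg s n g * g) := by rw [← hrot, inv_mul_cancel_left]
  have e : (avg s n g)⁻¹ * (s * avg s n g * s⁻¹) =
      ((g ^ n)⁻¹ * avg s n g)⁻¹ * (g⁻¹ * ((g ^ n)⁻¹ * avg s n g) * g) := by
    rw [hrot']
    have hc : Commute (g ^ n) g := (Commute.refl g).pow_left n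
    simp only [_root_.mul_inv_rev, _root_.inv_inv, _root_.mul_assoc]
    rw [← _root_.mul_assoc g⁻¹ (g ^ n)⁻¹, ← (hc.inv_inv).eq]
    simp only [_root_.mul_assoc, mul_inv_cancel_left]
  rw [e]
  exact commutator_mem_levSubgroup_succ hM hr hg (hw n)

theorem avg_mem_uni (hM : IsTriangular M) (s : VecGrp.pt k k ⟶ G) {g : VecGrp.pt k k ⟶ G} (hg : g ∈ uni hM) :
    ∀ m, avg s m g ∈ uni hM
  | 0 => one_mem _
  | m + 1 => mul_mem (avg_mem_uni hM s hg m) ((uni_normal hM).conj_mem g hg _)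

theorem iterate_avg (hM : IsTriangular M) {n : ℕ} {s g : VecGrp.pt k k ⟶ G} (hs : s ^ n = 1) (hg : g ∈ uni hM) :
    Commute s ((avg s n)^[d] g) := by
  have key : ∀ j, (avg s n)^[j] g ∈ uni hM ∧
      ((avg s n)^[j] g)⁻¹ * (s * (avg s n)^[j] g * s⁻¹) ∈ levSubgroup hM (1 + j) := fun j => by
    induction j with
    | zero =>
      exact ⟨hg, (lev_one_iff hM _).mp (mul_mem (inv_mem hg) ((uni_normal hM).conj_mem g hg s))⟩
    | succ j ih =>
      rw [Function.iterate_succ_apply']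
      exact ⟨avg_mem_uni hM s ih.1 n, avg_mem_levSubgroup_succ hM (show 1 ≤ 1 + j by omega) hs ih.1 ih.2⟩
  have h1 := inv_mul_eq_one.mp (eq_one_of_lev hM (show d ≤ 1 + d by omega) (key d).2)
  show s * _ = _ * s
  conv_rhs => rw [h1]
  rw [inv_mul_cancel_right]

theorem iterate_avg_of_commute {n : ℕ} {s g : VecGrp.pt k k ⟶ G} (h : Commute s g) :
    ∀ j, (avg s n)^[j] g = g ^ n ^ j
  | 0 => by simp
  | j + 1 => by
    rw [Function.iterate_succ_apply', iterate_avg_of_commute h j, avg_of_commute (h.pow_right _), ← pow_mul, pow_succ]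

/-- Averaging is a morphism. -/
theorem exists_avgHom (s : VecGrp.pt k k ⟶ G) (n j : ℕ) :
    ∃ Φ : G ⟶ G, ∀ g : VecGrp.pt k k ⟶ G, g ≫ Φ = (avg s n)^[j] g := by
  have h1 : ∀ m, ∃ φ : G ⟶ G, ∀ g : VecGrp.pt k k ⟶ G, g ≫ φ = avg s m g := fun m => by
    induction m with
    | zero => exact ⟨1, fun g => MonObj.comp_one g⟩
    | succ m ih =>
      obtain ⟨φ, hφ⟩ := ih
      refine ⟨φ * ((toPt G ≫ s ^ m) * 𝟙 G * (toPt G ≫ (s ^ m)⁻¹)), fun g => ?_⟩
      rw [MonObj.comp_mul, MonObj.comp_mul, MonObj.comp_mul, ← Category.assoc, ← Category.assoc, comp_toPt,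
        Category.id_comp, Category.id_comp, Category.comp_id, hφ, avg]
  obtain ⟨φ, hφ⟩ := h1 n
  induction j with
  | zero => exact ⟨𝟙 G, fun g => Category.comp_id g⟩
  | succ j ih =>
    obtain ⟨Φ, hΦ⟩ := ih
    exact ⟨Φ ≫ φ, fun g => by rw [← Category.assoc, hΦ, hφ, Function.iterate_succ_apply']⟩

variable [ConnectedSpace G.left]

set_option maxHeartbeats 1000000 in
/-- The unipotent points of a connected solvable group form a connected group. -/
theorem exists_uniSubgroup (hM : IsTriangular M) :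
    ∃ (U : Over (Spec (CommRingCat.of k))) (_ : GrpObj U) (iU : U ⟶ G) (_ : IsMonHom iU),
      IsClosedImmersion iU.left ∧ Smooth U.hom ∧ ConnectedSpace U.left ∧
      ∀ g : VecGrp.pt k k ⟶ G, g ∈ uni hM ↔ ∃ u : VecGrp.pt k k ⟶ U, u ≫ iU = g := by
  classical
  obtain ⟨U, _, iU, hiU, hcl, hsm, hcn, hU, -, ⟨R, hR⟩, huniv⟩ := exists_connected_subgroup (uni hM)
    (Set.range fun i => M i i - 1) fun g => by
      rw [Set.forall_mem_range, mem_uni_iff]
      simp only [map_sub, map_one, sub_eq_zero]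
  haveI := hiU; haveI := hcl; haveI := hsm; haveI := hcn
  refine ⟨U, inferInstance, iU, hiU, hcl, hsm, hcn, fun g => ⟨fun hg => ?_, ?_⟩⟩
  swap
  · rintro ⟨u, rfl⟩
    exact hU u
  obtain ⟨T, _, iT, hTm, hTc, hTt, hTf, hTu⟩ := exists_fullTorus hM
  haveI := hTm; haveI := hTc
  obtain ⟨hTs, hTa, hTn, -, -⟩ := TorusBasic.torus_props hTt
  haveI := hTs; haveI := hTa; haveI := hTn
  haveI : QuasiCompact U.hom := by rw [← Over.w iU]; infer_instance
  haveI : LocallyOfFiniteType U.hom := by rw [← Over.w iU]; infer_instance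
  haveI : Mono iU := Over.mono_of_mono_left iU
  let φ : U ⊗ T ⟶ G := (fst U T ≫ iU) * (snd U T ≫ iT)
  have hφ : ∀ (u : VecGrp.pt k k ⟶ U) (t : VecGrp.pt k k ⟶ T), lift u t ≫ φ = (u ≫ iU) * (t ≫ iT) := fun u t => by
    simp only [φ, MonObj.comp_mul, lift_fst_assoc, lift_snd_assoc]
  -- conjugation preserves the connected unipotent part
  have hconj : ∀ (y : VecGrp.pt k k ⟶ G) (u : VecGrp.pt k k ⟶ U), ∃ u' : VecGrp.pt k k ⟶ U,
      u' ≫ iU = y * (u ≫ iU) * y⁻¹ := fun y u => by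
    obtain ⟨w, hw⟩ := huniv U (iU ≫ inner (toPt _ ≫ y)) fun p => by
      rw [comp_inner_point]
      exact (uni_normal hM).conj_mem _ (hU p) y
    exact ⟨u ≫ w, by rw [Category.assoc, hw, comp_inner_point]⟩
  -- finitely many translates of the product cover
  let L : (VecGrp.pt k k ⟶ G) → (G ⟶ G) := fun r => (toPt G ≫ r⁻¹) * 𝟙 G
  have hL : ∀ r y, y ≫ L r = r⁻¹ * y := fun r y => by
    rw [MonObj.comp_mul, ← Category.assoc, comp_toPt, Category.id_comp, Category.comp_id]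
  haveI : IrreducibleSpace G.left := GrpFieldLib.SmoothDense.irreducibleSpace_of_connected G.hom
  haveI : LocallyOfFiniteType T.hom := inferInstance
  haveI : Smooth (U ⊗ T).hom := inferInstanceAs (Smooth (pullback.fst U.hom T.hom ≫ U.hom))
  haveI : QuasiCompact (U ⊗ T).hom := inferInstanceAs (QuasiCompact (pullback.fst U.hom T.hom ≫ U.hom))
  let Z : R → Set G.left := fun r => (L r.1).left ⁻¹' closure (Set.range φ.left)
  have hZ : ∀ r, IsClosed (Z r) := fun r => isClosed_closure.preimage (Scheme.Hom.continuous _)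
  have hcov : (Set.univ : Set G.left) ⊆ ⋃ r, Z r := by
    intro x _
    by_contra hx
    obtain ⟨y, hy⟩ := exists_point_mem (D := G) (isClosed_iUnion_of_finite hZ).isOpen_compl ⟨x, hx⟩
    obtain ⟨t, ht⟩ := hTf y
    obtain ⟨r, hr, u, hu⟩ := hR (y * (t ≫ iT)⁻¹) (by
      rw [mem_uni_iff_diagHom, map_mul, ← ht, ← map_mul, mul_inv_cancel, map_one])
    refine hy (Set.mem_iUnion.mpr ⟨⟨r, hr⟩, subset_closure ⟨(lift u t).left (IsLocalRing.closedPoint k), ?_⟩⟩)
    rw [← Scheme.Hom.comp_apply, ← Over.comp_left, ← Scheme.Hom.comp_apply, ← Over.comp_left, hL, hφ]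
    rw [show r⁻¹ * y = (u ≫ iU) * (t ≫ iT) by
      rw [inv_mul_eq_iff_eq_mul, ← _root_.mul_assoc, hu, inv_mul_cancel_right]]
  have hdense : closure (Set.range φ.left) = Set.univ := by
    obtain ⟨z, hz, hsub⟩ := isIrreducible_iff_sUnion_isClosed.mp
      (IrreducibleSpace.isIrreducible_univ G.left) ((Set.finite_range Z).toFinset)
      (fun z hz => by
        obtain ⟨r, rfl⟩ := (Set.finite_range Z).mem_toFinset.mp hz
        exact hZ r)
      (by simpa using hcov)
    obtain ⟨r, rfl⟩ := (Set.finite_range Z).mem_toFinset.mp hz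
    by_contra hne
    obtain ⟨x, hx⟩ := (Set.ne_univ_iff_exists_notMem _).mp hne
    obtain ⟨y, hy⟩ := exists_point_mem (D := G) isClosed_closure.isOpen_compl ⟨x, hx⟩
    refine hy ?_
    have h1 : ((r.1 * y) ≫ L r.1).left (IsLocalRing.closedPoint k) ∈ closure (Set.range φ.left) := by
      rw [Over.comp_left, Scheme.Hom.comp_apply]
      exact hsub (Set.mem_univ _)
    rwa [hL, inv_mul_cancel_left] at h1
  haveI : IsLocallyNoetherian G.left := LocallyOfFiniteType.isLocallyNoetherian G.hom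
  haveI : LocallyOfFiniteType φ.left := by
    haveI : LocallyOfFiniteType (φ.left ≫ G.hom) := by rw [Over.w φ]; infer_instance
    exact locallyOfFiniteType_of_comp φ.left G.hom
  haveI : LocallyOfFinitePresentation φ.left := inferInstance
  haveI : QuasiCompact φ.left := by
    haveI : QuasiCompact (φ.left ≫ G.hom) := by rw [Over.w φ]; infer_instance
    exact QuasiCompact.of_comp φ.left G.hom
  haveI : CompactSpace (U ⊗ T).left := (quasiCompact_iff_compactSpace (U ⊗ T).hom).mp inferInstance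
  obtain ⟨V, hVsub, hV, hVd⟩ : ∃ V ⊆ Set.range φ.left, IsOpen V ∧ V.Nonempty := by
    have hcons : Topology.IsConstructible (Set.range φ.left) := by
      rw [← Set.image_univ]
      exact φ.left.isConstructible_image .univ
    by_cases hη : genericPoint G.left ∈ Set.range φ.left
    · obtain ⟨V, hV, hVo, hVη⟩ :=
        mem_nhds_iff.mp ((VarDim.mem_nhds_of_isConstructible (fun z => genericPoint_specializes z) hcons).1 hη)
      exact ⟨V, hV, hVo, _, hVη⟩
    · obtain ⟨V, hV, hVo, hVη⟩ :=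
        mem_nhds_iff.mp ((VarDim.mem_nhds_of_isConstructible (fun z => genericPoint_specializes z) hcons).2 hη)
      have hcl : closure (Set.range φ.left) ⊆ Vᶜ :=
        closure_minimal (fun x hx hxV => hV hxV hx) hVo.isClosed_compl
      exact absurd hVη (hcl (hdense ▸ Set.mem_univ _))
  let Ly := (L g⁻¹).left
  obtain ⟨y, hy1, hy2⟩ := exists_point_mem (D := G) (U := V ∩ Ly ⁻¹' V) (hV.inter (hV.preimage (Scheme.Hom.continuous _)))
    (nonempty_preirreducible_inter hV (hV.preimage (Scheme.Hom.continuous _)) hVd (by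
      obtain ⟨p, hp⟩ := exists_point_mem (D := G) hV hVd
      refine ⟨(g⁻¹ * p).left (IsLocalRing.closedPoint k), ?_⟩
      show Ly _ ∈ V
      rw [← Scheme.Hom.comp_apply, ← Over.comp_left, hL, _root_.inv_inv, mul_inv_cancel_left]
      exact hp))
  have himg : ∀ y : VecGrp.pt k k ⟶ G, y.left (IsLocalRing.closedPoint k) ∈ V →
      ∃ (u : VecGrp.pt k k ⟶ U) (t : VecGrp.pt k k ⟶ T), y = (u ≫ iU) * (t ≫ iT) := fun y hy => by
    obtain ⟨p, hp⟩ := exists_point_of_mem_range φ y (hVsub hy)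
    refine ⟨p ≫ fst U T, p ≫ snd U T, ?_⟩
    rw [← hφ, ← comp_lift, lift_fst_snd, Category.comp_id, hp]
  obtain ⟨u₁, t₁, h1⟩ := himg y hy1
  obtain ⟨u₂, t₂, h2⟩ := himg (g * y) (by
    have h : Ly (y.left (IsLocalRing.closedPoint k)) ∈ V := hy2
    rwa [← Scheme.Hom.comp_apply, ← Over.comp_left, hL, _root_.inv_inv] at h)
  obtain ⟨u₃, hu₃⟩ := hconj ((t₂ * t₁⁻¹) ≫ iT) u₁⁻¹
  have e : g = ((u₂ * u₃) ≫ iU) * ((t₂ * t₁⁻¹) ≫ iT) := by
    rw [MonObj.mul_comp u₂ u₃, hu₃, show g = g * y * y⁻¹ by rw [mul_inv_cancel_right], h2, h1, MonObj.mul_comp,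
      GrpObj.inv_comp, GrpObj.inv_comp]
    group
  have ht : (t₂ * t₁⁻¹) ≫ iT ∈ uni hM := by
    rw [show (t₂ * t₁⁻¹) ≫ iT = ((u₂ * u₃) ≫ iU)⁻¹ * g by rw [e, inv_mul_cancel_left]]
    exact mul_mem (inv_mem (hU _)) hg
  exact ⟨u₂ * u₃, by rw [e, hTu _ ht, MonObj.one_comp, _root_.mul_one]⟩

set_option maxHeartbeats 1000000 in
/-- In a connected solvable group the centralizer of a torus is connected. -/
theorem centralizer_connected_solvable (hM : IsTriangular M) {T : Over (Spec (CommRingCat.of k))} [GrpObj T]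
    (hT : Red.IsTorus T) (iT : T ⟶ G) [IsMonHom iT] (g : VecGrp.pt k k ⟶ G)
    (hg : ∀ s : VecGrp.pt k k ⟶ T, Commute (s ≫ iT) g)
    {C : Over (Spec (CommRingCat.of k))} [GrpObj C] (iC : C ⟶ G) [IsMonHom iC] [IsClosedImmersion iC.left]
    (hR : ∃ R : Finset (VecGrp.pt k k ⟶ G), ∀ g, (∀ s : VecGrp.pt k k ⟶ T, Commute (s ≫ iT) g) →
      ∃ r ∈ R, ∃ c : VecGrp.pt k k ⟶ C, r * (c ≫ iC) = g) :
    ∃ c : VecGrp.pt k k ⟶ C, c ≫ iC = g := by
  obtain ⟨T₁, _, iT₁, h₁⟩ := exists_fullTorus hM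
  obtain ⟨x, e, he⟩ := exists_conj_into_fullTorus hM iT₁ h₁ hT iT
  obtain ⟨h1m, h1c, h1t, h1f, h1u⟩ := h₁
  haveI := h1m; haveI := h1c
  obtain ⟨hTs, hTa, hTn, -, -⟩ := TorusBasic.torus_props h1t
  haveI := hTs; haveI := hTa; haveI := hTn
  haveI : IrreducibleSpace T₁.left := GrpFieldLib.SmoothDense.irreducibleSpace_of_connected T₁.hom
  let j := iT₁ ≫ inner x⁻¹
  have hej : e ≫ j = iT := by
    rw [← Category.assoc, he, Category.assoc, inner_inner, inv_mul_cancel, inner_one, Category.comp_id]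
  have hjdiag : ∀ p : VecGrp.pt k k ⟶ T₁, diagHom hM (p ≫ j) = diagHom hM (p ≫ iT₁) := fun p => by
    rw [← Category.assoc, comp_inner, diagHom_conj]
  obtain ⟨R, hR⟩ := hR
  obtain ⟨t, n, hn, htn, hgen⟩ := exists_generic hT iT
  let s := t ≫ iT
  have hsn : s ^ n = 1 := by rw [← MonObj.pow_comp, htn, MonObj.one_comp]
  have hcos : ∀ y, Commute s y → ∃ r ∈ R, ∃ c : VecGrp.pt k k ⟶ C, r * (c ≫ iC) = y := fun y hy => hR y (hgen y hy)
  -- the torus part
  have hsT₁ : ∀ p : VecGrp.pt k k ⟶ T₁, Commute s (p ≫ j) := fun p => by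
    show (t ≫ iT) * (p ≫ j) = (p ≫ j) * (t ≫ iT)
    rw [← hej, ← Category.assoc, ← MonObj.mul_comp, ← MonObj.mul_comp, TorusBilin.comm_of_isTorus h1t]
  obtain ⟨t₀, ht₀⟩ := h1f g
  obtain ⟨c₁, hc₁⟩ := exists_factor_of_cosets iC R j 1 (MonObj.one_comp j) (fun p => hcos _ (hsT₁ p)) t₀
  -- the unipotent part
  have hu : g * (t₀ ≫ j)⁻¹ ∈ uni hM := by
    rw [mem_uni_iff_diagHom, map_mul, ← ht₀, ← hjdiag, ← map_mul, mul_inv_cancel, map_one]
  obtain ⟨v, hv, hvn, hvc⟩ := exists_root hM (n := n ^ d) (by rw [Nat.cast_pow]; exact pow_ne_zero _ hn) hu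
  have hsv : Commute s v := hvc s ((hg t).mul_right (hsT₁ t₀).inv_right)
  obtain ⟨U, _, iU, hiU, hUc, hUs, hUn, hU⟩ := exists_uniSubgroup hM
  haveI := hiU; haveI := hUc; haveI := hUs; haveI := hUn
  haveI : IrreducibleSpace U.left := GrpFieldLib.SmoothDense.irreducibleSpace_of_connected U.hom
  obtain ⟨Φ, hΦ⟩ := exists_avgHom s n d
  obtain ⟨u₀, hu₀⟩ := (hU v).mp hv
  have hΦ1 : (1 : VecGrp.pt k k ⟶ G) ≫ Φ = 1 := by
    rw [hΦ, iterate_avg_of_commute (Commute.one_right s), _root_.one_pow]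
  obtain ⟨c₂, hc₂⟩ := exists_factor_of_cosets iC R (iU ≫ Φ) 1
    (by rw [← Category.assoc, MonObj.one_comp, hΦ1])
    (fun p => hcos _ (by
      rw [← Category.assoc, hΦ]
      exact iterate_avg hM hsn ((hU _).mpr ⟨p, rfl⟩))) u₀
  refine ⟨c₂ * c₁, ?_⟩
  rw [MonObj.mul_comp, hc₁, hc₂, ← Category.assoc, hu₀, hΦ, iterate_avg_of_commute hsv, hvn, inv_mul_cancel_right]

end Groth.Agent.GModLib
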