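import Groth.Agent.GModLib.CentralizerConnected
import Groth.Agent.GModLib.BorelCentralizing

/-!
# Centralizers of tori in connected groups are connected
-/

set_option autoImplicit false
set_option backward.isDefEq.respectTransparency false
set_option backward.isDefEq.respectTransparency.types false

universe u

open CategoryTheory Limits AlgebraicGeometry MonoidalCategory CartesianMonoidalCategory MonObj GrpObj

namespace Groth.Agent.GModLib

open GrpSchLib GrpSchLib.Kunneth

variable {k : Type u} [Field k] [IsAlgClosed k] {G : Over (Spec (CommRingCat.of k))} [GrpObj G] [IsAffine G.left]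
  [Smooth G.hom] [ConnectedSpace G.left] {T : Over (Spec (CommRingCat.of k))} [GrpObj T]

/-- The centralizer of a torus: a connected subgroup containing every point commuting with the torus. -/
theorem exists_torus_centralizer_connected (hT : Red.IsTorus T) (iT : T ⟶ G) [IsMonHom iT] :
    ∃ (C : Over (Spec (CommRingCat.of k))) (_ : GrpObj C) (i : C ⟶ G) (_ : IsMonHom i),
      IsClosedImmersion i.left ∧ Smooth C.hom ∧ ConnectedSpace C.left ∧
      (∀ (c : VecGrp.pt k k ⟶ C) (s : VecGrp.pt k k ⟶ T), Commute (s ≫ iT) (c ≫ i)) ∧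
      (∀ g, (∀ s : VecGrp.pt k k ⟶ T, Commute (s ≫ iT) g) → ∃ c : VecGrp.pt k k ⟶ C, c ≫ i = g) ∧
      ∀ (D : Over (Spec (CommRingCat.of k))) [GrpObj D] [Smooth D.hom] [ConnectedSpace D.left] (f : D ⟶ G)
        [IsMonHom f], (∀ (p : VecGrp.pt k k ⟶ D) (s : VecGrp.pt k k ⟶ T), Commute (s ≫ iT) (p ≫ f)) →
          ∃ u : D ⟶ C, u ≫ i = f := by
  obtain ⟨C, hC, i, hi, h1, h2, h3, h4, -, -, h7⟩ := exists_torus_centralizer iT
  refine ⟨C, hC, i, hi, h1, h2, h3, h4, fun g hg => ?_, h7⟩
  obtain ⟨q1, q2, q3, -, -⟩ := TorusBasic.torus_props hT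
  haveI := q1; haveI := q2; haveI := q3
  obtain ⟨B, _, iB, hB, t, b, ht, hb⟩ := exists_borel_centralizing (isSolvableGrp_of_torus hT) iT g hg
  obtain ⟨hBm, hBcl, hBsm, hBconn, hBsol, -⟩ := id hB
  haveI := hBm; haveI := hBcl; haveI := hBsm; haveI := hBconn
  haveI : IsAffine B.left := isAffine_of_isAffineHom iB.left
  haveI : Mono iB := Over.mono_of_mono_left iB
  haveI : IsMonHom (t ≫ iB) := by rw [ht]; infer_instance
  haveI : IsMonHom t := isMonHom_of_comp t iB
  obtain ⟨d, M, hM⟩ := exists_triangular hBsol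
  obtain ⟨D, _, j, hj, hjc, hjs, hjn, hjmem, -, hjR, -⟩ := exists_torus_centralizer t
  haveI := hj; haveI := hjc; haveI := hjs; haveI := hjn
  obtain ⟨c, hc⟩ := centralizer_connected_solvable hM hT t b (fun s => by
    show (s ≫ t) * b = b * (s ≫ t)
    rw [← cancel_mono iB, MonObj.mul_comp, MonObj.mul_comp, Category.assoc, ht, hb]
    exact (hg s).eq) j hjR
  obtain ⟨w, hw⟩ := h7 D (j ≫ iB) fun p s => by
    rw [← ht, ← Category.assoc, ← Category.assoc p j iB]
    exact (hjmem p s).map (pushPt iB)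
  exact ⟨c ≫ w, by rw [Category.assoc, hw, ← Category.assoc, hc, hb]⟩

end Groth.Agent.GModLib
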