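import Groth.Agent.GModLib.Borel
import Groth.Agent.GModLib.CentralTorus
import Groth.Agent.GModLib.CentralizerBC
import Groth.Agent.GModLib.CentralKernelRelative
import Groth.Agent.GModLib.CentralizerConnected

/-!
# The centralizer of a Borel subgroup is the centre
-/

set_option autoImplicit false
set_option backward.isDefEq.respectTransparency false
set_option backward.isDefEq.respectTransparency.types false

universe u

open CategoryTheory Limits AlgebraicGeometry MonoidalCategory CartesianMonoidalCategory MonObj GrpObj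

namespace Groth.Agent.GModLib

open GrpSchLib GrpSchLib.Kunneth GrpFieldLib GrpSchLib.AffineHopf

variable {k : Type u} [Field k]

theorem ev_toPt_comp [IsAlgClosed k] {Z G : Over (Spec (CommRingCat.of k))} (g : VecGrp.pt k k ⟶ G) (a : Fn G) :
    ev (toPt Z ≫ g) a = algebraMap k (Fn Z) (pullFn g a) := by
  haveI : Smooth (VecGrp.pt k k).hom := by
    show Smooth (Spec.map (CommRingCat.ofHom (algebraMap k k)))
    rw [show CommRingCat.ofHom (algebraMap k k) = 𝟙 _ from rfl, Spec.map_id]; infer_instance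
  haveI : IsReduced (VecGrp.pt k k).left := GrpSchLib.isReduced_of_smooth_field (VecGrp.pt k k).hom
  have h : ev g a = algebraMap k (Fn (VecGrp.pt k k)) (pullFn g a) := eq_of_forall_point fun p => by
    rw [pullFn_ev, S11188.pt_end_eq p, Category.id_comp, AlgHom.commutes]
    rfl
  rw [← ev_ev, h, AlgHom.commutes]

set_option maxHeartbeats 1000000 in
/-- A point of an affine scheme commuting with a Borel subgroup is central, over an algebraically closed field. -/
theorem conj_eq_of_commute_borel [IsAlgClosed k] {G Z B : Over (Spec (CommRingCat.of k))} [GrpObj G] [IsAffine G.left]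
    [Smooth G.hom] [ConnectedSpace G.left] [IsAffine Z.left] [GrpObj B] (iB : B ⟶ G) (hB : Red.IsBorelOver k iB)
    (z : Z ⟶ G) (hz : ∀ b : VecGrp.pt k k ⟶ B, (toPt Z ≫ b ≫ iB) * z = z * (toPt Z ≫ b ≫ iB)) :
    fst G Z * (snd G Z ≫ z) = (snd G Z ≫ z) * fst G Z := by
  classical
  haveI : Smooth B.hom := hB.2.2.1
  haveI := hB.1
  haveI : IsReduced G.left := GrpSchLib.isReduced_of_smooth_field G.hom
  let conj : G ⊗ Z ⟶ G := fst G Z * (snd G Z ≫ z) * (fst G Z)⁻¹
  suffices h : conj = snd G Z ≫ z by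
    calc fst G Z * (snd G Z ≫ z) = conj * fst G Z := by simp only [conj]; group
      _ = _ := by rw [h]
  let b := Module.Free.chooseBasis k (Fn Z)
  have hsec : ∀ (g : VecGrp.pt k k ⟶ G), lift (toPt Z ≫ g) (𝟙 Z) ≫ conj = (toPt Z ≫ g) * z * (toPt Z ≫ g)⁻¹ :=
    fun g => by
      simp only [conj, MonObj.comp_mul, GrpObj.comp_inv, lift_fst, lift_snd_assoc, Category.id_comp]
  refine LineGroups.ext_ev (AlgHom.ext fun F => ?_)
  obtain ⟨s, a, ha⟩ := exists_expand (X := G) (Y := Z) b (ev conj F)
  have hval : ∀ g : VecGrp.pt k k ⟶ G,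
      ev ((toPt Z ≫ g) * z * (toPt Z ≫ g)⁻¹) F = ∑ l ∈ s, pullFn g (a l) • b l := fun g => by
    rw [← hsec g, ← ev_ev, ha, map_sum]
    refine Finset.sum_congr rfl fun l _ => ?_
    rw [map_mul, ev_ev, ev_ev, lift_fst, lift_snd, ev_toPt_comp, Algebra.smul_def]
    congr 1
  have hinv : ∀ l ∈ s, ∀ (g : VecGrp.pt k k ⟶ G) (x : VecGrp.pt k k ⟶ B),
      pullFn (g * (x ≫ iB)) (a l) = pullFn g (a l) := fun l hl g x => by
    refine linearIndependent_iff'ₛ.mp b.linearIndependent s (fun l => pullFn (g * (x ≫ iB)) (a l))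
      (fun l => pullFn g (a l)) ?_ l hl
    rw [← hval, ← hval]
    congr 2
    rw [MonObj.comp_mul, _root_.mul_inv_rev, _root_.mul_assoc (toPt Z ≫ g), hz x]
    group
  rw [ha]
  have hconst : ∀ l ∈ s, ev (fst G Z) (a l) = algebraMap k _ (pullFn (1 : VecGrp.pt k k ⟶ G) (a l)) := fun l hl => by
    have e : a l = algebraMap k (Fn G) (pullFn (1 : VecGrp.pt k k ⟶ G) (a l)) := eq_of_forall_point fun p => by
      rw [pullFn_eq_of_invariant iB (borel_cocompact iB hB) (a l) (hinv l hl) p 1, AlgHom.commutes]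
      rfl
    conv_lhs => rw [e, AlgHom.commutes]
  rw [Finset.sum_congr rfl fun l hl => by rw [hconst l hl, ← Algebra.smul_def, ← map_smul], ← map_sum, ← ev_ev]
  congr 1
  rw [← hval 1, MonObj.comp_one, _root_.one_mul, _root_.inv_one, _root_.mul_one]

set_option maxHeartbeats 1000000 in
/-- The centralizer of a Borel subgroup is central. -/
theorem centralizer_borel_central {G B : Over (Spec (CommRingCat.of k))} [GrpObj G] [IsAffine G.left]
    [Smooth G.hom] [ConnectedSpace G.left] [GrpObj B] (iB : B ⟶ G) (hB : Red.IsBorel iB)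
    (X : Over (Spec (CommRingCat.of k))) (g : X ⟶ G)
    (hg : ∀ (X' : Over (Spec (CommRingCat.of k))) (x : X' ⟶ X) (b : X' ⟶ B), (x ≫ g) * (b ≫ iB) = (b ≫ iB) * (x ≫ g))
    (h : X ⟶ G) : g * h = h * g := by
  haveI := hB.1; haveI := hB.2.1; haveI := hB.2.2.1
  haveI : Mono iB := Over.mono_of_mono_left iB
  let s : ↥(Spec (CommRingCat.of k)) := IsLocalRing.closedPoint k
  let σ := Red.geomPt s
  haveI : Subsingleton ↥(Spec (CommRingCat.of k)) := inferInstanceAs (Subsingleton (PrimeSpectrum k))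
  haveI : Surjective σ := ⟨fun z => ⟨IsLocalRing.closedPoint _, Subsingleton.elim _ _⟩⟩
  haveI : IsAffineHom σ := inferInstance
  have huniv : ∀ t, G.hom.base ⁻¹' {t} = Set.univ := fun t =>
    Set.eq_univ_of_forall fun x => Subsingleton.elim (α := ↥(Spec (CommRingCat.of k))) _ _
  haveI : ConnectedSpace ↥(Red.bc σ G).left :=
    connectedSpace_geomFibre (fun t => by rw [huniv t]; exact isConnected_univ) s
  haveI : IsAffine (Red.bc σ G).left := inferInstanceAs (IsAffine (pullback G.hom σ))
  haveI : Smooth (Red.bc σ G).hom := inferInstanceAs (Smooth (pullback.snd G.hom σ))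
  have hconnB : SGA3x.neutralSet B = Set.univ := Jet.neutralSet_eq_univ_of_connected B fun t => by
    haveI : ConnectedSpace ↥(pullback B.hom (Red.geomPt t)) := (hB.2.2.2 t).2.2.2.1
    haveI : Surjective (Red.geomPt t) := ⟨fun z => ⟨IsLocalRing.closedPoint _, Subsingleton.elim _ _⟩⟩
    haveI : Surjective (pullback.fst B.hom (Red.geomPt t)) := inferInstance
    haveI : ConnectedSpace B.left := Function.Surjective.connectedSpace (pullback.fst B.hom (Red.geomPt t)).surjective
      (pullback.fst B.hom (Red.geomPt t)).continuous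
    haveI : IsIso ((Spec (CommRingCat.of k)).fromSpecResidueField t) := by
      haveI : IsClosedImmersion ((Spec (CommRingCat.of k)).fromSpecResidueField t) :=
        .of_isPreimmersion _ (Set.subsingleton_of_subsingleton.isClosed)
      haveI : Surjective ((Spec (CommRingCat.of k)).fromSpecResidueField t) :=
        ⟨fun z => ⟨IsLocalRing.closedPoint _, Subsingleton.elim _ _⟩⟩
      exact isIso_of_isClosedImmersion_of_surjective _
    let e := (asIso (pullback.fst B.hom ((Spec (CommRingCat.of k)).fromSpecResidueField t))).inv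
    exact e.homeomorph.surjective.connectedSpace e.continuous
  obtain ⟨C, _, c, hc, hcc, -⟩ := GrpFieldLib.Jet.exists_centralizer iB hconnB
  haveI := hcc; haveI := hc.1; haveI := hc.2.1
  haveI : IsAffine C.left := isAffine_of_isAffineHom c.left
  obtain ⟨u, rfl⟩ := (hc.2.2 X g).mpr hg
  haveI : IsAffine (Red.bc σ C).left := inferInstanceAs (IsAffine (pullback C.hom σ))
  have hcK := BC.isCentralizerOf_bc σ hc
  have key := conj_eq_of_commute_borel ((Over.pullback σ).map iB) (hB.2.2.2 s) ((Over.pullback σ).map c) fun b => by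
    have e := (hcK.2.2 _ ((Over.pullback σ).map c)).mp ⟨𝟙 _, Category.id_comp _⟩ _ (𝟙 _) (toPt _ ≫ b)
    rw [Category.id_comp] at e
    simpa only [Category.assoc] using e.symm
  let X' := (Over.map σ).obj (Red.bc σ X)
  let p : X' ⟶ X := Over.homMk (pullback.fst X.hom σ) pullback.condition
  haveI : Flat p.left := inferInstanceAs (Flat (pullback.fst X.hom σ))
  haveI : Surjective p.left := inferInstanceAs (Surjective (pullback.fst X.hom σ))
  haveI : QuasiCompact p.left := inferInstanceAs (QuasiCompact (pullback.fst X.hom σ))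
  haveI : Epi p := (show GrpSchLib.IsCover p from ⟨inferInstance, inferInstance, inferInstance⟩).epi
  obtain ⟨u', hu'⟩ := (DSPtsLib.theta_bijective σ).2 (p ≫ u)
  obtain ⟨h', hh'⟩ := (DSPtsLib.theta_bijective σ).2 (p ≫ h)
  have e := congrArg (fun φ => lift h' u' ≫ φ) key
  simp only [MonObj.comp_mul, lift_fst, lift_snd_assoc] at e
  replace e := congrArg (DSPtsLib.theta σ) e
  rw [DSPtsLib.theta_mul, DSPtsLib.theta_mul, BC.theta_map, hu', hh', Category.assoc, ← MonObj.comp_mul,
    ← MonObj.comp_mul, cancel_epi] at e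
  exact e.symm

theorem isCentralizerOf_borel_iff {G B C : Over (Spec (CommRingCat.of k))} [GrpObj G] [IsAffine G.left]
    [Smooth G.hom] [ConnectedSpace G.left] [GrpObj B] [GrpObj C] (iB : B ⟶ G) (hB : Red.IsBorel iB) (c : C ⟶ G) :
    Red.IsCentralizerOf iB c ↔ Red.IsCentre c := by
  have hpt : ∀ (X : Over (Spec (CommRingCat.of k))) (g : X ⟶ G),
      (∀ (X' : Over (Spec (CommRingCat.of k))) (x : X' ⟶ X) (b : X' ⟶ B), (x ≫ g) * (b ≫ iB) = (b ≫ iB) * (x ≫ g)) ↔
      ∀ (X' : Over (Spec (CommRingCat.of k))) (x : X' ⟶ X) (y : X' ⟶ G), (x ≫ g) * (y ≫ 𝟙 G) = (y ≫ 𝟙 G) * (x ≫ g) :=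
    fun X g => ⟨fun h X' x y => centralizer_borel_central iB hB X' (x ≫ g)
      (fun X'' x' b => by rw [← Category.assoc]; exact h X'' (x' ≫ x) b) (y ≫ 𝟙 G),
      fun h X' x b => by simpa using h X' x (b ≫ iB)⟩
  constructor
  · exact fun ⟨h1, h2, h3⟩ => ⟨h1, h2, fun X g => (h3 X g).trans (hpt X g)⟩
  · exact fun ⟨h1, h2, h3⟩ => ⟨h1, h2, fun X g => (h3 X g).trans (hpt X g).symm⟩

end Groth.Agent.GModLib
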