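import Groth.Agent.GModLib.CentreWeights
import Groth.Agent.S5247

/-!
# The centre of a group with a self-centralizing split torus is diagonalizable, locally on the base
-/

set_option autoImplicit false
set_option linter.style.haveILetI false
set_option backward.isDefEq.respectTransparency false
set_option backward.isDefEq.respectTransparency.types false

universe u

open CategoryTheory CategoryTheory.Limits MonoidalCategory CartesianMonoidalCategory MonObj GrpObj AlgebraicGeometry
open scoped TensorProduct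
open MonoidAlgebra

namespace Groth.Agent.GModLib

open GrpSchLib.AffineHopf CentreWeights

/-- A diagonalizable group with finitely generated exponents is of multiplicative type and of finite type. -/
theorem isMultTypeFT_of_iso_DS {S : Scheme.{u}} {H : Over S} [GrpObj H] {Q : Type} [AddCommGroup Q] (hQ : AddGroup.FG Q)
    (e : Grp.mk H ≅ Grp.mk (Red.DS S Q)) : SGA3x.IsMultTypeFT H := by
  refine ⟨S, 𝟙 S, inferInstance, inferInstance, fun V hV => ⟨V, hV.isCompact, by simp⟩, fun s => ⟨⊤, trivial, Q, _, hQ, ?_⟩⟩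
  obtain ⟨e₁⟩ := GrpSchLib.MultTypeBC.bc_iso ((⊤ : S.Opens).ι ≫ 𝟙 S) e
  obtain ⟨e₂⟩ := GrpSchLib.MultTypeBC.bc_DS ((⊤ : S.Opens).ι ≫ 𝟙 S) Q
  exact ⟨e₁ ≪≫ e₂⟩

variable {R : Type u} [CommRing R]

/-- Points over a base change that come from an algebra. -/
theorem exists_sp_iso_map {B : Type u} [CommRing B] (φ : R →+* B) (P : Over (Spec (CommRingCat.of B))) [IsAffine P.left] :
    ∃ (W : Type u) (_ : CommRing W) (_ : Algebra R W) (ψ : B →+* W)
      (e : sp R W ⟶ (Over.map (Spec.map (CommRingCat.ofHom φ))).obj P), IsIso e ∧ ψ.comp φ = algebraMap R W := by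
  let P' := (Over.map (Spec.map (CommRingCat.ofHom φ))).obj P
  haveI : IsAffine P'.left := ‹IsAffine P.left›
  obtain ⟨W, _, _, e, he⟩ := exists_sp_iso P'
  let ψ : CommRingCat.of B ⟶ CommRingCat.of W := Spec.preimage (e.left ≫ P.hom)
  refine ⟨W, inferInstance, inferInstance, ψ.hom, e, he, ?_⟩
  have h1 : e.left ≫ P.hom ≫ Spec.map (CommRingCat.ofHom φ) = Spec.map (CommRingCat.ofHom (algebraMap R W)) :=
    Over.w e
  have h2 : CommRingCat.ofHom φ ≫ ψ = CommRingCat.ofHom (algebraMap R W) := Spec.map_injective (by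
    rw [Spec.map_comp, Spec.map_preimage, Category.assoc, h1])
  exact congrArg CommRingCat.Hom.hom h2

set_option maxHeartbeats 2000000 in
/-- Near every point the centre of a group with a split self-centralizing torus is diagonalizable. -/
theorem exists_away_centre_diag_aux {A : Type u} [CommRing A] [HopfAlgebra R A] [Algebra.Smooth R A]
    {N : Type} [AddCommGroup N] [Module.Finite ℤ N] (t : sp R (MonoidAlgebra R (Multiplicative N)) ⟶ sp R A)
    (ht : Red.IsCentralizerOf t t) (hconn : ∀ s, _root_.IsConnected ((sp R A).hom.base ⁻¹' {s}))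
    {Z : Over (Spec (CommRingCat.of R))} [GrpObj Z] (z : Z ⟶ sp R A) (hz : Red.IsCentre z) [IsAffine Z.left]
    (p : Ideal R) [p.IsPrime] :
    ∃ f ∉ p, ∃ (Q : Type) (_ : AddCommGroup Q), AddGroup.FG Q ∧
      Nonempty (Grp.mk (Red.bc (Spec.map (CommRingCat.ofHom (algebraMap R (Localization.Away f)))) Z) ≅
        Grp.mk (Red.DS (Spec (CommRingCat.of (Localization.Away f))) Q)) := by
  haveI := ht.1; haveI := ht.2.1; haveI := hz.1; haveI := hz.2.1
  haveI : Smooth (sp R A).hom :=
    (HasRingHomProperty.Spec_iff (P := @Smooth)).mpr (RingHom.smooth_algebraMap.mpr inferInstance)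
  haveI : IsAffineHom (sp R A).hom :=
    inferInstanceAs (IsAffineHom (Spec.map (CommRingCat.ofHom (algebraMap R A))))
  obtain ⟨ρ, hρ⟩ := CentreWeights.exists_conj t
  obtain ⟨f₁, hf₁, hcentral⟩ := exists_away_central hρ p
  let Γ := AddSubgroup.closure (weightSet ρ p)
  let Q := N ⧸ Γ
  let π : N →+ Q := QuotientAddGroup.mk' Γ
  have hπs : Function.Surjective π := QuotientAddGroup.mk'_surjective Γ
  have hQ : AddGroup.FG Q := by
    haveI : AddGroup.FG N := Module.Finite.iff_addGroup_fg.mp inferInstance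
    exact AddGroup.fg_of_surjective hπs
  let πA : MonoidAlgebra R (Multiplicative N) →ₐc[R] MonoidAlgebra R (Multiplicative Q) :=
    MonoidAlgebra.mapDomainBialgHom R (AddMonoidHom.toMultiplicative π)
  have hπA : Function.Surjective πA := fun y => by
    induction y using MonoidAlgebra.induction_linear with
    | zero => exact ⟨0, map_zero _⟩
    | add a b ha hb => obtain ⟨a', rfl⟩ := ha; obtain ⟨b', rfl⟩ := hb; exact ⟨a' + b', map_add _ _ _⟩
    | single m r =>
      obtain ⟨n, hn⟩ := hπs m.toAdd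
      exact ⟨MonoidAlgebra.single (Multiplicative.ofAdd n) r, by
        show MonoidAlgebra.mapDomain _ _ = _
        rw [MonoidAlgebra.mapDomain_single]
        exact congrArg (MonoidAlgebra.single · r) (congrArg Multiplicative.ofAdd hn)⟩
  let H := sp R (MonoidAlgebra R (Multiplicative Q))
  let π' : H ⟶ sp R (MonoidAlgebra R (Multiplicative N)) :=
    spMap (πA : MonoidAlgebra R (Multiplicative N) →ₐ[R] MonoidAlgebra R (Multiplicative Q))
  haveI : IsClosedImmersion π'.left := IsClosedImmersion.spec_of_surjective _ hπA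
  haveI : Mono π' := Over.mono_of_mono_left π'
  let u : H ⟶ sp R A := π' ≫ t
  haveI : IsMonHom u := inferInstanceAs (IsMonHom (π' ≫ t))
  haveI : Mono u := inferInstanceAs (Mono (π' ≫ t))
  obtain ⟨d⟩ := nonempty_DS_iso R Q
  have hH : SGA3x.IsMultTypeFT H := isMultTypeFT_of_iso_DS hQ d
  obtain ⟨C, _, c, hc, hcc, hcs⟩ := Groth.Agent.S5247.result H (sp R A) hH ‹_› ‹_› u
  haveI := hc.1; haveI := hc.2.1; haveI := hcc; haveI := hcs
  -- the fibre
  let k := AlgebraicClosure p.ResidueField
  let φ : R →+* k := (algebraMap p.ResidueField k).comp (algebraMap R p.ResidueField)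
  have hφ : RingHom.ker φ = p :=
    (RingHom.ker_comp_of_injective _ (RingHom.injective _)).trans (Ideal.ker_algebraMap_residueField p)
  let a : Spec (CommRingCat.of k) ⟶ Spec (CommRingCat.of R) := Spec.map (CommRingCat.ofHom φ)
  haveI : IsIso ((Over.pullback a).map c) := by
    let P := Red.bc a H ⊗ Red.bc a (sp R A)
    haveI : IsAffine H.left := inferInstanceAs (IsAffine (Spec (CommRingCat.of _)))
    haveI : IsAffine (sp R A).left := inferInstanceAs (IsAffine (Spec (CommRingCat.of A)))
    haveI : IsAffineHom H.hom := inferInstanceAs (IsAffineHom (Spec.map _))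
    haveI : IsAffineHom (Red.bc a H).hom := MorphismProperty.pullback_snd H.hom a ‹IsAffineHom H.hom›
    haveI : IsAffineHom (Red.bc a (sp R A)).hom := MorphismProperty.pullback_snd (sp R A).hom a ‹IsAffineHom (sp R A).hom›
    haveI : IsAffine (Red.bc a H).left := isAffine_of_isAffineHom (Red.bc a H).hom
    haveI : IsAffine (Red.bc a (sp R A)).left := isAffine_of_isAffineHom (Red.bc a (sp R A)).hom
    haveI : IsAffine P.left := inferInstanceAs (IsAffine (pullback (Red.bc a H).hom (Red.bc a (sp R A)).hom))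
    have huniv : (fst _ _ ≫ (Over.pullback a).map u : P ⟶ _) * snd _ _ =
        snd _ _ * (fst _ _ ≫ (Over.pullback a).map u) := by
      obtain ⟨W, _, _, ψ, e, he, hψ⟩ := exists_sp_iso_map φ P
      refine (DSPtsLib.theta_bijective a).1 ?_
      rw [DSPtsLib.theta_mul, DSPtsLib.theta_mul, BC.theta_map, ← cancel_epi e, MonObj.comp_mul, MonObj.comp_mul,
        ← Category.assoc]
      obtain ⟨h₀, hh₀⟩ := exists_eq_spMap (e ≫ DSPtsLib.theta a (fst (Red.bc a H) (Red.bc a (sp R A))))
      obtain ⟨x, hx⟩ := exists_eq_spMap (e ≫ DSPtsLib.theta a (snd (Red.bc a H) (Red.bc a (sp R A))))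
      rw [hh₀, hx]
      let χ : Multiplicative N →* W := (MonoidAlgebra.lift R W (Multiplicative N)).symm
        (h₀.comp (πA : MonoidAlgebra R (Multiplicative N) →ₐ[R] MonoidAlgebra R (Multiplicative Q)))
      have hχ : spMap h₀ ≫ π' = pt R χ := by
        show spMap h₀ ≫ spMap _ = spMap _
        rw [spMap_comp]
        exact congrArg spMap ((MonoidAlgebra.lift R W (Multiplicative N)).apply_symm_apply _).symm
      show (spMap h₀ ≫ π' ≫ t) * _ = _ * (spMap h₀ ≫ π' ≫ t)
      rw [← Category.assoc, hχ]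
      refine commute_in_fibre hρ p φ hφ ψ hψ χ (fun n hn => ?_) x
      show h₀ (MonoidAlgebra.mapDomain _ (MonoidAlgebra.single (Multiplicative.ofAdd n) 1)) = 1
      rw [MonoidAlgebra.mapDomain_single,
        show AddMonoidHom.toMultiplicative π (Multiplicative.ofAdd n) = 1 from
          congrArg Multiplicative.ofAdd ((QuotientAddGroup.eq_zero_iff n).mpr hn), ← MonoidAlgebra.one_def, map_one]
    obtain ⟨w, hw⟩ := ((BC.isCentralizerOf_bc a hc).2.2 _ (𝟙 (Red.bc a (sp R A)))).mpr fun X' x h => by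
      have h1 := congrArg (lift h x ≫ ·) huniv
      simp only [MonObj.comp_mul, lift_fst_assoc, lift_snd] at h1
      rw [Category.comp_id]
      exact h1.symm
    exact ⟨w, (cancel_mono ((Over.pullback a).map c)).mp (by rw [Category.assoc, hw, Category.comp_id, Category.id_comp]),
      hw⟩
  haveI : QuasiCompact (sp R A).hom := inferInstance
  obtain ⟨U, hU, hiso⟩ := exists_open_isIso_fibres c (connectedSpace_geomFibre hconn) a
  haveI := isIso_map_opens c U hiso
  -- the neighbourhood
  have hpU : (⟨p, ‹_›⟩ : PrimeSpectrum R) ∈ U.carrier := by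
    have h1 : a (IsLocalRing.closedPoint k) = (⟨p, ‹_›⟩ : PrimeSpectrum R) := PrimeSpectrum.ext (by
      show (IsLocalRing.maximalIdeal k).comap φ = p
      rw [IsLocalRing.isField_iff_maximalIdeal_eq.mp (Field.toIsField k)]
      exact hφ)
    exact h1 ▸ hU
  obtain ⟨_, ⟨f₂, rfl⟩, hpf₂, hf₂U⟩ :=
    PrimeSpectrum.isTopologicalBasis_basic_opens.exists_subset_of_mem_open hpU U.2
  refine ⟨f₁ * f₂, fun h => (Ideal.IsPrime.mem_or_mem ‹_› h).elim hf₁ hpf₂, Q, inferInstance, hQ, ?_⟩
  let Rf := Localization.Away (f₁ * f₂)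
  let j : Spec (CommRingCat.of Rf) ⟶ Spec (CommRingCat.of R) := Spec.map (CommRingCat.ofHom (algebraMap R Rf))
  have hu : IsUnit (algebraMap R Rf f₁) ∧ IsUnit (algebraMap R Rf f₂) :=
    IsUnit.mul_iff.mp (map_mul (algebraMap R Rf) f₁ f₂ ▸ IsLocalization.Away.algebraMap_isUnit (f₁ * f₂))
  have hj : Set.range j ⊆ Set.range U.ι := by
    rintro _ ⟨x, rfl⟩
    rw [Scheme.Opens.range_ι]
    exact hf₂U fun h : f₂ ∈ (x : PrimeSpectrum Rf).asIdeal.comap (algebraMap R Rf) =>
      (x : PrimeSpectrum Rf).isPrime.ne_top (Ideal.eq_top_of_isUnit_mem _ h hu.2)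
  let l := IsOpenImmersion.lift U.ι j hj
  have hl : l ≫ U.ι = j := IsOpenImmersion.lift_fac _ _ _
  haveI : IsIso ((Over.pullback j).map c) := hl ▸ isIso_map_comp U.ι l c
  -- the subgroup is central
  obtain ⟨ca, hca⟩ := ((BC.isCentralizerOf_bc j hz).2.2 _ ((Over.pullback j).map u)).mpr fun X' x h => by
    have h2 := ((BC.isCentralizerOf_bc j hc).2.2 _ h).mp
      ⟨h ≫ inv ((Over.pullback j).map c), by rw [Category.assoc, IsIso.inv_hom_id, Category.comp_id]⟩ X' (𝟙 X') x
    rw [Category.id_comp] at h2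
    rw [CategoryTheory.Functor.map_id, Category.comp_id]
    exact h2.symm
  -- the centre lies in the subgroup
  haveI : IsAffine (Red.bc j Z).left := inferInstanceAs (IsAffine (pullback Z.hom j))
  obtain ⟨W, _, _, ψ, e, he, hψ⟩ := exists_sp_iso_map (algebraMap R Rf) (Red.bc j Z)
  let g : sp R W ⟶ Z := e ≫ DSPtsLib.theta j (𝟙 _)
  have hgz : ∀ (X : Over (Spec (CommRingCat.of R))) (q : X ⟶ sp R W) (y : X ⟶ sp R A),
      (q ≫ g ≫ z) * y = y * (q ≫ g ≫ z) := fun X q y => by
    have h := (hz.2.2 _ (g ≫ z)).mp ⟨g, rfl⟩ X q y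
    rwa [Category.comp_id] at h
  obtain ⟨τ, hτ⟩ := (ht.2.2 _ (g ≫ z)).mpr fun X' x h => hgz X' x (h ≫ t)
  obtain ⟨h, rfl⟩ := exists_eq_spMap τ
  let χ : Multiplicative N →* W := (MonoidAlgebra.lift R W (Multiplicative N)).symm h
  have hχ : spMap h = pt R χ := congrArg spMap ((MonoidAlgebra.lift R W (Multiplicative N)).apply_symm_apply h).symm
  have hker := hcentral W (by
      rw [← hψ, RingHom.comp_apply]
      exact hu.1.map ψ) χ fun X q y => by rw [← hχ, hτ]; exact hgz X q y
  let χ' : Multiplicative Q →* W := AddMonoidHom.toMultiplicativeLeft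
    (QuotientAddGroup.lift Γ (MonoidHom.toAdditiveRight χ) fun n hn => congrArg Additive.ofMul (hker n hn))
  have hfac : pt R χ' ≫ π' = pt R χ := by
    show spMap _ ≫ spMap _ = spMap _
    rw [spMap_comp]
    refine congrArg spMap (MonoidAlgebra.algHom_ext (fun m => ?_) (by ext))
    show MonoidAlgebra.lift R W _ χ' (MonoidAlgebra.mapDomain _ (MonoidAlgebra.single m 1)) = _
    rw [MonoidAlgebra.mapDomain_single, MonoidAlgebra.lift_single, MonoidAlgebra.lift_single]
    rfl
  obtain ⟨cb, hcb⟩ := (DSPtsLib.theta_bijective (H := H) j).2 (inv e ≫ pt R χ')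
  have hcbz : cb ≫ (Over.pullback j).map u = (Over.pullback j).map z := by
    refine (DSPtsLib.theta_bijective j).1 ?_
    have h3 := BC.theta_map j z (𝟙 (Red.bc j Z))
    rw [Category.id_comp] at h3
    rw [BC.theta_map, hcb, h3, ← cancel_epi e, Category.assoc, IsIso.hom_inv_id_assoc]
    show pt R χ' ≫ π' ≫ t = _
    rw [← Category.assoc, hfac, ← hχ, hτ, Category.assoc]
  -- conclusion
  let ee : Red.bc j Z ≅ Red.bc j H :=
    ⟨cb, ca, by rw [← cancel_mono ((Over.pullback j).map z), Category.assoc, hca, hcbz, Category.id_comp],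
      by rw [← cancel_mono ((Over.pullback j).map u), Category.assoc, hcbz, hca, Category.id_comp]⟩
  haveI : IsMonHom cb :=
    { one_hom := by
        rw [← cancel_mono ((Over.pullback j).map u), Category.assoc, hcbz, IsMonHom.one_hom ((Over.pullback j).map z),
          IsMonHom.one_hom ((Over.pullback j).map u)]
      mul_hom := by
        rw [← cancel_mono ((Over.pullback j).map u), Category.assoc, hcbz, IsMonHom.mul_hom ((Over.pullback j).map z),
          Category.assoc, IsMonHom.mul_hom ((Over.pullback j).map u), ← Category.assoc (_ ⊗ₘ _),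
          MonoidalCategory.tensorHom_comp_tensorHom, hcbz] }
  haveI : IsMonHom ee.hom := ‹IsMonHom cb›
  obtain ⟨d₁⟩ := GrpSchLib.MultTypeBC.bc_iso j d
  obtain ⟨d₂⟩ := GrpSchLib.MultTypeBC.bc_DS j Q
  exact ⟨Grp.mkIso' ee ≪≫ d₁ ≪≫ d₂⟩

end Groth.Agent.GModLib
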