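import Groth.Agent.GModLib.CentreMultType
import Groth.Agent.GrpFieldLib.JetTransporter

/-!
# The centre is of multiplicative type when maximal tori are self-centralizing
-/

set_option autoImplicit false
set_option linter.style.haveILetI false
set_option backward.isDefEq.respectTransparency false
set_option backward.isDefEq.respectTransparency.types false

universe u

open CategoryTheory CategoryTheory.Limits MonoidalCategory CartesianMonoidalCategory MonObj GrpObj AlgebraicGeometry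

namespace Groth.Agent.GModLib

open GrpSchLib.AffineHopf

/-- Affine opens are images of compact opens under open surjective morphisms. -/
theorem exists_compact_image_of_open {X S : Scheme.{u}} (f : X ⟶ S) (hf : IsOpenMap f) (hs : Function.Surjective f)
    (V : S.Opens) (hV : IsAffineOpen V) : ∃ W : X.Opens, IsCompact (W : Set X) ∧ f.base '' (W : Set X) = (V : Set S) := by
  classical
  have hex : ∀ v : V, ∃ (x : X) (W : X.Opens), IsAffineOpen W ∧ x ∈ W ∧ W ≤ f ⁻¹ᵁ V ∧ f x = v := fun v => by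
    obtain ⟨x, hx⟩ := hs v
    obtain ⟨W, hW, hxW, hle⟩ := exists_isAffineOpen_mem_and_subset (show x ∈ f ⁻¹ᵁ V by show f x ∈ V; rw [hx]; exact v.2)
    exact ⟨x, W, hW, hxW, hle, hx⟩
  choose x W hW hxW hle hx using hex
  obtain ⟨t, ht⟩ := hV.isCompact.elim_finite_subcover (fun v : V => f '' (W v : Set X)) (fun v => hf _ (W v).2)
    fun v hv => Set.mem_iUnion.mpr ⟨⟨v, hv⟩, x ⟨v, hv⟩, hxW _, hx _⟩
  refine ⟨⨆ v : t, W v.1, ?_, ?_⟩
  · rw [TopologicalSpace.Opens.coe_iSup]
    exact isCompact_iUnion fun v => (hW v.1).isCompact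
  · rw [TopologicalSpace.Opens.coe_iSup, Set.image_iUnion]
    refine Set.Subset.antisymm (Set.iUnion_subset fun v => ?_) fun y hy => ?_
    · rintro _ ⟨z, hz, rfl⟩
      exact hle v.1 hz
    · obtain ⟨v, hv, hyv⟩ := Set.mem_iUnion₂.mp (ht hy)
      exact Set.mem_iUnion.mpr ⟨⟨v, hv⟩, hyv⟩

/-- Being of multiplicative type and of finite type is preserved by isomorphisms. -/
theorem isMultTypeFT_of_etale_local {S : Scheme.{u}} {H : Over S} [GrpObj H]
    (h : ∀ s : S, ∃ (B : Type u) (_ : CommRing B) (g : Spec (CommRingCat.of B) ⟶ S), Etale g ∧ s ∈ Set.range g ∧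
      ∃ (Q : Type) (_ : AddCommGroup Q), AddGroup.FG Q ∧
        Nonempty (Grp.mk (Red.bc g H) ≅ Grp.mk (Red.DS (Spec (CommRingCat.of B)) Q))) :
    SGA3x.IsMultTypeFT H := by
  choose B iB g hg hs Q iQ hQ hiso using h
  let X : S → Scheme.{u} := fun s => Spec (@CommRingCat.of (B s) (iB s))
  let g' : ∀ s, X s ⟶ S := g
  let F : (∐ X) ⟶ S := Sigma.desc g'
  haveI hF : Etale F := IsZariskiLocalAtSource.sigmaDesc hg
  have hsurj : Function.Surjective F := fun s => by
    obtain ⟨y, hy⟩ := hs s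
    exact ⟨Sigma.ι X s y, by rw [← Scheme.Hom.comp_apply, Sigma.ι_desc]; exact hy⟩
  refine ⟨∐ X, F, inferInstance, ⟨hsurj⟩, exists_compact_image_of_open F F.isOpenMap hsurj, fun s' => ?_⟩
  obtain ⟨s, y, rfl⟩ := (sigmaOpenCover X).exists_eq s'
  let U := (Sigma.ι X s).opensRange
  let c : (U : Scheme.{u}) ≅ X s := (Sigma.ι X s).isoOpensRange.symm
  have hc : c.hom ≫ g' s = U.ι ≫ F := by
    rw [← cancel_epi c.inv, c.inv_hom_id_assoc]
    show g' s = (Sigma.ι X s).isoOpensRange.hom ≫ (Sigma.ι X s).opensRange.ι ≫ F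
    rw [Scheme.Hom.isoOpensRange_hom_ι_assoc, Sigma.ι_desc]
  obtain ⟨e⟩ := hiso s
  letI := iQ s
  letI := iB s
  obtain ⟨e₁⟩ := GrpSchLib.MultTypeBC.bc_congr hc.symm H
  obtain ⟨e₂⟩ := GrpSchLib.MultTypeBC.bc_bc c.hom (g' s) H
  obtain ⟨e₃⟩ := GrpSchLib.MultTypeBC.bc_iso c.hom e
  obtain ⟨e₄⟩ := GrpSchLib.MultTypeBC.bc_DS c.hom (Q s)
  exact ⟨U, ⟨y, rfl⟩, Q s, inferInstance, hQ s, ⟨e₁ ≪≫ e₂.symm ≪≫ e₃ ≪≫ e₄⟩⟩

variable {S : Scheme.{u}} {G : Over S} [GrpObj G] [Smooth G.hom] [IsAffineHom G.hom]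

/-- The centre of a group with connected fibres is closed. -/
theorem isClosedImmersion_centre (hconn : ∀ s : S, _root_.IsConnected (G.hom.base ⁻¹' {s})) {Z : Over S} [GrpObj Z]
    {z : Z ⟶ G} (hz : Red.IsCentre z) : IsClosedImmersion z.left := by
  obtain ⟨Z₀, _, z₀, hz₀, hcl, -⟩ :=
    GrpFieldLib.Jet.exists_centralizer (𝟙 G) (GrpFieldLib.Jet.neutralSet_eq_univ_of_isConnected G hconn)
  obtain ⟨e, he⟩ := exists_iso_of_isCentralizerOf hz hz₀
  haveI := hcl
  haveI : IsIso e.hom.left := inferInstanceAs (IsIso ((Over.forget _).map e.hom))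
  rw [← he, Over.comp_left]
  infer_instance

/-- There is a closed centre. -/
theorem exists_centre_closed (hconn : ∀ s : S, _root_.IsConnected (G.hom.base ⁻¹' {s})) :
    ∃ (Z : Over S) (_ : GrpObj Z) (z : Z ⟶ G), Red.IsCentre z ∧ IsClosedImmersion z.left := by
  obtain ⟨Z₀, _, z₀, hz₀, hcl, -⟩ :=
    GrpFieldLib.Jet.exists_centralizer (𝟙 G) (GrpFieldLib.Jet.neutralSet_eq_univ_of_isConnected G hconn)
  exact ⟨Z₀, inferInstance, z₀, hz₀, hcl⟩

/-- The centre commutes with base change. -/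
theorem isCentre_bc {S' : Scheme.{u}} (g : S' ⟶ S) {Z : Over S} [GrpObj Z] {z : Z ⟶ G} (hz : Red.IsCentre z) :
    Red.IsCentre ((Over.pullback g).map z) := by
  have h := BC.isCentralizerOf_bc g hz
  rwa [CategoryTheory.Functor.map_id] at h

set_option maxHeartbeats 1000000 in
/-- The centre is of multiplicative type if every geometric fibre has a self-centralizing torus. -/
theorem isMultTypeFT_centre (hconn : ∀ s : S, _root_.IsConnected (G.hom.base ⁻¹' {s}))
    (h : ∀ s : S, ∃ (T : Over (Spec (CommRingCat.of (AlgebraicClosure (S.residueField s))))) (_ : GrpObj T)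
      (i : T ⟶ Red.bc (Red.geomPt s) G), Red.IsTorus T ∧ Red.IsCentralizerOf i i)
    {Z : Over S} [GrpObj Z] {z : Z ⟶ G} (hz : Red.IsCentre z) : SGA3x.IsMultTypeFT Z := by
  refine isMultTypeFT_of_etale_local fun s => ?_
  obtain ⟨T₀, _, i, hT₀, hi⟩ := h s
  obtain ⟨B, _, v, r, T, _, t, hv, hs, ⟨eT⟩, ht, -⟩ :=
    exists_etale_split_selfCentralizing hconn (Red.geomPt s) i hT₀ hi
  rw [show (Red.geomPt s) (IsLocalRing.closedPoint _) = s from Scheme.fromSpecResidueField_apply s _] at hs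
  obtain ⟨y, hy⟩ := hs
  haveI := hv; haveI := ht.1
  haveI := isClosedImmersion_centre hconn hz
  let GB := Red.bc v G
  haveI : Smooth GB.hom := inferInstanceAs (Smooth (pullback.snd G.hom v))
  haveI : IsAffineHom GB.hom := MorphismProperty.pullback_snd G.hom v ‹IsAffineHom G.hom›
  haveI : IsAffine GB.left := isAffine_of_isAffineHom GB.hom
  haveI : IsClosedImmersion ((Over.pullback v).map z).left :=
    MorphismProperty.baseChange_map (P := @IsClosedImmersion) v z ‹IsClosedImmersion z.left›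
  haveI : IsAffine (Red.bc v Z).left := isAffine_of_isAffineHom ((Over.pullback v).map z).left
  obtain ⟨A, _, _, ⟨e⟩⟩ := exists_hopf GB
  haveI : IsMonHom e.hom.hom.hom := e.hom.hom.isMonHom_hom
  haveI : IsMonHom e.inv.hom.hom := e.inv.hom.isMonHom_hom
  let ε : GB ≅ sp B A := ((Grp.forget _).mapIso e).symm
  haveI : IsMonHom ε.hom := ‹IsMonHom e.inv.hom.hom›
  haveI : IsIso e.hom.hom.hom.left :=
    inferInstanceAs (IsIso ((Over.forget _).map ((Grp.forget _).mapIso e).hom))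
  haveI : Smooth (sp B A).hom := by rw [← Over.w e.hom.hom.hom]; infer_instance
  haveI : Algebra.Smooth B A := RingHom.smooth_algebraMap.mp
    ((HasRingHomProperty.Spec_iff (P := @Smooth)).mp ‹Smooth (sp B A).hom›)
  have hconnA : ∀ s, _root_.IsConnected ((sp B A).hom.base ⁻¹' {s}) := fun s => by
    have h1 : e.hom.hom.hom.left ⁻¹' (GB.hom.base ⁻¹' {s}) = (sp B A).hom.base ⁻¹' {s} := by
      ext x
      show GB.hom (e.hom.hom.hom.left x) = s ↔ (sp B A).hom x = s
      rw [← Scheme.Hom.comp_apply, Over.w e.hom.hom.hom]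
    rw [← h1]
    exact (e.hom.hom.hom.left.homeomorph).isConnected_preimage.mpr (isConnected_fibres_bc hconn v s)
  obtain ⟨d⟩ := nonempty_DS_iso B (Fin r → ℤ)
  let δ : sp B (MonoidAlgebra B (Multiplicative (Fin r → ℤ))) ≅ T := (Grp.forget _).mapIso (d ≪≫ eT.symm)
  haveI : IsMonHom δ.hom := (d ≪≫ eT.symm).hom.hom.isMonHom_hom
  haveI : IsMonHom (δ.hom ≫ t ≫ ε.hom) := inferInstance
  have htA : Red.IsCentralizerOf (δ.hom ≫ t ≫ ε.hom) (δ.hom ≫ t ≫ ε.hom) :=
    isCentralizerOf_of_iso δ δ ε rfl rfl ht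
  haveI := hz.1
  haveI : IsMonHom ((Over.pullback v).map z ≫ ε.hom) := inferInstance
  have hzA : Red.IsCentre ((Over.pullback v).map z ≫ ε.hom) := by
    refine isCentralizerOf_of_iso ε.symm (Iso.refl _) ε ?_ ?_ (isCentre_bc v hz)
    · rw [Category.id_comp, Iso.symm_hom, ε.inv_hom_id]
    · rw [Iso.refl_hom, Category.id_comp]
  obtain ⟨f, hf, Q, _, hQ, ⟨eQ⟩⟩ := exists_away_centre_diag_aux (δ.hom ≫ t ≫ ε.hom) htA hconnA
    ((Over.pullback v).map z ≫ ε.hom) hzA (y : PrimeSpectrum B).asIdeal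
  let j : Spec (CommRingCat.of (Localization.Away f)) ⟶ Spec (CommRingCat.of B) :=
    Spec.map (CommRingCat.ofHom (algebraMap B (Localization.Away f)))
  haveI : Etale j := (HasRingHomProperty.Spec_iff (P := @Etale)).mpr
    (RingHom.etale_algebraMap.mpr (Algebra.Etale.of_isLocalizationAway f))
  obtain ⟨w, hw⟩ : (y : PrimeSpectrum B) ∈ Set.range (PrimeSpectrum.comap (algebraMap B (Localization.Away f))) := by
    rw [PrimeSpectrum.localization_away_comap_range (Localization.Away f) f]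
    exact hf
  obtain ⟨e₁⟩ := GrpSchLib.MultTypeBC.bc_bc j v Z
  refine ⟨Localization.Away f, inferInstance, j ≫ v, inferInstance, ⟨w, ?_⟩, Q, inferInstance, hQ, ⟨e₁.symm ≪≫ eQ⟩⟩
  rw [Scheme.Hom.comp_apply, show j w = y from hw]
  exact hy

end Groth.Agent.GModLib
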