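import Groth.Agent.GModLib.PtSubgroup
import Groth.Agent.GrpFieldLib.SmoothDense
import Groth.Agent.VarDim.FibreDim
import Groth.Agent.VarDim.IrredFibres

/-!
# A map from a product with a small fibre is dominant
-/

set_option autoImplicit false
set_option backward.isDefEq.respectTransparency false
set_option backward.isDefEq.respectTransparency.types false

universe u

open CategoryTheory Limits AlgebraicGeometry MonoidalCategory CartesianMonoidalCategory MonObj GrpObj

namespace Groth.Agent.GModLib

open GrpSchLib GrpSchLib.Kunneth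

variable {k : Type u} [Field k]

theorem deg_preimmersion {U X : Scheme.{u}} (j : U ⟶ X) [IsPreimmersion j] [LocallyOfFiniteType j]
    (q : X ⟶ Spec (CommRingCat.of k)) [LocallyOfFiniteType q] (p : U ⟶ Spec (CommRingCat.of k)) (h : j ≫ q = p)
    (u : U) : VarDim.deg p u = VarDim.deg q (j u) := by
  rw [VarDim.deg_eq_add j q h]
  simp [VarDim.fdeg, VarDim.rdeg_preimmersion]

theorem lift_split_closedImmersion {X Y : Over (Spec (CommRingCat.of k))} [IsSeparated X.hom]
    (a : Y ⟶ X) : IsClosedImmersion (lift a (𝟙 Y)).left := by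
  haveI : IsSeparated (snd X Y).left := inferInstanceAs (IsSeparated (pullback.snd X.hom Y.hom))
  haveI : IsClosedImmersion ((lift a (𝟙 Y)).left ≫ (snd X Y).left) := by
    rw [← Over.comp_left, lift_snd]; infer_instance
  exact IsClosedImmersion.of_comp _ (snd X Y).left

variable [IsAlgClosed k]

set_option maxHeartbeats 1000000 in
/-- If the points of one fibre lie on finitely many copies of a factor, the image contains an open set. -/
theorem exists_open_subset_range {G C : Over (Spec (CommRingCat.of k))} [IsSeparated G.hom] [Smooth G.hom]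
    [Smooth C.hom] [QuasiCompact G.hom] [QuasiCompact C.hom] [ConnectedSpace G.left] [ConnectedSpace C.left]
    (φ : G ⊗ C ⟶ G) (t : VecGrp.pt k k ⟶ G) (x₀ : VecGrp.pt k k ⟶ G ⊗ C) (hx₀ : x₀ ≫ φ = t)
    {J : Type} [Finite J] (σ : J → (C ⟶ G ⊗ C)) (hσ : ∀ i, IsClosedImmersion (σ i).left)
    (hfib : ∀ p : VecGrp.pt k k ⟶ G ⊗ C, p ≫ φ = t → ∃ i c, c ≫ σ i = p) :
    ∃ U : G.left.Opens, (U : Set G.left).Nonempty ∧ (U : Set G.left) ⊆ Set.range φ.left := by
  classical
  haveI : IrreducibleSpace G.left := GrpFieldLib.SmoothDense.irreducibleSpace_of_connected G.hom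
  haveI : IrreducibleSpace C.left := GrpFieldLib.SmoothDense.irreducibleSpace_of_connected C.hom
  haveI : Smooth (G ⊗ C).hom := inferInstanceAs (Smooth (pullback.fst G.hom C.hom ≫ G.hom))
  haveI : QuasiCompact (G ⊗ C).hom := inferInstanceAs (QuasiCompact (pullback.fst G.hom C.hom ≫ G.hom))
  haveI : CompactSpace (G ⊗ C).left := (quasiCompact_iff_compactSpace (G ⊗ C).hom).mp inferInstance
  haveI : CompactSpace G.left := (quasiCompact_iff_compactSpace G.hom).mp inferInstance
  haveI : JacobsonSpace (G ⊗ C).left := LocallyOfFiniteType.jacobsonSpace (G ⊗ C).hom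
  haveI : LocallyOfFiniteType (VecGrp.pt k k).hom := by
    show LocallyOfFiniteType (Spec.map (CommRingCat.ofHom (algebraMap k k)))
    rw [show CommRingCat.ofHom (algebraMap k k) = 𝟙 _ from rfl, Spec.map_id]
    infer_instance
  let f := (fst G C).left
  haveI : Smooth f := inferInstanceAs (Smooth (pullback.fst G.hom C.hom))
  haveI : LocallyOfFiniteType φ.left := by
    haveI : LocallyOfFiniteType (φ.left ≫ G.hom) := by rw [Over.w φ]; infer_instance
    exact locallyOfFiniteType_of_comp φ.left G.hom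
  have hfq : f ≫ G.hom = (G ⊗ C).hom := Over.w (fst G C)
  let dG := VarDim.deg G.hom (genericPoint G.left)
  let dC := VarDim.deg C.hom (genericPoint C.left)
  let x₁ := x₀.left (IsLocalRing.closedPoint k)
  obtain ⟨ζ, hE₁, hEmax⟩ := VarDim.exists_maximal_generalization (G ⊗ C).hom x₁
  obtain ⟨W₁, hEW₁, hW₁⟩ := VarDim.exists_nhd_component (G ⊗ C).hom hEmax
  have hspec : ∀ x ∈ W₁, ζ ⤳ x := fun x hx => by
    obtain ⟨y, hyx, hy⟩ := VarDim.exists_maximal_generalization (G ⊗ C).hom x
    exact hW₁ x hx y hy hyx ▸ hyx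
  -- the first projection sends it to the generic point
  have hfE : f ζ = genericPoint G.left := by
    haveI : UniversallyOpen f := inferInstance
    have hop : IsOpen (f '' (W₁ : Set (G ⊗ C).left)) := f.isOpenMap _ W₁.2
    obtain ⟨w, hw, hwe⟩ := (genericPoint_specializes (f ζ)).mem_open hop ⟨ζ, hEW₁, rfl⟩
    have h1 : f ζ ⤳ genericPoint G.left := hwe ▸ (hspec w hw).map f.continuous
    exact (h1.antisymm (genericPoint_specializes _)).eq
  -- the fibres of the first projection
  obtain ⟨W₂, hEW₂, hW₂⟩ := VarDim.exists_open_fdeg_le f G.hom ζ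
  obtain ⟨p, hp⟩ := exists_point_mem (D := G ⊗ C) (U := (W₁ : Set (G ⊗ C).left) ∩ W₂) (W₁.2.inter W₂.2) ⟨ζ, hEW₁, hEW₂⟩
  have hdC : dC ≤ VarDim.fdeg f ζ := by
    let s : C ⟶ G ⊗ C := lift (toPt C ≫ p ≫ fst G C) (𝟙 C)
    haveI : IsClosedImmersion s.left := lift_split_closedImmersion _
    have hps : (p ≫ snd G C) ≫ s = p := by
      apply CartesianMonoidalCategory.hom_ext
      · rw [Category.assoc, lift_fst, ← Category.assoc (p ≫ snd G C), comp_toPt, Category.id_comp]
      · rw [Category.assoc, lift_snd, Category.comp_id]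
    let x := s.left (genericPoint C.left)
    have hxp : x ⤳ p.left (IsLocalRing.closedPoint k) := by
      have h := (genericPoint_specializes ((p ≫ snd G C).left (IsLocalRing.closedPoint k))).map s.left.continuous
      rw [← Scheme.Hom.comp_apply, ← Over.comp_left, hps] at h
      exact h
    have hxW := hxp.mem_open W₂.2 hp.2
    have hxζ : ζ ⤳ x := hspec x (hxp.mem_open W₁.2 hp.1)
    have hdx : VarDim.deg (G ⊗ C).hom x = dC := (deg_preimmersion s.left (G ⊗ C).hom C.hom (Over.w s) _).symm
    have hfx : VarDim.deg G.hom (f x) = 0 := by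
      refine (VarDim.closedPoint_iff_deg_eq_zero G.hom _).mp ?_
      have h1 : f x = (p ≫ fst G C).left ((toPt C).left (genericPoint C.left)) := by
        show (fst G C).left (s.left (genericPoint C.left)) = _
        rw [← Scheme.Hom.comp_apply, ← Over.comp_left, lift_fst, Over.comp_left, Scheme.Hom.comp_apply]
      rw [h1]
      refine (VarDim.closedPoint_iff_deg_eq_zero G.hom _).mpr (Nat.le_zero.mp ?_)
      refine (VarDim.deg_map_le (p ≫ fst G C).left G.hom (Over.w (p ≫ fst G C)) _).trans (le_of_eq ?_)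
      refine (VarDim.closedPoint_iff_deg_eq_zero _ _).mp ?_
      haveI : Subsingleton (VecGrp.pt k k).left := inferInstanceAs (Subsingleton (PrimeSpectrum k))
      exact Set.subsingleton_singleton.isClosed
    have h2 := VarDim.deg_eq_add f G.hom hfq x
    rw [hdx, hfx, zero_add] at h2
    exact h2 ▸ hW₂ x hxW hxζ
  have hdE : dG + dC ≤ VarDim.deg (G ⊗ C).hom ζ := by
    rw [VarDim.deg_eq_add f G.hom hfq ζ, hfE]
    exact Nat.add_le_add_left hdC _
  -- the given fibre
  obtain ⟨x, hEx, hxx₁, hφx, hle⟩ := VarDim.exists_fdeg_ge φ.left G.hom hE₁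
  have ht : φ.left x₁ = t.left (IsLocalRing.closedPoint k) := by rw [← hx₀]; rfl
  have hcl : IsClosed (φ.left ⁻¹' {φ.left x₁}) := by
    refine IsClosed.preimage φ.left.continuous ?_
    refine (VarDim.closedPoint_iff_deg_eq_zero G.hom _).mpr (Nat.le_zero.mp ?_)
    rw [ht]
    refine (VarDim.deg_map_le t.left G.hom (Over.w t) _).trans (le_of_eq ?_)
    refine (VarDim.closedPoint_iff_deg_eq_zero _ _).mp ?_
    haveI : Subsingleton (VecGrp.pt k k).left := inferInstanceAs (Subsingleton (PrimeSpectrum k))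
    exact Set.subsingleton_singleton.isClosed
  have hsub : φ.left ⁻¹' {φ.left x₁} ⊆ ⋃ i, Set.range (σ i).left := by
    have hclU : IsClosed (⋃ i, Set.range (σ i).left) :=
      isClosed_iUnion_of_finite fun i => (hσ i).base_closed.isClosed_range
    intro y hy
    by_contra hyU
    obtain ⟨w, ⟨hw1, hw2⟩, hwc⟩ := nonempty_inter_closedPoints (Z := φ.left ⁻¹' {φ.left x₁} ∩ (⋃ i, Set.range (σ i).left)ᶜ)
      ⟨y, hy, hyU⟩ (hcl.isLocallyClosed.inter hclU.isOpen_compl.isLocallyClosed)
    obtain ⟨z, hz⟩ := exists_point_of_isClosed (K := k) (G ⊗ C) hwc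
    have hz' : z.left (IsLocalRing.closedPoint k) = w := hz
    have hzt : z ≫ φ = t := by
      refine Over.OverMorphism.ext (ext_of_apply_closedPoint_eq G.hom ((Over.w (z ≫ φ)).trans (by simp)) ((Over.w t).trans (by simp)) ?_)
      show φ.left (z.left (IsLocalRing.closedPoint k)) = _
      rw [hz']
      exact hw1.trans ht
    obtain ⟨i, c, hc⟩ := hfib z hzt
    refine hw2 (Set.mem_iUnion.mpr ⟨i, c.left (IsLocalRing.closedPoint k), ?_⟩)
    rw [← hz', ← hc]; rfl
  obtain ⟨i, y, hy⟩ := Set.mem_iUnion.mp (hsub (show x ∈ _ from hφx))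
  haveI := hσ i
  have hdx : VarDim.deg (G ⊗ C).hom x ≤ dC := by
    rw [← hy, ← deg_preimmersion (σ i).left (G ⊗ C).hom C.hom (Over.w (σ i)) y]
    exact VarDim.deg_le_of_specializes C.hom (genericPoint_specializes y)
  have hφE : φ.left ζ = genericPoint G.left := by
    refine (VarDim.eq_of_specializes_of_deg_le G.hom (genericPoint_specializes _) ?_).symm
    have e1 := VarDim.deg_eq_add φ.left G.hom (Over.w φ) ζ
    have e2 := VarDim.deg_eq_add φ.left G.hom (Over.w φ) x
    show dG ≤ _
    omega
  haveI : IsLocallyNoetherian G.left := LocallyOfFiniteType.isLocallyNoetherian G.hom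
  haveI : LocallyOfFinitePresentation φ.left := inferInstance
  haveI : QuasiCompact φ.left := by
    haveI : QuasiCompact (φ.left ≫ G.hom) := by rw [Over.w φ]; infer_instance
    exact QuasiCompact.of_comp φ.left G.hom
  have hcons : Topology.IsConstructible (Set.range φ.left) := by
    rw [← Set.image_univ]
    exact φ.left.isConstructible_image .univ
  obtain ⟨U, hU, hUo, hUg⟩ := mem_nhds_iff.mp
    ((VarDim.mem_nhds_of_isConstructible (fun z => genericPoint_specializes z) hcons).1 ⟨ζ, hφE⟩)
  exact ⟨⟨U, hUo⟩, ⟨_, hUg⟩, hU⟩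

end Groth.Agent.GModLib
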