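import Groth.Agent.GModLib.Cartan
import Groth.Agent.GModLib.FibreDominant

/-!
# Conjugates of a Cartan subgroup are dense
-/

set_option autoImplicit false
set_option backward.isDefEq.respectTransparency false
set_option backward.isDefEq.respectTransparency.types false

universe u

open CategoryTheory Limits AlgebraicGeometry MonoidalCategory CartesianMonoidalCategory MonObj GrpObj

namespace Groth.Agent.GModLib

open GrpSchLib GrpSchLib.Kunneth

variable {k : Type u} [Field k] [IsAlgClosed k]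

/-- A torus has finitely many points killed by a given positive number. -/
theorem finite_torsion {T : Over (Spec (CommRingCat.of k))} [GrpObj T] (hT : Red.IsTorus T) {n : ℕ} (hn : 0 < n) :
    {s : VecGrp.pt k k ⟶ T | s ^ n = 1}.Finite := by
  obtain ⟨h1, h2, h3, -, -⟩ := TorusBasic.torus_props hT
  haveI := h1; haveI := h2; haveI := h3
  obtain ⟨m, χ, hχ, hgen⟩ := exists_chars_of_isTorus hT
  let f : (VecGrp.pt k k ⟶ T) → (Fin m → k) := fun s i => pullFn s (χ i)
  have hroots : {x : k | x ^ n = 1}.Finite :=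
    (Polynomial.finite_setOf_isRoot (p := Polynomial.X ^ n - Polynomial.C (1 : k))
      (Polynomial.X_pow_sub_C_ne_zero hn 1)).subset
      fun x (hx : x ^ n = 1) => by simp [hx]
  refine ((Set.Finite.pi' fun _ => hroots).preimage (f := f) ?_).subset fun s (hs : s ^ n = 1) => ?_
  · intro a _ b _ hab
    refine pullFn_injective (AlgHom.ext_of_adjoin_eq_top hgen ?_)
    rintro _ ⟨i, rfl⟩
    exact congrFun hab i
  · intro i
    let c : (VecGrp.pt k k ⟶ T) →* k :=
      { toFun := fun g => pullFn g (χ i), map_one' := (hχ i).2, map_mul' := (hχ i).1 }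
    show c s ^ n = 1
    rw [← map_pow, hs, map_one]

theorem toPt_comp_toPt {X : Over (Spec (CommRingCat.of k))} {Y : Over (Spec (CommRingCat.of k))} (f : X ⟶ Y) :
    f ≫ toPt Y = toPt X := Over.OverMorphism.ext (Over.w f)

/-- A rational point in the image of a morphism is the image of a rational point. -/
theorem exists_point_of_mem_range {X Y : Over (Spec (CommRingCat.of k))} [LocallyOfFiniteType X.hom]
    [LocallyOfFiniteType Y.hom] (f : X ⟶ Y) (y : VecGrp.pt k k ⟶ Y)
    (hy : y.left (IsLocalRing.closedPoint k) ∈ Set.range f.left) : ∃ x, x ≫ f = y := by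
  haveI : JacobsonSpace X.left := LocallyOfFiniteType.jacobsonSpace X.hom
  obtain ⟨w₀, hw₀⟩ := hy
  have hcl : IsClosed ({y.left (IsLocalRing.closedPoint k)} : Set Y.left) := by
    refine (VarDim.closedPoint_iff_deg_eq_zero Y.hom _).mpr (Nat.le_zero.mp ?_)
    haveI : LocallyOfFiniteType (VecGrp.pt k k).hom := by
      show LocallyOfFiniteType (Spec.map (CommRingCat.ofHom (algebraMap k k)))
      rw [show CommRingCat.ofHom (algebraMap k k) = 𝟙 _ from rfl, Spec.map_id]
      infer_instance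
    refine (VarDim.deg_map_le y.left Y.hom (Over.w y) _).trans (le_of_eq ?_)
    refine (VarDim.closedPoint_iff_deg_eq_zero _ _).mp ?_
    haveI : Subsingleton (VecGrp.pt k k).left := inferInstanceAs (Subsingleton (PrimeSpectrum k))
    exact Set.subsingleton_singleton.isClosed
  obtain ⟨w, hw, hwc⟩ := nonempty_inter_closedPoints (Z := f.left ⁻¹' {y.left (IsLocalRing.closedPoint k)})
    ⟨w₀, hw₀⟩ (hcl.preimage f.left.continuous).isLocallyClosed
  obtain ⟨z, hz⟩ := exists_point_of_isClosed (K := k) X hwc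
  have hz' : z.left (IsLocalRing.closedPoint k) = w := hz
  refine ⟨z, Over.OverMorphism.ext
    (ext_of_apply_closedPoint_eq Y.hom ((Over.w (z ≫ f)).trans (by simp)) ((Over.w y).trans (by simp)) ?_)⟩
  show f.left (z.left (IsLocalRing.closedPoint k)) = _
  rw [hz']
  exact hw

variable {G : Over (Spec (CommRingCat.of k))} [GrpObj G] [IsAffine G.left] [Smooth G.hom] [ConnectedSpace G.left]

set_option maxHeartbeats 1000000 in
/-- The conjugates of a connected centralizer of a maximal torus fill an open set. -/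
theorem exists_open_conj_cartan {T : Over (Spec (CommRingCat.of k))} [GrpObj T] (iT : T ⟶ G) [IsMonHom iT]
    (hT : Red.IsTorus T) {C : Over (Spec (CommRingCat.of k))} [GrpObj C] [IsAffine C.left] [Smooth C.hom]
    [ConnectedSpace C.left] (iC : C ⟶ G) [IsMonHom iC] [IsClosedImmersion iC.left] {d : ℕ}
    {M : Matrix (Fin d) (Fin d) (Fn C)} (hM : IsTriangular M) (iS : T ⟶ C) (hS : iS ≫ iC = iT)
    (hfull : IsFullTorus hM iS)
    (hcomm : ∀ (c : VecGrp.pt k k ⟶ C) (s : VecGrp.pt k k ⟶ T), Commute (s ≫ iT) (c ≫ iC))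
    (hR : ∃ R : Finset (VecGrp.pt k k ⟶ G), ∀ g, (∀ s : VecGrp.pt k k ⟶ T, Commute (s ≫ iT) g) →
      ∃ r ∈ R, ∃ c : VecGrp.pt k k ⟶ C, r * (c ≫ iC) = g) :
    ∃ U : G.left.Opens, (U : Set G.left).Nonempty ∧ ∀ x : VecGrp.pt k k ⟶ G, x.left (IsLocalRing.closedPoint k) ∈ U →
      ∃ (g : VecGrp.pt k k ⟶ G) (c : VecGrp.pt k k ⟶ C), g * (c ≫ iC) * g⁻¹ = x := by
  classical
  obtain ⟨h1m, h1c, -, h1f, h1u⟩ := hfull
  haveI := h1m; haveI := h1c
  haveI : Mono iC := Over.mono_of_mono_left iC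
  obtain ⟨t, n, hn, htn, hgen⟩ := exists_generic hT iT
  have hn0 : 0 < n := Nat.pos_of_ne_zero fun h => hn (by rw [h, Nat.cast_zero])
  obtain ⟨R, hR⟩ := hR
  -- torsion of the centralizer lies in the torus
  have htors : ∀ c : VecGrp.pt k k ⟶ C, c ^ n = 1 → ∃ s : VecGrp.pt k k ⟶ T, s ^ n = 1 ∧ s ≫ iS = c := fun c hc => by
    obtain ⟨s, hs⟩ := h1f c
    have hsn : s ^ n = 1 := h1u _ (by
      rw [mem_uni_iff_diagHom, MonObj.pow_comp, map_pow, hs, ← map_pow, hc, map_one])
    have hcm : Commute (s ≫ iS) c := by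
      have e := (hcomm c s).eq
      rw [← hS, ← Category.assoc] at e
      show (s ≫ iS) * c = c * (s ≫ iS)
      rw [← cancel_mono iC, MonObj.mul_comp, MonObj.mul_comp]
      exact e
    refine ⟨s, hsn, inv_mul_eq_one.mp (eq_one_of_pow_eq_one hM hn ((diagHom_eq_iff hM _ _).mp hs) ?_)⟩
    rw [hcm.inv_left.mul_pow, _root_.inv_pow, ← MonObj.pow_comp, hsn, MonObj.one_comp, hc, _root_.inv_one, _root_.one_mul]
  let φ : G ⊗ C ⟶ G := fst G C * (snd G C ≫ iC) * (fst G C)⁻¹
  have hφ : ∀ p : VecGrp.pt k k ⟶ G ⊗ C, p ≫ φ = (p ≫ fst G C) * ((p ≫ snd G C) ≫ iC) * (p ≫ fst G C)⁻¹ := fun p => by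
    simp only [φ, MonObj.comp_mul, GrpObj.comp_inv, Category.assoc]
  -- the pieces of the fibre
  let J₀ : Set (VecGrp.pt k k ⟶ T) :=
    {s | s ^ n = 1 ∧ ∃ g : VecGrp.pt k k ⟶ G, g * (s ≫ iT) * g⁻¹ = t ≫ iT}
  haveI : Finite J₀ := ((finite_torsion hT hn0).subset fun s hs => hs.1).to_subtype
  let e := Finite.equivFin (J₀ × R)
  choose gs hgs using fun s : J₀ => s.2.2
  let tr : J₀ × R → (C ⟶ G ⊗ C) := fun q =>
    lift ((toPt C ≫ q.2.1) * iC * (toPt C ≫ gs q.1)) (toPt C ≫ q.1.1 ≫ iS)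
  have htr : ∀ q, IsClosedImmersion (tr q).left := fun q => by
    haveI : IsSeparated (fst G C).left := inferInstanceAs (IsSeparated (pullback.fst G.hom C.hom))
    let L : ∀ (a b : VecGrp.pt k k ⟶ G), G ⟶ G := fun a b => (toPt G ≫ a) * 𝟙 G * (toPt G ≫ b)
    have hL : ∀ a b a' b', L a b ≫ L a' b' = L (a' * a) (b * b') := fun a b a' b' => by
      simp only [L, MonObj.comp_mul, Category.comp_id, ← Category.assoc, toPt_comp_toPt]
      simp only [MonObj.comp_mul, _root_.mul_assoc]
    have hL1 : L 1 1 = 𝟙 G := by simp [L, MonObj.comp_one]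
    haveI : IsIso (L q.2.1 (gs q.1)) := ⟨L q.2.1⁻¹ (gs q.1)⁻¹, by rw [hL, inv_mul_cancel, mul_inv_cancel, hL1],
      by rw [hL, mul_inv_cancel, inv_mul_cancel, hL1]⟩
    haveI : IsIso (L q.2.1 (gs q.1)).left := inferInstanceAs (IsIso ((Over.forget _).map (L q.2.1 (gs q.1))))
    haveI : IsClosedImmersion ((tr q).left ≫ (fst G C).left) := by
      rw [← Over.comp_left, lift_fst, show (toPt C ≫ q.2.1) * iC * (toPt C ≫ gs q.1) = iC ≫ L q.2.1 (gs q.1) by
        simp only [L, MonObj.comp_mul, Category.comp_id, ← Category.assoc, toPt_comp_toPt], Over.comp_left]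
      infer_instance
    exact IsClosedImmersion.of_comp _ (fst G C).left
  obtain ⟨U, hU, hUr⟩ := exists_open_subset_range φ (t ≫ iT) (lift 1 (t ≫ iS))
    (by rw [hφ, lift_fst, lift_snd, Category.assoc, hS, _root_.inv_one, _root_.one_mul, _root_.mul_one])
    (fun i => tr (e.symm i)) (fun i => htr _) fun p hp => by
      rw [hφ] at hp
      set g := p ≫ fst G C with hg
      set c := p ≫ snd G C with hc
      have hcn : c ^ n = 1 := by
        rw [← cancel_mono iC, MonObj.pow_comp, MonObj.one_comp]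
        have e1 : c ≫ iC = g⁻¹ * (t ≫ iT) * g⁻¹⁻¹ := by rw [← hp]; group
        rw [e1, conj_pow, ← MonObj.pow_comp, htn, MonObj.one_comp, _root_.mul_one, mul_inv_cancel]
      obtain ⟨s, hsn, hsc⟩ := htors c hcn
      have hsT : g * (s ≫ iT) * g⁻¹ = t ≫ iT := by rw [show s ≫ iT = c ≫ iC by rw [← hsc, Category.assoc, hS]]; exact hp
      let j : J₀ := ⟨s, hsn, g, hsT⟩
      have h2 : Commute (t ≫ iT) (g * (gs j)⁻¹) := by
        have e1 : g * (gs j)⁻¹ * (gs j * (s ≫ iT) * (gs j)⁻¹) = g * (s ≫ iT) * g⁻¹ * (g * (gs j)⁻¹) := by group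
        rw [hgs j, hsT] at e1
        exact e1.symm
      obtain ⟨r, hr, c', hc'⟩ := hR _ (hgen _ h2)
      refine ⟨e (j, ⟨r, hr⟩), c', ?_⟩
      show c' ≫ tr (e.symm _) = p
      rw [Equiv.symm_apply_apply]
      apply CartesianMonoidalCategory.hom_ext
      · simp only [tr, Category.assoc, lift_fst, MonObj.comp_mul]
        rw [← Category.assoc, ← Category.assoc, comp_toPt, Category.id_comp, Category.id_comp, hc',
          inv_mul_cancel_right]
      · simp only [tr, Category.assoc, lift_snd]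
        rw [← Category.assoc, comp_toPt, Category.id_comp]
        exact hsc
  refine ⟨U, hU, fun x hx => ?_⟩
  haveI : LocallyOfFiniteType (G ⊗ C).hom :=
    inferInstanceAs (LocallyOfFiniteType (pullback.fst G.hom C.hom ≫ G.hom))
  haveI : JacobsonSpace (G ⊗ C).left := LocallyOfFiniteType.jacobsonSpace (G ⊗ C).hom
  obtain ⟨p, hp⟩ := exists_point_of_mem_range φ x (hUr hx)
  exact ⟨p ≫ fst G C, p ≫ snd G C, by rw [← hφ]; exact hp⟩

end Groth.Agent.GModLib
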