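import Groth.Agent.GModLib.MultUnipotent
import Groth.Agent.GModLib.CentreBorel
import Groth.Agent.GModLib.Cartan
import Groth.Agent.GModLib.ConjDense
import Groth.Agent.GModLib.MaxTorusGeom
import Groth.Agent.GModLib.MaxTorusGeomConv
import Groth.Agent.GModLib.BorelConjNonAffine
import Groth.Agent.AVCentre.SubGrp
import Groth.Agent.S19598

/-!
# The reductive centre and the maximal tori
-/

set_option autoImplicit false
set_option backward.isDefEq.respectTransparency false
set_option backward.isDefEq.respectTransparency.types false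

universe u

open CategoryTheory Limits AlgebraicGeometry MonoidalCategory CartesianMonoidalCategory MonObj GrpObj

namespace Groth.Agent.GModLib

open GrpSchLib GrpSchLib.Kunneth

variable {k : Type u} [Field k] [IsAlgClosed k] {G : Over (Spec (CommRingCat.of k))} [GrpObj G] [IsAffine G.left]
  [Smooth G.hom] [ConnectedSpace G.left]

set_option maxHeartbeats 1000000 in
/-- A central homomorphism from a group of multiplicative type factors through each maximal torus. -/
theorem central_multType_factors {T Z : Over (Spec (CommRingCat.of k))} [GrpObj T] [GrpObj Z] (iT : T ⟶ G)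
    (hT : AGF.IsMaxTorus iT) (hZ : SGA3x.IsMultTypeFT Z) (z : Z ⟶ G) [IsMonHom z]
    (hz : ∀ (X : Over (Spec (CommRingCat.of k))) (x : X ⟶ Z) (g : X ⟶ G), (x ≫ z) * g = g * (x ≫ z)) :
    ∃ f : Z ⟶ T, f ≫ iT = z := by
  obtain ⟨hTm, hTmo, hTt, -⟩ := id hT
  haveI := hTm; haveI := hTmo
  obtain ⟨C, _, hCa, hCs, hCn, iC, hiC, d, M, hM, iS, hcl, -, hiS, hfull, hcomm, -, -, huniv⟩ := exists_cartan iT hT
  haveI := hCa; haveI := hCs; haveI := hCn; haveI := hiC; haveI := hcl
  haveI : Mono iC := Over.mono_of_mono_left iC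
  obtain ⟨C', _, c', hm', hcc', hu'⟩ := TransLib.exists_centralizer iT
  haveI := hm'; haveI := hcc'
  haveI : Mono c' := Over.mono_of_mono_left c'
  obtain ⟨hs', -, hn'⟩ := centralizer_smooth_connected iT hTt c' ⟨inferInstance, inferInstance, hu'⟩
  haveI := hs'; haveI := hn'
  obtain ⟨v, hv⟩ := huniv C' c' fun p s => by
    have e := (hu' _ (p ≫ c')).mp ⟨p, rfl⟩ _ (𝟙 _) s
    rw [Category.id_comp] at e
    exact e.symm
  obtain ⟨z', hz'⟩ := (hu' Z z).mpr fun X' x h => hz X' x (h ≫ iT)
  have hzC : (z' ≫ v) ≫ iC = z := by rw [Category.assoc, hv, hz']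
  haveI : IsMonHom ((z' ≫ v) ≫ iC) := hzC.symm ▸ ‹IsMonHom z›
  haveI : IsMonHom (z' ≫ v) := isMonHom_of_comp _ iC
  obtain ⟨q1, q2, q3, -, -⟩ := TorusBasic.torus_props hTt
  haveI := q1; haveI := q2; haveI := q3
  haveI : Smooth (T ⊗ C).hom := GrpFieldLib.SolvBound.tensor_property (P := @Smooth) q1 hCs
  haveI : IsReduced (T ⊗ C).left := GrpSchLib.isReduced_of_smooth_field (T ⊗ C).hom
  haveI : IsSeparated C.hom := AntiAffine.isSeparated_grp C
  have hc : (fst T C ≫ iS) * snd T C = snd T C * (fst T C ≫ iS) := hom_ext_points_sep fun p => by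
    rw [MonObj.comp_mul, MonObj.comp_mul, ← Category.assoc, ← cancel_mono iC, MonObj.mul_comp, MonObj.mul_comp,
      Category.assoc (p ≫ fst T C) iS, hiS]
    exact (hcomm (p ≫ snd T C) (p ≫ fst T C)).eq
  obtain ⟨f, hf⟩ := exists_factor_fullTorus hM iS hfull (fun X a g => by
    have e := congrArg (lift a g ≫ ·) hc
    simpa only [MonObj.comp_mul, lift_fst_assoc, lift_snd] using e) hZ (z' ≫ v)
  exact ⟨f, by rw [← hiS, ← Category.assoc, hf, hzC]⟩

set_option maxHeartbeats 1000000 in
/-- A point of an affine scheme lying in every maximal torus is central. -/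
theorem commute_of_mem_all_maxTori {X : Over (Spec (CommRingCat.of k))} [IsAffine X.left] (g : X ⟶ G)
    (h : ∀ (T : Over (Spec (CommRingCat.of k))) [GrpObj T] (i : T ⟶ G), AGF.IsMaxTorus i → ∃ t : X ⟶ T, t ≫ i = g) :
    fst G X * (snd G X ≫ g) = (snd G X ≫ g) * fst G X := by
  haveI : QuasiCompact G.hom := inferInstance
  obtain ⟨T, _, iT, hT⟩ := exists_maxTorus G
  obtain ⟨hTm, hTmo, hTt, hTmax⟩ := id hT
  haveI := hTm; haveI := hTmo
  obtain ⟨C, _, hCa, hCs, hCn, iC, hiC, d, M, hM, iS, hcl, -, hiS, hfull, hcomm, -, hR, -⟩ := exists_cartan iT hT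
  haveI := hCa; haveI := hCs; haveI := hCn; haveI := hiC; haveI := hcl
  obtain ⟨q1, q2, q3, -, -⟩ := TorusBasic.torus_props hTt
  haveI := q1; haveI := q2; haveI := q3
  obtain ⟨U, hU, hUx⟩ := exists_open_conj_cartan iT hTt iC hM iS hiS hfull hcomm hR
  haveI : IsReduced G.left := GrpSchLib.isReduced_of_smooth_field G.hom
  haveI : IsReduced T.left := GrpSchLib.isReduced_of_smooth_field T.hom
  haveI : IsSeparated G.hom := AntiAffine.isSeparated_grp G
  have hUc : ∀ p : VecGrp.pt k k ⟶ G, p.left (IsLocalRing.closedPoint k) ∈ U →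
      Commute (toPt X ≫ p) g := fun p hp => by
    obtain ⟨x, c, rfl⟩ := hUx p hp
    obtain ⟨t, ht⟩ := h T (iT ≫ inner (toPt _ ≫ x)) ⟨inferInstance, inferInstance, hTt, fun T' _ j _ _ f hT' hf =>
      hTmax T' (j ≫ inner (toPt _ ≫ x)⁻¹) f hT' (by
        rw [← Category.assoc, hf, Category.assoc, inner_inner, inv_mul_cancel, inner_one, Category.comp_id])⟩
    let c' := toPt T ≫ c ≫ iC
    have hcc : c' * iT = iT * c' := hom_ext_points fun s => by
      rw [MonObj.comp_mul, MonObj.comp_mul]
      simp only [c', ← Category.assoc s (toPt T), comp_toPt, Category.id_comp]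
      exact (hcomm c s).eq.symm
    have hcc' : Commute (toPt X ≫ c ≫ iC) (t ≫ iT) := by
      have e := congrArg (t ≫ ·) hcc
      simp only [c', MonObj.comp_mul, ← Category.assoc t (toPt T), eq_toPt (t ≫ toPt T)] at e
      exact e
    have hg : g = (toPt X ≫ x) * (t ≫ iT) * (toPt X ≫ x)⁻¹ := by
      rw [← ht, ← Category.assoc t iT, comp_inner, ← Category.assoc (toUnit X) (toPt _),
        eq_toPt (toUnit X ≫ toPt _)]
    rw [hg, MonObj.comp_mul, MonObj.comp_mul, GrpObj.comp_inv]
    show _ * _ = _ * _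
    calc (toPt X ≫ x) * (toPt X ≫ c ≫ iC) * (toPt X ≫ x)⁻¹ * ((toPt X ≫ x) * (t ≫ iT) * (toPt X ≫ x)⁻¹)
        = (toPt X ≫ x) * ((toPt X ≫ c ≫ iC) * (t ≫ iT)) * (toPt X ≫ x)⁻¹ := by group
      _ = (toPt X ≫ x) * ((t ≫ iT) * (toPt X ≫ c ≫ iC)) * (toPt X ≫ x)⁻¹ := by rw [hcc'.eq]
      _ = _ := by group
  haveI : GeometricallyIntegral G.hom := AlbQuotLib.geometricallyIntegral G
  haveI : IsIntegral G.left := GeometricallyIntegral.isIntegral_of_subsingleton G.hom
  haveI : IrreducibleSpace G.left := inferInstance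
  haveI : JacobsonSpace G.left := LocallyOfFiniteType.jacobsonSpace G.hom
  have hall : ∀ p : VecGrp.pt k k ⟶ G, Commute (toPt X ≫ p) g := fun p => by
    let m : G ⟶ G := (toPt G ≫ p⁻¹) * 𝟙 G
    have hm : ∀ q : VecGrp.pt k k ⟶ G, q ≫ m = p⁻¹ * q := fun q => by
      simp only [m, MonObj.comp_mul, ← Category.assoc, comp_toPt, Category.id_comp, Category.comp_id]
    have hV : (m.left ⁻¹' (U : Set G.left)).Nonempty := by
      obtain ⟨u, hu, huc⟩ := nonempty_inter_closedPoints hU U.2.isLocallyClosed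
      obtain ⟨q, hq⟩ := exists_point_of_isClosed (K := k) G huc
      refine ⟨(p * q).left (IsLocalRing.closedPoint k), ?_⟩
      show m.left _ ∈ U
      rw [← Scheme.Hom.comp_apply, ← Over.comp_left, hm, inv_mul_cancel_left, hq]
      exact hu
    obtain ⟨v, ⟨hv1, hv2⟩, hvc⟩ := nonempty_inter_closedPoints
      (nonempty_preirreducible_inter U.2 (U.2.preimage m.left.continuous) hU hV)
      (U.2.inter (U.2.preimage m.left.continuous)).isLocallyClosed
    obtain ⟨q, hq⟩ := exists_point_of_isClosed (K := k) G hvc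
    have h1 := hUc q (by rw [hq]; exact hv1)
    have h2 := hUc (p⁻¹ * q) (by
      rw [← hm, Over.comp_left, Scheme.Hom.comp_apply, hq]
      exact hv2)
    have h3 : toPt X ≫ p = (toPt X ≫ q) * (toPt X ≫ (p⁻¹ * q))⁻¹ := by
      rw [← GrpObj.comp_inv, ← MonObj.comp_mul, _root_.mul_inv_rev, _root_.inv_inv, mul_inv_cancel_left]
    rw [h3]
    exact h1.mul_left h2.inv_left
  obtain ⟨B, _, iB, hB, -⟩ := exists_borel (G := G)
  exact conj_eq_of_commute_borel iB hB g fun b => (hall (b ≫ iB)).eq

set_option maxHeartbeats 1000000 in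
/-- The reductive centre is the intersection of the maximal tori. -/
theorem reductiveCentre_iff_mem_all {Z : Over (Spec (CommRingCat.of k))} [GrpObj Z] (z : Z ⟶ G) [IsMonHom z] [Mono z]
    (hZ : SGA3x.IsMultTypeFT Z)
    (hzc : ∀ (X : Over (Spec (CommRingCat.of k))) (x : X ⟶ Z) (g : X ⟶ G), (x ≫ z) * g = g * (x ≫ z))
    (huniv : ∀ (H : Over (Spec (CommRingCat.of k))) [GrpObj H] (v : H ⟶ G) [IsMonHom v], SGA3x.IsMultTypeFT H →
      (∀ (X : Over (Spec (CommRingCat.of k))) (x : X ⟶ H) (g : X ⟶ G), (x ≫ v) * g = g * (x ≫ v)) →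
        ∃ w : H ⟶ Z, w ≫ z = v)
    (X : Over (Spec (CommRingCat.of k))) (g : X ⟶ G) :
    (∃ x : X ⟶ Z, x ≫ z = g) ↔
      ∀ (T : Over (Spec (CommRingCat.of k))) [GrpObj T] (i : T ⟶ G), Red.IsMaximalTorus i → ∃ t : X ⟶ T, t ≫ i = g := by
  constructor
  · rintro ⟨x, rfl⟩ T _ i hT
    obtain ⟨f, hf⟩ := central_multType_factors i (isMaxTorus_of_isMaximalTorus hT) hZ z hzc
    exact ⟨x ≫ f, by rw [Category.assoc, hf]⟩
  intro h
  have h' : ∀ (T : Over (Spec (CommRingCat.of k))) [GrpObj T] (i : T ⟶ G), AGF.IsMaxTorus i → ∃ t : X ⟶ T, t ≫ i = g :=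
    fun T _ i hT => h T i (isMaximalTorus_of_isMaxTorus hT)
  haveI : QuasiCompact G.hom := inferInstance
  obtain ⟨T, _, iT, hT⟩ := exists_maxTorus G
  obtain ⟨hTm, hTmo, hTt, -⟩ := id hT
  haveI := hTm; haveI := hTmo
  have hconn : SGA3x.neutralSet G = Set.univ := GrpFieldLib.Jet.neutralSet_eq_univ_of_isConnected G fun s => by
    rw [show G.hom.base ⁻¹' {s} = Set.univ from
      Set.eq_univ_of_forall fun x => Subsingleton.elim (α := PrimeSpectrum k) _ _]
    exact isConnected_univ
  obtain ⟨Zc, _, c, hc, hcc, -⟩ := GrpFieldLib.Jet.exists_centralizer (𝟙 G) hconn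
  haveI := hcc; haveI := hc.1; haveI := hc.2.1
  -- the point is central
  obtain ⟨u, hu⟩ : ∃ u : X ⟶ Zc, u ≫ c = g := by
    let p := pullback.fst g.left c.left
    haveI : IsIso p := by
      refine IsZariskiLocalAtTarget.of_openCover (P := MorphismProperty.isomorphisms Scheme.{u}) X.left.affineCover
        fun i => ?_
      let W := Over.mk (X.left.affineCover.f i ≫ X.hom)
      let w : W ⟶ X := Over.homMk (X.left.affineCover.f i) rfl
      haveI : IsAffine W.left := inferInstanceAs (IsAffine (X.left.affineCover.X i))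
      have key := commute_of_mem_all_maxTori (w ≫ g) fun T' _ i' hi' => by
        obtain ⟨t, ht⟩ := h' T' i' hi'
        exact ⟨w ≫ t, by rw [Category.assoc, ht]⟩
      obtain ⟨y, hy⟩ := (hc.2.2 W (w ≫ g)).mpr fun X' x a => by
        rw [Category.comp_id]
        have e := congrArg (lift a x ≫ ·) key
        simp only [MonObj.comp_mul, lift_fst, lift_snd_assoc] at e
        exact e.symm
      have hy' : X.left.affineCover.f i ≫ g.left = y.left ≫ c.left :=
        (congrArg CommaMorphism.left hy).symm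
      let l := pullback.lift (X.left.affineCover.f i) y.left hy'
      have hs : (pullback.lift l (𝟙 _) (by rw [pullback.lift_fst, Category.id_comp])) ≫
          pullback.snd p (X.left.affineCover.f i) = 𝟙 _ := pullback.lift_snd _ _ _
      haveI : Mono (pullback.snd p (X.left.affineCover.f i)) := inferInstance
      haveI : IsSplitEpi (pullback.snd p (X.left.affineCover.f i)) := IsSplitEpi.mk' ⟨_, hs⟩
      show IsIso (pullback.snd p (X.left.affineCover.f i))
      exact isIso_of_mono_of_isSplitEpi _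
    refine ⟨Over.homMk (inv p ≫ pullback.snd g.left c.left) ?_, Over.OverMorphism.ext ?_⟩
    · show (inv p ≫ pullback.snd g.left c.left) ≫ Zc.hom = X.hom
      rw [← Over.w c, ← Category.assoc, Category.assoc (inv p), ← pullback.condition, IsIso.inv_hom_id_assoc]
      exact Over.w g
    · show (inv p ≫ pullback.snd g.left c.left) ≫ c.left = g.left
      rw [Category.assoc, ← pullback.condition, IsIso.inv_hom_id_assoc]
  obtain ⟨t, ht⟩ := h' T iT hT
  obtain ⟨_, hfst⟩ := AVCentre.exists_grpObj_of_mono (pullback.fst iT c)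
    (fun Y => ⟨pullback.lift 1 1 (by rw [MonObj.one_comp, MonObj.one_comp]), pullback.lift_fst _ _ _⟩)
    (fun Y a b => ⟨pullback.lift ((a ≫ pullback.fst iT c) * (b ≫ pullback.fst iT c))
        ((a ≫ pullback.snd iT c) * (b ≫ pullback.snd iT c))
        (by rw [MonObj.mul_comp, MonObj.mul_comp, Category.assoc, Category.assoc, pullback.condition, Category.assoc,
          Category.assoc]), pullback.lift_fst _ _ _⟩)
    (fun Y a => ⟨pullback.lift (a ≫ pullback.fst iT c)⁻¹ (a ≫ pullback.snd iT c)⁻¹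
        (by rw [GrpObj.inv_comp, GrpObj.inv_comp, Category.assoc, Category.assoc, pullback.condition]),
      pullback.lift_fst _ _ _⟩)
  haveI := hfst
  haveI : IsClosedImmersion (pullback.fst iT c).left :=
    MorphismProperty.of_isPullback (P := @IsClosedImmersion)
      ((IsPullback.of_hasPullback iT c).map (Over.forget _)).flip hcc
  obtain ⟨q1, q2, q3, -, -⟩ := TorusBasic.torus_props hTt
  haveI := q1; haveI := q2; haveI := q3
  haveI : LocallyOfFiniteType (pullback iT c).hom := by rw [← Over.w (pullback.fst iT c)]; infer_instance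
  haveI : LocallyOfFinitePresentation (pullback iT c).hom := inferInstance
  have hH := Groth.Agent.S19598.result (pullback iT c) T (RankOne.isMultTypeFT_of_isTorus hTt) (pullback.fst iT c)
    inferInstance (AssLib.flat_over_field _) inferInstance
  obtain ⟨w, hw⟩ := huniv (pullback iT c) (pullback.fst iT c ≫ iT) hH fun Y y a => by
    have e := (hc.2.2 Y ((y ≫ pullback.snd iT c) ≫ c)).mp ⟨_, rfl⟩ Y (𝟙 Y) a
    rw [Category.id_comp, Category.comp_id, Category.assoc, ← pullback.condition] at e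
    exact e
  exact ⟨pullback.lift t u (by rw [ht, hu]) ≫ w, by rw [Category.assoc, hw, pullback.lift_fst_assoc, ht]⟩

end Groth.Agent.GModLib
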