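import Groth.Agent.GModLib.EtaleSplitSelfCent
import Groth.Agent.GrpSchLib.SmoothReduced
import Mathlib.RingTheory.Spectrum.Prime.Chevalley
import Mathlib.RingTheory.Flat.FaithfullyFlat.Algebra

/-!
# Weights of the conjugation action of a split torus and the centre
-/

set_option autoImplicit false
set_option linter.style.haveILetI false
set_option backward.isDefEq.respectTransparency false
set_option backward.isDefEq.respectTransparency.types false

universe u

open CategoryTheory CategoryTheory.Limits MonoidalCategory CartesianMonoidalCategory MonObj GrpObj AlgebraicGeometry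
open scoped TensorProduct
open WithConv MonoidAlgebra

namespace Groth.Agent.GModLib.CentreWeights

open GrpSchLib.AffineHopf

variable {R : Type u} [CommRing R] {A : Type u} [CommRing A] [HopfAlgebra R A] {M : Type} [CommGroup M]

/-- The algebra map attached to a character and a point. -/
noncomputable def ev {R' : Type u} [CommRing R'] [Algebra R R'] (χ : M →* R') (x : A →ₐ[R] R') :
    MonoidAlgebra A M →ₐ[R] R' :=
  MonoidAlgebra.liftNCAlgHom x χ fun _ _ => Commute.all _ _

theorem ev_single {R' : Type u} [CommRing R'] [Algebra R R'] (χ : M →* R') (x : A →ₐ[R] R') (m : M) (b : A) :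
    ev χ x (single m b) = x b * χ m := by
  simp [ev]

/-- The point of the torus attached to a character. -/
noncomputable def pt (R : Type u) [CommRing R] {R' : Type u} [CommRing R'] [Algebra R R'] {M : Type} [CommGroup M]
    (χ : M →* R') : sp R R' ⟶ sp R (MonoidAlgebra R M) :=
  spMap (MonoidAlgebra.lift R R' M χ)

theorem pt_mul {R' : Type u} [CommRing R'] [Algebra R R'] (χ χ' : M →* R') :
    pt R (χ * χ') = pt R χ * pt R χ' := by
  rw [pt, pt, pt, spMap_mul]
  congr 1
  refine MonoidAlgebra.algHom_ext (fun m => ?_) (by ext)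
  rw [AlgHom.convMul_apply, MonoidAlgebra.comul_single]
  simp

theorem pt_one {R' : Type u} [CommRing R'] [Algebra R R'] : pt R (1 : M →* R') = 1 := by
  have h := pt_mul (R := R) (1 : M →* R') 1
  rw [_root_.one_mul] at h
  exact left_eq_mul.mp h

theorem comp_pt {R' R'' : Type u} [CommRing R'] [Algebra R R'] [CommRing R''] [Algebra R R''] (f : R' →ₐ[R] R'')
    (χ : M →* R') : spMap f ≫ pt R χ = pt R ((f : R' →* R'').comp χ) := by
  rw [pt, pt, spMap_comp]
  congr 1
  exact MonoidAlgebra.algHom_ext (fun m => by simp) (by ext)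

variable (t : sp R (MonoidAlgebra R M) ⟶ sp R A)

/-- Conjugation by the torus, as an algebra map. -/
theorem exists_conj : ∃ ρ : A →ₐ[R] MonoidAlgebra A M, ∀ (R' : Type u) [CommRing R'] [Algebra R R'] (χ : M →* R')
    (x : A →ₐ[R] R'), (pt R χ ≫ t) * spMap x * (pt R χ ≫ t)⁻¹ = spMap ((ev χ x).comp ρ) := by
  obtain ⟨ρ, hρ⟩ := exists_eq_spMap
    ((pt R (MonoidAlgebra.of A M) ≫ t) * spMap (MonoidAlgebra.singleOneAlgHom (R := R) (A := A) (M := M)) *
      (pt R (MonoidAlgebra.of A M) ≫ t)⁻¹)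
  refine ⟨ρ, fun R' _ _ χ x => ?_⟩
  have h1 : ((ev χ x : MonoidAlgebra A M →ₐ[R] R') : MonoidAlgebra A M →* R').comp (MonoidAlgebra.of A M) = χ :=
    MonoidHom.ext fun m => by simp [ev]
  have h2 : (ev χ x).comp (MonoidAlgebra.singleOneAlgHom (R := R) (A := A) (M := M)) = x :=
    AlgHom.ext fun b => by simp [ev]
  rw [← spMap_comp, ← hρ, MonObj.comp_mul, MonObj.comp_mul, GrpObj.comp_inv, ← Category.assoc, comp_pt, h1,
    spMap_comp, h2]

variable {t} {ρ : A →ₐ[R] MonoidAlgebra A M}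
  (hρ : ∀ (R' : Type u) [CommRing R'] [Algebra R R'] (χ : M →* R') (x : A →ₐ[R] R'),
    (pt R χ ≫ t) * spMap x * (pt R χ ≫ t)⁻¹ = spMap ((ev χ x).comp ρ))

include hρ in
/-- A character killing the weights of a point commutes with it. -/
theorem commute_of {R' : Type u} [CommRing R'] [Algebra R R'] [IsMonHom t] (χ : M →* R') (x : A →ₐ[R] R')
    (h : ∀ a m, x ((ρ a).coeff m) * χ m = x ((ρ a).coeff m)) :
    (pt R χ ≫ t) * spMap x = spMap x * (pt R χ ≫ t) := by
  have h1 := hρ R' χ x
  have h0 := hρ R' 1 x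
  rw [pt_one, MonObj.one_comp, _root_.one_mul, inv_one, _root_.mul_one] at h0
  have he : (ev χ x).comp ρ = (ev 1 x).comp ρ := by
    refine AlgHom.ext fun a => ?_
    show MonoidAlgebra.liftNC (x : A →+ R') χ (ρ a) = MonoidAlgebra.liftNC (x : A →+ R') (1 : M →* R') (ρ a)
    refine Finsupp.sum_congr fun m _ => ?_
    show x ((ρ a).coeff m) * χ m = x ((ρ a).coeff m) * 1
    rw [h, _root_.mul_one]
  rw [he, ← h0] at h1
  exact mul_inv_eq_iff_eq_mul.mp h1

include hρ in
/-- A central point of the torus kills the weights. -/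
theorem eq_one_of_central {R' : Type u} [CommRing R'] [Algebra R R'] [IsMonHom t] (χ : M →* R')
    (hc : ∀ (X : Over (Spec (CommRingCat.of R))) (f : X ⟶ sp R R') (y : X ⟶ sp R A),
      (f ≫ pt R χ ≫ t) * y = y * (f ≫ pt R χ ≫ t)) (a : A) (m : M) :
    χ m ⊗ₜ[R] (ρ a).coeff m = (1 : R') ⊗ₜ[R] (ρ a).coeff m := by
  let ι' : R' →ₐ[R] (MonoidAlgebra (R' ⊗[R] A) M) :=
    (MonoidAlgebra.singleOneAlgHom (R := R) (A := R' ⊗[R] A) (M := M)).comp Algebra.TensorProduct.includeLeft
  let x : A →ₐ[R] (MonoidAlgebra (R' ⊗[R] A) M) :=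
    (MonoidAlgebra.singleOneAlgHom (R := R) (A := R' ⊗[R] A) (M := M)).comp Algebra.TensorProduct.includeRight
  let η' : M →* (MonoidAlgebra (R' ⊗[R] A) M) := MonoidAlgebra.of (R' ⊗[R] A) M
  let χ' : M →* (MonoidAlgebra (R' ⊗[R] A) M) := (ι' : R' →* (MonoidAlgebra (R' ⊗[R] A) M)).comp χ
  have h := hc _ (spMap ι') ((pt R η' ≫ t) * spMap x * (pt R η' ≫ t)⁻¹)
  rw [← Category.assoc, comp_pt] at h
  change (pt R χ' ≫ t) * _ = _ * (pt R χ' ≫ t) at h
  have h2 : (pt R (χ' * η') ≫ t) * spMap x * (pt R (χ' * η') ≫ t)⁻¹ = (pt R η' ≫ t) * spMap x * (pt R η' ≫ t)⁻¹ := by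
    rw [pt_mul, MonObj.mul_comp, _root_.mul_inv_rev]
    calc (pt R χ' ≫ t) * (pt R η' ≫ t) * spMap x * ((pt R η' ≫ t)⁻¹ * (pt R χ' ≫ t)⁻¹)
        = (pt R χ' ≫ t) * ((pt R η' ≫ t) * spMap x * (pt R η' ≫ t)⁻¹) * (pt R χ' ≫ t)⁻¹ := by
          simp only [_root_.mul_assoc]
      _ = _ := by rw [h, mul_inv_cancel_right]
  rw [hρ, hρ] at h2
  have h3 := congrArg (fun f : A →ₐ[R] (MonoidAlgebra (R' ⊗[R] A) M) => (f a).coeff m) (spMap_injective h2)
  have key : ∀ (θ : M →* R') (F : MonoidAlgebra A M),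
      (ev ((ι' : R' →* (MonoidAlgebra (R' ⊗[R] A) M)).comp θ * η') x F).coeff m = θ m ⊗ₜ[R] F.coeff m := fun θ F => by
    induction F using MonoidAlgebra.induction_linear with
    | zero => simp
    | add F G hF hG => simp [hF, hG, TensorProduct.tmul_add]
    | single n b =>
      classical
      rw [ev_single]
      simp only [MonoidHom.mul_apply, x, ι', η', MonoidHom.coe_comp, Function.comp_apply, MonoidHom.coe_coe,
        AlgHom.coe_comp, MonoidAlgebra.of_apply, MonoidAlgebra.singleOneAlgHom_apply,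
        Algebra.TensorProduct.includeLeft_apply, Algebra.TensorProduct.includeRight_apply,
        MonoidAlgebra.single_mul_single, Algebra.TensorProduct.tmul_mul_tmul, _root_.one_mul, _root_.mul_one,
        MonoidAlgebra.coeff_single, Finsupp.single_apply]
      split_ifs with hn
      · rw [hn]
      · rw [TensorProduct.tmul_zero]
  have e1 : (ι' : R' →* (MonoidAlgebra (R' ⊗[R] A) M)).comp (1 : M →* R') * η' = η' := by
    ext n; simp
  have h4 := key 1 (ρ a)
  rw [e1, MonoidHom.one_apply] at h4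
  exact ((key χ (ρ a)).symm.trans h3).trans h4

/-- A weight vector which is nonzero in all fibres detects scalars. -/
theorem eq_zero_of_tmul_eq_zero [Module.Flat R A] {R' : Type u} [CommRing R'] [Algebra R R'] (b : A) (c : R')
    (hb : ∀ q : Ideal R', q.IsPrime → ∃ Q : PrimeSpectrum A, b ∉ Q.asIdeal ∧
      Q.asIdeal.comap (algebraMap R A) = q.comap (algebraMap R R'))
    (h : c ⊗ₜ[R] b = 0) : c = 0 := by
  let B := Localization.Away ((1 : R') ⊗ₜ[R] b)
  haveI : Module.Flat R' B := Module.Flat.trans R' (R' ⊗[R] A) B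
  haveI : Module.FaithfullyFlat R' B := Module.FaithfullyFlat.of_comap_surjective fun q => by
    obtain ⟨Q, hbQ, hQ⟩ := hb q.asIdeal q.isPrime
    obtain ⟨z, hz1, hz2⟩ := Scheme.Pullback.exists_preimage_pullback
      (f := Spec.map (CommRingCat.ofHom (algebraMap R R'))) (g := Spec.map (CommRingCat.ofHom (algebraMap R A))) q Q
      (PrimeSpectrum.ext hQ.symm)
    let w : PrimeSpectrum (R' ⊗[R] A) := (pullbackSpecIso R R' A).hom z
    have hw1 : w.comap (algebraMap R' (R' ⊗[R] A)) = q := by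
      rw [← hz1, ← pullbackSpecIso_hom_fst]
      rfl
    have hw2 : w.comap (Algebra.TensorProduct.includeRight : A →ₐ[R] R' ⊗[R] A).toRingHom = Q := by
      rw [← hz2, ← pullbackSpecIso_hom_snd]
      rfl
    have hw3 : w ∈ Set.range (PrimeSpectrum.comap (algebraMap (R' ⊗[R] A) B)) := by
      rw [PrimeSpectrum.localization_away_comap_range B ((1 : R') ⊗ₜ[R] b)]
      intro hm
      exact hbQ (hw2 ▸ hm)
    obtain ⟨v, hv⟩ := hw3
    exact ⟨v, by rw [IsScalarTower.algebraMap_eq R' (R' ⊗[R] A) B, PrimeSpectrum.comap_comp_apply, hv, hw1]⟩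
  refine (FaithfulSMul.algebraMap_injective R' B) ?_
  rw [map_zero, IsScalarTower.algebraMap_apply R' (R' ⊗[R] A) B,
    ← (IsLocalization.Away.algebraMap_isUnit (S := B) ((1 : R') ⊗ₜ[R] b)).mul_left_eq_zero, ← map_mul]
  rw [Algebra.TensorProduct.algebraMap_apply, Algebra.TensorProduct.tmul_mul_tmul, _root_.mul_one, _root_.one_mul]
  simp only [Algebra.algebraMap_self, RingHom.id_apply, h, map_zero]

end CentreWeights

open GrpSchLib.AffineHopf CentreWeights

/-- Affine schemes over an affine base are spectra of algebras. -/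
theorem exists_sp_iso {R : Type u} [CommRing R] (X : Over (Spec (CommRingCat.of R))) [IsAffine X.left] :
    ∃ (W : Type u) (_ : CommRing W) (_ : Algebra R W) (e : sp R W ⟶ X), IsIso e := by
  let φ : CommRingCat.of R ⟶ CommRingCat.of Γ(X.left, ⊤) := Spec.preimage (X.left.isoSpec.inv ≫ X.hom)
  let _ : Algebra R Γ(X.left, ⊤) := φ.hom.toAlgebra
  let e : sp R Γ(X.left, ⊤) ⟶ X := Over.homMk X.left.isoSpec.inv
    ((Spec.map_preimage (X.left.isoSpec.inv ≫ X.hom)).symm : _ = Spec.map (CommRingCat.ofHom (algebraMap R _)))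
  haveI : IsIso ((Over.forget _).map e) := inferInstanceAs (IsIso X.left.isoSpec.inv)
  exact ⟨Γ(X.left, ⊤), inferInstance, inferInstance, e, isIso_of_reflects_iso e (Over.forget _)⟩

section Locus

variable {R : Type u} [CommRing R] {A : Type u} [CommRing A] [HopfAlgebra R A] [Algebra.Smooth R A]
  {N : Type} [AddCommGroup N] [Module.Finite ℤ N]
  {t : sp R (MonoidAlgebra R (Multiplicative N)) ⟶ sp R A}
  {ρ : A →ₐ[R] MonoidAlgebra A (Multiplicative N)}
  (hρ : ∀ (R' : Type u) [CommRing R'] [Algebra R R'] (χ : Multiplicative N →* R') (x : A →ₐ[R] R'),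
    (pt R χ ≫ t) * spMap x * (pt R χ ≫ t)⁻¹ = spMap ((ev χ x).comp ρ))

/-- The weights occurring in the fibre over a prime. -/
def weightSet (ρ : A →ₐ[R] MonoidAlgebra A (Multiplicative N)) (p : Ideal R) : Set N :=
  {n | ∃ (a : A) (Q : PrimeSpectrum A), (ρ a).coeff (Multiplicative.ofAdd n) ∉ Q.asIdeal ∧
    Q.asIdeal.comap (algebraMap R A) = p}

include hρ in
/-- Near a point a central point of the torus is trivial on the weights of the fibre. -/
theorem exists_away_central [IsMonHom t] (p : Ideal R) [p.IsPrime] :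
    ∃ f ∉ p, ∀ (R' : Type u) [CommRing R'] [Algebra R R'], IsUnit (algebraMap R R' f) →
      ∀ χ : Multiplicative N →* R', (∀ (X : Over (Spec (CommRingCat.of R))) (g : X ⟶ sp R R') (y : X ⟶ sp R A),
        (g ≫ pt R χ ≫ t) * y = y * (g ≫ pt R χ ≫ t)) →
      ∀ n ∈ AddSubgroup.closure (weightSet ρ p), χ (Multiplicative.ofAdd n) = 1 := by
  classical
  obtain ⟨s, hs, hspan⟩ := (Submodule.fg_span_iff_fg_span_finset_subset (R := ℤ) (weightSet ρ p)).mp
    (IsNoetherian.noetherian _)
  have hmem : ∀ n ∈ s, ∃ (a : A) (Q : PrimeSpectrum A), (ρ a).coeff (Multiplicative.ofAdd n) ∉ Q.asIdeal ∧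
      Q.asIdeal.comap (algebraMap R A) = p := fun n hn => hs hn
  choose a Q hQ hQp using hmem
  let U : Set (PrimeSpectrum R) := ⋂ n : s, PrimeSpectrum.comap (algebraMap R A) ''
    (PrimeSpectrum.basicOpen ((ρ (a n.1 n.2)).coeff (Multiplicative.ofAdd n.1)) : Set (PrimeSpectrum A))
  have hU : IsOpen U := isOpen_iInter_of_finite fun n =>
    PrimeSpectrum.isOpenMap_comap_of_hasGoingDown_of_finitePresentation (R := R) (S := A) _
      (PrimeSpectrum.basicOpen _).isOpen
  have hpU : (⟨p, ‹_›⟩ : PrimeSpectrum R) ∈ U :=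
    Set.mem_iInter.mpr fun n => ⟨Q n.1 n.2, hQ n.1 n.2, PrimeSpectrum.ext (hQp n.1 n.2)⟩
  obtain ⟨_, ⟨f, rfl⟩, hpf, hfU⟩ :=
    PrimeSpectrum.isTopologicalBasis_basic_opens.exists_subset_of_mem_open hpU hU
  refine ⟨f, hpf, fun R' _ _ hu χ hχ n hn => ?_⟩
  have hgen : ∀ n ∈ s, χ (Multiplicative.ofAdd n) = 1 := fun n hn => by
    refine sub_eq_zero.mp (eq_zero_of_tmul_eq_zero (R := R) ((ρ (a n hn)).coeff (Multiplicative.ofAdd n)) _
      (fun q hq => ?_) ?_)
    · let P : PrimeSpectrum R := ⟨q.comap (algebraMap R R'), inferInstance⟩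
      have hfP : P ∈ U := hfU fun hf : f ∈ P.asIdeal => hq.ne_top (Ideal.eq_top_of_isUnit_mem _ hf hu)
      obtain ⟨Q', hQ', hQ''⟩ := Set.mem_iInter.mp hfP ⟨n, hn⟩
      exact ⟨Q', hQ', congrArg PrimeSpectrum.asIdeal hQ''⟩
    · rw [TensorProduct.sub_tmul, eq_one_of_central hρ χ hχ, sub_self]
  have hsub : AddSubgroup.closure (weightSet ρ p) ≤ AddSubgroup.closure (s : Set N) := by
    rw [AddSubgroup.closure_le]
    intro x hx
    have h1 : x ∈ Submodule.span ℤ (s : Set N) := hspan ▸ Submodule.subset_span hx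
    rw [← Submodule.span_int_eq_addSubgroupClosure]
    exact h1
  have hn' := hsub hn
  clear hn
  induction hn' using AddSubgroup.closure_induction with
  | mem x hx => exact hgen x hx
  | zero => exact map_one χ
  | add x y _ _ hx hy => rw [ofAdd_add, map_mul, hx, hy, _root_.one_mul]
  | neg x _ hx =>
    have h2 : χ (Multiplicative.ofAdd (-x)) * χ (Multiplicative.ofAdd x) = 1 := by
      rw [← map_mul, ← ofAdd_add, neg_add_cancel, ofAdd_zero, map_one]
    rwa [hx, _root_.mul_one] at h2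

include hρ in
/-- In the fibre, characters trivial on the weights are central. -/
theorem commute_in_fibre [IsMonHom t] (p : Ideal R) [p.IsPrime] {k : Type u} [Field k] (φ : R →+* k)
    (hφ : RingHom.ker φ = p) {W : Type u} [CommRing W] [Algebra R W] (ψ : k →+* W)
    (hψ : ψ.comp φ = algebraMap R W) (χ : Multiplicative N →* W)
    (hχ : ∀ n ∈ AddSubgroup.closure (weightSet ρ p), χ (Multiplicative.ofAdd n) = 1) (x : A →ₐ[R] W) :
    (pt R χ ≫ t) * spMap x = spMap x * (pt R χ ≫ t) := by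
  refine commute_of hρ χ x fun a m => ?_
  obtain ⟨n, rfl⟩ : ∃ n, Multiplicative.ofAdd n = m := ⟨m.toAdd, rfl⟩
  by_cases hn : n ∈ weightSet ρ p
  · rw [hχ n (AddSubgroup.subset_closure hn), _root_.mul_one]
  · let _ : Algebra R k := φ.toAlgebra
    let _ : Algebra k W := ψ.toAlgebra
    haveI : IsScalarTower R k W := IsScalarTower.of_algebraMap_eq fun r => (RingHom.congr_fun hψ r).symm
    haveI : Smooth (sp k (k ⊗[R] A)).hom :=
      (HasRingHomProperty.Spec_iff (P := @Smooth)).mpr (RingHom.smooth_algebraMap.mpr inferInstance)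
    haveI : AlgebraicGeometry.IsReduced (Spec (CommRingCat.of (k ⊗[R] A))) :=
      GrpSchLib.isReduced_of_smooth_field (sp k (k ⊗[R] A)).hom
    haveI : _root_.IsReduced (k ⊗[R] A) := (affine_isReduced_iff (CommRingCat.of (k ⊗[R] A))).mp inferInstance
    have hz : (1 : k) ⊗ₜ[R] (ρ a).coeff (Multiplicative.ofAdd n) = 0 := by
      refine IsNilpotent.eq_zero (nilpotent_iff_mem_prime.mpr fun J hJ => ?_)
      by_contra hmem
      refine hn ⟨a, ⟨J.comap (Algebra.TensorProduct.includeRight : A →ₐ[R] k ⊗[R] A).toRingHom, inferInstance⟩, hmem, ?_⟩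
      have hJ' : J.comap (algebraMap k (k ⊗[R] A)) = ⊥ :=
        (Ideal.eq_bot_or_top _).resolve_right (Ideal.comap_ne_top _ hJ.ne_top)
      rw [← hφ]
      ext r
      show Algebra.TensorProduct.includeRight (R := R) (A := k) (algebraMap R A r) ∈ J ↔ φ r = 0
      rw [AlgHom.commutes, IsScalarTower.algebraMap_apply R k (k ⊗[R] A), ← Ideal.mem_comap, hJ', Ideal.mem_bot]
      rfl
    have hx : x ((ρ a).coeff (Multiplicative.ofAdd n)) = 0 := by
      have h1 := congrArg (Algebra.TensorProduct.lift (Algebra.ofId k W) x fun _ _ => Commute.all _ _) hz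
      rwa [Algebra.TensorProduct.lift_tmul, map_one, _root_.one_mul, map_zero] at h1
    rw [hx, zero_mul]

end Locus

end Groth.Agent.GModLib
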