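import Groth.Agent.GModLib.Cocompact
import Groth.Agent.GModLib.PtSubgroup
import Groth.Agent.GModLib.FixedInClosed
import Groth.Agent.GModLib.BorelPoints
import Groth.Agent.GrpSchLib.ProperQuotImage
import Groth.Agent.GrpSchLib.LineGroups

/-!
# Elimination along a subgroup with proper quotient
-/

set_option autoImplicit false
set_option backward.isDefEq.respectTransparency false
set_option backward.isDefEq.respectTransparency.types false

universe u

open CategoryTheory Limits AlgebraicGeometry MonoidalCategory CartesianMonoidalCategory MonObj GrpObj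

namespace Groth.Agent.GModLib

open GrpSchLib GrpSchLib.Kunneth GrpSchLib.AffineHopf

variable {k : Type u} [Field k] [IsAlgClosed k]

/-- An inclusion between a closed set and another closed set can be checked on rational points. -/
theorem subset_of_points {D : Over (Spec (CommRingCat.of k))} [LocallyOfFiniteType D.hom] {A B : Set D.left}
    (hA : IsClosed A) (hB : IsClosed B)
    (h : ∀ p : VecGrp.pt k k ⟶ D, p.left (IsLocalRing.closedPoint k) ∈ A → p.left (IsLocalRing.closedPoint k) ∈ B) :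
    A ⊆ B := by
  intro x hx
  by_contra hxB
  haveI : JacobsonSpace D.left := LocallyOfFiniteType.jacobsonSpace D.hom
  obtain ⟨w, hw, hwc⟩ := nonempty_inter_closedPoints (Z := A ∩ Bᶜ) ⟨x, hx, hxB⟩
    (hA.isLocallyClosed.inter hB.isOpen_compl.isLocallyClosed)
  obtain ⟨s, hs⟩ := exists_point_of_isClosed (K := k) D hwc
  have hs' : s.left (IsLocalRing.closedPoint k) = w := hs
  exact hw.2 (hs' ▸ h s (hs'.symm ▸ hw.1))

/-- Equal rational points from equal closed points. -/
theorem point_ext {X : Over (Spec (CommRingCat.of k))} [IsAffine X.left] {p q : VecGrp.pt k k ⟶ X}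
    (h : p.left (IsLocalRing.closedPoint k) = q.left (IsLocalRing.closedPoint k)) : p = q := by
  refine pullFn_injective (AlgHom.ext fun f => ?_)
  by_contra hne
  have h1 : pullFn q (f - algebraMap k _ (pullFn q f)) = 0 := by
    rw [map_sub, AlgHom.commutes]; simp
  have h2 : pullFn p (f - algebraMap k _ (pullFn q f)) ≠ 0 := by
    rw [map_sub, AlgHom.commutes]
    simpa [sub_eq_zero] using hne
  exact (mem_basicOpen_iff q _).mp (h ▸ (mem_basicOpen_iff p _).mpr h2) h1

variable {G B : Over (Spec (CommRingCat.of k))} [GrpObj G] [GrpObj B] [IsAffine G.left] [LocallyOfFiniteType G.hom]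
  [LocallyOfFiniteType B.hom] (iB : B ⟶ G)

/-- A system of equations on `G × A^N` invariant under a subgroup with proper quotient has a closed set of
solvable parameters. -/
theorem exists_poly_of_unsolvable (hco : Cocompact iB) {N : ℕ} {J : Type*}
    (Φ : J → MvPolynomial (Fin N) (Fn G))
    (hinv : ∀ (g : VecGrp.pt k k ⟶ G) (b : VecGrp.pt k k ⟶ B) (v : Fin N → k),
      (∀ l, MvPolynomial.eval v ((Φ l).map (pullFn g).toRingHom) = 0) →
      ∀ l, MvPolynomial.eval v ((Φ l).map (pullFn (g * (b ≫ iB))).toRingHom) = 0)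
    (v : Fin N → k)
    (hv : ∀ g : VecGrp.pt k k ⟶ G, ∃ l, MvPolynomial.eval v ((Φ l).map (pullFn g).toRingHom) ≠ 0) :
    ∃ Q : MvPolynomial (Fin N) k, MvPolynomial.eval v Q ≠ 0 ∧
      ∀ (g : VecGrp.pt k k ⟶ G) (w : Fin N → k),
        (∀ l, MvPolynomial.eval w ((Φ l).map (pullFn g).toRingHom) = 0) → MvPolynomial.eval w Q = 0 := by
  classical
  obtain ⟨X, a, o, hX, hXp⟩ := hco
  haveI := hXp
  let Y : Over (Spec (CommRingCat.of k)) := sp k (MvPolynomial (Fin N) k)
  haveI : IsAffine Y.left := inferInstanceAs (IsAffine (Spec _))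
  haveI : LocallyOfFiniteType Y.hom :=
    (HasRingHomProperty.Spec_iff (P := @LocallyOfFiniteType)).mpr
      (RingHom.finiteType_algebraMap.mpr inferInstance)
  let e : MvPolynomial (Fin N) k ≃ₐ[k] Fn Y := LineGroups.spEquiv (k := k) (MvPolynomial (Fin N) k)
  let Ψ : J → Fn (G ⊗ Y) := fun l =>
    MvPolynomial.eval₂Hom (ev (fst G Y)).toRingHom (fun j => ev (snd G Y) (e (MvPolynomial.X j))) (Φ l)
  let C : Set (G ⊗ Y).left := ⋂ l, ((G ⊗ Y).left.basicOpen (Ψ l) : Set (G ⊗ Y).left)ᶜ
  have hC : IsClosed C := isClosed_iInter fun l => ((G ⊗ Y).left.basicOpen _).isOpen.isClosed_compl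
  -- coordinates of rational points of `Y`
  let crd : (VecGrp.pt k k ⟶ Y) → Fin N → k := fun y j => pullFn y (e (MvPolynomial.X j))
  have hcrd : ∀ (y : VecGrp.pt k k ⟶ Y) (Q : MvPolynomial (Fin N) k),
      pullFn y (e Q) = MvPolynomial.eval (crd y) Q := fun y Q => by
    have h : (pullFn y).comp e.toAlgHom = MvPolynomial.aeval (crd y) := MvPolynomial.algHom_ext fun j => by simp [crd]
    exact AlgHom.congr_fun h Q
  have hpt : ∀ w : Fin N → k, ∃ y : VecGrp.pt k k ⟶ Y, crd y = w := fun w => by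
    let χ : Fn Y →ₐ[k] k := (MvPolynomial.aeval w).comp e.symm.toAlgHom
    haveI : (RingHom.ker χ).IsMaximal :=
      RingHom.ker_isMaximal_of_surjective χ fun c => ⟨algebraMap k _ c, χ.commutes c⟩
    obtain ⟨y, hy⟩ := exists_point_of_isMaximal (RingHom.ker χ)
    refine ⟨y, funext fun j => ?_⟩
    have h := hy (e (MvPolynomial.X j) - algebraMap k _ (w j)) (by
      rw [RingHom.mem_ker, map_sub, AlgHom.commutes]
      simp [χ])
    rw [map_sub, AlgHom.commutes, sub_eq_zero] at h
    exact h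
  have hΨ : ∀ (p : VecGrp.pt k k ⟶ G ⊗ Y) l,
      pullFn p (Ψ l) = MvPolynomial.eval (crd (p ≫ snd G Y)) ((Φ l).map (pullFn (p ≫ fst G Y)).toRingHom) := by
    intro p l
    show (pullFn p).toRingHom ((MvPolynomial.eval₂Hom _ _) (Φ l)) = _
    rw [MvPolynomial.map_eval₂Hom, MvPolynomial.eval_map]
    refine congrFun (congrArg DFunLike.coe (MvPolynomial.ringHom_ext
      (f := MvPolynomial.eval₂Hom _ _) (g := MvPolynomial.eval₂Hom _ _) (fun c => ?_) fun j => ?_)) (Φ l)
    · rw [MvPolynomial.eval₂Hom_C, MvPolynomial.eval₂Hom_C]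
      show pullFn p (ev (fst G Y) c) = pullFn (p ≫ fst G Y) c
      rw [pullFn_ev]
    · rw [MvPolynomial.eval₂Hom_X', MvPolynomial.eval₂Hom_X']
      show pullFn p (ev (snd G Y) _) = _
      rw [pullFn_ev]
  have hmem : ∀ p : VecGrp.pt k k ⟶ G ⊗ Y, p.left (IsLocalRing.closedPoint k) ∈ C ↔
      ∀ l, MvPolynomial.eval (crd (p ≫ snd G Y)) ((Φ l).map (pullFn (p ≫ fst G Y)).toRingHom) = 0 := fun p => by
    simp only [C, Set.mem_iInter, Set.mem_compl_iff, SetLike.mem_coe, mem_basicOpen_iff, not_not, hΨ]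
  -- invariance on all points
  let D : Over (Spec (CommRingCat.of k)) := (G ⊗ B) ⊗ Y
  let pr : D ⟶ G ⊗ Y := lift (fst (G ⊗ B) Y ≫ fst G B) (snd (G ⊗ B) Y)
  let ac : D ⟶ G ⊗ Y := lift ((fst (G ⊗ B) Y ≫ fst G B) * ((fst (G ⊗ B) Y ≫ snd G B) ≫ iB)) (snd (G ⊗ B) Y)
  haveI : LocallyOfFiniteType (G ⊗ B).hom :=
    inferInstanceAs (LocallyOfFiniteType (pullback.fst G.hom B.hom ≫ G.hom))
  haveI : LocallyOfFiniteType D.hom :=
    inferInstanceAs (LocallyOfFiniteType (pullback.fst (G ⊗ B).hom Y.hom ≫ (G ⊗ B).hom))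
  have hsub : pr.left ⁻¹' C ⊆ ac.left ⁻¹' C := by
    refine subset_of_points (hC.preimage pr.left.continuous) (hC.preimage ac.left.continuous) fun p hp => ?_
    simp only [Set.mem_preimage, ← Scheme.Hom.comp_apply, ← Over.comp_left, hmem] at hp ⊢
    simp only [pr, ac, Category.assoc, lift_snd, lift_fst, MonObj.comp_mul] at hp ⊢
    exact hinv _ (p ≫ fst (G ⊗ B) Y ≫ snd G B) _ hp
  have hclosed := ProperQuotImage.isClosed_image iB a o hX C hC fun T g h x t ht => by
    have e1 : lift g x = lift (lift g h) x ≫ pr := by simp [pr, comp_lift]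
    have e2 : lift (g * (h ≫ iB)) x = lift (lift g h) x ≫ ac := by simp [ac, comp_lift, MonObj.comp_mul]
    rw [e2, Over.comp_left, Scheme.Hom.comp_apply]
    refine hsub ?_
    show pr.left _ ∈ C
    rw [← Scheme.Hom.comp_apply, ← Over.comp_left, ← e1]
    exact ht
  obtain ⟨y, rfl⟩ := hpt v
  have hy : y.left (IsLocalRing.closedPoint k) ∈ ((snd G Y).left '' C)ᶜ := by
    intro hy
    haveI : LocallyOfFiniteType (G ⊗ Y).hom :=
      inferInstanceAs (LocallyOfFiniteType (pullback.fst G.hom Y.hom ≫ G.hom))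
    haveI : JacobsonSpace (G ⊗ Y).left := LocallyOfFiniteType.jacobsonSpace (G ⊗ Y).hom
    haveI : IsClosedImmersion (y.left ≫ Y.hom) := by
      rw [Over.w y]
      show IsClosedImmersion (Spec.map (CommRingCat.ofHom (algebraMap k k)))
      rw [show CommRingCat.ofHom (algebraMap k k) = 𝟙 _ from rfl, Spec.map_id]
      infer_instance
    haveI : IsClosedImmersion y.left := IsClosedImmersion.of_comp y.left Y.hom
    have hs : IsClosed ({y.left (IsLocalRing.closedPoint k)} : Set Y.left) := by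
      have e : ({y.left (IsLocalRing.closedPoint k)} : Set Y.left) = Set.range y.left := by
        ext z
        constructor
        · rintro rfl; exact ⟨_, rfl⟩
        · rintro ⟨q, rfl⟩
          rw [@Subsingleton.elim (Spec (CommRingCat.of k)) _ q (IsLocalRing.closedPoint k)]
          rfl
      rw [e]
      exact y.left.isClosedEmbedding.isClosed_range
    obtain ⟨u, hu, huy⟩ := hy
    obtain ⟨w, hw, hwc⟩ := nonempty_inter_closedPoints
      (Z := C ∩ (snd G Y).left ⁻¹' {y.left (IsLocalRing.closedPoint k)}) ⟨u, hu, huy⟩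
      (hC.inter (hs.preimage (snd G Y).left.continuous)).isLocallyClosed
    obtain ⟨p, hp⟩ := exists_point_of_isClosed (K := k) (G ⊗ Y) hwc
    have hp' : p.left (IsLocalRing.closedPoint k) = w := hp
    have h1 : p ≫ snd G Y = y := point_ext (by
      rw [Over.comp_left, Scheme.Hom.comp_apply, hp']
      exact hw.2)
    have h2 := (hmem p).mp (hp' ▸ hw.1)
    rw [h1] at h2
    obtain ⟨l, hl⟩ := hv (p ≫ fst G Y)
    exact hl (h2 l)
  obtain ⟨P, hP, hyP⟩ := (isAffineOpen_top Y.left).exists_basicOpen_le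
    (V := ⟨((snd G Y).left '' C)ᶜ, hclosed.isOpen_compl⟩) ⟨_, hy⟩ trivial
  refine ⟨e.symm P, ?_, fun g w hw => ?_⟩
  · rw [← hcrd, AlgEquiv.apply_symm_apply, ← mem_basicOpen_iff]
    exact hyP
  · obtain ⟨z, rfl⟩ := hpt w
    by_contra hne
    rw [← hcrd, AlgEquiv.apply_symm_apply] at hne
    replace hne := (mem_basicOpen_iff z P).mpr hne
    refine hP hne ⟨(lift g z).left (IsLocalRing.closedPoint k), (hmem _).mpr ?_, ?_⟩
    · rw [lift_fst, lift_snd]; exact hw
    · rw [← Scheme.Hom.comp_apply, ← Over.comp_left, lift_snd]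

end Groth.Agent.GModLib
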