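import Groth.Agent.GrpFieldLib.QuotTower
import Groth.Agent.GModLib.SolvableCriterion
import Groth.Agent.GrpSchLib.HomogeneousQuot
import Groth.Agent.GrpSchLib.RedSubgroup
import Groth.Agent.GrpSchLib.PerfectSmooth
import Groth.Agent.EtFound.Descent
import Groth.Agent.S8014
import Groth.Agent.S8022
import Groth.Agent.S3276
import Groth.Agent.S5366
import Groth.Agent.S14586

/-!
# Solvable subgroups with proper quotient
-/

set_option autoImplicit false
set_option backward.isDefEq.respectTransparency false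
set_option backward.isDefEq.respectTransparency.types false

universe u

open CategoryTheory Limits AlgebraicGeometry MonoidalCategory CartesianMonoidalCategory MonObj GrpObj

namespace Groth.Agent.GModLib

open GrpSchLib GrpSchLib.Kunneth GrpFieldLib

variable {k : Type u} [Field k]

/-- A subgroup has a proper quotient. -/
def Cocompact {G H : Over (Spec (CommRingCat.of k))} [GrpObj G] [GrpObj H] (i : H ⟶ G) : Prop :=
  ∃ (X : Over (Spec (CommRingCat.of k))) (a : AlgGrp.Action G X) (o : 𝟙_ (Over (Spec (CommRingCat.of k))) ⟶ X),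
    AGF.IsQuotient i X a o ∧ IsProper X.hom

theorem cocompact_of_isQuotient {G H : Over (Spec (CommRingCat.of k))} [GrpObj G] [GrpObj H] [QuasiCompact G.hom]
    {i : H ⟶ G} (hi : Cocompact i) (X : Over (Spec (CommRingCat.of k))) (a : AlgGrp.Action G X)
    (o : 𝟙_ (Over (Spec (CommRingCat.of k))) ⟶ X) (hX : AGF.IsQuotient i X a o) : IsProper X.hom := by
  obtain ⟨Y, b, y, hY, hYp⟩ := hi
  haveI := hX.1; haveI := hX.2.1; haveI := hX.2.2.1
  haveI := hY.1; haveI := hY.2.1; haveI := hY.2.2.1
  haveI := QuotTower.orbit_qc (a.orbitMap o)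
  haveI := QuotTower.orbit_qc (b.orbitMap y)
  obtain ⟨e, -⟩ := QuotTower.exists_iso (a.orbitMap o) (b.orbitMap y) fun g g' =>
    (QuotTower.orbit_eq_iff i X a o hX g g').trans (QuotTower.orbit_eq_iff i Y b y hY g g').symm
  rw [← Over.w e.hom]
  haveI : IsIso e.hom.left := inferInstanceAs (IsIso ((Over.forget _).map e.hom))
  infer_instance

theorem cocompact_id (G : Over (Spec (CommRingCat.of k))) [GrpObj G] [Smooth G.hom] : Cocompact (𝟙 G) := by
  let a : AlgGrp.Action G (𝟙_ (Over (Spec (CommRingCat.of k)))) :=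
    { act := toUnit _
      one_act := toUnit_unique _ _
      mul_act := toUnit_unique _ _ }
  refine ⟨_, a, toUnit _, ⟨inferInstanceAs (LocallyOfFiniteType (𝟙 (Spec (CommRingCat.of k)))), ?_, ?_, ?_⟩,
    inferInstanceAs (IsProper (𝟙 (Spec (CommRingCat.of k))))⟩
  · rw [toUnit_unique (a.orbitMap _) (toUnit G), show (toUnit G).left = G.hom from rfl]
    infer_instance
  · exact ⟨fun x => ⟨(η[G] : _ ⟶ G).left x, by
      rw [← Scheme.Hom.comp_apply, ← Over.comp_left, toUnit_unique (η[G] ≫ a.orbitMap _) (𝟙 _)]; rfl⟩⟩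
  · rw [whiskerLeft_id, Category.id_comp]
    refine ⟨⟨toUnit_unique _ _⟩, ⟨PullbackCone.IsLimit.mk _ (fun c => lift c.fst (c.fst⁻¹ * c.snd))
      (fun c => lift_fst _ _) (fun c => ?_) (fun c m h₁ h₂ => ?_)⟩⟩
    · rw [show μ[G] = fst G G * snd G G by rw [Hom.mul_def, lift_fst_snd, Category.id_comp], MonObj.comp_mul,
        lift_fst, lift_snd, mul_inv_cancel_left]
    · rw [show μ[G] = fst G G * snd G G by rw [Hom.mul_def, lift_fst_snd, Category.id_comp], MonObj.comp_mul] at h₂
      apply CartesianMonoidalCategory.hom_ext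
      · rw [lift_fst, h₁]
      · rw [lift_snd, ← h₁, ← h₂, inv_mul_cancel_left]

variable [IsAlgClosed k]

/-- Proper quotients compose. -/
theorem cocompact_comp {G P H : Over (Spec (CommRingCat.of k))} [GrpObj G] [GrpObj P] [GrpObj H]
    [IsAffine G.left] [Smooth G.hom] (i : P ⟶ G) [IsMonHom i] [IsClosedImmersion i.left]
    (j : H ⟶ P) [IsMonHom j] [IsClosedImmersion j.left] (hi : Cocompact i) (hj : Cocompact j) :
    Cocompact (j ≫ i) := by
  haveI : QuasiCompact G.hom := inferInstance
  haveI : QuasiCompact P.hom := by rw [← Over.w i]; infer_instance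
  haveI : QuasiCompact H.hom := by rw [← Over.w j]; infer_instance
  haveI : LocallyOfFiniteType P.hom := by rw [← Over.w i]; infer_instance
  haveI : LocallyOfFiniteType H.hom := by rw [← Over.w j]; infer_instance
  haveI : IsMonHom (j ≫ i) := inferInstance
  haveI : IsClosedImmersion (j ≫ i).left := by rw [Over.comp_left]; infer_instance
  haveI : Mono (j ≫ i) := Over.mono_of_mono_left _
  obtain ⟨X, a, o, hXl, hXq, hXf, hXs, hXpb⟩ := HomogeneousQuot.exists_quot G H (j ≫ i)
  obtain ⟨X', a', o', hX', hX'p⟩ := hi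
  obtain ⟨Y, b, y, hY, hYp⟩ := hj
  have hX : AGF.IsQuotient (j ≫ i) X a o := ⟨hXl, hXf, hXs, hXpb⟩
  haveI := hX'p
  haveI : LocallyOfFiniteType X'.hom := inferInstance
  obtain ⟨f, ⟨-, hf⟩, -⟩ := S8014.result k G H (j ≫ i) X a o hX X' a' o' fun T h => by
    have e := ((QuotTower.orbit_eq_iff i X' a' o' hX' 1 (h ≫ j ≫ i)).mpr ⟨h ≫ j, by
      rw [_root_.one_mul, Category.assoc]⟩).symm
    rwa [comp_orbitMap, comp_orbitMap, act_one] at e
  haveI := EtFound.fpqc_isProper.{u}
  haveI : IsProper f.left := QuotTower.transfer (j ≫ i) i j rfl X a o hX X' a' o' hX' Y b y hY f hf @IsProper hYp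
  exact ⟨X, a, o, hX, by rw [← Over.w f]; infer_instance⟩

/-- A closed subgroup with finitely many cosets has a proper quotient. -/
theorem cocompact_of_open {K K₀ : Over (Spec (CommRingCat.of k))} [GrpObj K] [GrpObj K₀] [IsAffine K.left]
    [LocallyOfFiniteType K.hom] (j : K₀ ⟶ K) [IsMonHom j] [IsClosedImmersion j.left]
    (hopen : IsOpen (Set.range j.left)) : Cocompact j := by
  haveI : QuasiCompact K.hom := inferInstance
  haveI : LocallyOfFiniteType K₀.hom := by rw [← Over.w j]; infer_instance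
  haveI : QuasiCompact K₀.hom := by rw [← Over.w j]; infer_instance
  haveI : Mono j := Over.mono_of_mono_left _
  obtain ⟨Y, b, y, hYl, hYq, hYf, hYs, hYpb⟩ := HomogeneousQuot.exists_quot K K₀ j
  haveI : IsLocallyNoetherian Y.left := LocallyOfFiniteType.isLocallyNoetherian Y.hom
  let π := b.orbitMap y
  haveI : LocallyOfFiniteType (π.left ≫ Y.hom) := by rw [Over.w π]; infer_instance
  haveI : LocallyOfFiniteType π.left := locallyOfFiniteType_of_comp π.left Y.hom
  haveI : LocallyOfFinitePresentation π.left := inferInstance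
  haveI : Flat π.left := hYf
  haveI : UniversallyOpen π.left := inferInstance
  haveI : JacobsonSpace Y.left := LocallyOfFiniteType.jacobsonSpace Y.hom
  haveI : JacobsonSpace K.left := LocallyOfFiniteType.jacobsonSpace K.hom
  have hQ : AGF.IsQuotient j Y b y := ⟨hYl, hYf, hYs, hYpb⟩
  have hcl : ∀ z : Y.left, IsClosed ({z} : Set Y.left) → IsOpen ({z} : Set Y.left) := by
    intro z hz
    obtain ⟨w, hw, hwc⟩ := nonempty_inter_closedPoints (Z := π.left ⁻¹' {z})
      (by obtain ⟨w, hw⟩ := hYs.surj z; exact ⟨w, hw⟩) (hz.preimage π.left.continuous).isLocallyClosed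
    obtain ⟨g, hg⟩ := exists_point_of_isClosed (K := k) K hwc
    let g₀ : 𝟙_ (Over (Spec (CommRingCat.of k))) ⟶ K := toPt _ ≫ g
    let W : Set K.left := (lift (toUnit K ≫ g₀⁻¹) (𝟙 K) ≫ μ[K]).left ⁻¹' Set.range j.left
    have hW : IsOpen W := hopen.preimage (Scheme.Hom.continuous _)
    have hs : (toPt (𝟙_ (Over (Spec (CommRingCat.of k))))).left (IsLocalRing.closedPoint k) = IsLocalRing.closedPoint k :=
      @Subsingleton.elim _ (inferInstanceAs (Subsingleton (PrimeSpectrum k))) _ _
    have hg₀ : g₀.left (IsLocalRing.closedPoint k) = w := by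
      rw [Over.comp_left, Scheme.Hom.comp_apply, hs]
      exact hg
    have himg : π.left '' W = {z} := by
      refine Set.Subset.antisymm ?_ ?_
      · rintro _ ⟨v, ⟨h, hh⟩, rfl⟩
        obtain ⟨p, hp1, hp2⟩ := Scheme.Pullback.exists_preimage_pullback
          (f := (lift (toUnit K ≫ g₀⁻¹) (𝟙 K) ≫ μ[K]).left) (g := j.left) v h hh.symm
        let T : Over (Spec (CommRingCat.of k)) :=
          Over.mk (pullback.fst (lift (toUnit K ≫ g₀⁻¹) (𝟙 K) ≫ μ[K]).left j.left ≫ K.hom)
        let c : T ⟶ K := Over.homMk (pullback.fst _ _) rfl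
        let d : T ⟶ K₀ := Over.homMk (pullback.snd _ _) (by
          show pullback.snd _ _ ≫ K₀.hom = pullback.fst _ _ ≫ K.hom
          rw [← Over.w j, ← pullback.condition_assoc, Over.w (lift (toUnit K ≫ g₀⁻¹) (𝟙 K) ≫ μ[K])])
        have hcd : c ≫ (lift (toUnit K ≫ g₀⁻¹) (𝟙 K) ≫ μ[K]) = d ≫ j := Over.OverMorphism.ext pullback.condition
        have e : c ≫ π = toUnit T ≫ g₀ ≫ π := by
          rw [← Category.assoc (toUnit T)]
          refine ((QuotTower.orbit_eq_iff j Y b y hQ (toUnit T ≫ g₀) c).mpr ⟨d, ?_⟩).symm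
          have e2 : c ≫ lift (toUnit K ≫ g₀⁻¹) (𝟙 K) ≫ μ[K] = (toUnit T ≫ g₀⁻¹) * c := by
            rw [Hom.mul_def, ← Category.assoc, comp_lift, Category.comp_id, ← Category.assoc,
              toUnit_unique (c ≫ toUnit K) (toUnit T)]
          rw [← hcd, e2, GrpObj.comp_inv, mul_inv_cancel_left]
        have := congrArg (fun m : T ⟶ Y => m.left p) e
        simp only [Over.comp_left, Scheme.Hom.comp_apply] at this
        show π.left v ∈ ({z} : Set Y.left)
        rw [← hp1]
        refine this.trans ?_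
        rw [show (toUnit T).left p = IsLocalRing.closedPoint k from
          @Subsingleton.elim _ (inferInstanceAs (Subsingleton (PrimeSpectrum k))) _ _, hg₀]
        exact hw
      · rintro _ rfl
        refine ⟨w, ⟨(η[K₀] : _ ⟶ K₀).left (IsLocalRing.closedPoint k), ?_⟩, hw⟩
        rw [← hg₀, ← Scheme.Hom.comp_apply, ← Scheme.Hom.comp_apply, ← Over.comp_left, ← Over.comp_left]
        congr 2
        rw [IsMonHom.one_hom j, ← Category.assoc, comp_lift, ← Category.assoc, Category.comp_id, ← Hom.mul_def,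
          toUnit_unique (g₀ ≫ toUnit K) (𝟙 _), Category.id_comp, inv_mul_cancel, MonObj.one_eq_one]
    rw [← himg]
    exact π.left.isOpenMap W hW
  haveI : DiscreteTopology Y.left := by
    refine discreteTopology_iff_isOpen_singleton.mpr fun z => ?_
    by_contra hz
    let U : Set Y.left := ⋃ (w : Y.left) (_ : IsClosed ({w} : Set Y.left)), {w}
    have hU : IsOpen U := isOpen_iUnion fun w => isOpen_iUnion fun hw => hcl w hw
    have hzU : z ∉ U := fun h => by
      obtain ⟨w, hw, rfl⟩ := Set.mem_iUnion₂.mp h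
      exact hz (hcl _ hw)
    obtain ⟨w, hw, hwc⟩ := nonempty_inter_closedPoints (Z := Uᶜ) ⟨z, hzU⟩ hU.isClosed_compl.isLocallyClosed
    exact hw (Set.mem_iUnion₂.mpr ⟨w, hwc, rfl⟩)
  haveI : LocallyQuasiFinite Y.hom :=
    locallyQuasiFinite_iff_isDiscrete_preimage_singleton.mpr fun x => (isDiscrete_univ_iff.mpr inferInstance).mono (Set.subset_univ _)
  haveI : IsFinite Y.hom := IsFinite.of_locallyQuasiFinite Y.hom
  exact ⟨Y, b, y, hQ, inferInstance⟩

/-- A connected group with solvable points is solvable. -/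
theorem isSolvableGrp_of_points {G : Over (Spec (CommRingCat.of k))} [GrpObj G] [Smooth G.hom] [QuasiCompact G.hom]
    {n : ℕ} (hn : derivedSeries (VecGrp.pt k k ⟶ G) n = ⊥) : Red.IsSolvableGrp G :=
  ⟨n, ((S5366.result k G k n).1).mpr hn⟩

/-- Every connected group has a connected solvable subgroup with proper quotient. -/
theorem exists_solvable_cocompact (G : Over (Spec (CommRingCat.of k))) [GrpObj G] [IsAffine G.left] [Smooth G.hom]
    [ConnectedSpace G.left] :
    ∃ (H : Over (Spec (CommRingCat.of k))) (_ : GrpObj H) (i : H ⟶ G) (_ : IsMonHom i),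
      IsClosedImmersion i.left ∧ Smooth H.hom ∧ ConnectedSpace H.left ∧ Red.IsSolvableGrp H ∧ Cocompact i := by
  haveI : QuasiCompact G.hom := inferInstance
  haveI : IsLocallyNoetherian G.left := LocallyOfFiniteType.isLocallyNoetherian G.hom
  haveI : CompactSpace G.left := (quasiCompact_iff_compactSpace G.hom).mp inferInstance
  haveI : IsNoetherian G.left := {}
  let 𝒮 : Set (TopologicalSpace.Closeds G.left) :=
    {C | ∃ (P : Over (Spec (CommRingCat.of k))) (_ : GrpObj P) (i : P ⟶ G) (_ : IsMonHom i),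
      IsClosedImmersion i.left ∧ Smooth P.hom ∧ ConnectedSpace P.left ∧ Cocompact i ∧
        Set.range i.left = (C : Set G.left)}
  have hne : 𝒮.Nonempty := ⟨⊤, G, inferInstance, 𝟙 G, inferInstance, inferInstanceAs (IsClosedImmersion (𝟙 G.left)),
    inferInstance, inferInstance, cocompact_id G, by simp⟩
  obtain ⟨C, ⟨P, _, i, _, hi, hPs, hPc, hPco, hC⟩, hmin⟩ := wellFounded_lt.has_min 𝒮 hne
  haveI := hi; haveI := hPs; haveI := hPc
  haveI : IsAffine P.left := isAffine_of_isAffineHom i.left
  by_cases hsol : ∃ n, derivedSeries (VecGrp.pt k k ⟶ P) n = ⊥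
  · obtain ⟨n, hn⟩ := hsol
    exact ⟨P, inferInstance, i, inferInstance, hi, hPs, hPc, isSolvableGrp_of_points hn, hPco⟩
  exfalso
  obtain ⟨X, a, hXp, hXne, hXfix⟩ := exists_action_noFixed hsol
  haveI := hXp; haveI := hXne
  obtain ⟨x, hx⟩ := S14586.result k P X a
  obtain ⟨K, _, iK, _, hiK, hpb⟩ := S3276.exists_stabilizer a x
  haveI := hiK
  haveI : QuasiCompact P.hom := inferInstance
  haveI : IsReduced P.left := GrpSchLib.isReduced_of_smooth_field P.hom
  obtain ⟨Y, b, y, m, hY, hm, hym, himm⟩ := S8022.result k P X K a x iK hpb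
  haveI := himm
  have hbm : b.orbitMap y ≫ m = a.orbitMap x := by
    rw [AlgGrp.Action.orbitMap, AlgGrp.Action.orbitMap, Category.assoc, ← hm, ← Category.assoc, lift_whiskerLeft,
      Category.assoc, hym]
  haveI : Surjective (b.orbitMap y).left := hY.2.2.1
  haveI : IsClosedImmersion m.left := IsClosedImmersion.of_isPreimmersion m.left (by
    rw [← hbm, Over.comp_left, Scheme.Hom.comp_base, TopCat.coe_comp,
      (b.orbitMap y).left.surjective.range_comp] at hx
    exact hx)
  have hKco : Cocompact iK := ⟨Y, b, y, hY, by rw [← Over.w m]; infer_instance⟩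
  -- the reduced connected part of the stabiliser
  haveI : LocallyOfFiniteType K.hom := by rw [← Over.w iK]; infer_instance
  haveI : QuasiCompact K.hom := by rw [← Over.w iK]; infer_instance
  obtain ⟨R, _, r, _, hr, hRred, hrs, hRl, hRq⟩ := RedSubgroup.exists_redSubgroup K
  haveI := hr; haveI := hRred; haveI := hRl; haveI := hRq
  haveI : Smooth R.hom := smooth_of_perfectField_of_isReduced R
  haveI : IsAffine K.left := isAffine_of_isAffineHom iK.left
  haveI : IsAffine R.left := isAffine_of_isAffineHom r.left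
  obtain ⟨R₀, _, j, _, hjo, hjc, hR₀⟩ := exists_open_identityComponent (G := R)
  haveI := hjo; haveI := hjc; haveI := hR₀
  haveI : IsClosedImmersion (j ≫ r).left := by rw [Over.comp_left]; infer_instance
  haveI : Smooth R₀.hom := by rw [← Over.w j]; infer_instance
  have hopen : IsOpen (Set.range (j ≫ r).left) := by
    rw [Over.comp_left, Scheme.Hom.comp_base, TopCat.coe_comp, Set.range_comp]
    exact (((r.left.isClosedEmbedding.isEmbedding.toHomeomorphOfSurjective hrs.surj)).isOpenMap _
      j.left.isOpenEmbedding.isOpen_range)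
  have hco : Cocompact ((j ≫ r) ≫ iK) := cocompact_comp iK (j ≫ r) hKco (cocompact_of_open (j ≫ r) hopen)
  haveI : IsClosedImmersion ((j ≫ r) ≫ iK).left := by rw [Over.comp_left]; infer_instance
  have hco' : Cocompact (((j ≫ r) ≫ iK) ≫ i) := cocompact_comp i ((j ≫ r) ≫ iK) hPco hco
  haveI : IsClosedImmersion (((j ≫ r) ≫ iK) ≫ i).left := by rw [Over.comp_left]; infer_instance
  let C' : TopologicalSpace.Closeds G.left :=
    ⟨Set.range (((j ≫ r) ≫ iK) ≫ i).left, (Scheme.Hom.isClosedEmbedding _).isClosed_range⟩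
  refine hmin C' ⟨R₀, inferInstance, ((j ≫ r) ≫ iK) ≫ i, inferInstance, inferInstance, inferInstance, inferInstance,
    hco', rfl⟩ (lt_of_le_of_ne ?_ ?_)
  · show Set.range (((j ≫ r) ≫ iK) ≫ i).left ⊆ (C : Set G.left)
    rw [← hC, Over.comp_left, Scheme.Hom.comp_base, TopCat.coe_comp, Set.range_comp]
    exact Set.image_subset_range _ _
  · intro h
    have hsurj : Surjective iK.left := ⟨fun p => by
      obtain ⟨v, hv⟩ : i.left p ∈ Set.range (((j ≫ r) ≫ iK) ≫ i).left := by
        rw [show Set.range (((j ≫ r) ≫ iK) ≫ i).left = (C : Set G.left) from congrArg SetLike.coe h, ← hC]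
        exact ⟨p, rfl⟩
      rw [Over.comp_left, Scheme.Hom.comp_apply, Over.comp_left, Scheme.Hom.comp_apply] at hv
      exact ⟨_, i.left.isClosedEmbedding.injective hv⟩⟩
    haveI : IsIso iK.left := isIso_of_isClosedImmersion_of_surjective iK.left
    haveI : IsIso ((Over.forget _).map iK) := ‹IsIso iK.left›
    haveI : IsIso iK := isIso_of_reflects_iso iK (Over.forget _)
    refine hXfix x fun T g => ?_
    rw [← comp_orbitMap, ← Category.id_comp (a.orbitMap x), ← IsIso.inv_hom_id iK, Category.assoc, hpb.w,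
      ← Category.assoc, ← Category.assoc, toUnit_unique ((g ≫ inv iK) ≫ toUnit K) (toUnit T)]

end Groth.Agent.GModLib
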