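import Groth.Agent.GModLib.ReductiveCartan
import Groth.Agent.GModLib.CentralizerBC
import Groth.Agent.GModLib.TorusBC
import Groth.Agent.AssLib.FlatField

/-!
# Maximal tori of reductive groups over a field are their own centralizers
-/

set_option autoImplicit false
set_option backward.isDefEq.respectTransparency false
set_option backward.isDefEq.respectTransparency.types false

universe u

open CategoryTheory Limits AlgebraicGeometry MonoidalCategory CartesianMonoidalCategory MonObj GrpObj

namespace Groth.Agent.GModLib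

open GrpSchLib GrpSchLib.Kunneth

variable {k : Type u} [Field k]

/-- A morphism over a field which becomes an isomorphism after a field extension is an isomorphism. -/
theorem isIso_of_isIso_bc {K : Type u} [Field K] (σ : Spec (CommRingCat.of K) ⟶ Spec (CommRingCat.of k))
    [Surjective σ] [Flat σ] [QuasiCompact σ] {D C : Over (Spec (CommRingCat.of k))} (u : D ⟶ C)
    [IsIso ((Over.pullback σ).map u)] : IsIso u := by
  haveI : IsIso ((Over.pullback σ).map u).left :=
    inferInstanceAs (IsIso ((Over.forget _).map ((Over.pullback σ).map u)))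
  have hpb : IsPullback (pullback.fst D.hom σ) ((Over.pullback σ).map u).left u.left (pullback.fst C.hom σ) := by
    refine IsPullback.of_bot ?_ (by simp) (IsPullback.of_hasPullback C.hom σ)
    rw [show u.left ≫ C.hom = D.hom from Over.w u,
      show ((Over.pullback σ).map u).left ≫ pullback.snd C.hom σ = pullback.snd D.hom σ from Over.w _]
    exact IsPullback.of_hasPullback D.hom σ
  haveI : IsIso (pullback.snd u.left (pullback.fst C.hom σ)) := by
    rw [← IsPullback.isoPullback_inv_snd hpb]
    infer_instance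
  haveI : IsIso u.left := MorphismProperty.of_pullback_snd_of_descendsAlong
    (P := MorphismProperty.isomorphisms Scheme) (Q := @Surjective ⊓ @Flat ⊓ @QuasiCompact) (g := pullback.fst C.hom σ)
    ⟨⟨inferInstance, inferInstance⟩, inferInstance⟩ ‹IsIso (pullback.snd u.left (pullback.fst C.hom σ))›
  haveI : IsIso ((Over.forget _).map u) := ‹IsIso u.left›
  exact isIso_of_reflects_iso u (Over.forget _)

variable {G T : Over (Spec (CommRingCat.of k))} [GrpObj G] [GrpObj T]

set_option maxHeartbeats 1000000 in
/-- A maximal torus of a reductive group is its own centralizer. -/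
theorem isCentralizerOf_self_of_isMaximalTorus (iT : T ⟶ G) (hT : Red.IsMaximalTorus iT) (hG : Red.IsReductive G) :
    Red.IsCentralizerOf iT iT := by
  obtain ⟨hTm, hTmo, hTt, hTmax⟩ := id hT
  haveI := hTm; haveI := hTmo
  haveI : IsAffineHom G.hom := hG.1
  haveI : IsAffine G.left := isAffine_of_isAffineHom G.hom
  obtain ⟨C, _, c, hm, hcl, hu⟩ := TransLib.exists_centralizer iT
  haveI := hm; haveI := hcl
  haveI : Mono c := Over.mono_of_mono_left c
  have hc : Red.IsCentralizerOf iT c := ⟨inferInstance, inferInstance, hu⟩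
  obtain ⟨u, hu'⟩ := (hu T iT).mpr fun X x h => by
    show _ * _ = _ * _
    rw [← MonObj.mul_comp, ← MonObj.mul_comp, TorusBilin.comm_of_isTorus hTt]
  haveI : IsMonHom (u ≫ c) := hu'.symm ▸ hTm
  haveI : IsMonHom u := isMonHom_of_comp u c
  let s : Spec (CommRingCat.of k) := IsLocalRing.closedPoint k
  let σ := Red.geomPt s
  obtain ⟨ha, hs, hn, hred⟩ := hG.2.2 s
  haveI := ha; haveI := hs; haveI := hn
  have hTm' : AGF.IsMaxTorus ((Over.pullback σ).map iT) :=
    ⟨inferInstance, inferInstance, isTorus_bc σ hTt, fun T' _ j _ _ f hT' hf => hTmax s T' j f hT' hf⟩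
  have hself := isCentralizerOf_self_of_reductive (G := Red.bc σ G) ((Over.pullback σ).map iT) hTm'
    ⟨ha, hs, hn, hred⟩
  haveI : IsIso ((Over.pullback σ).map u) := by
    have hC := BC.isCentralizerOf_bc σ hc
    haveI := hC.2.1; haveI := hself.2.1
    obtain ⟨e, he⟩ := (hself.2.2 _ ((Over.pullback σ).map c)).mpr fun X' x h =>
      (hC.2.2 _ _).mp ⟨𝟙 _, Category.id_comp _⟩ X' x h
    have hcu : (Over.pullback σ).map u ≫ (Over.pullback σ).map c = (Over.pullback σ).map iT := by
      rw [← Functor.map_comp, hu']
    refine ⟨e, ?_, ?_⟩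
    · rw [← cancel_mono ((Over.pullback σ).map iT), Category.assoc, he, hcu, Category.id_comp]
    · rw [← cancel_mono ((Over.pullback σ).map c), Category.assoc, hcu, he, Category.id_comp]
  haveI : Surjective σ := ⟨fun x => ⟨IsLocalRing.closedPoint _, @Subsingleton.elim (PrimeSpectrum k) _ _ _⟩⟩
  haveI : Flat σ := AssLib.flat_over_field σ
  haveI : IsIso u := isIso_of_isIso_bc σ u
  refine ⟨inferInstance, inferInstance, fun X g => ⟨?_, fun h => ?_⟩⟩
  · rintro ⟨z, rfl⟩ X' x h
    rw [← Category.assoc, ← MonObj.mul_comp, ← MonObj.mul_comp, TorusBilin.comm_of_isTorus hTt]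
  · obtain ⟨z, hz⟩ := (hu X g).mpr h
    exact ⟨z ≫ inv u, by rw [← hu', Category.assoc, IsIso.inv_hom_id_assoc, hz]⟩

/-- A torus which is its own centralizer is maximal. -/
theorem isMaximalTorus_of_isCentralizerOf_self (iT : T ⟶ G) [IsMonHom iT] (hTt : Red.IsTorus T)
    (h : Red.IsCentralizerOf iT iT) : Red.IsMaximalTorus iT := by
  haveI := h.2.1
  refine ⟨inferInstance, inferInstance, hTt, fun s T' _ j _ _ f hT' hf => ?_⟩
  have hC := BC.isCentralizerOf_bc (Red.geomPt s) h
  obtain ⟨e, he⟩ := (hC.2.2 _ j).mpr fun X' x t => by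
    rw [← hf, ← Category.assoc t, ← MonObj.mul_comp, ← MonObj.mul_comp, TorusBilin.comm_of_isTorus hT']
  refine ⟨e, ?_, ?_⟩
  · rw [← cancel_mono ((Over.pullback (Red.geomPt s)).map iT), Category.assoc, he, hf, Category.id_comp]
  · rw [← cancel_mono j, Category.assoc, hf, he, Category.id_comp]

end Groth.Agent.GModLib
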