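import Groth.Agent.GModLib.MaxTorusExtension
import Groth.Agent.GModLib.ReductiveSelfCent
import Groth.Agent.GrpSchLib.MultTypeBC

/-!
# Maximal tori are stable under base change and descend along surjections
-/

set_option autoImplicit false
set_option backward.isDefEq.respectTransparency false
set_option backward.isDefEq.respectTransparency.types false

universe u

open CategoryTheory Limits AlgebraicGeometry MonoidalCategory CartesianMonoidalCategory MonObj GrpObj

namespace Groth.Agent.GModLib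

/-- Being a maximal torus is invariant under isomorphisms of pairs. -/
theorem isMaxTorus_of_iso {S : Scheme.{u}} {T T' G G' : Over S} [GrpObj T] [GrpObj T'] [GrpObj G] [GrpObj G']
    (α : Grp.mk T ≅ Grp.mk T') (β : Grp.mk G ≅ Grp.mk G') (i : T ⟶ G) (i' : T' ⟶ G')
    (hw : α.hom.hom.hom ≫ i' = i ≫ β.hom.hom.hom) (hT' : Red.IsTorus T') (h : AGF.IsMaxTorus i) :
    AGF.IsMaxTorus i' := by
  obtain ⟨hm, hmo, ht, hmax⟩ := h
  haveI := hm; haveI := hmo
  let a : T ⟶ T' := α.hom.hom.hom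
  let a' : T' ⟶ T := α.inv.hom.hom
  let b : G ⟶ G' := β.hom.hom.hom
  let b' : G' ⟶ G := β.inv.hom.hom
  haveI : IsMonHom a := inferInstanceAs (IsMonHom α.hom.hom.hom)
  haveI : IsMonHom a' := inferInstanceAs (IsMonHom α.inv.hom.hom)
  haveI : IsMonHom b := inferInstanceAs (IsMonHom β.hom.hom.hom)
  haveI : IsMonHom b' := inferInstanceAs (IsMonHom β.inv.hom.hom)
  have haa : a' ≫ a = 𝟙 T' := congrArg (fun φ => φ.hom.hom) α.inv_hom_id
  have ha'a : a ≫ a' = 𝟙 T := congrArg (fun φ => φ.hom.hom) α.hom_inv_id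
  have hbb : b ≫ b' = 𝟙 G := congrArg (fun φ => φ.hom.hom) β.hom_inv_id
  have hb'b : b' ≫ b = 𝟙 G' := congrArg (fun φ => φ.hom.hom) β.inv_hom_id
  haveI : IsIso a := ⟨a', ha'a, haa⟩
  haveI : IsIso a' := ⟨a, haa, ha'a⟩
  haveI : IsIso b := ⟨b', hbb, hb'b⟩
  haveI : IsIso b' := ⟨b, hb'b, hbb⟩
  have hw' : i' = a' ≫ i ≫ b := by
    show i' = a' ≫ i ≫ β.hom.hom.hom
    rw [← hw, ← Category.assoc, show a' ≫ α.hom.hom.hom = 𝟙 T' from haa, Category.id_comp]
  subst hw'
  refine ⟨inferInstance, inferInstance, hT', fun T'' _ j _ _ f hT'' hf => ?_⟩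
  haveI : IsIso (a ≫ f) := hmax T'' (j ≫ b') (a ≫ f) hT'' (by
    rw [Category.assoc, reassoc_of% hf, hbb, Category.comp_id, ← Category.assoc, ha'a, Category.id_comp])
  exact IsIso.of_isIso_comp_left a f

variable {S S' : Scheme.{u}}

/-- The group of an iterated base change. -/
noncomputable def bcGrpIso {U : Scheme.{u}} (a : U ⟶ S') (g : S' ⟶ S) (b : U ⟶ S) (h : a ≫ g = b) :
    (Over.pullback g).mapGrp ⋙ (Over.pullback a).mapGrp ≅ (Over.pullback b).mapGrp :=
  Functor.mapGrpCompIso.symm ≪≫ Functor.mapGrpNatIso ((Over.pullbackComp a g).symm ≪≫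
    eqToIso (congrArg (fun e => Over.pullback e) h))

theorem isMaxTorus_bc_iff {U : Scheme.{u}} (a : U ⟶ S') (g : S' ⟶ S) (b : U ⟶ S) (h : a ≫ g = b) {T G : Over S}
    [GrpObj T] [GrpObj G] (i : T ⟶ G) [IsMonHom i] (hT : Red.IsTorus T) :
    AGF.IsMaxTorus ((Over.pullback a).map ((Over.pullback g).map i)) ↔ AGF.IsMaxTorus ((Over.pullback b).map i) := by
  let E := bcGrpIso a g b h
  let iG : Grp.mk T ⟶ Grp.mk G := Grp.homMk' ⟨i⟩
  have e₁ := congrArg (fun φ => φ.hom.hom) (E.hom.naturality iG)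
  have e₂ := congrArg (fun φ => φ.hom.hom) (E.inv.naturality iG)
  exact ⟨fun hm => isMaxTorus_of_iso (E.app (Grp.mk T)) (E.app (Grp.mk G)) _ _ e₁.symm (isTorus_bc b hT) hm,
    fun hm => isMaxTorus_of_iso (E.app (Grp.mk T)).symm (E.app (Grp.mk G)).symm _ _ e₂.symm
      (isTorus_bc a (isTorus_bc g hT)) hm⟩

/-- A geometric point over a point above lifts. -/
theorem exists_geomPt_lift (g : S' ⟶ S) (s' : S') :
    ∃ σ : Spec (CommRingCat.of (AlgebraicClosure (S'.residueField s'))) ⟶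
        Spec (CommRingCat.of (AlgebraicClosure (S.residueField (g s')))),
      σ ≫ Red.geomPt (g s') = Red.geomPt s' ≫ g := by
  let r := g.residueFieldMap s'
  letI : Algebra (S.residueField (g s')) (AlgebraicClosure (S'.residueField s')) :=
    ((algebraMap (S'.residueField s') (AlgebraicClosure (S'.residueField s'))).comp r.hom).toAlgebra
  let ψ : AlgebraicClosure (S.residueField (g s')) →ₐ[S.residueField (g s')] AlgebraicClosure (S'.residueField s') :=
    IsAlgClosed.lift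
  refine ⟨Spec.map (CommRingCat.ofHom ψ.toRingHom), ?_⟩
  show Spec.map _ ≫ Spec.map _ ≫ _ = (Spec.map _ ≫ _) ≫ g
  rw [Category.assoc, ← Scheme.Hom.SpecMap_residueFieldMap_fromSpecResidueField g s', ← Spec.map_comp_assoc,
    ← Spec.map_comp_assoc]
  congr 1
  congr 1
  exact CommRingCat.hom_ext ψ.comp_algebraMap

/-- Base change of a maximal torus. -/
theorem isMaximalTorus_bc {G T : Over S} [GrpObj G] [GrpObj T] [Smooth G.hom] [QuasiCompact G.hom] (i : T ⟶ G)
    (h : Red.IsMaximalTorus i) (g : S' ⟶ S) : Red.IsMaximalTorus ((Over.pullback g).map i) := by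
  haveI := h.1; haveI := h.2.1
  refine ⟨inferInstance, inferInstance, isTorus_bc g h.2.2.1, fun s' T'' _ j _ _ f hT'' hf => ?_⟩
  obtain ⟨σ, hσ⟩ := exists_geomPt_lift g s'
  haveI : Smooth (Red.bc (Red.geomPt (g s')) G).hom := inferInstanceAs (Smooth (pullback.snd G.hom _))
  haveI : QuasiCompact (Red.bc (Red.geomPt (g s')) G).hom := inferInstanceAs (QuasiCompact (pullback.snd G.hom _))
  have hs : AGF.IsMaxTorus ((Over.pullback (Red.geomPt (g s'))).map i) :=
    ⟨inferInstance, inferInstance, isTorus_bc _ h.2.2.1, fun T₁ _ j₁ _ _ f₁ h₁ h₁' => h.2.2.2 (g s') T₁ j₁ f₁ h₁ h₁'⟩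
  have hK := (isMaxTorus_bc_iff σ (Red.geomPt (g s')) (Red.geomPt s' ≫ g) hσ i h.2.2.1).mp (isMaxTorus_bc _ hs σ)
  exact ((isMaxTorus_bc_iff (Red.geomPt s') g _ rfl i h.2.2.1).mpr hK).2.2.2 T'' j f hT'' hf

/-- A subtorus which becomes a maximal torus after a surjective base change is one. -/
theorem isMaximalTorus_of_bc {G T : Over S} [GrpObj G] [GrpObj T] (i : T ⟶ G) [IsMonHom i] [Mono i]
    (hT : Red.IsTorus T) (g : S' ⟶ S) [Surjective g] (h : Red.IsMaximalTorus ((Over.pullback g).map i)) :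
    Red.IsMaximalTorus i := by
  refine ⟨inferInstance, inferInstance, hT, fun s T' _ j _ _ f hT' hf => ?_⟩
  obtain ⟨s', rfl⟩ := g.surjective s
  obtain ⟨σ, hσ⟩ := exists_geomPt_lift g s'
  have hs : AGF.IsMaxTorus ((Over.pullback (Red.geomPt s')).map ((Over.pullback g).map i)) :=
    ⟨inferInstance, inferInstance, isTorus_bc _ (isTorus_bc g hT),
      fun T₁ _ j₁ _ _ f₁ h₁ h₁' => h.2.2.2 s' T₁ j₁ f₁ h₁ h₁'⟩
  have hK := (isMaxTorus_bc_iff σ (Red.geomPt (g s')) (Red.geomPt s' ≫ g) hσ i hT).mpr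
    ((isMaxTorus_bc_iff (Red.geomPt s') g _ rfl i hT).mp hs)
  haveI : IsIso ((Over.pullback σ).map f) := hK.2.2.2 _ ((Over.pullback σ).map j) ((Over.pullback σ).map f)
    (isTorus_bc σ hT') (by rw [← Functor.map_comp, hf])
  haveI : Flat σ := by
    obtain ⟨φ, rfl⟩ := Spec.map_surjective σ
    exact GrpSchLib.flat_spec_map_field φ.hom
  haveI : Surjective σ := ⟨fun x => ⟨IsLocalRing.closedPoint _, @Subsingleton.elim (PrimeSpectrum _) _ _ _⟩⟩
  exact isIso_of_isIso_bc σ f

end Groth.Agent.GModLib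

namespace Groth.Agent.GModLib

/-- A subtorus over a field which becomes maximal after a field extension is maximal. -/
theorem isMaxTorus_of_bc_field {k K : Type u} [Field k] [Field K] {G T : Over (Spec (CommRingCat.of k))} [GrpObj G]
    [GrpObj T] (i : T ⟶ G) [IsMonHom i] [Mono i] (hT : Red.IsTorus T)
    (σ : Spec (CommRingCat.of K) ⟶ Spec (CommRingCat.of k)) (h : AGF.IsMaxTorus ((Over.pullback σ).map i)) :
    AGF.IsMaxTorus i := by
  refine ⟨inferInstance, inferInstance, hT, fun T' _ j _ _ f hT' hf => ?_⟩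
  haveI : IsIso ((Over.pullback σ).map f) := h.2.2.2 _ ((Over.pullback σ).map j) ((Over.pullback σ).map f)
    (isTorus_bc σ hT') (by rw [← Functor.map_comp, hf])
  haveI : Flat σ := by
    obtain ⟨φ, rfl⟩ := Spec.map_surjective σ
    exact GrpSchLib.flat_spec_map_field φ.hom
  haveI : Surjective σ := ⟨fun x => ⟨IsLocalRing.closedPoint _, @Subsingleton.elim (PrimeSpectrum _) _ _ _⟩⟩
  exact isIso_of_isIso_bc σ f

/-- A torus which is maximal on the geometric fibre is maximal among subtori. -/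
theorem isMaxTorus_of_geomFibre {k : Type u} [Field k] {G T : Over (Spec (CommRingCat.of k))} [GrpObj G]
    [GrpObj T] (i : T ⟶ G) [IsMonHom i] [Mono i] (h : Red.IsMaximalTorus i) : AGF.IsMaxTorus i :=
  let s : (Spec (CommRingCat.of k) : Scheme.{u}) := IsLocalRing.closedPoint k
  isMaxTorus_of_bc_field i h.2.2.1 (Red.geomPt s)
    ⟨inferInstance, inferInstance, isTorus_bc _ h.2.2.1, fun T' _ j _ _ f h₁ h₂ => h.2.2.2 s T' j f h₁ h₂⟩

end Groth.Agent.GModLib
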