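import Groth.Agent.GModLib.TorusBC
import Groth.Agent.GModLib.TorusBasic
import Groth.Agent.SplitTorLib.Image

/-!
# Products of tori are tori
-/

set_option autoImplicit false
set_option linter.style.haveILetI false
set_option backward.isDefEq.respectTransparency false
set_option backward.isDefEq.respectTransparency.types false

universe u

open CategoryTheory CategoryTheory.Limits MonoidalCategory CartesianMonoidalCategory MonObj AlgebraicGeometry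

namespace Groth.Agent.GModLib.TorusProd

open GrpSchLib.MultTypeBC (bc_bc bc_congr bc_iso)

theorem DSmap_add (S : Scheme.{u}) {M N : Type} [AddCommGroup M] [AddCommGroup N] (f g : N →+ M) :
    Red.DSmap S f * Red.DSmap S g = Red.DSmap S (f + g) := by
  refine Over.OverMorphism.ext (Scheme.Cover.hom_ext (Red.DS S M).left.affineCover _ _ fun i => ?_)
  obtain ⟨B, hB⟩ : ∃ B : CommRingCat.{u}, (Red.DS S M).left.affineCover.X i = Spec B := ⟨_, rfl⟩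
  obtain ⟨io, hio⟩ : ∃ io : Spec B ⟶ (Red.DS S M).left, (Red.DS S M).left.affineCover.f i = eqToHom hB ≫ io :=
    ⟨eqToHom hB.symm ≫ (Red.DS S M).left.affineCover.f i, by simp⟩
  rw [hio, Category.assoc, Category.assoc]
  congr 1
  let x : DSPtsLib.spU (io ≫ (Red.DS S M).hom) ⟶ Red.DS S M := Over.homMk io rfl
  obtain ⟨c, hc⟩ := DSPtsLib.exists_eq_pt _ x
  have h : x ≫ (Red.DSmap S f * Red.DSmap S g) = x ≫ Red.DSmap S (f + g) := by
    rw [MonObj.comp_mul, hc, SplitTorLib.pt_DSmap, SplitTorLib.pt_DSmap, SplitTorLib.pt_DSmap]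
    refine DSPtsLib.pt_mul _ _ _ _ fun m => ?_
    show SplitTorLib.chr _ m = SplitTorLib.chr _ m * SplitTorLib.chr _ m
    rw [SplitTorLib.chr_pull, SplitTorLib.chr_pull, SplitTorLib.chr_pull, ← SplitTorLib.chr_mul]
    rfl
  exact congrArg (fun m => Over.Hom.left m) h

/-- The product of two split tori is a split torus. -/
theorem DS_prod (S : Scheme.{u}) (a b : ℕ) :
    Nonempty (Grp.mk (Red.DS S (Fin a → ℤ) ⊗ Red.DS S (Fin b → ℤ)) ≅ Grp.mk (Red.DS S (Fin (a + b) → ℤ))) := by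
  let inl : (Fin a → ℤ) →+ (Fin (a + b) → ℤ) :=
    (LinearMap.funLeft ℤ ℤ (finSumFinEquiv (m := a) (n := b)).symm).toAddMonoidHom.comp
      { toFun := fun v => Sum.elim v 0, map_zero' := funext fun i => by cases i <;> rfl,
        map_add' := fun v w => funext fun i => by cases i <;> simp }
  let inr : (Fin b → ℤ) →+ (Fin (a + b) → ℤ) :=
    (LinearMap.funLeft ℤ ℤ (finSumFinEquiv (m := a) (n := b)).symm).toAddMonoidHom.comp
      { toFun := fun v => Sum.elim 0 v, map_zero' := funext fun i => by cases i <;> rfl,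
        map_add' := fun v w => funext fun i => by cases i <;> simp }
  let prl : (Fin (a + b) → ℤ) →+ (Fin a → ℤ) :=
    (LinearMap.funLeft ℤ ℤ (Fin.castAdd (m := b) (n := a))).toAddMonoidHom
  let prr : (Fin (a + b) → ℤ) →+ (Fin b → ℤ) :=
    (LinearMap.funLeft ℤ ℤ (Fin.natAdd (m := b) a)).toAddMonoidHom
  have hll : prl.comp inl = AddMonoidHom.id _ :=
    AddMonoidHom.ext fun v => funext fun i => by simp [prl, inl, LinearMap.funLeft]
  have hrl : prl.comp inr = 0 :=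
    AddMonoidHom.ext fun v => funext fun i => by simp [prl, inr, LinearMap.funLeft]
  have hlr : prr.comp inl = 0 :=
    AddMonoidHom.ext fun v => funext fun i => by simp [prr, inl, LinearMap.funLeft]
  have hrr : prr.comp inr = AddMonoidHom.id _ :=
    AddMonoidHom.ext fun v => funext fun i => by simp [prr, inr, LinearMap.funLeft]
  have hsum : inl.comp prl + inr.comp prr = AddMonoidHom.id _ :=
    AddMonoidHom.ext fun v => funext fun i => by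
      refine Fin.addCases (fun j => ?_) (fun j => ?_) i <;> simp [prl, prr, inl, inr, LinearMap.funLeft]
  let A := Red.DS S (Fin a → ℤ)
  let B := Red.DS S (Fin b → ℤ)
  let C := Red.DS S (Fin (a + b) → ℤ)
  haveI := S5427.isMonHom_DSmap S inl
  haveI := S5427.isMonHom_DSmap S inr
  let φ : C ⟶ A ⊗ B := lift (Red.DSmap S inl) (Red.DSmap S inr)
  let ψ : A ⊗ B ⟶ C := (fst A B ≫ Red.DSmap S prl) * (snd A B ≫ Red.DSmap S prr)
  haveI : IsMonHom φ := inferInstanceAs (IsMonHom (lift (Red.DSmap S inl) (Red.DSmap S inr)))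
  have h1 : φ ≫ ψ = 𝟙 C := by
    rw [MonObj.comp_mul, lift_fst_assoc, lift_snd_assoc, SplitTorLib.DSmap_comp, SplitTorLib.DSmap_comp, DSmap_add,
      hsum, (SplitTorLib.DSmap_id_zero S (Fin (a + b) → ℤ) (Fin (a + b) → ℤ)).1]
  have h2 : ψ ≫ φ = 𝟙 (A ⊗ B) := by
    refine CartesianMonoidalCategory.hom_ext _ _ ?_ ?_
    · rw [Category.assoc, lift_fst, MonObj.mul_comp, Category.assoc, Category.assoc, SplitTorLib.DSmap_comp,
        SplitTorLib.DSmap_comp, hll, hlr, (SplitTorLib.DSmap_id_zero S (Fin a → ℤ) (Fin a → ℤ)).1,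
        (SplitTorLib.DSmap_id_zero S (Fin b → ℤ) (Fin a → ℤ)).2, MonObj.comp_one, _root_.mul_one, Category.comp_id,
        Category.id_comp]
    · rw [Category.assoc, lift_snd, MonObj.mul_comp, Category.assoc, Category.assoc, SplitTorLib.DSmap_comp,
        SplitTorLib.DSmap_comp, hrl, hrr, (SplitTorLib.DSmap_id_zero S (Fin b → ℤ) (Fin b → ℤ)).1,
        (SplitTorLib.DSmap_id_zero S (Fin a → ℤ) (Fin b → ℤ)).2, MonObj.comp_one, _root_.one_mul, Category.comp_id,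
        Category.id_comp]
  exact ⟨((Grp.mkIso ⟨φ, ψ, h1, h2⟩ (IsMonHom.one_hom φ) (IsMonHom.mul_hom φ) : Grp.mk C ≅ Grp.mk (A ⊗ B))).symm⟩

/-- Base change commutes with products of groups. -/
theorem bc_tensor {S U : Scheme.{u}} (g : U ⟶ S) (A B : Over S) [GrpObj A] [GrpObj B] :
    Nonempty (Grp.mk (Red.bc g (A ⊗ B)) ≅ Grp.mk (Red.bc g A ⊗ Red.bc g B)) := by
  haveI := (Over.mapPullbackAdj g).rightAdjoint_preservesLimits
  let c : Red.bc g (A ⊗ B) ⟶ Red.bc g A ⊗ Red.bc g B :=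
    lift ((Over.pullback g).map (fst A B)) ((Over.pullback g).map (snd A B))
  haveI : IsMonHom c :=
    inferInstanceAs (IsMonHom (lift ((Over.pullback g).map (fst A B)) ((Over.pullback g).map (snd A B))))
  haveI : IsIso c := inferInstanceAs (IsIso (CartesianMonoidalCategory.prodComparison (Over.pullback g) A B))
  exact ⟨(Grp.mkIso (asIso c) (IsMonHom.one_hom c) (IsMonHom.mul_hom c) :
    Grp.mk (Red.bc g (A ⊗ B)) ≅ Grp.mk (Red.bc g A ⊗ Red.bc g B))⟩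

theorem tensor_iso {S : Scheme.{u}} {A A' B B' : Over S} [GrpObj A] [GrpObj A'] [GrpObj B] [GrpObj B']
    (e : Grp.mk A ≅ Grp.mk A') (e' : Grp.mk B ≅ Grp.mk B') :
    Nonempty (Grp.mk (A ⊗ B) ≅ Grp.mk (A' ⊗ B')) := by
  haveI := e.hom.hom.isMonHom_hom
  haveI := e'.hom.hom.isMonHom_hom
  let c : A ⊗ B ⟶ A' ⊗ B' := lift (fst A B ≫ e.hom.hom.hom) (snd A B ≫ e'.hom.hom.hom)
  haveI : IsMonHom c := inferInstanceAs (IsMonHom (lift (fst A B ≫ e.hom.hom.hom) (snd A B ≫ e'.hom.hom.hom)))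
  let f := ((Grp.forget _).mapIso e)
  let f' := ((Grp.forget _).mapIso e')
  have hc : c = (tensorIso f f').hom := CartesianMonoidalCategory.hom_ext _ _
    ((lift_fst _ _).trans (tensorHom_fst f.hom f'.hom).symm) ((lift_snd _ _).trans (tensorHom_snd f.hom f'.hom).symm)
  haveI : IsIso c := hc ▸ (tensorIso f f').isIso_hom
  exact ⟨(Grp.mkIso (asIso c) (IsMonHom.one_hom c) (IsMonHom.mul_hom c) : Grp.mk (A ⊗ B) ≅ Grp.mk (A' ⊗ B'))⟩

set_option maxHeartbeats 1000000 in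
/-- The product of two tori is a torus. -/
theorem isTorus_tensor {S : Scheme.{u}} {A B : Over S} [GrpObj A] [GrpObj B] (hA : Red.IsTorus A)
    (hB : Red.IsTorus B) : Red.IsTorus (A ⊗ B) := by
  obtain ⟨S₁, φ₁, hf₁, hs₁, hq₁, hl₁⟩ := hA
  obtain ⟨S₂, φ₂, hf₂, hs₂, hq₂, hl₂⟩ := isTorus_bc φ₁ hB
  haveI := hf₁; haveI := hs₁; haveI := hf₂; haveI := hs₂
  refine ⟨S₂, φ₂ ≫ φ₁, inferInstance, inferInstance, fun V hV => ?_, fun z => ?_⟩
  · obtain ⟨W, hW, hWV⟩ := hq₁ V hV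
    have hcov : (W : Set S₁) ⊆ ⋃ (O : {O : S₁.Opens // IsAffineOpen O ∧ O ≤ W}), (O.1 : Set S₁) := fun x hx => by
      obtain ⟨O, hO, hxO, hOW⟩ := exists_isAffineOpen_mem_and_subset (show x ∈ W from hx)
      exact Set.mem_iUnion.mpr ⟨⟨O, hO, hOW⟩, hxO⟩
    obtain ⟨s, hs⟩ := hW.elim_finite_subcover _ (fun O => O.1.2) hcov
    choose W' hW' hWO using fun O : {O : S₁.Opens // IsAffineOpen O ∧ O ≤ W} => hq₂ O.1 O.2.1
    refine ⟨⟨⋃ O ∈ s, (W' O : Set S₂), isOpen_biUnion fun O _ => (W' O).2⟩,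
      s.finite_toSet.isCompact_biUnion fun O _ => hW' O, ?_⟩
    have hU : φ₂ '' (⋃ O ∈ s, (W' O : Set S₂)) = (W : Set S₁) := by
      rw [Set.image_iUnion₂]
      refine le_antisymm (Set.iUnion₂_subset fun O _ => (hWO O).trans_subset O.2.2) ?_
      exact hs.trans (Set.iUnion₂_mono fun O _ => (hWO O).ge)
    show (φ₂ ≫ φ₁) '' (⋃ O ∈ s, (W' O : Set S₂)) = _
    rw [Scheme.Hom.comp_base, TopCat.coe_comp, Set.image_comp, hU]
    exact hWV
  · obtain ⟨U₂, hzU₂, b, ⟨eB⟩⟩ := hl₂ z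
    obtain ⟨U₁, hzU₁, a, ⟨eA⟩⟩ := hl₁ (φ₂ z)
    let U : S₂.Opens := U₂ ⊓ φ₂ ⁻¹ᵁ U₁
    refine ⟨U, ⟨hzU₂, hzU₁⟩, a + b, ?_⟩
    let l₂ : (U : Scheme.{u}) ⟶ U₂ := S₂.homOfLE (inf_le_left : U ≤ U₂)
    let l₁ : (U : Scheme.{u}) ⟶ U₁ := S₂.homOfLE (inf_le_right : U ≤ φ₂ ⁻¹ᵁ U₁) ≫ (φ₂ ∣_ U₁)
    have hl₂' : (l₂ ≫ U₂.ι ≫ φ₂) ≫ φ₁ = U.ι ≫ φ₂ ≫ φ₁ := by simp [l₂]
    have hl₁' : l₁ ≫ U₁.ι ≫ φ₁ = U.ι ≫ φ₂ ≫ φ₁ := by simp [l₁]
    let g := U.ι ≫ φ₂ ≫ φ₁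
    obtain ⟨a₁⟩ := bc_congr hl₁' A
    obtain ⟨a₂⟩ := bc_bc l₁ (U₁.ι ≫ φ₁) A
    obtain ⟨a₃⟩ := TorusBasic.isSplit_bc l₁ (⟨eA⟩ : Red.IsSplitTorusWith (Fin a → ℤ) (Red.bc (U₁.ι ≫ φ₁) A))
    obtain ⟨b₁⟩ := bc_congr hl₂' B
    obtain ⟨b₂⟩ := bc_bc (l₂ ≫ U₂.ι ≫ φ₂) φ₁ B
    obtain ⟨b₃⟩ := bc_bc l₂ (U₂.ι ≫ φ₂) (Red.bc φ₁ B)
    obtain ⟨b₄⟩ := TorusBasic.isSplit_bc l₂ (⟨eB⟩ : Red.IsSplitTorusWith (Fin b → ℤ) (Red.bc (U₂.ι ≫ φ₂) (Red.bc φ₁ B)))
    obtain ⟨e₀⟩ := bc_tensor g A B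
    obtain ⟨e₁⟩ := tensor_iso (a₁.symm ≪≫ a₂.symm ≪≫ a₃) (b₁.symm ≪≫ b₂.symm ≪≫ b₃.symm ≪≫ b₄)
    obtain ⟨e₂⟩ := DS_prod (U : Scheme.{u}) a b
    exact ⟨e₀ ≪≫ e₁ ≪≫ e₂⟩

end Groth.Agent.GModLib.TorusProd
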