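import Groth.Agent.GModLib.TorusImage
import Groth.Agent.GModLib.TorusProd
import Groth.Agent.GModLib.MaxTorusBC

/-!
# A torus commuting with a maximal torus lies in it
-/

set_option autoImplicit false
set_option linter.style.haveILetI false
set_option backward.isDefEq.respectTransparency false
set_option backward.isDefEq.respectTransparency.types false

universe u

open CategoryTheory CategoryTheory.Limits MonoidalCategory CartesianMonoidalCategory MonObj GrpObj AlgebraicGeometry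

namespace Groth.Agent.GModLib

variable {S : Scheme.{u}}

variable {G : Over S} [GrpObj G]

/-- Two commuting subgroups: the product map is a homomorphism. -/
theorem isMonHom_prod_of_commute {A B : Over S} [GrpObj A] [GrpObj B] (i : A ⟶ G) [IsMonHom i] (j : B ⟶ G)
    [IsMonHom j] (hcomm : ∀ (X : Over S) (a : X ⟶ A) (b : X ⟶ B), (a ≫ i) * (b ≫ j) = (b ≫ j) * (a ≫ i)) :
    IsMonHom ((fst A B ≫ i) * (snd A B ≫ j)) := by
  constructor
  · rw [MonObj.comp_mul, ← Category.assoc, ← Category.assoc, IsMonHom.one_hom (f := fst A B),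
      IsMonHom.one_hom (f := snd A B), IsMonHom.one_hom i, IsMonHom.one_hom j, MonObj.one_eq_one, _root_.mul_one]
  · let P := A ⊗ B
    have hm : ∀ {C : Over S} [GrpObj C] (p : P ⟶ C) [IsMonHom p],
        μ[P] ≫ p = (fst P P ≫ p) * (snd P P ≫ p) := fun p _ => by
      rw [IsMonHom.mul_hom, Hom.mul_def]
      congr 1
    have e := hcomm (P ⊗ P) (snd P P ≫ fst A B) (fst P P ≫ snd A B)
    simp only [Category.assoc] at e
    have hr : ∀ φ : P ⟶ G, (φ ⊗ₘ φ) ≫ μ[G] = (fst P P ≫ φ) * (snd P P ≫ φ) := fun φ => by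
      rw [Hom.mul_def]
      congr 1
    rw [MonObj.comp_mul, hm (fst A B ≫ i), hm (snd A B ≫ j), hr, MonObj.comp_mul, MonObj.comp_mul, _root_.mul_assoc,
      ← _root_.mul_assoc (snd P P ≫ fst A B ≫ i), e, _root_.mul_assoc, ← _root_.mul_assoc]

set_option maxHeartbeats 1000000 in
/-- A torus commuting with a maximal torus of a separated group factors through it. -/
theorem factor_of_commute [IsSeparated G.hom] [LocallyOfFinitePresentation G.hom] {T R : Over S} [GrpObj T] [GrpObj R]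
    (i : T ⟶ G) (hT : Red.IsMaximalTorus i) (j : R ⟶ G) [IsMonHom j] (hR : Red.IsTorus R)
    (hcomm : ∀ (X : Over S) (t : X ⟶ T) (r : X ⟶ R), (t ≫ i) * (r ≫ j) = (r ≫ j) * (t ≫ i)) :
    ∃ f : R ⟶ T, f ≫ i = j := by
  obtain ⟨hi, himono, hTt, hmax⟩ := hT
  haveI := hi; haveI := himono
  let P := T ⊗ R
  let φ : P ⟶ G := (fst T R ≫ i) * (snd T R ≫ j)
  haveI : IsMonHom φ := isMonHom_prod_of_commute i j hcomm
  have hP := TorusProd.isTorus_tensor hTt hR
  haveI := MultConjLib.smooth_of_isTorus hTt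
  haveI := MultConjLib.smooth_of_isTorus hR
  haveI : IsAffineHom P.hom :=
    MultConjLib.isAffineHom_of_locDS (MultConjLib.isLocDS_of_multTypeFT (GrpSchLib.RankOne.isMultTypeFT_of_isTorus hP))
  obtain ⟨Q, _, m, v, hQ, hm, hmm, hv, hvm, -, -⟩ := TorusImage.exists_torus_image hP φ
  haveI := hm; haveI := hmm; haveI := hv
  haveI := MultConjLib.smooth_of_isTorus hQ
  have hl : ∀ {X : Over S} (a : X ⟶ T) (b : X ⟶ R), lift a b ≫ φ = (a ≫ i) * (b ≫ j) := fun a b => by
    rw [MonObj.comp_mul, lift_fst_assoc, lift_snd_assoc]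
  let f₁ : T ⟶ Q := lift (𝟙 T) 1 ≫ v
  have hf₁ : f₁ ≫ m = i := by
    rw [Category.assoc, hvm, hl, Category.id_comp, MonObj.one_comp, _root_.mul_one]
  haveI : IsIso f₁ := isIso_of_geomFibres f₁ fun s =>
    @Functor.map_isIso _ _ _ _ _ _ (Over.forget _) ((Over.pullback (Red.geomPt s)).map f₁)
      (hmax s _ ((Over.pullback (Red.geomPt s)).map m) _ (isTorus_bc _ hQ) (by rw [← Functor.map_comp, hf₁]))
  refine ⟨lift 1 (𝟙 R) ≫ v ≫ inv f₁, ?_⟩
  rw [Category.assoc, Category.assoc, ← hf₁, IsIso.inv_hom_id_assoc, hvm, hl, Category.id_comp, MonObj.one_comp,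
    _root_.one_mul]

/-- Commuting maximal tori coincide. -/
theorem exists_iso_of_commute [IsSeparated G.hom] [LocallyOfFinitePresentation G.hom] {T₁ T₂ : Over S} [GrpObj T₁]
    [GrpObj T₂] (i₁ : T₁ ⟶ G) (h₁ : Red.IsMaximalTorus i₁) (i₂ : T₂ ⟶ G) (h₂ : Red.IsMaximalTorus i₂)
    (hcomm : ∀ (X : Over S) (a : X ⟶ T₁) (b : X ⟶ T₂), (a ≫ i₁) * (b ≫ i₂) = (b ≫ i₂) * (a ≫ i₁)) :
    ∃ φ : T₁ ≅ T₂, φ.hom ≫ i₂ = i₁ := by
  haveI := h₁.1; haveI := h₁.2.1; haveI := h₂.1; haveI := h₂.2.1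
  obtain ⟨f, hf⟩ := factor_of_commute i₁ h₁ i₂ h₂.2.2.1 hcomm
  obtain ⟨g, hg⟩ := factor_of_commute i₂ h₂ i₁ h₁.2.2.1 fun X b a => (hcomm X a b).symm
  exact ⟨⟨g, f, by rw [← cancel_mono i₁, Category.assoc, hf, hg, Category.id_comp],
    by rw [← cancel_mono i₂, Category.assoc, hg, hf, Category.id_comp]⟩, hg⟩

end Groth.Agent.GModLib
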