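import Groth.Agent.GModLib.EqNhdCommute
import Groth.Agent.GModLib.CommutingTori
import Groth.Agent.GModLib.CentralizerRelative

/-!
# A torus commuting with a maximal torus lies in it: no separation hypothesis
-/

set_option autoImplicit false
set_option linter.style.haveILetI false
set_option backward.isDefEq.respectTransparency false
set_option backward.isDefEq.respectTransparency.types false

universe u

open CategoryTheory CategoryTheory.Limits MonoidalCategory CartesianMonoidalCategory MonObj GrpObj AlgebraicGeometry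

namespace Groth.Agent.GModLib

open DSPtsLib (theta theta_bijective theta_mul)
open GrpSchLib.HomUnitLocus (theta_comp_map)

variable {S : Scheme.{u}} {G : Over S} [GrpObj G] [LocallyOfFinitePresentation G.hom]

set_option maxHeartbeats 1000000 in
/-- A torus commuting with a maximal torus of a group locally of finite presentation factors through it. -/
theorem factor_of_commute_qs {T R : Over S} [GrpObj T] [GrpObj R]
    (i : T ⟶ G) (hT : Red.IsMaximalTorus i) (j : R ⟶ G) [IsMonHom j] (hR : Red.IsTorus R)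
    (hcomm : ∀ (X : Over S) (t : X ⟶ T) (r : X ⟶ R), (t ≫ i) * (r ≫ j) = (r ≫ j) * (t ≫ i)) :
    ∃ f : R ⟶ T, f ≫ i = j := by
  obtain ⟨hi, himono, hTt, hmax⟩ := hT
  haveI := hi; haveI := himono
  haveI := MultConjLib.smooth_of_isTorus hTt
  haveI : LocallyOfFinitePresentation (i.left ≫ G.hom) := by rw [Over.w i]; infer_instance
  haveI : LocallyOfFinitePresentation i.left := AlgSpPts.locallyOfFinitePresentation_of_comp i.left G.hom
  have hfib : ∀ s : S, GrpSchLib.SubgroupEqLocus.Le i j (S.fromSpecResidueField s) := fun s => by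
    let σ := Red.geomPt s
    haveI : LocallyOfFinitePresentation (Red.bc σ G).hom :=
      inferInstanceAs (LocallyOfFinitePresentation (pullback.snd G.hom σ))
    haveI : IsSeparated (Red.bc σ G).hom := GrpSchLib.AntiAffine.isSeparated_grp _
    obtain ⟨f, hf⟩ := factor_of_commute ((Over.pullback σ).map i)
      (isMaximalTorus_of_isMaxTorus ⟨inferInstance, inferInstance, isTorus_bc σ hTt,
        fun T'' _ j' _ _ f' hT'' hf' => hmax s T'' j' f' hT'' hf'⟩)
      ((Over.pullback σ).map j) (isTorus_bc σ hR) (fun X t r => (theta_bijective (H := G) σ).1 (by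
        rw [theta_mul, theta_mul, theta_comp_map, theta_comp_map]
        exact hcomm _ _ _))
    let ψ : Spec (CommRingCat.of (AlgebraicClosure (S.residueField s))) ⟶ Spec (S.residueField s) :=
      Spec.map (CommRingCat.ofHom (algebraMap (S.residueField s) (AlgebraicClosure (S.residueField s))))
    exact EqLocusMono.Le.of_covers ψ (GrpSchLib.HomUnitLocus.covers_field _) (le_of_map i j σ f hf)
  have hloc : ∀ s : S, ∃ U : S.Opens, s ∈ U ∧ GrpSchLib.SubgroupEqLocus.Le i j U.ι := fun s =>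
    EqNhdCommute.exists_nhd i j (GrpSchLib.RankOne.isMultTypeFT_of_isTorus hTt)
      (GrpSchLib.RankOne.isMultTypeFT_of_isTorus hR) (Or.inr inferInstance) s (hfib s) hcomm
  obtain ⟨a, ha⟩ := EqLocusMono.exists_factor_of_stalks (iA := i) (iB := j) (𝟙 R) fun z => by
    obtain ⟨U, hs, hle⟩ := hloc (R.hom z)
    let O : R.left.Opens := R.hom ⁻¹ᵁ U
    let Y : Over S := Over.mk (O.ι ≫ R.hom)
    obtain ⟨a, ha⟩ := hle Y (Over.homMk (IsOpenImmersion.lift U.ι (O.ι ≫ R.hom) (by
      rintro _ ⟨w, rfl⟩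
      exact ⟨⟨R.hom (O.ι w), w.2⟩, (Scheme.Hom.comp_apply O.ι R.hom w).symm⟩)) (IsOpenImmersion.lift_fac _ _ _)) (Over.homMk O.ι rfl)
    refine ⟨O.fromSpecStalkOfMem z hs ≫ a.left, ?_⟩
    have h := congrArg (fun m => m.left) ha
    simp only [Over.comp_left] at h
    rw [Category.assoc, h]
    show O.fromSpecStalkOfMem z hs ≫ O.ι ≫ j.left = R.left.fromSpecStalk z ≫ (𝟙 R ≫ j).left
    rw [Category.id_comp, Scheme.Opens.fromSpecStalkOfMem_ι_assoc]
  exact ⟨a, by rw [ha, Category.id_comp]⟩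

/-- Commuting maximal tori coincide. -/
theorem exists_iso_of_commute_qs {T₁ T₂ : Over S} [GrpObj T₁] [GrpObj T₂] (i₁ : T₁ ⟶ G) (h₁ : Red.IsMaximalTorus i₁)
    (i₂ : T₂ ⟶ G) (h₂ : Red.IsMaximalTorus i₂)
    (hcomm : ∀ (X : Over S) (a : X ⟶ T₁) (b : X ⟶ T₂), (a ≫ i₁) * (b ≫ i₂) = (b ≫ i₂) * (a ≫ i₁)) :
    ∃ φ : T₁ ≅ T₂, φ.hom ≫ i₂ = i₁ := by
  haveI := h₁.1; haveI := h₁.2.1; haveI := h₂.1; haveI := h₂.2.1
  obtain ⟨f, hf⟩ := factor_of_commute_qs i₁ h₁ i₂ h₂.2.2.1 hcomm
  obtain ⟨g, hg⟩ := factor_of_commute_qs i₂ h₂ i₁ h₁.2.2.1 fun X b a => (hcomm X a b).symm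
  exact ⟨⟨g, f, by rw [← cancel_mono i₁, Category.assoc, hf, hg, Category.id_comp],
    by rw [← cancel_mono i₂, Category.assoc, hg, hf, Category.id_comp]⟩, hg⟩

end Groth.Agent.GModLib
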