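import Groth.Agent.GrpSchLib.SubgroupEqLocus
import Mathlib.AlgebraicGeometry.Morphisms.FlatMono

/-!
# The locus where a subgroup of multiplicative type lies in a monomorphic one
-/

set_option autoImplicit false
set_option backward.isDefEq.respectTransparency false
set_option backward.isDefEq.respectTransparency.types false

universe u

open CategoryTheory Limits AlgebraicGeometry MonoidalCategory CartesianMonoidalCategory MonObj GrpObj

namespace Groth.Agent.GModLib.EqLocusMono

open GrpSchLib GrpSchLib.SubgroupEqLocus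
open DSPtsLib (CoordM)
open DiagActionRigid (sp spm)
open DiagSubgroupTrivial (chg IsSubgroup)
open SubgroupFactor (pull pull_single)

/-- A finitely presented monomorphism through which every stalk of a morphism factors factors it. -/
theorem exists_lift_of_stalks {X Y Z : Scheme.{u}} (j : Z ⟶ X) [Mono j] [LocallyOfFinitePresentation j] (g : Y ⟶ X)
    (h : ∀ y, ∃ l, l ≫ j = Y.fromSpecStalk y ≫ g) : ∃ l, l ≫ j = g := by
  let q := pullback.snd j g
  have hsec : ∀ y, ∃ s, s ≫ q = Y.fromSpecStalk y := fun y => by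
    obtain ⟨l, hl⟩ := h y
    exact ⟨pullback.lift l _ hl, pullback.lift_snd _ _ _⟩
  haveI : Surjective q := ⟨fun y => by
    obtain ⟨s, hs⟩ := hsec y
    exact ⟨s (IsLocalRing.closedPoint _), by rw [← Scheme.Hom.comp_apply, hs, Scheme.fromSpecStalk_closedPoint]⟩⟩
  haveI : Flat q := by
    refine (Flat.iff_flat_stalkMap q).mpr fun p => ?_
    obtain ⟨s, hs⟩ := hsec (q p)
    have h1 : (pullback j g).fromSpecStalk p = Spec.map (q.stalkMap p) ≫ s := by
      rw [← cancel_mono q, Category.assoc, hs, Scheme.SpecMap_stalkMap_fromSpecStalk]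
    have hp : s (IsLocalRing.closedPoint _) = p := by
      have := congrArg (fun m => m (IsLocalRing.closedPoint _)) h1
      simp only [Scheme.fromSpecStalk_closedPoint, Scheme.Hom.comp_apply] at this
      refine Eq.trans ?_ this.symm
      congr 1
      exact (IsLocalRing.comap_closedPoint (q.stalkMap p).hom).symm
    let b : (pullback j g).presheaf.stalk p ⟶ Y.presheaf.stalk (q p) :=
      (pullback j g).presheaf.stalkSpecializes (specializes_of_eq hp) ≫ Scheme.stalkClosedPointTo s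
    have hb : Spec.map b ≫ (pullback j g).fromSpecStalk p = s := by
      rw [Spec.map_comp, Category.assoc, Scheme.SpecMap_stalkSpecializes_fromSpecStalk,
        Scheme.Spec_stalkClosedPointTo_fromSpecStalk]
    haveI : IsIso (q.stalkMap p) := by
      refine ⟨b, Spec.map_injective ?_, Spec.map_injective ?_⟩
      · rw [← cancel_mono (Y.fromSpecStalk (q p)), Spec.map_comp, Category.assoc,
          Scheme.SpecMap_stalkMap_fromSpecStalk, reassoc_of% hb, hs, Spec.map_id, Category.id_comp]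
      · rw [← cancel_mono ((pullback j g).fromSpecStalk p), Spec.map_comp, Category.assoc, hb, ← h1, Spec.map_id,
          Category.id_comp]
    exact RingHom.Flat.of_bijective (ConcreteCategory.bijective_of_isIso (q.stalkMap p))
  haveI : IsOpenImmersion q := IsOpenImmersion.of_flat_of_mono q
  haveI : IsIso q := (isIso_iff_isOpenImmersion_and_surjective _).mpr ⟨inferInstance, inferInstance⟩
  exact ⟨inv q ≫ pullback.fst j g, by rw [Category.assoc, pullback.condition, IsIso.inv_hom_id_assoc]⟩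

section Global

variable {S : Scheme.{u}} {G A B : Over S} [GrpObj G] [GrpObj A] [GrpObj B] (iA : A ⟶ G) [IsMonHom iA]
  (iB : B ⟶ G) [IsMonHom iB]

variable {iA iB}

theorem Le.of_covers [Mono iA] {T T' : Scheme.{u}} {g : T ⟶ S} (l : T' ⟶ T) (hl : FpqcDescLib.Covers l)
    (h : Le iA iB (l ≫ g)) : Le iA iB g := by
  intro Y q b
  let P : Over S := Over.mk (pullback.fst q.left l ≫ Y.hom)
  let p : P ⟶ Y := Over.homMk (pullback.fst q.left l) rfl
  have hp : FpqcDescLib.Covers p.left :=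
    hl.pullback q.left p.left (pullback.snd q.left l) (IsPullback.of_hasPullback q.left l)
  obtain ⟨a, ha⟩ := h P (Over.homMk (pullback.snd q.left l) (by
    show pullback.snd q.left l ≫ l ≫ g = pullback.fst q.left l ≫ Y.hom
    rw [← Category.assoc, ← pullback.condition, Category.assoc]
    exact congrArg (_ ≫ ·) (Over.w q))) (p ≫ b)
  obtain ⟨a', ha', -⟩ := hp.over_desc a fun T x y hxy => by
    rw [← cancel_mono iA, Category.assoc, Category.assoc, ha, Category.assoc, reassoc_of% hxy]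
  haveI := hp.over_epi
  exact ⟨a', by rw [← cancel_epi p, reassoc_of% ha', ha, Category.assoc]⟩

theorem exists_factor_of_stalks [Mono iA] [LocallyOfFinitePresentation iA.left] {Y : Over S} (b : Y ⟶ B)
    (h : ∀ z : Y.left, ∃ l, l ≫ iA.left = Y.left.fromSpecStalk z ≫ (b ≫ iB).left) :
    ∃ a : Y ⟶ A, a ≫ iA = b ≫ iB := by
  obtain ⟨l, hl⟩ := exists_lift_of_stalks iA.left (b ≫ iB).left h
  have hw : l ≫ A.hom = Y.hom := by
    have h := congrArg (fun m => m ≫ G.hom) hl
    simp only [Category.assoc, Over.w] at h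
    exact h
  exact ⟨Over.homMk l hw, Over.OverMorphism.ext hl⟩

variable (iA iB)

/-- The locus where `B` lies in `A` is clopen, and `B` lies in `A` over it. -/
theorem main [Mono iA] [LocallyOfFinitePresentation iA.left] [IsSeparated G.hom]
    (hA : SGA3x.IsMultTypeFT A) (hB : SGA3x.IsMultTypeFT B)
    (hcent : (∀ (Y : Over S) (g : Y ⟶ G) (a : Y ⟶ A), g * (a ≫ iA) = (a ≫ iA) * g) ∨
      ∀ (Y : Over S) (g : Y ⟶ G) (b : Y ⟶ B), g * (b ≫ iB) = (b ≫ iB) * g)
    (hfin : IsLocallyNoetherian S ∨ LocallyOfFiniteType G.hom) :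
    ∃ U : S.Opens, IsClosed (U : Set S) ∧ (∀ s : S, s ∈ U ↔ Le iA iB (S.fromSpecResidueField s)) ∧
      Le iA iB U.ι := by
  classical
  obtain ⟨K, k, hkc, hkfp, hk⟩ := exists_agree iA iB
  haveI : LocallyOfFinitePresentation k := hkfp (hfin.imp
    (fun h => ⟨h, MultTypeLft.lft hA, MultTypeLft.lft hB⟩) id)
  obtain ⟨SA, fA, hAflat, hAsurj, hAqc, hAloc⟩ := hA
  obtain ⟨SB, fB, hBflat, hBsurj, hBqc, hBloc⟩ := hB
  have hcA : FpqcDescLib.Covers fA :=
    FpqcDescLib.covers_of_hcov fA ⟨SA, fA, 𝟙 _, Category.id_comp _, hAsurj, hAflat, hAqc⟩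
  have hcB : FpqcDescLib.Covers fB :=
    FpqcDescLib.covers_of_hcov fB ⟨SB, fB, 𝟙 _, Category.id_comp _, hBsurj, hBflat, hBqc⟩
  let P := pullback fA fB
  let f : P ⟶ S := pullback.fst fA fB ≫ fA
  have hcP : FpqcDescLib.Covers (pullback.fst fA fB) :=
    hcB.pullback fA _ (pullback.snd fA fB) (IsPullback.of_hasPullback fA fB)
  have hopen : ∀ s : Set S, IsOpen (f ⁻¹' s) → IsOpen s := fun s hs =>
    isOpen_of_covers hcA (isOpen_of_covers hcP (by
      have he : pullback.fst fA fB ⁻¹' (fA ⁻¹' s) = f ⁻¹' s := Set.ext fun z => by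
        show fA (pullback.fst fA fB z) ∈ s ↔ f z ∈ s
        rw [← Scheme.Hom.comp_apply]
      rw [he]; exact hs))
  -- pieces
  have hpiece : ∀ z : P, ∃ (R : CommRingCat.{u}) (j : Spec R ⟶ P) (E : Set (PrimeSpectrum R)),
      IsOpenImmersion j ∧ z ∈ Set.range j ∧ IsClopen E ∧
      (∀ p : PrimeSpectrum R, (∀ (T : Type u) [CommRing T] [Algebra R T] (_ : p.asIdeal.ResidueField →ₐ[R] T)
          (b : sp (j ≫ f) T ⟶ B), ∃ a : sp (j ≫ f) T ⟶ A, a ≫ iA = b ≫ iB) → p ∈ E) ∧
      (∀ (T : Type u) [CommRing T] [IsLocalRing T] [Algebra R T],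
        PrimeSpectrum.comap (algebraMap R T) (IsLocalRing.closedPoint T) ∈ E →
        ∀ b : sp (j ≫ f) T ⟶ B, ∃ a : sp (j ≫ f) T ⟶ A, a ≫ iA = b ≫ iB) := by
    intro z
    obtain ⟨UA, hzA, MA, iMA, -, ⟨eA⟩⟩ := hAloc (pullback.fst fA fB z)
    obtain ⟨UB, hzB, MB, iMB, -, ⟨eB⟩⟩ := hBloc (pullback.snd fA fB z)
    obtain ⟨V, hV, hzV, -⟩ := exists_isAffineOpen_mem_and_subset (show f z ∈ (⊤ : S.Opens) from trivial)
    obtain ⟨W, hW, hzW, hWle⟩ := exists_isAffineOpen_mem_and_subset
      (show z ∈ pullback.fst fA fB ⁻¹ᵁ UA ⊓ pullback.snd fA fB ⁻¹ᵁ UB ⊓ f ⁻¹ᵁ V from ⟨⟨hzA, hzB⟩, hzV⟩)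
    have hmem : ∀ r, hW.fromSpec r ∈ W := fun r => by rw [← SetLike.mem_coe, ← hW.range_fromSpec]; exact ⟨r, rfl⟩
    have hrA : Set.range (hW.fromSpec ≫ pullback.fst fA fB) ⊆ Set.range UA.ι := by
      rintro _ ⟨r, rfl⟩
      rw [Scheme.Opens.range_ι]
      exact (hWle (hmem r)).1.1
    have hrB : Set.range (hW.fromSpec ≫ pullback.snd fA fB) ⊆ Set.range UB.ι := by
      rintro _ ⟨r, rfl⟩
      rw [Scheme.Opens.range_ι]
      exact (hWle (hmem r)).1.2
    obtain ⟨χA, hAnat, hAmul, hAbij⟩ := SubgroupFactor.exists_char (β := hW.fromSpec ≫ f) (UA.ι ≫ fA) eA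
      (IsOpenImmersion.lift UA.ι _ hrA) (by rw [IsOpenImmersion.lift_fac_assoc, Category.assoc])
    obtain ⟨χB, hBnat, hBmul, hBbij⟩ := SubgroupFactor.exists_char (β := hW.fromSpec ≫ f) (UB.ι ≫ fB) eB
      (IsOpenImmersion.lift UB.ι _ hrB) (by
        rw [IsOpenImmersion.lift_fac_assoc, Category.assoc]
        exact congrArg (hW.fromSpec ≫ ·) pullback.condition.symm)
    obtain ⟨E, hE, h1, h2⟩ := exists_piece iA iB hcent χA hAnat hAmul hAbij χB hBnat hBmul hBbij hV
      (fun r => (hWle (hmem r)).2) k hk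
    refine ⟨_, hW.fromSpec, E, inferInstance, ?_, hE, h1, h2⟩
    rw [← SetLike.mem_coe, ← hW.range_fromSpec] at hzW
    exact hzW
  choose R j E hj hzj hE hE1 hE2 using hpiece
  -- stalkwise criterion
  have hle : ∀ {T : Scheme.{u}} (g : T ⟶ S),
      (∀ t : T, ∃ (z : P) (r : Spec (T.presheaf.stalk t) ⟶ Spec (R z)),
        r ≫ j z ≫ f = T.fromSpecStalk t ≫ g ∧ r (IsLocalRing.closedPoint (T.presheaf.stalk t)) ∈ E z) →
      Le iA iB g := by
    intro T g hg Y q b
    refine exists_factor_of_stalks b fun y => ?_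
    let O : Type u := Y.left.presheaf.stalk y
    haveI : IsLocalRing O := inferInstanceAs (IsLocalRing (Y.left.presheaf.stalk y))
    obtain ⟨z, r, hr, hrE⟩ := hg (q.left y)
    obtain ⟨τ, hτ⟩ : ∃ τ, Spec.map τ = Spec.map (q.left.stalkMap y) ≫ r := ⟨_, Spec.map_preimage _⟩
    letI : Algebra (R z) O := τ.hom.toAlgebra
    let t : sp (j z ≫ f) O ⟶ Y := Over.homMk (Y.left.fromSpecStalk y) (by
      show _ = Spec.map τ ≫ j z ≫ f
      have hs : Spec.map (q.left.stalkMap y) ≫ T.fromSpecStalk (q.left y) = Y.left.fromSpecStalk y ≫ q.left :=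
        Scheme.SpecMap_stalkMap_fromSpecStalk (x := y) q.left
      rw [hτ, Category.assoc, hr, ← Category.assoc]
      refine Eq.trans ?_ (congrArg (fun m => m ≫ g) hs).symm
      exact (congrArg (Y.left.fromSpecStalk y ≫ ·) (Over.w q).symm).trans (Category.assoc _ _ _).symm)
    obtain ⟨a, ha⟩ := hE2 z O (by
      show (Spec.map τ) (IsLocalRing.closedPoint O) ∈ E z
      rw [hτ, Scheme.Hom.comp_apply]
      have hcl : (Spec.map (q.left.stalkMap y)) (IsLocalRing.closedPoint O) = IsLocalRing.closedPoint _ :=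
        IsLocalRing.comap_closedPoint (q.left.stalkMap y).hom
      rw [hcl]
      exact hrE) (t ≫ b)
    refine ⟨a.left, ?_⟩
    rw [← Over.comp_left, ha, Category.assoc, Over.comp_left]
    rfl
  let L : Set S := {s | Le iA iB (S.fromSpecResidueField s)}
  have hfield : ∀ {F : Type u} [Field F] (b : Spec (CommRingCat.of F) ⟶ S),
      Le iA iB b ↔ Le iA iB (S.fromSpecResidueField (b (IsLocalRing.closedPoint F))) := fun {F} _ b => by
    conv_lhs => rw [← Scheme.descResidueField_stalkClosedPointTo_fromSpecResidueField F S b]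
    exact ⟨fun h => Le.of_covers _ (HomUnitLocus.covers_field _) h, fun h => h.comp _⟩
  have hmem : ∀ z (p : PrimeSpectrum (R z)), f (j z p) ∈ L ↔ p ∈ E z := by
    intro z p
    let κ := p.asIdeal.ResidueField
    let r : Spec (CommRingCat.of κ) ⟶ P := Spec.map (CommRingCat.ofHom (algebraMap (R z) κ)) ≫ j z
    have hpt : ∀ w : Spec (CommRingCat.of κ), r w = j z p := fun w => by
      rw [Scheme.Hom.comp_apply]
      congr 1
      refine PrimeSpectrum.ext ?_
      show Ideal.comap (algebraMap (R z) κ) w.asIdeal = p.asIdeal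
      have hw : w.asIdeal = ⊥ := (Ideal.eq_bot_or_top w.asIdeal).resolve_right w.isPrime.ne_top
      rw [hw, ← RingHom.ker_eq_comap_bot, Ideal.ker_algebraMap_residueField]
    have hb : (r ≫ f) (IsLocalRing.closedPoint κ) = f (j z p) := by rw [Scheme.Hom.comp_apply, hpt]
    show Le iA iB _ ↔ _
    rw [← hb, ← hfield (r ≫ f)]
    constructor
    · intro h
      refine hE1 z p fun T _ _ ψ b => ?_
      letI : Algebra κ T := ψ.toRingHom.toAlgebra
      refine h _ (Over.homMk (Spec.map (CommRingCat.ofHom ψ.toRingHom)) ?_) b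
      show Spec.map _ ≫ (Spec.map _ ≫ j z) ≫ f = Spec.map _ ≫ j z ≫ f
      rw [Category.assoc, ← Spec.map_comp_assoc, ← CommRingCat.ofHom_comp]
      congr 3
      exact ψ.comp_algebraMap
    · intro hp
      refine hle _ fun t => ⟨z, (Spec (CommRingCat.of κ)).fromSpecStalk t ≫
        Spec.map (CommRingCat.ofHom (algebraMap (R z) κ)), by simp only [r, Category.assoc], ?_⟩
      rw [Scheme.Hom.comp_apply, Scheme.fromSpecStalk_closedPoint]
      exact (congrArg (· ∈ E z) ((j z).isOpenEmbedding.injective (hpt t))).mpr hp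
  have hpre : ∀ z, f ⁻¹' L ∩ Set.range (j z) = j z '' E z := fun z => by
    ext x
    constructor
    · rintro ⟨hx, p, rfl⟩; exact ⟨p, (hmem z p).mp hx, rfl⟩
    · rintro ⟨p, hp, rfl⟩; exact ⟨(hmem z p).mpr hp, p, rfl⟩
  have hpre' : ∀ z, f ⁻¹' Lᶜ ∩ Set.range (j z) = j z '' (E z)ᶜ := fun z => by
    ext x
    constructor
    · rintro ⟨hx, p, rfl⟩; exact ⟨p, fun h => hx ((hmem z p).mpr h), rfl⟩
    · rintro ⟨p, hp, rfl⟩; exact ⟨fun h => hp ((hmem z p).mp h), p, rfl⟩
  have hcov : ∀ X : Set P, (∀ z, IsOpen (X ∩ Set.range (j z))) → IsOpen X := fun X hX => by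
    rw [show X = ⋃ z, X ∩ Set.range (j z) from Set.ext fun x =>
      ⟨fun hx => Set.mem_iUnion.mpr ⟨x, hx, hzj x⟩, fun hx => (Set.mem_iUnion.mp hx).choose_spec.1⟩]
    exact isOpen_iUnion hX
  have hL : IsOpen L := hopen L (hcov _ fun z => by
    rw [hpre]; exact (j z).isOpenEmbedding.isOpenMap _ (hE z).2)
  have hL' : IsOpen Lᶜ := hopen Lᶜ (hcov _ fun z => by
    rw [hpre']; exact (j z).isOpenEmbedding.isOpenMap _ (hE z).1.isOpen_compl)
  refine ⟨⟨L, hL⟩, ⟨hL'⟩, fun s => Iff.rfl, ?_⟩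
  let U0 : S.Opens := ⟨L, hL⟩
  refine Le.of_covers (pullback.fst U0.ι fA)
    (hcA.pullback U0.ι _ (pullback.snd U0.ι fA) (IsPullback.of_hasPullback _ _)) ?_
  refine Le.of_covers (pullback.fst (pullback.snd U0.ι fA) (pullback.fst fA fB))
    (hcP.pullback _ _ (pullback.snd _ _) (IsPullback.of_hasPullback _ _)) ?_
  let T := pullback (pullback.snd U0.ι fA) (pullback.fst fA fB)
  let pr : T ⟶ P := pullback.snd _ _
  have hg : pullback.fst (pullback.snd U0.ι fA) (pullback.fst fA fB) ≫ pullback.fst U0.ι fA ≫ U0.ι = pr ≫ f := by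
    rw [pullback.condition, pullback.condition_assoc]
  rw [hg]
  refine hle _ fun t => ?_
  have hrange : Set.range (T.fromSpecStalk t ≫ pr) ⊆ Set.range (j (pr t)) := by
    rintro _ ⟨w, rfl⟩
    have hw : T.fromSpecStalk t w ⤳ t := by
      have : T.fromSpecStalk t w ∈ Set.range (T.fromSpecStalk t) := ⟨w, rfl⟩
      rwa [Scheme.range_fromSpecStalk] at this
    exact (hw.map pr.continuous).mem_open (j (pr t)).isOpenEmbedding.isOpen_range (hzj (pr t))
  refine ⟨pr t, IsOpenImmersion.lift (j (pr t)) _ hrange, by rw [IsOpenImmersion.lift_fac_assoc, Category.assoc], ?_⟩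
  refine (hmem _ _).mp ?_
  have h := congrArg (fun m : Spec (T.presheaf.stalk t) ⟶ P => f (m (IsLocalRing.closedPoint (T.presheaf.stalk t))))
    (IsOpenImmersion.lift_fac (j (pr t)) _ hrange)
  simp only [Scheme.Hom.comp_apply, Scheme.fromSpecStalk_closedPoint] at h
  rw [h, ← Scheme.Hom.comp_apply, ← hg, Scheme.Hom.comp_apply, Scheme.Hom.comp_apply]
  exact Subtype.coe_prop _

end Global

end Groth.Agent.GModLib.EqLocusMono
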