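import Groth.Agent.GModLib.Translates

/-!
# Finitely many functions in one space of translates
-/

universe u

open CategoryTheory Limits AlgebraicGeometry MonoidalCategory CartesianMonoidalCategory MonObj GrpObj TensorProduct
open TopologicalSpace

set_option backward.isDefEq.respectTransparency false
set_option backward.isDefEq.respectTransparency.types false

namespace Groth.Agent.GModLib

open GrpSchLib GrpSchLib.Kunneth

variable {k : Type u} [Field k] {G : Over (Spec (CommRingCat.of k))} [GrpObj G] [QuasiCompact G.hom]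

set_option maxHeartbeats 1000000 in
/-- Finitely many functions, their translates, and the matrix of the translations. -/
theorem exists_matrix_family {α : Type*} [Finite α] (f : α → Fn G) :
    ∃ (n : ℕ) (M : Matrix (Fin n) (Fin n) (Fn G)) (w : Fin n → Fn G) (c : α → Fin n → k),
      IsRepMatrix M ∧ LinearIndependent k w ∧ (∀ a, ∑ j, c a j • w j = f a) ∧
      ∀ (T : Over (Spec (CommRingCat.of k))) (g h : T ⟶ G) (j : Fin n),
        ev (g * h) (w j) = ∑ i, ev g (w i) * ev h (M i j) := by
  classical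
  haveI := AntiAffine.isSeparated_grp G
  haveI : QuasiCompact (G ⊗ G).hom :=
    inferInstanceAs (QuasiCompact (pullback.fst G.hom G.hom ≫ G.hom))
  haveI : IsSeparated (G ⊗ G).hom :=
    inferInstanceAs (IsSeparated (pullback.fst G.hom G.hom ≫ G.hom))
  choose d M₀ w₀ c₀ _ _ hc₀ hE₀ using fun a => exists_matrix_vec (G := G) (f a)
  let V : Submodule k (Fn G) := Submodule.span k (Set.range fun p : Σ a, Fin (d a) => w₀ p.1 p.2)
  haveI : Module.Finite k V := Module.Finite.span_of_finite k (Set.finite_range _)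
  let n := Module.finrank k V
  let v := Module.finBasis k V
  let w : Fin n → Fn G := fun i => (v i : Fn G)
  have hw : LinearIndependent k w := v.linearIndependent.map' V.subtype (Submodule.ker_subtype V)
  have hexpV : ∀ x (hx : x ∈ V), x = ∑ i, v.repr ⟨x, hx⟩ i • w i := fun x hx => by
    have h3 := congrArg Subtype.val (v.sum_repr ⟨x, hx⟩)
    rw [Submodule.coe_sum] at h3
    exact h3.symm
  let S : Submodule k (Fn (G ⊗ G)) :=
    { carrier := {z | ∃ m : Fin n → Fn G, z = ∑ i, ev (fst G G) (w i) * ev (snd G G) (m i)}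
      add_mem' := by
        rintro _ _ ⟨m, rfl⟩ ⟨m', rfl⟩
        exact ⟨m + m', by simp [mul_add, Finset.sum_add_distrib]⟩
      zero_mem' := ⟨0, by simp⟩
      smul_mem' := by
        rintro r _ ⟨m, rfl⟩
        exact ⟨r • m, by simp [Finset.smul_sum]⟩ }
  have hVS : ∀ x ∈ V, ev (fst G G * snd G G) x ∈ S := by
    intro x hx
    induction hx using Submodule.span_induction with
    | mem x hx =>
      obtain ⟨⟨a, j⟩, rfl⟩ := hx
      rw [hE₀]
      refine S.sum_mem fun l _ => ?_
      have hal : w₀ a l ∈ V := Submodule.subset_span ⟨⟨a, l⟩, rfl⟩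
      refine ⟨fun i => v.repr ⟨w₀ a l, hal⟩ i • M₀ a l j, ?_⟩
      conv_lhs => rw [hexpV _ hal, map_sum, Finset.sum_mul]
      refine Finset.sum_congr rfl fun i _ => ?_
      simp
    | zero => rw [map_zero]; exact S.zero_mem
    | add x y _ _ hx hy => rw [map_add]; exact S.add_mem hx hy
    | smul r x _ hx => rw [map_smul]; exact S.smul_mem r hx
  choose M hM using fun j => hVS (w j) (v j).2
  let N : Matrix (Fin n) (Fin n) (Fn G) := fun i j => M j i
  have hN : ∀ (T : Over (Spec (CommRingCat.of k))) (g h : T ⟶ G) (j : Fin n),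
      ev (g * h) (w j) = ∑ i, ev g (w i) * ev h (N i j) := by
    intro T g h j
    have h1 := congrArg (ev (lift g h)) (hM j)
    rw [map_sum, ev_ev, MonObj.comp_mul, lift_fst, lift_snd] at h1
    rw [h1]
    exact Finset.sum_congr rfl fun l _ => by rw [map_mul, ev_ev, ev_ev, lift_fst, lift_snd]
  have hmulG : N.map (ev (fst G G * snd G G)) = N.map (ev (fst G G)) * N.map (ev (snd G G)) := by
    refine Matrix.ext fun i j => ?_
    let g := snd (G ⊗ G) G
    let p := fst (G ⊗ G) G
    have e1 := hN ((G ⊗ G) ⊗ G) g ((p ≫ fst G G) * (p ≫ snd G G)) j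
    have e2 := hN ((G ⊗ G) ⊗ G) (g * (p ≫ fst G G)) (p ≫ snd G G) j
    rw [_root_.mul_assoc, e1, ← MonObj.comp_mul] at e2
    simp only [hN, Finset.sum_mul, _root_.mul_assoc] at e2
    rw [Finset.sum_comm] at e2
    simp only [← Finset.mul_sum, ← ev_ev, ← map_mul, ← map_sum] at e2
    have key := indep (X := G ⊗ G) (Y := G) hw Finset.univ
      (fun i => ev (fst G G * snd G G) (N i j) - ∑ l, ev (fst G G) (N i l) * ev (snd G G) (N l j)) (by
        simp only [map_sub, sub_mul, Finset.sum_sub_distrib, sub_eq_zero]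
        refine (Finset.sum_congr rfl fun x _ => _root_.mul_comm _ _).trans (Eq.trans ?_ (Finset.sum_congr rfl fun x _ => _root_.mul_comm _ _))
        exact e2) i (Finset.mem_univ i)
    simpa [Matrix.mul_apply] using sub_eq_zero.1 key
  have hone0 : ∀ i j, ev (η[G]) (N i j) = if i = j then 1 else 0 := by
    choose r hr using fn_unit_const (k := k)
    intro i j
    have e1 := hN G (𝟙 G) (toUnit G ≫ η[G]) j
    rw [show toUnit G ≫ η[G] = (1 : G ⟶ G) from rfl, _root_.mul_one] at e1
    have e2 : ∀ i, ev (1 : G ⟶ G) (N i j) = algebraMap k (Fn G) (r (ev η[G] (N i j))) := fun i => by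
      show ev (toUnit G ≫ η[G]) _ = _
      rw [← ev_ev, ← hr (ev η[G] (N i j)), AlgHom.commutes, hr (ev η[G] (N i j))]
    simp only [e2, ev_id] at e1
    have e3 : ∑ i, (r (ev η[G] (N i j)) - if i = j then 1 else 0) • w i = 0 := by
      simp only [sub_smul, Finset.sum_sub_distrib, ite_smul, one_smul, zero_smul, Finset.sum_ite_eq', Finset.mem_univ,
        if_true, sub_eq_zero]
      refine Eq.trans ?_ e1.symm
      exact Finset.sum_congr rfl fun i _ => by rw [Algebra.smul_def, _root_.mul_comm]
    have := sub_eq_zero.1 (Fintype.linearIndependent_iff.1 hw _ e3 i)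
    rw [← hr (ev η[G] (N i j)), this]
    split_ifs <;> simp
  have hf : ∀ a, f a ∈ V := fun a => by
    rw [← hc₀ a]
    exact V.sum_mem fun j _ => V.smul_mem _ (Submodule.subset_span ⟨⟨a, j⟩, rfl⟩)
  refine ⟨n, N, w, fun a i => v.repr ⟨f a, hf a⟩ i, ⟨fun T g h => ?_, fun T => Matrix.ext fun i j => ?_⟩, hw,
    fun a => (hexpV _ (hf a)).symm, hN⟩
  · have := congrArg (fun A : Matrix (Fin n) (Fin n) (Fn (G ⊗ G)) => A.map (ev (lift g h))) hmulG
    simp only [Matrix.map_mul, Matrix.map_map] at this
    have q : ∀ p : G ⊗ G ⟶ G, ⇑(ev (lift g h)) ∘ ⇑(ev p) = ⇑(ev (lift g h ≫ p)) := fun p => rfl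
    simpa only [q, MonObj.comp_mul, lift_fst, lift_snd] using this
  · show ev (toUnit T ≫ η[G]) (N i j) = _
    rw [← ev_ev, hone0, Matrix.one_apply]
    split_ifs <;> simp

end Groth.Agent.GModLib
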