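import Groth.Agent.GModLib.SemiInvVec
import Groth.Agent.S11193

/-!
# Extending modules from observable subgroups
-/

universe u

open CategoryTheory Limits AlgebraicGeometry MonoidalCategory CartesianMonoidalCategory MonObj GrpObj TensorProduct
open TopologicalSpace

set_option backward.isDefEq.respectTransparency false
set_option backward.isDefEq.respectTransparency.types false

namespace Groth.Agent.GModLib

open GrpSchLib GrpSchLib.Kunneth

variable {k : Type u} [Field k] {G H : Over (Spec (CommRingCat.of k))} [GrpObj G] [GrpObj H]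
  {V : Type u} [AddCommGroup V] [Module k V]

/-- A rational point acting on the underlying space. -/
noncomputable def ptAct (σ : VecGrp.GMod H V) (h : VecGrp.pt k k ⟶ H) : V →ₗ[k] V :=
  (TensorProduct.lid k V).toLinearMap ∘ₗ (σ.ρ k h).toLinearMap ∘ₗ (TensorProduct.lid k V).symm.toLinearMap

theorem tmul_ptAct (σ : VecGrp.GMod H V) (h : VecGrp.pt k k ⟶ H) (v : V) :
    (1 : k) ⊗ₜ[k] ptAct σ h v = σ.ρ k h ((1 : k) ⊗ₜ[k] v) :=
  (TensorProduct.lid k V).injective (by simp [ptAct])

theorem ptAct_mul (σ : VecGrp.GMod H V) (g h : VecGrp.pt k k ⟶ H) (v : V) :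
    ptAct σ (g * h) v = ptAct σ g (ptAct σ h v) := by
  simp [ptAct, LinearEquiv.mul_apply]

theorem ptAct_one (σ : VecGrp.GMod H V) (v : V) : ptAct σ 1 v = v := by
  simp [ptAct]

variable [IsAlgClosed k] [IsAffine G.left] [Smooth G.hom] [Smooth H.hom] (i : H ⟶ G) [IsMonHom i]
  [IsClosedImmersion i.left] [Module.Finite k V]

set_option maxHeartbeats 1000000 in
/-- A functional on a module of an observable subgroup spreads to an equivariant map to functions. -/
theorem exists_equivariant (hobs : AGF.IsObservableIn k i) (σ : VecGrp.GMod H V) (lam : Module.Dual k V) :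
    ∃ Φ : V →ₗ[k] Fn G, (∀ v, pullFn (1 : VecGrp.pt k k ⟶ G) (Φ v) = lam v) ∧
      ∀ (v : V) (x : VecGrp.pt k k ⟶ G) (h : VecGrp.pt k k ⟶ H),
        pullFn (x * (h ≫ i)) (Φ v) = pullFn x (Φ (ptAct σ h v)) := by
  classical
  haveI : IsAffineHom G.hom := inferInstance
  haveI : IsReduced G.left := GrpSchLib.isReduced_of_smooth_field G.hom
  haveI : IsReduced H.left := GrpSchLib.isReduced_of_smooth_field H.hom
  -- coefficient functions on `H`
  let co : ∀ (B : Type u) [CommRing B] [Algebra k B], B ⊗[k] V →ₗ[B] B := fun B _ _ =>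
    (TensorProduct.AlgebraTensorModule.rid k B B).toLinearMap ∘ₗ lam.baseChange B
  have hco : ∀ {B B' : Type u} [CommRing B] [Algebra k B] [CommRing B'] [Algebra k B'] (e : B →ₐ[k] B')
      (x : B ⊗[k] V), e (co B x) = co B' (VecGrp.Wmap e x) := by
    intro B B' _ _ _ _ e x
    induction x using TensorProduct.induction_on with
    | zero => simp
    | tmul r y => simp [co]
    | add x y hx hy => simp only [map_add, hx, hy]
  choose coef hcoef using fun v => exists_fn (G := H) (fun B _ _ h => co B (σ.ρ B h ((1 : B) ⊗ₜ[k] v)))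
    (fun e h => by rw [hco, σ.naturality]; simp)
  have hcoefv : ∀ v (h : VecGrp.pt k k ⟶ H), pullFn h (coef v) = lam (ptAct σ h v) := fun v h => by
    rw [← hcoef, ← tmul_ptAct]
    simp [co]
  let coefL : V →ₗ[k] Fn H :=
    { toFun := coef
      map_add' := fun v w => eq_of_forall_point fun p => by simp only [map_add, hcoefv]
      map_smul' := fun r v => eq_of_forall_point fun p => by simp only [map_smul, hcoefv, RingHom.id_apply] }
  have hlift : ∀ v, ∃ F : Fn G, ev i F = coef v := fun v =>
    (AlgebraicGeometry.IsClosedImmersion.isAffine_surjective_of_isAffine i.left).2 (coef v)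
  let bV := Module.finBasis k V
  choose F hF using fun j => hlift (bV j)
  -- a stable space of functions containing the lifts
  obtain ⟨n, M, w, cF, hM, hw, hcF, hE⟩ := exists_matrix_family (G := G) F
  let T : (Fin n → k) →ₗ[k] Fn G := Fintype.linearCombination k w
  have hT : ∀ (c : Fin n → k) (x y : VecGrp.pt k k ⟶ G),
      pullFn (x * y) (T c) = pullFn x (T ((M.map (pullFn y)).mulVec c)) := by
    intro c x y
    have e : ∀ j, pullFn (x * y) (w j) = ∑ i, pullFn x (w i) * pullFn y (M i j) := fun j => by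
      have := congrArg (fun z => (Scheme.ΓSpecIso (CommRingCat.of k)).hom z) (hE _ x y j)
      simp only [map_sum, map_mul] at this
      exact this
    simp only [T, Fintype.linearCombination_apply, map_sum, map_smul, e, smul_eq_mul, Matrix.mulVec, dotProduct,
      Matrix.map_apply, Finset.mul_sum, Finset.sum_mul]
    rw [Finset.sum_comm]
    refine Finset.sum_congr rfl fun i _ => Finset.sum_congr rfl fun j _ => ?_
    ring
  let res : (Fin n → k) →ₗ[k] Fn H := (ev i).toLinearMap ∘ₗ T
  let Mh : (VecGrp.pt k k ⟶ H) → (Fin n → k) →ₗ[k] (Fin n → k) := fun h => (M.map (pullFn (h ≫ i))).mulVecLin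
  have hres : ∀ (c : Fin n → k) (g h : VecGrp.pt k k ⟶ H),
      pullFn g (res (Mh h c)) = pullFn (g * h) (res c) := fun c g h => by
    simp only [res, Mh, LinearMap.comp_apply, AlgHom.toLinearMap_apply, pullFn_ev, Matrix.mulVecLin_apply,
      MonObj.mul_comp, hT]
  let Ψ : V →ₗ[k] (Fin n → k) := bV.constr k cF
  have hΨ : ∀ v, res (Ψ v) = coef v := by
    intro v
    refine LinearMap.congr_fun (show res ∘ₗ Ψ = coefL from bV.ext fun j => ?_) v
    show res (Ψ (bV j)) = coef (bV j)
    simp only [Ψ, Module.Basis.constr_basis, res, LinearMap.comp_apply, AlgHom.toLinearMap_apply, T,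
      Fintype.linearCombination_apply, hcF, hF]
  let U : Submodule k (Fin n → k) := LinearMap.ker res
  have hU : ∀ h c, c ∈ U → Mh h c ∈ U := fun h c hc => by
    refine eq_of_forall_point fun g => ?_
    rw [hres, show res c = 0 from hc]
    simp
  have hdiff : ∀ h v, Mh h (Ψ v) - Ψ (ptAct σ h v) ∈ U := fun h v => by
    show res _ = 0
    rw [map_sub, sub_eq_zero]
    refine eq_of_forall_point fun g => ?_
    rw [hres, hΨ, hΨ, hcoefv, hcoefv, ptAct_mul]
  -- coordinates
  let u := Module.finrank k U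
  let eU := Module.finBasis k U
  let ecol : Fin u → (Fin n → k) := fun a => (eU a : Fin n → k)
  obtain ⟨Linv, hLinv⟩ := LinearMap.exists_leftInverse_of_injective U.subtype U.ker_subtype
  let mu0 : Module.Dual k (Fin n → k) := (pullFn (1 : VecGrp.pt k k ⟶ H)).toLinearMap ∘ₗ res
  let P : Fin (u + 1) → Module.Dual k (Fin n → k) := Fin.cons mu0 fun a => eU.coord a ∘ₗ Linv
  have hPe : ∀ a b, P (Fin.succ b) (ecol a) = if a = b then 1 else 0 := fun a b => by
    simp only [P, Fin.cons_succ, LinearMap.comp_apply, ecol,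
      show Linv (eU a : Fin n → k) = eU a from LinearMap.congr_fun hLinv (eU a), Module.Basis.coord_apply,
      Module.Basis.repr_self, Finsupp.single_apply]
  have hP0 : ∀ a, P 0 (ecol a) = 0 := fun a => by
    show pullFn _ (res (eU a : Fin n → k)) = 0
    rw [show res (eU a : Fin n → k) = 0 from (eU a).2, map_zero]
  let L : (Fin n → k) →ₗ[k] (Fin (u + 1) → Fn G) :=
    LinearMap.pi fun r => ∑ q, P r (Pi.single q 1) • Fintype.linearCombination k (fun j => M q j)
  have hL : ∀ (c : Fin n → k) (x : VecGrp.pt k k ⟶ G) (r : Fin (u + 1)),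
      pullFn x (L c r) = P r ((M.map (pullFn x)).mulVec c) := by
    intro c x r
    conv_rhs => rw [pi_eq_sum_univ' ((M.map (pullFn x)).mulVec c)]
    simp only [L, LinearMap.pi_apply, LinearMap.sum_apply, Finset.sum_apply, LinearMap.smul_apply, map_sum, map_smul,
      Fintype.linearCombination_apply, Matrix.mulVec, dotProduct, Matrix.map_apply, smul_eq_mul, Finset.mul_sum,
      Finset.sum_mul]
    exact Finset.sum_congr rfl fun q _ => Finset.sum_congr rfl fun j _ => by ring
  have hL1 : ∀ (c : Fin n → k) (r : Fin (u + 1)), pullFn (1 : VecGrp.pt k k ⟶ G) (L c r) = P r c := fun c r => by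
    rw [hL]
    congr 1
    have h1 : M.map (pullFn (1 : VecGrp.pt k k ⟶ G)) = 1 := by
      refine Matrix.ext fun a b => ?_
      rw [Matrix.map_apply, pullFn_apply]
      have := congrArg (fun A => (Scheme.ΓSpecIso (CommRingCat.of k)).hom (A a b)) (hM.one (VecGrp.pt k k))
      simp only [Matrix.map_apply] at this
      rw [this, Matrix.one_apply, Matrix.one_apply]
      split_ifs <;> simp
    rw [h1, Matrix.one_mulVec]
  have hLmul : ∀ (c : Fin n → k) (x : VecGrp.pt k k ⟶ G) (h : VecGrp.pt k k ⟶ H) (r : Fin (u + 1)),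
      pullFn (x * (h ≫ i)) (L c r) = pullFn x (L (Mh h c) r) := fun c x h r => by
    rw [hL, hL]
    congr 1
    show _ = (M.map (pullFn x)).mulVec ((M.map (pullFn (h ≫ i))).mulVec c)
    rw [Matrix.mulVec_mulVec]
    congr 1
    refine Matrix.ext fun a b => ?_
    have := congrArg (fun A => (Scheme.ΓSpecIso (CommRingCat.of k)).hom (A a b)) (hM.mul _ x (h ≫ i))
    simp only [Matrix.map_apply, Matrix.mul_apply, map_sum, map_mul] at this ⊢
    exact this
  -- the minors
  let A : (VecGrp.pt k k ⟶ H) → Matrix (Fin u) (Fin u) k := fun h =>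
    Matrix.of fun a b => eU.repr ⟨Mh h (ecol a), hU h _ (eU a).2⟩ b
  have hA : ∀ h a, Mh h (ecol a) = ∑ b, A h a b • ecol b := fun h a => by
    have h3 := congrArg Subtype.val (eU.sum_repr ⟨Mh h (ecol a), hU h _ (eU a).2⟩)
    rw [Submodule.coe_sum] at h3
    exact h3.symm
  let f₀ : Fn G := Matrix.det (Matrix.of fun a b : Fin u => L (ecol a) b.succ)
  have hf₀1 : pullFn (1 : VecGrp.pt k k ⟶ G) f₀ = 1 := by
    rw [AlgHom.map_det, ← Matrix.det_one (n := Fin u) (R := k)]
    congr 1
    refine Matrix.ext fun a b => ?_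
    simp only [AlgHom.mapMatrix_apply, Matrix.map_apply, Matrix.of_apply, hL1, hPe, Matrix.one_apply]
  have hf₀w : ∀ x h, pullFn (x * (h ≫ i)) f₀ = (A h).det * pullFn x f₀ := fun x h => by
    simp only [f₀, AlgHom.map_det, ← Matrix.det_mul]
    congr 1
    refine Matrix.ext fun a b => ?_
    simp only [AlgHom.mapMatrix_apply, Matrix.map_apply, Matrix.of_apply, hLmul, hA, map_sum, map_smul,
      Finset.sum_apply, Pi.smul_apply, Matrix.mul_apply, smul_eq_mul]
  obtain ⟨g, hg1, hg⟩ := exists_inverse_weight i hobs (fun h => (A h).det) f₀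
    (fun h => one_ne_zero (hf₀1.symm.trans (by rw [h, map_zero]))) hf₀w
  let Fd : (Fin n → k) →ₗ[k] Fn G :=
    { toFun := fun c => Matrix.detRowAlternating (Fin.cons (L c) (fun a => L (ecol a)))
      map_add' := fun c c' => by
        rw [map_add]
        exact (Matrix.detRowAlternating.toMultilinearMap).cons_add _ _ _
      map_smul' := fun r c => by
        rw [map_smul, RingHom.id_apply, ← algebraMap_smul (Fn G) r (L c), ← algebraMap_smul (Fn G) r
          (Matrix.detRowAlternating (Fin.cons (L c) fun a => L (ecol a)))]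
        exact (Matrix.detRowAlternating.toMultilinearMap).cons_smul _ _ _ }
  have hFd : ∀ c, Fd c = Matrix.det (Matrix.of (Fin.cons (L c) (fun a => L (ecol a)))) := fun c => rfl
  have hFdU : ∀ c ∈ U, Fd c = 0 := by
    have hb : ∀ a, Fd (ecol a) = 0 := fun a => by
      rw [hFd]
      refine Matrix.det_zero_of_row_eq (i := 0) (j := a.succ) (Fin.succ_ne_zero a).symm ?_
      show (Fin.cons (L (ecol a)) (fun b => L (ecol b)) : Fin (u + 1) → Fin (u + 1) → Fn G) 0 =
        (Fin.cons (L (ecol a)) (fun b => L (ecol b)) : Fin (u + 1) → Fin (u + 1) → Fn G) a.succ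
      rw [Fin.cons_zero, Fin.cons_succ]
    intro c hc
    have h3 := congrArg Subtype.val (eU.sum_repr ⟨c, hc⟩)
    rw [Submodule.coe_sum] at h3
    have h4 : c = ∑ a, (eU.repr ⟨c, hc⟩ a • eU a : U).1 := h3.symm
    rw [h4, map_sum]
    exact Finset.sum_eq_zero fun a _ => by rw [SetLike.val_smul, map_smul, hb, smul_zero]
  have hFd1 : ∀ c, pullFn (1 : VecGrp.pt k k ⟶ G) (Fd c) = P 0 c := fun c => by
    rw [hFd, AlgHom.map_det, Matrix.det_succ_column_zero, Finset.sum_eq_single 0]
    · have hsub : (((pullFn (1 : VecGrp.pt k k ⟶ G)).mapMatrix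
          (Matrix.of (Fin.cons (L c) fun a => L (ecol a)))).submatrix (Fin.succAbove 0) Fin.succ) = 1 := by
        refine Matrix.ext fun a b => ?_
        simp [hL1, hPe, Matrix.one_apply]
      rw [hsub, Matrix.det_one]
      simp [hL1]
    · intro r _ hr
      obtain ⟨a, rfl⟩ := Fin.exists_succ_eq.mpr hr
      simp [hL1, hP0]
    · simp
  have hFdw : ∀ c x h, pullFn (x * (h ≫ i)) (Fd c) = (A h).det * pullFn x (Fd (Mh h c)) := fun c x h => by
    let A' : Matrix (Fin (u + 1)) (Fin (u + 1)) k :=
      Matrix.of (Fin.cons (Pi.single 0 1) fun a => Fin.cons 0 (A h a))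
    have hA' : A'.det = (A h).det := by
      rw [Matrix.det_succ_row_zero, Finset.sum_eq_single 0]
      · rw [show A'.submatrix Fin.succ (Fin.succAbove 0) = A h from Matrix.ext fun a b => by simp [A']]
        simp [A']
      · intro r _ hr
        simp [A', hr]
      · simp
    rw [hFd, hFd, AlgHom.map_det, AlgHom.map_det, ← hA', ← Matrix.det_mul]
    congr 1
    refine Matrix.ext fun r s => ?_
    rw [Matrix.mul_apply, Fin.sum_univ_succ]
    refine Fin.cases ?_ (fun a => ?_) r
    · simp [A', hLmul]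
    · simp [A', hLmul, hA, Finset.sum_apply]
  refine ⟨(LinearMap.mulRight k g) ∘ₗ Fd ∘ₗ Ψ, fun v => ?_, fun v x h => ?_⟩
  · simp only [LinearMap.comp_apply, LinearMap.mulRight_apply, map_mul, hFd1, hg1, _root_.mul_one]
    show pullFn _ (res (Ψ v)) = lam v
    rw [hΨ, hcoefv, ptAct_one]
  · simp only [LinearMap.comp_apply, LinearMap.mulRight_apply, map_mul, hFdw]
    have h0 := hFdU _ (hdiff h v)
    rw [map_sub, sub_eq_zero] at h0
    rw [h0, mul_comm ((A h).det), _root_.mul_assoc, hg]

end Groth.Agent.GModLib
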