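import Groth.Agent.GModLib.NeutralClosedLocal
import Groth.Agent.MultTypeLib.ConnCrit
import Groth.Agent.MultTypeLib.LocalToGlobal
import Groth.Agent.MultTypeLib.NilLift
import Mathlib.AlgebraicGeometry.AlgClosed.Basic

/-!
# A split torus étale locally near a torus fibre
-/

set_option autoImplicit false
set_option linter.style.haveILetI false
set_option backward.isDefEq.respectTransparency false
set_option backward.isDefEq.respectTransparency.types false

universe u

open CategoryTheory CategoryTheory.Limits MonoidalCategory CartesianMonoidalCategory MonObj GrpObj AlgebraicGeometry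
open scoped TensorProduct

namespace Groth.Agent.GModLib

open GrpSchLib.AffineHopf

/-- Points of an étale scheme over a geometric point. -/
theorem exists_point_over_geometric {S E : Scheme.{u}} (v : E ⟶ S) [LocallyOfFiniteType v] {k : Type u} [Field k]
    [IsAlgClosed k] (σ : Spec (CommRingCat.of k) ⟶ S) (q : E) (hq : v q = σ (IsLocalRing.closedPoint k)) :
    ∃ τ : Spec (CommRingCat.of k) ⟶ E, τ ≫ v = σ := by
  let f : pullback v σ ⟶ Spec (CommRingCat.of k) := pullback.snd v σ
  haveI : LocallyOfFiniteType f := inferInstanceAs (LocallyOfFiniteType (pullback.snd v σ))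
  obtain ⟨z, -, -⟩ := Scheme.Pullback.exists_preimage_pullback (f := v) (g := σ) q (IsLocalRing.closedPoint k) hq
  haveI : JacobsonSpace ↥(pullback v σ) := LocallyOfFiniteType.jacobsonSpace f
  obtain ⟨x, -, hx⟩ := nonempty_inter_closedPoints (Z := Set.univ) ⟨z, trivial⟩ isClosed_univ.isLocallyClosed
  refine ⟨pointOfClosedPoint f x hx ≫ pullback.fst v σ, ?_⟩
  rw [Category.assoc, pullback.condition, pointOfClosedPoint_comp_assoc]

/-- A torus fibre of an affine group splits over a bigger field. -/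
theorem exists_split_fibre {R A : Type u} [CommRing R] [CommRing A] [HopfAlgebra R A] {k : Type u} [Field k]
    (φ : R →+* k) (h : Red.IsTorus (Red.bc (Spec.map (CommRingCat.ofHom φ)) (sp R A))) :
    ∃ (K : Type u) (_ : Field K) (_ : Algebra R K) (r : ℕ), RingHom.ker (algebraMap R K) = RingHom.ker φ ∧
      Nonempty (K ⊗[R] A ≃ₐc[K] MonoidAlgebra K (ULift.{u} (Multiplicative (Fin r → ℤ)))) := by
  obtain ⟨K, _, _, ψ, r, ⟨e⟩⟩ := TorusBilin.exists_split h
  let _ : Algebra R K := (ψ.comp φ).toAlgebra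
  refine ⟨K, inferInstance, inferInstance, r, RingHom.ker_comp_of_injective φ ψ.injective, ?_⟩
  obtain ⟨e₁⟩ := GrpSchLib.MultTypeBC.bc_bc (Spec.map (CommRingCat.ofHom ψ)) (Spec.map (CommRingCat.ofHom φ)) (sp R A)
  obtain ⟨e₂⟩ := GrpSchLib.MultTypeBC.bc_congr
    (show Spec.map (CommRingCat.ofHom ψ) ≫ Spec.map (CommRingCat.ofHom φ) =
      Spec.map (CommRingCat.ofHom (algebraMap R K)) by rw [← Spec.map_comp]; rfl) (sp R A)
  obtain ⟨e₃⟩ := nonempty_bc_sp (R := R) K A
  obtain ⟨d⟩ := MultConjLib.exists_bialgEquiv (e.symm.trans (e₁.trans (e₂.trans e₃)))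
  exact ⟨d.trans (MonoidAlgebra.domCongrBialgEquiv K K MulEquiv.ulift.symm)⟩

/-- Two splittings at field valued points over the same prime have the same exponents. -/
theorem exists_mulEquiv_of_kernel {R A : Type u} [CommRing R] [CommRing A] [HopfAlgebra R A] (p : Ideal R) [p.IsPrime]
    (K₁ K₂ : Type u) [Field K₁] [Field K₂] [Algebra R K₁] [Algebra R K₂] (h₁ : RingHom.ker (algebraMap R K₁) = p)
    (h₂ : RingHom.ker (algebraMap R K₂) = p) {M N : Type u} [CommGroup M] [CommGroup N]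
    (e₁ : K₁ ⊗[R] A ≃ₐc[K₁] MonoidAlgebra K₁ M) (e₂ : K₂ ⊗[R] A ≃ₐc[K₂] MonoidAlgebra K₂ N) :
    Nonempty (M ≃* N) := by
  have hu : ∀ (K : Type u) [Field K] [Algebra R K], RingHom.ker (algebraMap R K) = p →
      p.primeCompl ≤ (IsUnit.submonoid K).comap (algebraMap R K) := fun K _ _ h x hx =>
    isUnit_iff_ne_zero.mpr fun h0 => hx (h ▸ h0)
  let κ := p.ResidueField
  let _ : Algebra κ K₁ := (Ideal.ResidueField.lift p (algebraMap R K₁) h₁.ge (hu K₁ h₁)).toAlgebra
  let _ : Algebra κ K₂ := (Ideal.ResidueField.lift p (algebraMap R K₂) h₂.ge (hu K₂ h₂)).toAlgebra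
  have : IsScalarTower R κ K₁ :=
    IsScalarTower.of_algebraMap_eq fun x => (Ideal.ResidueField.lift_algebraMap p _ h₁.ge (hu K₁ h₁) x).symm
  have : IsScalarTower R κ K₂ :=
    IsScalarTower.of_algebraMap_eq fun x => (Ideal.ResidueField.lift_algebraMap p _ h₂.ge (hu K₂ h₂) x).symm
  let d₁ : K₁ ⊗[κ] (κ ⊗[R] A) ≃ₐc[K₁] MonoidAlgebra K₁ M := (MultTypeLib.baseChangeTrans (R := R) κ K₁ A).symm.trans e₁
  let d₂ : K₂ ⊗[κ] (κ ⊗[R] A) ≃ₐc[K₂] MonoidAlgebra K₂ N := (MultTypeLib.baseChangeTrans (R := R) κ K₂ A).symm.trans e₂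
  have : Module.Flat κ K₁ := inferInstance
  have : Module.Flat κ K₂ := inferInstance
  obtain ⟨σ⟩ := (MultTypeLib.splitOfEquiv (R := κ) (A := κ ⊗[R] A) K₁ d₁).exists_mulEquiv
    (MultTypeLib.splitOfEquiv (R := κ) (A := κ ⊗[R] A) K₂ d₂) (inferInstanceAs (Nontrivial (K₁ ⊗[κ] K₂)))
  exact ⟨σ⟩

/-- Fibres of a group with connected fibres at field valued points. -/
theorem connectedSpace_bc_field {S : Scheme.{u}} {G : Over S} [GrpObj G] [LocallyOfFiniteType G.hom]
    [QuasiCompact G.hom] (hconn : ∀ s : S, _root_.IsConnected (G.hom.base ⁻¹' {s})) {K : Type u} [Field K]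
    (g : Spec (CommRingCat.of K) ⟶ S) : ConnectedSpace (Red.bc g G).left := by
  let α : Spec (CommRingCat.of (AlgebraicClosure K)) ⟶ Spec (CommRingCat.of K) :=
    Spec.map (CommRingCat.ofHom (algebraMap K (AlgebraicClosure K)))
  haveI : Surjective α := ⟨fun x => ⟨IsLocalRing.closedPoint _, Subsingleton.elim _ _⟩⟩
  haveI := connectedSpace_bc_point hconn g α
  haveI : Surjective (pullback.fst (Red.bc g G).hom α) := inferInstance
  haveI : ConnectedSpace ↥(pullback (Red.bc g G).hom α) := ‹ConnectedSpace (Red.bc α (Red.bc g G)).left›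
  exact (Surjective.surj (f := pullback.fst (Red.bc g G).hom α)).connectedSpace
    (pullback.fst (Red.bc g G).hom α).continuous

/-- Connected fibres, algebraically. -/
theorem connectedSpace_tensor_field {R A : Type u} [CommRing R] [CommRing A] [HopfAlgebra R A]
    {N : Over (Spec (CommRingCat.of R))} [GrpObj N] [LocallyOfFiniteType N.hom] [QuasiCompact N.hom]
    (hconn : ∀ s, _root_.IsConnected (N.hom.base ⁻¹' {s})) (e : Grp.mk (sp R A) ≅ Grp.mk N)
    (L K : Type u) [CommRing L] [Field K] [Algebra R L] [Algebra L K] [Algebra R K] [IsScalarTower R L K] :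
    ConnectedSpace (PrimeSpectrum (K ⊗[L] (L ⊗[R] A))) := by
  let g := Spec.map (CommRingCat.ofHom (algebraMap R K))
  haveI := connectedSpace_bc_field hconn g
  obtain ⟨d₁⟩ := GrpSchLib.MultTypeBC.bc_iso g e
  obtain ⟨d₂⟩ := nonempty_bc_sp (R := R) K A
  let d : (Red.bc g N).left ≅ (sp K (K ⊗[R] A)).left :=
    (Over.forget _).mapIso ((Grp.forget _).mapIso (d₁.symm.trans d₂))
  haveI h1 : ConnectedSpace (PrimeSpectrum (K ⊗[R] A)) :=
    d.hom.homeomorph.surjective.connectedSpace d.hom.homeomorph.continuous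
  let d' := (MultTypeLib.baseChangeTrans (R := R) L K A : K ⊗[R] A ≃ₐ[K] K ⊗[L] (L ⊗[R] A))
  exact (PrimeSpectrum.homeomorphOfRingEquiv d'.toRingEquiv).surjective.connectedSpace
    (PrimeSpectrum.homeomorphOfRingEquiv d'.toRingEquiv).continuous

variable {R : Type u} [CommRing R]

/-- A set closed over the local ring, which is a finite union of standard opens, is closed over a neighbourhood. -/
theorem exists_closed_away {A : Type u} [CommRing A] [Algebra R A] (p : Ideal R) [p.IsPrime] (s : Finset A)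
    (N : Set (PrimeSpectrum A)) (hN : N = ⋃ a ∈ s, (PrimeSpectrum.basicOpen a : Set (PrimeSpectrum A)))
    (hc : IsClosed (PrimeSpectrum.comap (Algebra.TensorProduct.includeRight :
      A →ₐ[R] Localization.AtPrime p ⊗[R] A).toRingHom ⁻¹' N)) :
    ∃ f ∉ p, ∃ c : A, ∀ z : PrimeSpectrum A, algebraMap R A f ∉ z.asIdeal → (z ∈ N ↔ c ∈ z.asIdeal) := by
  classical
  let q : A →ₐ[R] Localization.AtPrime p ⊗[R] A := Algebra.TensorProduct.includeRight
  have hq : ∀ y, ∃ t ∉ p, ∃ x, t • y = q x := fun y => by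
    obtain ⟨⟨x, t⟩, ht⟩ := IsLocalizedModule.surj p.primeCompl (TensorProduct.mk R (Localization.AtPrime p) A 1) y
    exact ⟨t, t.2, x, ht⟩
  have hq0 : ∀ x, q x = 0 → ∃ t ∉ p, algebraMap R A t * x = 0 := fun x hx => by
    obtain ⟨⟨t, ht⟩, h⟩ := (IsLocalizedModule.eq_zero_iff p.primeCompl
      (TensorProduct.mk R (Localization.AtPrime p) A 1)).mp hx
    exact ⟨t, ht, by rw [← Algebra.smul_def]; exact h⟩
  obtain ⟨I, hI⟩ := (PrimeSpectrum.isClosed_iff_zeroLocus_ideal _).mp hc
  have hmem : ∀ w : PrimeSpectrum (Localization.AtPrime p ⊗[R] A),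
      I ≤ w.asIdeal ↔ ∃ a ∈ s, q a ∉ w.asIdeal := fun w => by
    have h := Set.ext_iff.mp hI w
    rw [PrimeSpectrum.mem_zeroLocus] at h
    refine h.symm.trans ?_
    rw [Set.mem_preimage, hN, Set.mem_iUnion₂]
    simp [q]
  have htop : I ⊔ Ideal.span (q '' s) = ⊤ := by
    by_contra hne
    obtain ⟨m, hm, hle⟩ := Ideal.exists_le_maximal _ hne
    rw [sup_le_iff] at hle
    obtain ⟨a, ha, ha'⟩ := (hmem ⟨m, hm.isPrime⟩).mp hle.1
    exact ha' (hle.2 (Ideal.subset_span ⟨a, ha, rfl⟩))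
  obtain ⟨c₀, hc₀, y, hy, hcy⟩ := Submodule.mem_sup.mp (htop.symm ▸ Submodule.mem_top :
    (1 : Localization.AtPrime p ⊗[R] A) ∈ I ⊔ Ideal.span (q '' s))
  obtain ⟨t₀, ht₀, c, hc⟩ := hq c₀
  -- the products vanish
  have hprod : ∀ a ∈ s, ∃ n : ℕ, ∃ t ∉ p, algebraMap R A t * (c * a) ^ n = 0 := fun a ha => by
    have hnil : IsNilpotent (c₀ * q a) := by
      rw [nilpotent_iff_mem_prime]
      intro J hJ
      by_cases h : q a ∈ J
      · exact J.mul_mem_left _ h
      · exact J.mul_mem_right _ ((hmem ⟨J, hJ⟩).mpr ⟨a, ha, h⟩ hc₀)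
    obtain ⟨n, hn⟩ := hnil
    refine ⟨n, hq0 _ ?_⟩
    rw [map_pow, map_mul, ← hc, smul_mul_assoc, smul_pow, hn, smul_zero]
  choose! n t ht hcanz using hprod
  -- the covering
  obtain ⟨t₁, ht₁, x₁, hx₁, hx₁'⟩ : ∃ t ∉ p, ∃ x ∈ Ideal.span (s : Set A), t • y = q x := by
    refine Submodule.span_induction (p := fun y _ => ∃ t ∉ p, ∃ x ∈ Ideal.span (s : Set A), t • y = q x) ?_ ?_ ?_ ?_ hy
    · rintro _ ⟨a, ha, rfl⟩
      exact ⟨1, fun h => ‹p.IsPrime›.ne_top ((Ideal.eq_top_iff_one _).mpr h), a, Ideal.subset_span ha, one_smul _ _⟩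
    · exact ⟨1, fun h => ‹p.IsPrime›.ne_top ((Ideal.eq_top_iff_one _).mpr h), 0, zero_mem _, by simp⟩
    · rintro y₁ y₂ - - ⟨t, ht, x, hx, hxy⟩ ⟨t', ht', x', hx', hxy'⟩
      refine ⟨t * t', fun h => (Ideal.IsPrime.mem_or_mem ‹_› h).elim ht ht', t' • x + t • x',
        Ideal.add_mem _ (Submodule.smul_of_tower_mem _ t' hx) (Submodule.smul_of_tower_mem _ t hx'), ?_⟩
      rw [map_add, map_smul, map_smul, ← hxy, ← hxy', smul_add, smul_smul, smul_smul, mul_comm t' t]
    · rintro b y₁ - ⟨t, ht, x, hx, hxy⟩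
      obtain ⟨t', ht', b', hb'⟩ := hq b
      refine ⟨t' * t, fun h => (Ideal.IsPrime.mem_or_mem ‹_› h).elim ht' ht, b' * x, Ideal.mul_mem_left _ _ hx, ?_⟩
      rw [map_mul, ← hxy, ← hb', smul_eq_mul, smul_mul_smul_comm]
  obtain ⟨t₂, ht₂, hrel⟩ : ∃ t₂ ∉ p,
      algebraMap R A t₂ * (algebraMap R A (t₀ * t₁) - (algebraMap R A t₁ * c + algebraMap R A t₀ * x₁)) = 0 := by
    refine hq0 _ ?_
    have hc' : algebraMap R (Localization.AtPrime p ⊗[R] A) t₀ * c₀ = q c := (Algebra.smul_def t₀ c₀).symm.trans hc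
    have hy' : algebraMap R (Localization.AtPrime p ⊗[R] A) t₁ * y = q x₁ := (Algebra.smul_def t₁ y).symm.trans hx₁'
    rw [map_sub, map_add, map_mul q, map_mul q, ← hc', ← hy', AlgHom.commutes, AlgHom.commutes, AlgHom.commutes,
      map_mul]
    linear_combination -(algebraMap R (Localization.AtPrime p ⊗[R] A) t₀ *
      algebraMap R (Localization.AtPrime p ⊗[R] A) t₁) * hcy
  refine ⟨t₂ * (t₀ * t₁) * ∏ a ∈ s, t a, ?_, c, fun z hz => ?_⟩
  · have hmul : ∀ {a b : R}, a ∉ p → b ∉ p → a * b ∉ p := fun ha hb h =>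
      (Ideal.IsPrime.mem_or_mem ‹_› h).elim ha hb
    refine hmul (hmul ht₂ (hmul ht₀ ht₁)) ?_
    exact p.primeCompl.prod_mem fun a ha => ht a ha
  · rw [map_mul, map_mul, map_mul, map_prod] at hz
    have hz₁ : algebraMap R A t₂ * (algebraMap R A t₀ * algebraMap R A t₁) ∉ z.asIdeal := fun h =>
      hz (z.asIdeal.mul_mem_right _ h)
    have hz₂ : ∀ a ∈ s, algebraMap R A (t a) ∉ z.asIdeal := fun a ha h => by
      refine hz (z.asIdeal.mul_mem_left _ ?_)
      rw [← Finset.mul_prod_erase s _ ha]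
      exact z.asIdeal.mul_mem_right _ h
    rw [hN, Set.mem_iUnion₂]
    refine ⟨fun ⟨a, ha, haz⟩ => ?_, fun hcz => ?_⟩
    · have h0 : algebraMap R A (t a) * (c * a) ^ n a ∈ z.asIdeal := by
        rw [hcanz a ha]; exact zero_mem _
      have h1 := z.isPrime.mem_of_pow_mem _ ((z.isPrime.mem_or_mem h0).resolve_left (hz₂ a ha))
      exact (z.isPrime.mem_or_mem h1).resolve_right haz
    · by_contra hno
      push Not at hno
      have hx : x₁ ∈ z.asIdeal := by
        refine (Ideal.span_le.mpr fun a ha => ?_ : Ideal.span (s : Set A) ≤ z.asIdeal) hx₁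
        have h := hno a ha
        simpa using h
      apply hz₁
      have h3 : algebraMap R A t₂ * (algebraMap R A t₀ * algebraMap R A t₁) =
          algebraMap R A t₂ * (algebraMap R A t₁ * c + algebraMap R A t₀ * x₁) := by
        rw [map_mul] at hrel
        linear_combination hrel
      rw [h3]
      exact z.asIdeal.mul_mem_left _ (z.asIdeal.add_mem (z.asIdeal.mul_mem_left _ hcz) (z.asIdeal.mul_mem_left _ hx))

variable {X : Over (Spec (CommRingCat.of R))} [GrpObj X] [IsAffine X.left] [Smooth X.hom]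

set_option maxHeartbeats 1000000 in
/-- Near a torus fibre the neutral component is closed. -/
theorem exists_isClosed_neutralSet (p : Ideal R) [p.IsPrime] {k : Type u} [Field k] (φ : R →+* k)
    (hφ : RingHom.ker φ = p) (hσ : Red.IsTorus (Red.bc (Spec.map (CommRingCat.ofHom φ)) X)) :
    ∃ f ∉ p, IsClosed (pullback.fst X.hom (Spec.map (CommRingCat.ofHom (algebraMap R (Localization.Away f)))) ⁻¹'
      SGA3x.neutralSet X) := by
  obtain ⟨A, _, _, ⟨e⟩⟩ := exists_hopf X
  haveI : IsMonHom e.hom.hom.hom := e.hom.hom.isMonHom_hom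
  haveI : IsIso e.hom.hom.hom.left :=
    inferInstanceAs (IsIso ((Over.forget _).map ((Grp.forget _).mapIso e).hom))
  haveI : Smooth (sp R A).hom := by rw [← Over.w e.hom.hom.hom]; infer_instance
  haveI : LocallyOfFinitePresentation (sp R A).hom := inferInstance
  haveI : Algebra.FinitePresentation R A := RingHom.finitePresentation_algebraMap.mp
    ((HasRingHomProperty.Spec_iff (P := @LocallyOfFinitePresentation)).mp ‹LocallyOfFinitePresentation (sp R A).hom›)
  haveI : Flat (sp R A).hom := inferInstance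
  haveI : Module.Flat R A := RingHom.flat_algebraMap_iff.mp
    ((HasRingHomProperty.Spec_iff (P := @Flat)).mp ‹Flat (sp R A).hom›)
  obtain ⟨e₀⟩ := GrpSchLib.MultTypeBC.bc_iso (Spec.map (CommRingCat.ofHom φ)) e
  obtain ⟨K, _, _, r, hK, ⟨eK⟩⟩ := exists_split_fibre φ (TorusBasic.isTorus_of_iso e₀.symm hσ)
  rw [hφ] at hK
  let L := Localization.AtPrime p
  let ψ : L →+* K := IsLocalization.lift (M := p.primeCompl) (g := algebraMap R K) fun y =>
    isUnit_iff_ne_zero.mpr fun h0 => y.2 (hK ▸ h0)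
  let _ : Algebra L K := ψ.toAlgebra
  have : IsScalarTower R L K := IsScalarTower.of_algebraMap_eq fun x => (IsLocalization.lift_eq _ x).symm
  have hker : IsLocalRing.maximalIdeal L ≤ RingHom.ker (algebraMap L K) := by
    rw [← Localization.AtPrime.map_eq_maximalIdeal, Ideal.map_le_iff_le_comap]
    intro x hx
    show algebraMap L K (algebraMap R L x) = 0
    rw [← IsScalarTower.algebraMap_apply]
    exact hK.ge hx
  have hcl := isClosed_neutralSet_local (R := L) (C := L ⊗[R] A) K hker r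
    ((MultTypeLib.baseChangeTrans (R := R) L K A).symm.trans eK)
  rw [← preimage_neutralSet_sp L A] at hcl
  -- the neutral set is a finite union of standard opens
  obtain ⟨G0, _, i, hi, -, hqc, -, -⟩ := exists_neutral (sp R A)
  haveI := hi.openImm; haveI := hqc
  haveI : CompactSpace G0.left := QuasiCompact.compactSpace_of_compactSpace G0.hom
  obtain ⟨s, hs⟩ : ∃ s : Finset A, (SGA3x.neutralSet (sp R A) : Set (PrimeSpectrum A)) =
      ⋃ a ∈ s, (PrimeSpectrum.basicOpen a : Set (PrimeSpectrum A)) := by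
    have h1 : IsCompact (Set.range i.left) := isCompact_range i.left.continuous
    have h2 : IsOpen (Set.range i.left) := i.left.isOpenEmbedding.isOpen_range
    rw [hi.range] at h1 h2
    obtain ⟨S₀, hS₀, hS₁⟩ := (isCompact_open_iff_eq_finite_iUnion_of_isTopologicalBasis _ PrimeSpectrum.isTopologicalBasis_basic_opens
      (fun a : A => PrimeSpectrum.isCompact_basicOpen a) _).mp ⟨h1, h2⟩
    exact ⟨hS₀.toFinset, hS₁.trans (by simp)⟩
  obtain ⟨f, hf, c, hc⟩ := exists_closed_away p s _ hs hcl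
  refine ⟨f, hf, ?_⟩
  let v := Spec.map (CommRingCat.ofHom (algebraMap R (Localization.Away f)))
  rw [← preimage_neutralSet_of_iso e.symm]
  show IsClosed (pullback.fst X.hom v ⁻¹' (e.inv.hom.hom.left ⁻¹' SGA3x.neutralSet (sp R A)))
  have heq : pullback.fst X.hom v ⁻¹' (e.inv.hom.hom.left ⁻¹' SGA3x.neutralSet (sp R A)) =
      (pullback.fst X.hom v ≫ e.inv.hom.hom.left) ⁻¹' PrimeSpectrum.zeroLocus {c} := by
    ext w
    show (pullback.fst X.hom v ≫ e.inv.hom.hom.left) w ∈ SGA3x.neutralSet (sp R A) ↔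
      (pullback.fst X.hom v ≫ e.inv.hom.hom.left) w ∈ PrimeSpectrum.zeroLocus {c}
    refine (hc _ fun hfz => ?_).trans ((PrimeSpectrum.mem_zeroLocus _ _).trans Set.singleton_subset_iff).symm
    have h1 : (sp R A).hom ((pullback.fst X.hom v ≫ e.inv.hom.hom.left) w) = v (pullback.snd X.hom v w) := by
      rw [← Scheme.Hom.comp_apply, Category.assoc, Over.w e.inv.hom.hom, pullback.condition,
        Scheme.Hom.comp_apply]
    have h2 : f ∈ (v (pullback.snd X.hom v w) : PrimeSpectrum R).asIdeal :=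
      h1 ▸ (hfz : f ∈ ((sp R A).hom ((pullback.fst X.hom v ≫ e.inv.hom.hom.left) w) : PrimeSpectrum R).asIdeal)
    exact (pullback.snd X.hom v w : PrimeSpectrum (Localization.Away f)).isPrime.ne_top
      (Ideal.eq_top_of_isUnit_mem _ h2 (IsLocalization.Away.algebraMap_isUnit f))
  rw [heq]
  exact (PrimeSpectrum.isClosed_zeroLocus _).preimage (pullback.fst X.hom v ≫ e.inv.hom.hom.left).continuous

set_option maxHeartbeats 2000000 in
/-- Near a torus fibre the neutral component is étale locally a split torus. -/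
theorem exists_etale_split_neutral {k : Type u} [Field k] [IsAlgClosed k]
    (σ : Spec (CommRingCat.of k) ⟶ Spec (CommRingCat.of R)) (hσ : Red.IsTorus (Red.bc σ X)) :
    ∃ (E : Type u) (_ : CommRing E) (v : Spec (CommRingCat.of E) ⟶ Spec (CommRingCat.of R))
      (τ : Spec (CommRingCat.of k) ⟶ Spec (CommRingCat.of E)) (r : ℕ) (T : Over (Spec (CommRingCat.of E)))
      (_ : GrpObj T) (t : T ⟶ Red.bc v X),
      Etale v ∧ τ ≫ v = σ ∧ Red.IsSplitTorusWith (Fin r → ℤ) T ∧ IsNeutral t := by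
  obtain ⟨φ, rfl⟩ : ∃ φ : R →+* k, Spec.map (CommRingCat.ofHom φ) = σ :=
    ⟨(Spec.preimage σ).hom, Spec.map_preimage σ⟩
  let p := RingHom.ker φ
  haveI : p.IsPrime := RingHom.ker_isPrime φ
  obtain ⟨f, hf, hcl⟩ := exists_isClosed_neutralSet p φ rfl hσ
  let Rf := Localization.Away f
  let v₁ : Spec (CommRingCat.of Rf) ⟶ Spec (CommRingCat.of R) := Spec.map (CommRingCat.ofHom (algebraMap R Rf))
  let φ₁ : Rf →+* k := IsLocalization.Away.lift (S := Rf) f (g := φ) (isUnit_iff_ne_zero.mpr hf : IsUnit (φ f))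
  let σ₁ := Spec.map (CommRingCat.ofHom φ₁)
  have hσ₁ : σ₁ ≫ v₁ = Spec.map (CommRingCat.ofHom φ) := by
    rw [← Spec.map_comp]
    exact congrArg (fun χ => Spec.map (CommRingCat.ofHom χ))
      (IsLocalization.Away.lift_comp (S := Rf) f (isUnit_iff_ne_zero.mpr hf : IsUnit (φ f)))
  -- the neutral component over the open set
  obtain ⟨G0, _, i, hi, hsm, hqc, -, hconn⟩ := exists_neutral X
  haveI := hsm; haveI := hqc
  haveI : IsAffineHom X.hom := inferInstance
  haveI : LocallyOfFinitePresentation X.hom := inferInstance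
  let N := Red.bc v₁ G0
  let j : N ⟶ Red.bc v₁ X := (Over.pullback v₁).map i
  have hj : IsNeutral j := hi.bc v₁
  haveI := hj.isMonHom; haveI := hj.openImm
  haveI : IsClosedImmersion j.left := IsClosedImmersion.of_isPreimmersion j.left (by
    rw [hj.range, GrpSchLib.Neutral.neutralSet_bc]
    exact hcl)
  haveI : IsAffine (Red.bc v₁ X).left := inferInstanceAs (IsAffine (pullback X.hom v₁))
  haveI : IsAffine N.left := isAffine_of_isAffineHom j.left
  haveI : Smooth N.hom := inferInstanceAs (Smooth (pullback.snd G0.hom v₁))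
  haveI : QuasiCompact N.hom := inferInstanceAs (QuasiCompact (pullback.snd G0.hom v₁))
  have hconn₁ : ∀ s, _root_.IsConnected (N.hom.base ⁻¹' {s}) := isConnected_fibres_bc hconn v₁
  obtain ⟨A, _, _, ⟨e⟩⟩ := exists_hopf N
  haveI : IsMonHom e.hom.hom.hom := e.hom.hom.isMonHom_hom
  haveI : IsIso e.hom.hom.hom.left :=
    inferInstanceAs (IsIso ((Over.forget _).map ((Grp.forget _).mapIso e).hom))
  haveI : Smooth (sp Rf A).hom := by rw [← Over.w e.hom.hom.hom]; infer_instance
  haveI : LocallyOfFinitePresentation (sp Rf A).hom := inferInstance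
  haveI : Algebra.FinitePresentation Rf A := RingHom.finitePresentation_algebraMap.mp
    ((HasRingHomProperty.Spec_iff (P := @LocallyOfFinitePresentation)).mp ‹LocallyOfFinitePresentation (sp Rf A).hom›)
  haveI : Flat (sp Rf A).hom := inferInstance
  haveI : Module.Flat Rf A := RingHom.flat_algebraMap_iff.mp
    ((HasRingHomProperty.Spec_iff (P := @Flat)).mp ‹Flat (sp Rf A).hom›)
  -- its fibre at the point is the torus
  have htor : Red.IsTorus (Red.bc σ₁ N) := by
    obtain ⟨d₁⟩ := GrpSchLib.MultTypeBC.bc_bc σ₁ v₁ X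
    obtain ⟨d₂⟩ := GrpSchLib.MultTypeBC.bc_congr hσ₁ X
    have hT : Red.IsTorus (Red.bc σ₁ (Red.bc v₁ X)) := TorusBasic.isTorus_of_iso (d₁.trans d₂).symm hσ
    haveI : LocallyOfFinitePresentation (Red.bc v₁ X).hom :=
      inferInstanceAs (LocallyOfFinitePresentation (pullback.snd X.hom v₁))
    have hj₁ := hj.bc σ₁
    haveI := hj₁.isMonHom; haveI := hj₁.openImm
    haveI : Surjective ((Over.pullback σ₁).map j).left := ⟨by
      rw [← Set.range_eq_univ, hj₁.range]
      exact neutralSet_eq_univ_of_isTorus _ hT⟩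
    haveI : Epi ((Over.pullback σ₁).map j).left.base :=
      (TopCat.epi_iff_surjective _).mpr (Surjective.surj (f := ((Over.pullback σ₁).map j).left))
    haveI : IsIso ((Over.pullback σ₁).map j).left := IsOpenImmersion.isIso _
    haveI : IsIso ((Over.forget _).map ((Over.pullback σ₁).map j)) := ‹IsIso ((Over.pullback σ₁).map j).left›
    haveI : IsIso ((Over.pullback σ₁).map j) := isIso_of_reflects_iso _ (Over.forget _)
    exact TorusBasic.isTorus_of_iso (Grp.mkIso' (asIso ((Over.pullback σ₁).map j))).symm hT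
  obtain ⟨e₁⟩ := GrpSchLib.MultTypeBC.bc_iso σ₁ e
  obtain ⟨K, _, _, r, hK, ⟨eK⟩⟩ := exists_split_fibre φ₁ (TorusBasic.isTorus_of_iso e₁.symm htor)
  let P := RingHom.ker φ₁
  haveI : P.IsPrime := RingHom.ker_isPrime φ₁
  -- multiplicative type over the local ring
  let L := Localization.AtPrime P
  let ψ : L →+* K := IsLocalization.lift (M := P.primeCompl) (g := algebraMap Rf K) fun y =>
    isUnit_iff_ne_zero.mpr fun h0 => y.2 ((SetLike.ext_iff.mp hK _).mp h0)
  let _ : Algebra L K := ψ.toAlgebra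
  have : IsScalarTower Rf L K := IsScalarTower.of_algebraMap_eq fun x => (IsLocalization.lift_eq _ x).symm
  have hker : IsLocalRing.maximalIdeal L ≤ RingHom.ker (algebraMap L K) := by
    rw [← Localization.AtPrime.map_eq_maximalIdeal, Ideal.map_le_iff_le_comap]
    intro x hx
    show algebraMap L K (algebraMap Rf L x) = 0
    rw [← IsScalarTower.algebraMap_apply]
    exact hK.ge hx
  let κ := IsLocalRing.ResidueField L
  let _ : Algebra κ K :=
    (Ideal.Quotient.lift (IsLocalRing.maximalIdeal L) (algebraMap L K) fun a ha => hker ha).toAlgebra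
  have : IsScalarTower L κ K := IsScalarTower.of_algebraMap_eq fun _ => rfl
  have hmt : SGA3b.IsMultType L (L ⊗[Rf] A) := by
    refine MultTypeLib.isMultType_local_of_connected (fun q _ _ => Module.Flat.trans L (L ⊗[Rf] A) _)
      (MultTypeLib.isMultType_of_ff K ⟨_, inferInstance,
        ⟨(MultTypeLib.baseChangeTrans (R := L) κ K (L ⊗[Rf] A)).symm.trans
          ((MultTypeLib.baseChangeTrans (R := Rf) L K A).symm.trans eK)⟩⟩) fun q _ => ?_
    exact connectedSpace_tensor_field hconn₁ e L q.ResidueField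
  obtain ⟨E, _, _, het, ⟨Q, hQ, hQP⟩, M, _, ⟨eM⟩⟩ := MultTypeLib.exists_etale_nhd_diag (R := Rf) (A := A) P hmt
  haveI := hQ
  -- the exponents
  obtain ⟨μM⟩ : Nonempty (M ≃* ULift.{u} (Multiplicative (Fin r → ℤ))) := by
    have hk₂ : RingHom.ker (algebraMap Rf Q.ResidueField) = P := by
      rw [IsScalarTower.algebraMap_eq Rf E Q.ResidueField]
      rw [← RingHom.comap_ker, Ideal.ker_algebraMap_residueField, hQP]
    exact exists_mulEquiv_of_kernel P Q.ResidueField K hk₂ hK
      ((MultTypeLib.baseChangeTrans (R := Rf) E Q.ResidueField A).trans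
        ((MultTypeLib.congrBase Q.ResidueField eM).trans
          (scalarBialgEquiv E Q.ResidueField M).symm)) eK
  let v₂ : Spec (CommRingCat.of E) ⟶ Spec (CommRingCat.of Rf) := Spec.map (CommRingCat.ofHom (algebraMap Rf E))
  haveI : Etale v₂ := (HasRingHomProperty.Spec_iff (P := @Etale)).mpr (RingHom.etale_algebraMap.mpr het)
  haveI : Etale v₁ := (HasRingHomProperty.Spec_iff (P := @Etale)).mpr
    (RingHom.etale_algebraMap.mpr (Algebra.Etale.of_isLocalizationAway f))
  obtain ⟨τ, hτ⟩ := exists_point_over_geometric v₂ σ₁ ⟨Q, hQ⟩ (PrimeSpectrum.ext (by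
    show Q.comap (algebraMap Rf E) = (IsLocalRing.maximalIdeal k).comap φ₁
    rw [hQP, IsLocalRing.isField_iff_maximalIdeal_eq.mp (Field.toIsField k)]
    rfl))
  -- the split torus
  obtain ⟨d₁⟩ := nonempty_bc_sp (R := Rf) E A
  obtain ⟨d₂⟩ := GrpSchLib.MultTypeBC.bc_iso v₂ e
  obtain ⟨d₃⟩ := nonempty_DS_iso E (Fin r → ℤ)
  let T := Red.bc v₂ N
  have hT : Red.IsSplitTorusWith (Fin r → ℤ) T :=
    ⟨d₂.symm.trans (d₁.trans ((spIso (eM.trans
      (MonoidAlgebra.domCongrBialgEquiv E E (μM.trans MulEquiv.ulift)))).symm.trans d₃))⟩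
  haveI : LocallyOfFinitePresentation (Red.bc v₁ X).hom :=
    inferInstanceAs (LocallyOfFinitePresentation (pullback.snd X.hom v₁))
  have hj₂ := hj.bc v₂
  haveI := hj₂.isMonHom; haveI := hj₂.openImm
  obtain ⟨c⟩ := GrpSchLib.MultTypeBC.bc_bc v₂ v₁ X
  haveI : IsMonHom c.hom.hom.hom := c.hom.hom.isMonHom_hom
  refine ⟨E, inferInstance, v₂ ≫ v₁, τ, r, T, inferInstance, (Over.pullback v₂).map j ≫ c.hom.hom.hom, inferInstance,
    by rw [reassoc_of% hτ]; exact hσ₁, hT, ?_⟩
  haveI : IsIso c.hom.hom.hom.left :=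
    inferInstanceAs (IsIso ((Over.forget _).map ((Grp.forget _).mapIso c).hom))
  refine ⟨inferInstance, inferInstanceAs (IsOpenImmersion (((Over.pullback v₂).map j).left ≫ c.hom.hom.hom.left)), ?_⟩
  haveI : LocallyOfFinitePresentation (Red.bc (v₂ ≫ v₁) X).hom :=
    inferInstanceAs (LocallyOfFinitePresentation (pullback.snd X.hom (v₂ ≫ v₁)))
  haveI : LocallyOfFinitePresentation (Red.bc v₂ (Red.bc v₁ X)).hom :=
    inferInstanceAs (LocallyOfFinitePresentation (pullback.snd (Red.bc v₁ X).hom v₂))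
  show Set.range ⇑(((Over.pullback v₂).map j).left ≫ c.hom.hom.hom.left) = _
  rw [Scheme.Hom.comp_base, TopCat.coe_comp, Set.range_comp, hj₂.range, ← preimage_neutralSet_of_iso c,
    Set.image_preimage_eq _ (Surjective.surj (f := c.hom.hom.hom.left))]

end Groth.Agent.GModLib
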