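import Groth.Agent.GModLib.OpenIsoLocus
import Groth.Agent.GModLib.BorelRelative
import Groth.Agent.GModLib.MaxTorusBC
import Groth.Agent.GModLib.CentralKernelRelative
import Groth.Agent.GModLib.CentralizerNonAffine
import Groth.Agent.GModLib.ReductiveSelfCent
import Groth.Agent.GModLib.CartanBC
import Groth.Agent.S5247

/-!
# The locus where a torus is its own centralizer
-/

set_option autoImplicit false
set_option linter.style.haveILetI false
set_option backward.isDefEq.respectTransparency false
set_option backward.isDefEq.respectTransparency.types false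

universe u

open CategoryTheory Limits AlgebraicGeometry MonoidalCategory CartesianMonoidalCategory MonObj GrpObj

namespace Groth.Agent.GModLib

/-- Being an isomorphism after a base change passes to further base changes. -/
theorem isIso_map_comp {S S' S'' : Scheme.{u}} (g : S' ⟶ S) (h : S'' ⟶ S') {A B : Over S} (b : A ⟶ B)
    [IsIso ((Over.pullback g).map b)] : IsIso ((Over.pullback (h ≫ g)).map b) := by
  have hn := (Over.pullbackComp h g).hom.naturality b
  haveI : IsIso ((Over.pullback (h ≫ g)).map b ≫ (Over.pullbackComp h g).hom.app B) := by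
    rw [hn]
    haveI : IsIso ((Over.pullback g ⋙ Over.pullback h).map b) :=
      inferInstanceAs (IsIso ((Over.pullback h).map ((Over.pullback g).map b)))
    infer_instance
  exact IsIso.of_isIso_comp_right _ ((Over.pullbackComp h g).hom.app B)

/-- An isomorphism on all geometric fibres over an open subscheme. -/
theorem isIso_map_opens {S : Scheme.{u}} {A B : Over S} [Flat A.hom] [LocallyOfFinitePresentation A.hom]
    [LocallyOfFiniteType B.hom] (b : A ⟶ B) (U : S.Opens)
    (h : ∀ t ∈ U, IsIso ((Over.pullback (Red.geomPt t)).map b)) : IsIso ((Over.pullback U.ι).map b) := by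
  haveI : Flat ((Over.pullback U.ι).obj A).hom := inferInstanceAs (Flat (pullback.snd A.hom U.ι))
  haveI : LocallyOfFinitePresentation ((Over.pullback U.ι).obj A).hom :=
    inferInstanceAs (LocallyOfFinitePresentation (pullback.snd A.hom U.ι))
  haveI : LocallyOfFiniteType ((Over.pullback U.ι).obj B).hom :=
    inferInstanceAs (LocallyOfFiniteType (pullback.snd B.hom U.ι))
  refine isIso_of_geomFibres _ fun u => ?_
  obtain ⟨σ, hσ⟩ := exists_geomPt_lift U.ι u
  haveI := h (U.ι u) u.2
  haveI : IsIso ((Over.pullback (Red.geomPt u ≫ U.ι)).map b) := hσ ▸ isIso_map_comp (Red.geomPt (U.ι u)) σ b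
  have hn := (Over.pullbackComp (Red.geomPt u) U.ι).hom.naturality b
  haveI : IsIso ((Over.pullbackComp (Red.geomPt u) U.ι).hom.app A ≫
      (Over.pullback U.ι ⋙ Over.pullback (Red.geomPt u)).map b) := by
    rw [← hn]; infer_instance
  haveI : IsIso ((Over.pullback (Red.geomPt u)).map ((Over.pullback U.ι).map b)) :=
    IsIso.of_isIso_comp_left ((Over.pullbackComp (Red.geomPt u) U.ι).hom.app A)
      ((Over.pullback U.ι ⋙ Over.pullback (Red.geomPt u)).map b)
  exact inferInstanceAs (IsIso ((Over.forget _).map ((Over.pullback (Red.geomPt u)).map ((Over.pullback U.ι).map b))))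

/-- A torus which is its own centralizer is maximal, over any base. -/
theorem isMaximalTorus_of_isCentralizerOf_self' {S : Scheme.{u}} {G T : Over S} [GrpObj G] [GrpObj T] (iT : T ⟶ G)
    (hTt : Red.IsTorus T) (h : Red.IsCentralizerOf iT iT) : Red.IsMaximalTorus iT := by
  haveI := h.1; haveI := h.2.1
  refine ⟨inferInstance, inferInstance, hTt, fun s T' _ j _ _ f hT' hf => ?_⟩
  have hC := BC.isCentralizerOf_bc (Red.geomPt s) h
  obtain ⟨e, he⟩ := (hC.2.2 _ j).mpr fun X' x t => by
    rw [← hf, ← Category.assoc t, ← MonObj.mul_comp, ← MonObj.mul_comp, TorusBilin.comm_of_isTorus hT']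
  refine ⟨e, ?_, ?_⟩
  · rw [← cancel_mono ((Over.pullback (Red.geomPt s)).map iT), Category.assoc, he, hf, Category.id_comp]
  · rw [← cancel_mono j, Category.assoc, hf, he, Category.id_comp]

end Groth.Agent.GModLib
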