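import Groth.Agent.GModLib.EtaleSplitNeutral
import Groth.Agent.GModLib.EtaleMaxTorus
import Groth.Agent.GModLib.TorusOpenSelfCent

/-!
# Étale locally a split maximal torus near a self-centralizing torus
-/

set_option autoImplicit false
set_option linter.style.haveILetI false
set_option backward.isDefEq.respectTransparency false
set_option backward.isDefEq.respectTransparency.types false

universe u

open CategoryTheory Limits AlgebraicGeometry MonoidalCategory CartesianMonoidalCategory MonObj GrpObj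

namespace Groth.Agent.GModLib

/-- An open immersion of neutral components into a torus is an isomorphism. -/
theorem IsNeutral.isIso_of_torus {S : Scheme.{u}} {G G0 : Over S} [GrpObj G] [GrpObj G0] {i : G0 ⟶ G}
    (h : IsNeutral i) (hG : Red.IsTorus G) : IsIso i := by
  haveI := h.openImm
  haveI : Epi i.left.base := (TopCat.epi_iff_surjective _).mpr (by
    rw [← Set.range_eq_univ, h.range, neutralSet_eq_univ_of_isTorus G hG])
  haveI : IsIso i.left := IsOpenImmersion.isIso _
  haveI : IsIso ((Over.forget _).map i) := ‹IsIso i.left›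
  exact isIso_of_reflects_iso i (Over.forget _)

variable {S : Scheme.{u}}

set_option maxHeartbeats 2000000 in
/-- A self-centralizing torus of a geometric fibre spreads to a split one over a smooth base change. -/
theorem exists_smooth_split_selfCentralizing {G : Over S} [GrpObj G] [Smooth G.hom] [IsAffineHom G.hom]
    (hconn : ∀ s : S, _root_.IsConnected (G.hom.base ⁻¹' {s})) {k : Type u} [Field k] [IsAlgClosed k]
    (a : Spec (CommRingCat.of k) ⟶ S) {T₀ : Over (Spec (CommRingCat.of k))} [GrpObj T₀] (i : T₀ ⟶ Red.bc a G)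
    (hT₀ : Red.IsTorus T₀) (hi : Red.IsCentralizerOf i i) :
    ∃ (U : Scheme.{u}) (m : U ⟶ S) (y : U) (r : ℕ) (T : Over U) (_ : GrpObj T) (t : T ⟶ Red.bc m G),
      Smooth m ∧ m y = a (IsLocalRing.closedPoint k) ∧ Red.IsSplitTorusWith (Fin r → ℤ) T ∧
        Red.IsCentralizerOf t t := by
  haveI := hi.1; haveI := hi.2.1
  obtain ⟨Y, π, σ, hσ, C, _, c, hπ, hCs, hcm, hcc, hC⟩ := exists_family G a i hT₀
  haveI := hπ; haveI := hCs; haveI := hcm; haveI := hcc
  haveI : IsAffineHom (Red.bc π G).hom := MorphismProperty.pullback_snd G.hom π ‹IsAffineHom G.hom›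
  haveI : IsAffineHom C.hom := by rw [← Over.w c]; infer_instance
  obtain ⟨v₀, hv₀i⟩ := exists_iso_of_isCentralizerOf hC hi
  haveI : IsMonHom v₀.hom := by
    haveI : IsMonHom (v₀.hom ≫ i) := hv₀i ▸ hC.1
    exact isMonHom_of_comp v₀.hom i
  -- an affine neighbourhood
  obtain ⟨V, hV, hyV, -⟩ := exists_isAffineOpen_mem_and_subset
    (show σ (IsLocalRing.closedPoint k) ∈ (⊤ : Y.Opens) from trivial)
  let j : Spec Γ(Y, V) ⟶ Y := hV.fromSpec
  have hjr : Set.range σ ⊆ Set.range j := by
    rintro _ ⟨x, rfl⟩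
    rw [IsAffineOpen.range_fromSpec, Subsingleton.elim x (IsLocalRing.closedPoint k)]
    exact hyV
  let σV := IsOpenImmersion.lift j σ hjr
  have hσV : σV ≫ j = σ := IsOpenImmersion.lift_fac _ _ _
  let X := Red.bc j C
  haveI : IsAffine X.left := inferInstanceAs (IsAffine (pullback C.hom j))
  haveI : Smooth X.hom := inferInstanceAs (Smooth (pullback.snd C.hom j))
  have hσC : Red.IsTorus (Red.bc σ C) := TorusBasic.isTorus_of_iso (Grp.mkIso' v₀).symm hT₀
  obtain ⟨E, _, v, τ, r, T, _, t, hv, hτ, hT, ht⟩ := exists_etale_split_neutral (X := X) σV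
    (TorusBasic.isTorus_of_iso (Grp.mkIso' (fibreIso hσV C)).symm hσC)
  haveI := hv; haveI := ht.isMonHom; haveI := ht.openImm
  haveI : Mono t := Over.mono_of_mono_left t
  haveI : Mono c := Over.mono_of_mono_left c
  -- the torus in the group
  let n : Spec (CommRingCat.of E) ⟶ Y := v ≫ j
  let m : Spec (CommRingCat.of E) ⟶ S := n ≫ π
  let t₁ : T ⟶ Red.bc n C := t ≫ (fibreIso (a := v) (rfl : v ≫ j = n) C).hom
  let tG : T ⟶ Red.bc m G := t₁ ≫ fibreHom (rfl : n ≫ π = m) c
  haveI : Mono t₁ := inferInstanceAs (Mono (t ≫ _))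
  haveI : IsMonHom t₁ := inferInstanceAs (IsMonHom (t ≫ _))
  haveI : Mono (fibreHom (rfl : n ≫ π = m) c) := by
    rw [fibreHom_eq']; infer_instance
  haveI : IsMonHom (fibreHom (rfl : n ≫ π = m) c) := isMonHom_fibreHom _ _
  haveI : Mono tG := inferInstanceAs (Mono (t₁ ≫ _))
  haveI : IsMonHom tG := inferInstanceAs (IsMonHom (t₁ ≫ _))
  haveI : Smooth (Red.bc m G).hom := inferInstanceAs (Smooth (pullback.snd G.hom m))
  haveI : IsAffineHom (Red.bc m G).hom := MorphismProperty.pullback_snd G.hom m ‹IsAffineHom G.hom›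
  have hTt : Red.IsTorus T := TorusBasic.isTorus_of_split hT
  haveI : Smooth T.hom := MultConjLib.smooth_of_isTorus hTt
  have hτn : τ ≫ n = σ := by
    show τ ≫ v ≫ j = σ
    rw [← Category.assoc, hτ, hσV]
  have hτm : τ ≫ m = a := by
    show τ ≫ n ≫ π = a
    rw [← Category.assoc, hτn, hσ]
  -- at the point it is the given torus
  haveI : LocallyOfFinitePresentation (Red.bc v X).hom :=
    inferInstanceAs (LocallyOfFinitePresentation (pullback.snd X.hom v))
  haveI : IsIso ((Over.pullback τ).map t) :=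
    (ht.bc τ).isIso_of_torus (TorusBasic.isTorus_of_iso
      (Grp.mkIso' (fibreIso hτ X) ≪≫ Grp.mkIso' (fibreIso hσV C)).symm hσC)
  haveI : IsIso (fibreHom hτn t₁) := by
    rw [fibreHom_eq']
    haveI : IsIso ((Over.pullback τ).map t₁) := by
      show IsIso ((Over.pullback τ).map (t ≫ _))
      rw [Functor.map_comp]; infer_instance
    infer_instance
  let α : Red.bc τ T ≅ T₀ := asIso (fibreHom hτn t₁) ≪≫ v₀
  have hfib : (Over.pullback τ).map tG ≫ (fibreIso hτm G).hom = α.hom ≫ i := by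
    rw [← fibreHom_eq']
    show _ = (fibreHom hτn t₁ ≫ v₀.hom) ≫ i
    rw [Category.assoc, hv₀i]
    exact fibreHom_comp hσ hτn (rfl : n ≫ π = m) t₁ c
  have hself : Red.IsCentralizerOf ((Over.pullback τ).map tG) ((Over.pullback τ).map tG) := by
    haveI : IsMonHom (fibreIso hτm G).symm.hom := inferInstanceAs (IsMonHom (fibreIso hτm G).inv)
    have h := isCentralizerOf_of_iso (G' := Red.bc τ (Red.bc m G)) α α (fibreIso hτm G).symm
      (i' := (Over.pullback τ).map tG) (c' := (Over.pullback τ).map tG)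
      (by rw [Iso.symm_hom, ← Category.assoc, ← hfib, Category.assoc, Iso.hom_inv_id, Category.comp_id])
      (by rw [Iso.symm_hom, ← Category.assoc, ← hfib, Category.assoc, Iso.hom_inv_id, Category.comp_id]) hi
    exact h
  -- the centralizer agrees with the torus near the point
  obtain ⟨Z, _, z, hz, hzc, hzs⟩ := Groth.Agent.S5247.result T (Red.bc m G) (GrpSchLib.RankOne.isMultTypeFT_of_isTorus hTt)
    ‹_› ‹_› tG
  haveI := hz.1; haveI := hz.2.1; haveI := hzc; haveI := hzs
  obtain ⟨b, hb⟩ := (hz.2.2 T tG).mpr fun X' x h => by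
    rw [← MonObj.mul_comp, ← MonObj.mul_comp, GrpSchLib.RankOne.torus_mul_comm hTt]
  haveI : Mono (b ≫ z) := hb ▸ inferInstance
  haveI : Mono b := mono_of_mono b z
  haveI : IsMonHom (b ≫ z) := hb ▸ inferInstance
  haveI : IsMonHom b :=
    { one_hom := by rw [← cancel_mono z, Category.assoc, IsMonHom.one_hom (b ≫ z), IsMonHom.one_hom z]
      mul_hom := by
        rw [← cancel_mono z, Category.assoc, IsMonHom.mul_hom (b ≫ z), Category.assoc, IsMonHom.mul_hom z,
          ← Category.assoc (_ ⊗ₘ _), MonoidalCategory.tensorHom_comp_tensorHom] }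
  haveI : IsIso ((Over.pullback τ).map b) := by
    obtain ⟨w, hw⟩ := (hself.2.2 _ ((Over.pullback τ).map z)).mpr
      (((BC.isCentralizerOf_bc τ hz).2.2 _ ((Over.pullback τ).map z)).mp ⟨𝟙 _, Category.id_comp _⟩)
    refine ⟨w, ?_, ?_⟩
    · rw [← cancel_mono ((Over.pullback τ).map tG), Category.assoc, hw, ← Functor.map_comp, hb, Category.id_comp]
    · rw [← cancel_mono ((Over.pullback τ).map z), Category.assoc, ← Functor.map_comp, hb, hw, Category.id_comp]
  have hGm : ∀ s, _root_.IsConnected ((Red.bc m G).hom.base ⁻¹' {s}) := isConnected_fibres_bc hconn m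
  have hZconn : ∀ s, ConnectedSpace (Red.bc (Red.geomPt s) Z).left := fun s => by
    let g := Red.geomPt s
    haveI : Smooth (Red.bc g (Red.bc m G)).hom := inferInstanceAs (Smooth (pullback.snd (Red.bc m G).hom g))
    haveI : QuasiCompact (Red.bc g (Red.bc m G)).hom := inferInstanceAs (QuasiCompact (pullback.snd (Red.bc m G).hom g))
    haveI := connectedSpace_geomFibre hGm s
    exact (centralizer_smooth_connected_nonaffine ((Over.pullback g).map tG) (isTorus_bc g hTt)
      ((Over.pullback g).map z) (BC.isCentralizerOf_bc g hz)).2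
  obtain ⟨U, hU, hiso⟩ := exists_open_isIso_fibres b hZconn τ
  haveI := isIso_map_opens b U hiso
  -- over that open subscheme
  let tU := (Over.pullback U.ι).map tG ≫ (fibreIso (a := U.ι) (rfl : U.ι ≫ m = _) G).hom
  have hUc : Red.IsCentralizerOf tU tU := by
    refine isCentralizerOf_of_iso (Iso.refl _) (asIso ((Over.pullback U.ι).map b))
      (fibreIso (a := U.ι) (rfl : U.ι ≫ m = _) G) ?_ ?_ (BC.isCentralizerOf_bc U.ι hz)
    · rw [Iso.refl_hom, Category.id_comp]
    · show tU = _
      rw [asIso_hom]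
      exact ((Category.assoc _ _ _).symm.trans (congrArg (· ≫ _) (((Over.pullback U.ι).map_comp b z).symm.trans
        (congrArg (Over.pullback U.ι).map hb)))).symm
  refine ⟨(U : Scheme.{u}), U.ι ≫ m, ⟨_, hU⟩, r, Red.bc U.ι T, inferInstance, tU, ?_, ?_,
    TorusBasic.isSplit_bc U.ι hT, hUc⟩
  · show Smooth (U.ι ≫ (v ≫ j) ≫ π)
    infer_instance
  · show (U.ι ≫ m) ⟨τ (IsLocalRing.closedPoint k), hU⟩ = _
    rw [Scheme.Hom.comp_apply, ← hτm, Scheme.Hom.comp_apply]
    rfl

/-- A self-centralizing torus of a geometric fibre gives a split maximal torus on an affine étale neighbourhood. -/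
theorem exists_etale_split_selfCentralizing {G : Over S} [GrpObj G] [Smooth G.hom] [IsAffineHom G.hom]
    (hconn : ∀ s : S, _root_.IsConnected (G.hom.base ⁻¹' {s})) {k : Type u} [Field k] [IsAlgClosed k]
    (a : Spec (CommRingCat.of k) ⟶ S) {T₀ : Over (Spec (CommRingCat.of k))} [GrpObj T₀] (i : T₀ ⟶ Red.bc a G)
    (hT₀ : Red.IsTorus T₀) (hi : Red.IsCentralizerOf i i) :
    ∃ (B : Type u) (_ : CommRing B) (v : Spec (CommRingCat.of B) ⟶ S) (r : ℕ) (T : Over (Spec (CommRingCat.of B)))
      (_ : GrpObj T) (t : T ⟶ Red.bc v G), Etale v ∧ a (IsLocalRing.closedPoint k) ∈ Set.range v.base ∧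
        Red.IsSplitTorusWith (Fin r → ℤ) T ∧ Red.IsCentralizerOf t t ∧ Red.IsMaximalTorus t := by
  obtain ⟨U, m, y, r, T, _, t, hm, hy, hT, ht⟩ := exists_smooth_split_selfCentralizing hconn a i hT₀ hi
  haveI := hm
  obtain ⟨X, g, x, hg, hgx, h, hh⟩ := Groth.Agent.S0412.result m (a (IsLocalRing.closedPoint k)) ⟨y, hy⟩
  obtain ⟨W, hW, hxW, -⟩ := exists_isAffineOpen_mem_and_subset (show x ∈ (⊤ : X.Opens) from trivial)
  let j : Spec Γ(X, W) ⟶ X := hW.fromSpec
  haveI := hg
  haveI : Etale j := inferInstance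
  let q := j ≫ h
  have hq : q ≫ m = j ≫ g := by rw [Category.assoc, hh]
  have hc : Red.IsCentralizerOf ((Over.pullback q).map t ≫ (fibreIso (a := q) hq G).hom)
      ((Over.pullback q).map t ≫ (fibreIso (a := q) hq G).hom) := by
    haveI := ht.1
    exact isCentralizerOf_of_iso (Iso.refl _) (Iso.refl _) (fibreIso (a := q) hq G)
      (by rw [Iso.refl_hom, Category.id_comp]) (by rw [Iso.refl_hom, Category.id_comp]) (BC.isCentralizerOf_bc q ht)
  obtain ⟨z, hz⟩ : x ∈ Set.range j := by rw [IsAffineOpen.range_fromSpec]; exact hxW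
  exact ⟨Γ(X, W), inferInstance, j ≫ g, r, Red.bc q T, inferInstance, _, inferInstance,
    ⟨z, (Scheme.Hom.comp_apply j g z).trans ((congrArg g hz).trans hgx)⟩, TorusBasic.isSplit_bc q hT, hc,
    isMaximalTorus_of_isCentralizerOf_self' _ (TorusBasic.isTorus_of_split (TorusBasic.isSplit_bc q hT)) hc⟩

/-- The same, from the hypothesis on all maximal tori of the fibre. -/
theorem exists_selfCentralizing_of_maximal {G : Over S} [GrpObj G] [Smooth G.hom] [QuasiCompact G.hom]
    (hconn : ∀ s : S, _root_.IsConnected (G.hom.base ⁻¹' {s})) (s₀ : S)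
    (hc : ∀ (T : Over (Spec (CommRingCat.of (AlgebraicClosure (S.residueField s₀))))) [GrpObj T]
      (i : T ⟶ Red.geomFibre s₀ G), Red.IsMaximalTorus i → ∀ (X : Over _) (g : X ⟶ Red.geomFibre s₀ G),
        (∀ (X' : Over _) (x : X' ⟶ X) (t : X' ⟶ T), (x ≫ g) * (t ≫ i) = (t ≫ i) * (x ≫ g)) →
          ∃ t : X ⟶ T, g = t ≫ i) :
    ∃ (T : Over (Spec (CommRingCat.of (AlgebraicClosure (S.residueField s₀))))) (_ : GrpObj T)
      (i : T ⟶ Red.bc (Red.geomPt s₀) G), Red.IsTorus T ∧ Red.IsCentralizerOf i i := by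
  haveI : Smooth (Red.bc (Red.geomPt s₀) G).hom := inferInstanceAs (Smooth (pullback.snd G.hom _))
  haveI : QuasiCompact (Red.bc (Red.geomPt s₀) G).hom := inferInstanceAs (QuasiCompact (pullback.snd G.hom _))
  haveI := connectedSpace_geomFibre hconn s₀
  obtain ⟨T, _, i, hi, -⟩ := exists_maxTorus_all (Red.bc (Red.geomPt s₀) G)
  haveI := hi.1; haveI := hi.2.1
  refine ⟨T, inferInstance, i, hi.2.2.1, inferInstance, inferInstance, fun X g => ⟨?_, fun h => ?_⟩⟩
  · rintro ⟨z, rfl⟩ X' x t
    rw [← Category.assoc x, ← MonObj.mul_comp, ← MonObj.mul_comp, TorusBilin.comm_of_isTorus hi.2.2.1]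
  · obtain ⟨t, ht⟩ := hc T i (isMaximalTorus_of_isMaxTorus hi) X g h
    exact ⟨t, ht.symm⟩

end Groth.Agent.GModLib
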