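import Groth.Agent.GModLib.CartanTorusDescent

/-!
# Fibres of subgroups defined after a base change
-/

set_option autoImplicit false
set_option backward.isDefEq.respectTransparency false
set_option backward.isDefEq.respectTransparency.types false

universe u

open CategoryTheory Limits AlgebraicGeometry MonoidalCategory CartesianMonoidalCategory MonObj GrpObj

namespace Groth.Agent.GModLib

variable {S S' U : Scheme.{u}} {a : U ⟶ S'} {g : S' ⟶ S} {b : U ⟶ S} (h : a ≫ g = b) {G : Over S} {C : Over S'}

/-- The fibre of a morphism to a base change, as a morphism to the fibre. -/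
noncomputable def fibreHom (d : C ⟶ Red.bc g G) : Red.bc a C ⟶ Red.bc b G :=
  Over.homMk (pullback.lift (pullback.fst C.hom a ≫ d.left ≫ pullback.fst G.hom g) (pullback.snd C.hom a) (by
    have hd : d.left ≫ pullback.snd G.hom g = C.hom := Over.w d
    rw [Category.assoc, Category.assoc, pullback.condition, ← Category.assoc d.left, hd, pullback.condition_assoc, h]))
    (pullback.lift_snd _ _ _)

theorem fibreHom_left_fst (d : C ⟶ Red.bc g G) :
    (fibreHom h d).left ≫ pullback.fst G.hom b = pullback.fst C.hom a ≫ d.left ≫ pullback.fst G.hom g :=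
  pullback.lift_fst _ _ _

/-- Morphisms to a base change are determined by the projection. -/
theorem bc_hom_ext {X : Over U} {x y : X ⟶ Red.bc b G}
    (e : x.left ≫ pullback.fst G.hom b = y.left ≫ pullback.fst G.hom b) : x = y :=
  Over.OverMorphism.ext (pullback.hom_ext e ((Over.w x).trans (Over.w y).symm))

variable [GrpObj G] [GrpObj C]

theorem fibreHom_eq (d : C ⟶ Red.bc g G) :
    fibreHom h d = (Over.pullback a).map d ≫ ((bcGrpIso a g b h).app (Grp.mk G)).hom.hom.hom := by
  refine bc_hom_ext ?_
  rw [fibreHom_left_fst, Over.comp_left]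
  refine Eq.trans ?_ (((congrArg (((Over.pullback a).map d).left ≫ ·) (bcGrpIso_left_fst a g b h G))).symm.trans
    (Category.assoc _ _ _).symm)
  show _ = pullback.lift _ _ _ ≫ pullback.fst (Red.bc g G).hom a ≫ _
  rw [pullback.lift_fst_assoc, Category.assoc]

/-- The identification of iterated fibres. -/
noncomputable def fibreIso (G : Over S) [GrpObj G] : Red.bc a (Red.bc g G) ≅ Red.bc b G where
  hom := ((bcGrpIso a g b h).app (Grp.mk G)).hom.hom.hom
  inv := ((bcGrpIso a g b h).app (Grp.mk G)).inv.hom.hom
  hom_inv_id := congrArg (fun φ => φ.hom.hom) ((bcGrpIso a g b h).app (Grp.mk G)).hom_inv_id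
  inv_hom_id := congrArg (fun φ => φ.hom.hom) ((bcGrpIso a g b h).app (Grp.mk G)).inv_hom_id

instance : IsMonHom (fibreIso h G).hom :=
  inferInstanceAs (IsMonHom ((bcGrpIso a g b h).app (Grp.mk G)).hom.hom.hom)

theorem fibreHom_eq' (d : C ⟶ Red.bc g G) : fibreHom h d = (Over.pullback a).map d ≫ (fibreIso h G).hom :=
  fibreHom_eq h d

theorem fibreHom_id : fibreHom h (𝟙 (Red.bc g G)) = (fibreIso h G).hom := by
  rw [fibreHom_eq', CategoryTheory.Functor.map_id, Category.id_comp]

theorem isMonHom_fibreHom (d : C ⟶ Red.bc g G) [IsMonHom d] : IsMonHom (fibreHom h d) := by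
  rw [fibreHom_eq']; infer_instance

theorem isClosedImmersion_fibreHom (d : C ⟶ Red.bc g G) [IsClosedImmersion d.left] :
    IsClosedImmersion (fibreHom h d).left := by
  rw [fibreHom_eq', Over.comp_left]
  haveI : IsClosedImmersion ((Over.pullback a).map d).left :=
    MorphismProperty.baseChange_map (P := @IsClosedImmersion) a d ‹_›
  haveI : IsIso (fibreIso h G).hom.left := inferInstanceAs (IsIso ((Over.forget _).map (fibreIso h G).hom))
  infer_instance

omit [GrpObj G] [GrpObj C] in
/-- Transitivity. -/
theorem fibreHom_comp {S'' : Scheme.{u}} {σ : U ⟶ S''} {π : S'' ⟶ S'} (hσ : σ ≫ π = a) {gπ : S'' ⟶ S}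
    (hπ : π ≫ g = gπ) {Z : Over S''} (z : Z ⟶ Red.bc π C) (d : C ⟶ Red.bc g G) :
    fibreHom (show σ ≫ gπ = b by rw [← hπ, ← Category.assoc, hσ, h]) (z ≫ fibreHom hπ d) =
      fibreHom hσ z ≫ fibreHom h d := by
  refine bc_hom_ext ?_
  rw [fibreHom_left_fst, Over.comp_left, Over.comp_left, Category.assoc, Category.assoc, fibreHom_left_fst,
    fibreHom_left_fst, ← Category.assoc (fibreHom hσ z).left, fibreHom_left_fst, Category.assoc, Category.assoc]

end Groth.Agent.GModLib
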