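import Groth.Agent.GModLib.ClosedImage
import Groth.Agent.GModLib.MaxTorus

/-!
# Fixed solutions of invariant equations
-/

set_option autoImplicit false
set_option backward.isDefEq.respectTransparency false
set_option backward.isDefEq.respectTransparency.types false

universe u

open CategoryTheory Limits AlgebraicGeometry MonoidalCategory CartesianMonoidalCategory MonObj GrpObj

namespace Groth.Agent.GModLib

open GrpSchLib GrpSchLib.Kunneth GrpSchLib.AffineHopf GrpFieldLib

variable {k : Type u} [Field k] [IsAlgClosed k] {G B S : Over (Spec (CommRingCat.of k))} [GrpObj G] [GrpObj B]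
  [GrpObj S] [IsAffine G.left] [LocallyOfFiniteType G.hom] [IsAffine S.left] [Smooth S.hom] [ConnectedSpace S.left]

/-- Equations invariant under a subgroup with proper quotient and stable under a connected solvable group have a
fixed solution. -/
theorem exists_fixed_solution (iB : B ⟶ G) (hco : Cocompact iB) (iS : S ⟶ G) [IsMonHom iS]
    (hsol : Red.IsSolvableGrp S) (F : Set (Fn G))
    (hB : ∀ (g : VecGrp.pt k k ⟶ G) (b : VecGrp.pt k k ⟶ B), (∀ f ∈ F, pullFn g f = 0) →
      ∀ f ∈ F, pullFn (g * (b ≫ iB)) f = 0)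
    (hS : ∀ (g : VecGrp.pt k k ⟶ G) (s : VecGrp.pt k k ⟶ S), (∀ f ∈ F, pullFn g f = 0) →
      ∀ f ∈ F, pullFn ((s ≫ iS) * g) f = 0)
    (hne : ∃ g : VecGrp.pt k k ⟶ G, ∀ f ∈ F, pullFn g f = 0) :
    ∃ n : VecGrp.pt k k ⟶ G, (∀ f ∈ F, pullFn n f = 0) ∧
      ∀ s : VecGrp.pt k k ⟶ S, ∃ b : VecGrp.pt k k ⟶ B, (s ≫ iS) * n = n * (b ≫ iB) := by
  classical
  obtain ⟨X, a, o, hX, hXp⟩ := hco
  haveI := hXp; haveI := hX.1
  haveI : JacobsonSpace X.left := LocallyOfFiniteType.jacobsonSpace X.hom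
  haveI : JacobsonSpace G.left := LocallyOfFiniteType.jacobsonSpace G.hom
  let π := a.orbitMap o
  haveI : IsLocallyNoetherian X.left := LocallyOfFiniteType.isLocallyNoetherian X.hom
  haveI : LocallyOfFiniteType (π.left ≫ X.hom) := by rw [Over.w π]; infer_instance
  haveI : LocallyOfFiniteType π.left := locallyOfFiniteType_of_comp π.left X.hom
  haveI : LocallyOfFinitePresentation π.left := inferInstance
  haveI : Flat π.left := hX.2.1
  haveI : Surjective π.left := hX.2.2.1
  haveI : UniversallyOpen π.left := inferInstance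
  let C : Set G.left := ⋂ f ∈ F, (G.left.basicOpen f : Set G.left)ᶜ
  have hC : IsClosed C := isClosed_biInter fun f _ => (G.left.basicOpen f).isOpen.isClosed_compl
  have hmem : ∀ g : VecGrp.pt k k ⟶ G, g.left (IsLocalRing.closedPoint k) ∈ C ↔ ∀ f ∈ F, pullFn g f = 0 := fun g => by
    simp only [C, Set.mem_iInter, Set.mem_compl_iff, SetLike.mem_coe, mem_basicOpen_iff, not_not]
  let W : Set X.left := (π.left '' Cᶜ)ᶜ
  have hW : IsClosed W := (π.left.isOpenMap _ hC.isOpen_compl).isClosed_compl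
  have horb : ∀ g g' : VecGrp.pt k k ⟶ G, g ≫ π = g' ≫ π ↔ ∃ b : VecGrp.pt k k ⟶ B, g' = g * (b ≫ iB) :=
    fun g g' => (QuotTower.orbit_eq_iff iB X a o hX g g').trans ⟨fun ⟨b, hb⟩ => ⟨b, hb.symm⟩, fun ⟨b, hb⟩ => ⟨b, hb.symm⟩⟩
  have hlift : ∀ (x : VecGrp.pt k k ⟶ X) (Z : Set G.left), IsLocallyClosed Z →
      (∃ u ∈ Z, π.left u = x.left (IsLocalRing.closedPoint k)) →
      ∃ g : VecGrp.pt k k ⟶ G, g.left (IsLocalRing.closedPoint k) ∈ Z ∧ g ≫ π = x := by
    intro x Z hZ ⟨u, hu, hux⟩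
    haveI : IsClosedImmersion (x.left ≫ X.hom) := by
      rw [Over.w x]
      show IsClosedImmersion (Spec.map (CommRingCat.ofHom (algebraMap k k)))
      rw [show CommRingCat.ofHom (algebraMap k k) = 𝟙 _ from rfl, Spec.map_id]
      infer_instance
    haveI : IsClosedImmersion x.left := IsClosedImmersion.of_comp x.left X.hom
    obtain ⟨w, hw, hwc⟩ := nonempty_inter_closedPoints (Z := Z ∩ π.left ⁻¹' Set.range x.left)
      ⟨u, hu, IsLocalRing.closedPoint k, hux.symm⟩
      (hZ.inter (x.left.isClosedEmbedding.isClosed_range.preimage π.left.continuous).isLocallyClosed)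
    obtain ⟨g, hg⟩ := exists_point_of_isClosed (K := k) G hwc
    have hg' : g.left (IsLocalRing.closedPoint k) = w := hg
    obtain ⟨z, hz⟩ := exists_lift_point x (g ≫ π) (by
      rw [Over.comp_left, Scheme.Hom.comp_apply, hg']
      exact hw.2)
    rw [S11188.pt_end_eq z, Category.id_comp] at hz
    exact ⟨g, hg' ▸ hw.1, hz.symm⟩
  have hWmem : ∀ g : VecGrp.pt k k ⟶ G, (g ≫ π).left (IsLocalRing.closedPoint k) ∈ W ↔
      g.left (IsLocalRing.closedPoint k) ∈ C := by
    intro g
    constructor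
    · intro h
      by_contra hg
      exact h ⟨_, hg, by rw [Over.comp_left, Scheme.Hom.comp_apply]⟩
    · intro hg ⟨u, hu, hux⟩
      obtain ⟨g', hg', he⟩ := hlift (g ≫ π) Cᶜ hC.isOpen_compl.isLocallyClosed ⟨u, hu, hux⟩
      obtain ⟨b, hb⟩ := (horb g g').mp he.symm
      exact hg' (hb ▸ (hmem _).mpr (hB g b ((hmem g).mp hg)))
  obtain ⟨g₀, hg₀⟩ := hne
  obtain ⟨x, hxfix, hxW⟩ := exists_fixed_in_closed hsol (restrictAct a iS) hW
    ⟨_, (hWmem g₀).mpr ((hmem g₀).mpr hg₀)⟩ fun s x hx => by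
      obtain ⟨g, -, rfl⟩ := hlift x Set.univ isClosed_univ.isLocallyClosed (by
        obtain ⟨u, hu⟩ := π.left.surjective (x.left (IsLocalRing.closedPoint k))
        exact ⟨u, trivial, hu⟩)
      rw [restrictAct_act, show g ≫ π = g ≫ a.orbitMap o from rfl, comp_orbitMap, act_mul, ← comp_orbitMap, hWmem,
        hmem]
      exact hS g s ((hmem g).mp ((hWmem g).mp hx))
  obtain ⟨g, -, hg⟩ := hlift (toUnit _ ≫ x) Set.univ isClosed_univ.isLocallyClosed (by
    obtain ⟨u, hu⟩ := π.left.surjective ((toUnit (VecGrp.pt k k) ≫ x).left (IsLocalRing.closedPoint k))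
    exact ⟨u, trivial, hu⟩)
  refine ⟨g, (hmem g).mp ((hWmem g).mp ?_), fun s => ?_⟩
  · rw [hg, Over.comp_left, Scheme.Hom.comp_apply]
    have e : (toUnit (VecGrp.pt k k)).left (IsLocalRing.closedPoint k) = IsLocalRing.closedPoint k :=
      @Subsingleton.elim _ (inferInstanceAs (Subsingleton (PrimeSpectrum k))) _ _
    rw [e]
    exact hxW
  · have e : g ≫ π = ((s ≫ iS) * g) ≫ π := by
      have h1 := hxfix (VecGrp.pt k k) s
      rw [restrictAct_act, ← hg, comp_orbitMap, act_mul, ← comp_orbitMap, ← comp_orbitMap] at h1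
      exact h1.symm
    exact (horb _ _).mp e

end Groth.Agent.GModLib
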