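import Groth.Agent.GrassX.Power
import Groth.Agent.GrpSchLib.AntiAffineGMod
import Groth.Agent.GrpSchLib.MatrixCoeff
import Groth.Agent.GrpSchLib.Action

/-!
# The action of a group on the projective space of hyperplanes of a representation
-/

set_option autoImplicit false
set_option backward.isDefEq.respectTransparency false
set_option backward.isDefEq.respectTransparency.types false

universe u

open CategoryTheory AlgebraicGeometry MonoidalCategory CartesianMonoidalCategory MonObj GrpObj TensorProduct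

namespace Groth.Agent.GModLib.GrassAct

open GrpSchLib GrpSchLib.Kunneth GrassX Synt29.GrassGraph Synt29.RepOpen
open Module (Grassmannian)

variable {k : Type u} [Field k] {G : Over (Spec (CommRingCat.of k))} [GrpObj G] {d q : ℕ}
  {M : Matrix (Fin d) (Fin d) (Fn G)}

theorem map_pullFn_mul (hM : IsRepMatrix M) {A : CommAlgCat.{u} k} (g h : sp A ⟶ G) :
    M.map (pullFn (g * h)) = M.map (pullFn g) * M.map (pullFn h) := by
  have e := congrArg ((Scheme.ΓSpecIso (CommRingCat.of A)).hom).hom.mapMatrix (hM.mul _ g h)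
  rw [map_mul] at e
  exact e

theorem map_pullFn_one (hM : IsRepMatrix M) (A : CommAlgCat.{u} k) :
    M.map (pullFn (1 : sp A ⟶ G)) = 1 := by
  have e := congrArg ((Scheme.ΓSpecIso (CommRingCat.of A)).hom).hom.mapMatrix (hM.one (sp A))
  rw [map_one] at e
  exact e

/-- The linear automorphism given by a point of the group. -/
noncomputable def E (hM : IsRepMatrix M) {A : CommAlgCat.{u} k} (g : sp A ⟶ G) :
    (A ⊗[k] (Fin d → k)) ≃ₗ[A] A ⊗[k] (Fin d → k) :=
  LinearEquiv.ofLinear (Matrix.toLin (bas A) (bas A) (M.map (pullFn g)))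
    (Matrix.toLin (bas A) (bas A) (M.map (pullFn g⁻¹)))
    (by rw [← Matrix.toLin_mul, ← map_pullFn_mul hM, mul_inv_cancel, map_pullFn_one hM, Matrix.toLin_one])
    (by rw [← Matrix.toLin_mul, ← map_pullFn_mul hM, inv_mul_cancel, map_pullFn_one hM, Matrix.toLin_one])

theorem E_apply (hM : IsRepMatrix M) {A : CommAlgCat.{u} k} (g : sp A ⟶ G) (x : A ⊗[k] (Fin d → k)) :
    E hM g x = Matrix.toLin (bas A) (bas A) (M.map (pullFn g)) x := rfl

theorem ι_E (hM : IsRepMatrix M) {A B : CommAlgCat.{u} k} (φ : A ⟶ B) (g : sp A ⟶ G) (g' : sp B ⟶ G)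
    (hg : g'.left = Spec.map (CommRingCat.ofHom φ.hom.toRingHom) ≫ g.left) (x : A ⊗[k] (Fin d → k)) :
    Synt29.GrassGraph.ι φ.hom (E hM g x) = E hM g' (Synt29.GrassGraph.ι φ.hom x) := by
  have hg' : g' = VecGrp.ptMap φ.hom ≫ g := Over.OverMorphism.ext hg
  rw [E_apply, E_apply, ← (bas A).sum_repr x]
  simp only [map_sum, map_smul, ι_smul, ι_bas, Matrix.toLin_self]
  refine Finset.sum_congr rfl fun c _ => ?_
  congr 1
  refine Finset.sum_congr rfl fun i _ => ?_
  congr 1
  simp only [Matrix.map_apply, hg', pullFn_ptMap]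

/-- The translate of a point of the Grassmannian. -/
noncomputable def mv (hM : IsRepMatrix M) {A : CommAlgCat.{u} k} (g : sp A ⟶ G)
    (N : Grassmannian A (A ⊗[k] (Fin d → k)) q) : Grassmannian A (A ⊗[k] (Fin d → k)) q where
  toSubmodule := N.toSubmodule.map (E hM g).toLinearMap
  finite_quotient := Module.Finite.equiv (Submodule.Quotient.equiv _ _ (E hM g) rfl)
  projective_quotient := Module.Projective.of_equiv (Submodule.Quotient.equiv _ _ (E hM g) rfl)
  rankAtStalk_eq p := by
    rw [← Module.rankAtStalk_eq_of_equiv (Submodule.Quotient.equiv N.toSubmodule _ (E hM g) rfl)]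
    exact N.rankAtStalk_eq p

theorem map_mv (hM : IsRepMatrix M) {A B : CommAlgCat.{u} k} (φ : A ⟶ B) (g : sp A ⟶ G) (g' : sp B ⟶ G)
    (hg : g'.left = Spec.map (CommRingCat.ofHom φ.hom.toRingHom) ≫ g.left)
    (N : Grassmannian A (A ⊗[k] (Fin d → k)) q) :
    mv hM g' (Grassmannian.map φ.hom N) = Grassmannian.map φ.hom (mv hM g N) := by
  refine Grassmannian.ext ?_
  rw [map_eq_span]
  show Submodule.map _ (Grassmannian.map φ.hom N).toSubmodule = Submodule.span B (Synt29.GrassGraph.ι φ.hom '' ((N.toSubmodule.map (E hM g).toLinearMap : Submodule A _) : Set (A ⊗[k] (Fin d → k))))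
  rw [map_eq_span, Submodule.map_span, Submodule.map_coe, Set.image_image, Set.image_image]
  congr 1
  refine Set.image_congr fun x _ => ?_
  exact (ι_E hM φ g g' hg x).symm

theorem mv_one (hM : IsRepMatrix M) {A : CommAlgCat.{u} k} (N : Grassmannian A (A ⊗[k] (Fin d → k)) q) :
    mv hM (1 : sp A ⟶ G) N = N := by
  refine Grassmannian.ext ?_
  show N.toSubmodule.map _ = _
  rw [show (E hM (1 : sp A ⟶ G)).toLinearMap = LinearMap.id from by
    show Matrix.toLin _ _ _ = _
    rw [map_pullFn_one hM, Matrix.toLin_one], Submodule.map_id]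

theorem mv_mul (hM : IsRepMatrix M) {A : CommAlgCat.{u} k} (g h : sp A ⟶ G)
    (N : Grassmannian A (A ⊗[k] (Fin d → k)) q) : mv hM (g * h) N = mv hM g (mv hM h N) := by
  refine Grassmannian.ext ?_
  show N.toSubmodule.map _ = (N.toSubmodule.map _).map _
  rw [← Submodule.map_comp]
  congr 1
  show Matrix.toLin _ _ _ = Matrix.toLin _ _ _ ∘ₗ Matrix.toLin _ _ _
  rw [← Matrix.toLin_mul, map_pullFn_mul hM]

/-- The hyperplanes of a representation form a proper scheme with an action, and a fixed point is a common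
row eigenvector. -/
theorem exists_hyperplanes (hM : IsRepMatrix M) (hd : 0 < d) :
    ∃ (X : Over (Spec (CommRingCat.of k))) (a : AlgGrp.Action G X), IsProper X.hom ∧ Nonempty X.left ∧
      ∀ x : 𝟙_ (Over (Spec (CommRingCat.of k))) ⟶ X, a.IsFixedPt x →
        ∃ c : Fin d → k, c ≠ 0 ∧ ∀ g : VecGrp.pt k k ⟶ G, ∃ χ : k, Matrix.vecMul c (M.map (pullFn g)) = χ • c := by
  classical
  obtain ⟨X, e, he⟩ := exists_grassRep (R := k) d 1
  have hp := isProper_of_grassRep (R := k) (d := d) (q := 1) hd he
  obtain ⟨act, hact⟩ := exists_overHom (Y := G ⊗ X) (X := X)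
    (fun A u => (e A).symm (mv hM (u ≫ fst G X) (e A (u ≫ snd G X)))) (fun A B φ u u' hu => by
      have h1 : spOver φ ≫ (e A).symm (mv hM (u ≫ fst G X) (e A (u ≫ snd G X))) =
          (e B).symm (mv hM (u' ≫ fst G X) (e B (u' ≫ snd G X))) := (e B).injective (by
        rw [Equiv.apply_symm_apply, he.isNat A B φ, Equiv.apply_symm_apply,
          he A B φ (u ≫ snd G X) (u' ≫ snd G X) (by simp [hu])]
        exact (map_mv hM φ _ _ (by simp [hu]) _).symm)
      exact (congrArg CommaMorphism.left h1).symm)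
  let a : AlgGrp.Action G X :=
    { act := act
      one_act := overHom_ext fun A u => congrArg CommaMorphism.left (show u ≫ (η[G] ▷ X) ≫ act = u ≫ (λ_ X).hom from
        (e A).injective (by
          rw [← Category.assoc, hact, Equiv.apply_symm_apply, Category.assoc, Category.assoc, whiskerRight_fst,
            whiskerRight_snd, MonObj.one_eq_one, MonObj.comp_one, MonObj.comp_one, mv_one, leftUnitor_hom]))
      mul_act := overHom_ext fun A u => congrArg CommaMorphism.left
        (show u ≫ (μ[G] ▷ X) ≫ act = u ≫ (α_ G G X).hom ≫ (G ◁ act) ≫ act from (e A).injective (by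
          rw [← Category.assoc, hact, Equiv.apply_symm_apply, ← Category.assoc u (α_ G G X).hom,
            ← Category.assoc (u ≫ (α_ G G X).hom), hact, Equiv.apply_symm_apply, Category.assoc, Category.assoc,
            whiskerRight_fst, whiskerRight_snd, Category.assoc _ (G ◁ act) (fst _ _),
            Category.assoc _ (G ◁ act) (snd _ _), whiskerLeft_fst, whiskerLeft_snd, ← Category.assoc _ (snd _ _) act,
            hact, Equiv.apply_symm_apply, ← mv_mul]
          congr 1
          · rw [show μ[G] = fst G G * snd G G by rw [Hom.mul_def, lift_fst_snd, Category.id_comp], MonObj.comp_mul,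
              MonObj.comp_mul]
            congr 1
            · simp
            · simp
          · simp)) }
  refine ⟨X, a, hp, ?_, fun x hx => ?_⟩
  · let f : (k ⊗[k] (Fin d → k)) →ₗ[k] k := (bas k).coord ⟨0, hd⟩
    have hf : Function.Surjective f := fun r => ⟨r • bas k ⟨0, hd⟩, by simp [f]⟩
    let eq := LinearMap.quotKerEquivOfSurjective f hf
    let N : Grassmannian k (k ⊗[k] (Fin d → k)) 1 :=
      { toSubmodule := LinearMap.ker f
        finite_quotient := Module.Finite.equiv eq.symm
        projective_quotient := Module.Projective.of_equiv eq.symm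
        rankAtStalk_eq := fun p => by
          rw [Module.rankAtStalk_eq_of_equiv eq]
          simp }
    exact ⟨((e (CommAlgCat.of k k)).symm N).left (IsLocalRing.closedPoint k)⟩
  let A₀ : CommAlgCat.{u} k := CommAlgCat.of k k
  let N := e A₀ (toUnit (sp A₀) ≫ x)
  obtain ⟨eq⟩ : Nonempty (((k ⊗[k] (Fin d → k)) ⧸ N.toSubmodule) ≃ₗ[k] k) := by
    haveI := N.finite_quotient
    refine FiniteDimensional.nonempty_linearEquiv_of_finrank_eq ?_
    have h := N.rankAtStalk_eq (IsLocalRing.closedPoint k)
    rw [Module.rankAtStalk_eq_finrank_of_free] at h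
    simpa using h
  let l : (k ⊗[k] (Fin d → k)) →ₗ[k] k := eq.toLinearMap ∘ₗ N.toSubmodule.mkQ
  have hl : ∀ z, l z = 0 ↔ z ∈ N.toSubmodule := fun z => by simp [l]
  obtain ⟨z₀, hz₀⟩ : ∃ z, l z = 1 := ⟨(N.toSubmodule.mkQ_surjective (eq.symm 1)).choose, by
    show eq _ = 1
    rw [(N.toSubmodule.mkQ_surjective (eq.symm 1)).choose_spec, LinearEquiv.apply_symm_apply]⟩
  refine ⟨fun j => l (bas k j), fun h => ?_, fun g => ?_⟩
  · have : l = 0 := (bas k).ext fun j => congrFun h j
    simp [this] at hz₀
  let g₀ : sp A₀ ⟶ G := g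
  have hfix : mv hM g₀ N = N := by
    have h := congrArg (e A₀) ((hact A₀ (lift g₀ (toUnit _ ≫ x))).symm.trans (hx _ g₀))
    rwa [Equiv.apply_symm_apply, lift_fst, lift_snd] at h
  have hker : ∀ z ∈ N.toSubmodule, E hM g₀ z ∈ N.toSubmodule := fun z hz => by
    rw [← hfix]
    exact ⟨z, hz, rfl⟩
  refine ⟨l (E hM g₀ z₀), funext fun j => ?_⟩
  have key : l (E hM g₀ (bas k j)) = l (E hM g₀ z₀) * l (bas k j) := by
    have hm : bas k j - l (bas k j) • z₀ ∈ N.toSubmodule := (hl _).mp (by simp [hz₀])
    have h := (hl _).mpr (hker _ hm)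
    rw [map_sub, map_smul, map_sub, map_smul, sub_eq_zero] at h
    rw [h, smul_eq_mul, mul_comm]
  rw [Pi.smul_apply, smul_eq_mul, ← key, E_apply, Matrix.toLin_self, map_sum]
  simp only [Matrix.vecMul, dotProduct, map_smul, smul_eq_mul]
  exact Finset.sum_congr rfl fun i _ => mul_comm _ _

end Groth.Agent.GModLib.GrassAct
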