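import Groth.Agent.MultConjLib.Ext
import Groth.Agent.AvgLib.Group
import Mathlib.GroupTheory.OrderOfElement
import Mathlib.Tactic.LinearCombination

/-!
# The kernel of reduction along an ideal of square zero

For any group scheme the points congruent to the unit modulo an ideal of square zero form a commutative group,
uniquely divisible by every integer invertible in the ring. No smoothness is needed: the multiples of a point are its
pullbacks along the scalings of the ring of congruent pairs.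
-/

universe u

open CategoryTheory CategoryTheory.Limits MonoidalCategory CartesianMonoidalCategory MonObj GrpObj AlgebraicGeometry

namespace Groth.Agent.GModLib.InfKernel

open GrpSchLib.DiagActionRigid (sp spm spm_comp spm_id)
open MultConjLib (Ext extFst extSnd ext_hom_ext exists_ext_one)

set_option backward.isDefEq.respectTransparency false

variable {S : Scheme.{u}} {A : Type u} [CommRing A] {b : Spec (CommRingCat.of A) ⟶ S} {I : Ideal A}

local notation "E" => Ext (R := A) I A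

theorem ext_mem (z : E) : z.1.2 - z.1.1 ∈ I := by
  have h : z.1.2 - algebraMap A A z.1.1 ∈ I.map (algebraMap A A) := z.2
  rw [show algebraMap A A = RingHom.id A from rfl, Ideal.map_id] at h
  exact h

theorem mul_eq_zero_of_mem (hI : I ^ 2 = ⊥) {a c : A} (ha : a ∈ I) (hc : c ∈ I) : a * c = 0 := by
  have h := Ideal.mul_mem_mul ha hc
  rwa [← sq, hI, Ideal.mem_bot] at h

/-- The scaling of congruent pairs. -/
def scl (hI : I ^ 2 = ⊥) (r : A) : E →ₐ[A] A where
  toFun z := z.1.1 + r * (z.1.2 - z.1.1)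
  map_one' := by simp
  map_zero' := by simp
  map_add' p q := by
    show (p.1.1 + q.1.1) + r * ((p.1.2 + q.1.2) - (p.1.1 + q.1.1)) = _
    ring
  map_mul' p q := by
    show p.1.1 * q.1.1 + r * (p.1.2 * q.1.2 - p.1.1 * q.1.1) =
      (p.1.1 + r * (p.1.2 - p.1.1)) * (q.1.1 + r * (q.1.2 - q.1.1))
    linear_combination (r - r * r) * mul_eq_zero_of_mem hI (ext_mem p) (ext_mem q)
  commutes' a := by
    show a + r * (a - a) = a
    simp

/-- Triples of congruent elements. -/
def Tri (I : Ideal A) : Subalgebra A (A × A × A) where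
  carrier := {z | z.2.1 - z.1 ∈ I ∧ z.2.2 - z.1 ∈ I}
  mul_mem' := fun {p q} hp hq => by
    refine ⟨?_, ?_⟩
    · rw [show (p * q).2.1 - (p * q).1 = p.2.1 * (q.2.1 - q.1) + q.1 * (p.2.1 - p.1) by
        show p.2.1 * q.2.1 - p.1 * q.1 = _
        ring]
      exact add_mem (Ideal.mul_mem_left _ _ hq.1) (Ideal.mul_mem_left _ _ hp.1)
    · rw [show (p * q).2.2 - (p * q).1 = p.2.2 * (q.2.2 - q.1) + q.1 * (p.2.2 - p.1) by
        show p.2.2 * q.2.2 - p.1 * q.1 = _
        ring]
      exact add_mem (Ideal.mul_mem_left _ _ hq.2) (Ideal.mul_mem_left _ _ hp.2)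
  add_mem' := fun {p q} hp hq => by
    refine ⟨?_, ?_⟩
    · show (p.2.1 + q.2.1) - (p.1 + q.1) ∈ I
      rw [add_sub_add_comm]; exact add_mem hp.1 hq.1
    · show (p.2.2 + q.2.2) - (p.1 + q.1) ∈ I
      rw [add_sub_add_comm]; exact add_mem hp.2 hq.2
  algebraMap_mem' := fun a => by
    refine ⟨?_, ?_⟩ <;>
    · show a - a ∈ I
      rw [sub_self]; exact zero_mem _

/-- The first two entries. -/
def triPair (I : Ideal A) : Tri I →ₐ[A] Ext (R := A) I A :=
  (((AlgHom.fst A A (A × A)).comp (Tri I).val).prod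
    (((AlgHom.fst A A A).comp (AlgHom.snd A A (A × A))).comp (Tri I).val)).codRestrict _ fun z => by
      show z.1.2.1 - algebraMap A A z.1.1 ∈ I.map (algebraMap A A)
      rw [show algebraMap A A = RingHom.id A from rfl, Ideal.map_id]
      exact z.2.1

/-- The last entry. -/
def triLast (I : Ideal A) : Tri I →ₐ[A] A :=
  ((AlgHom.snd A A A).comp (AlgHom.snd A A (A × A))).comp (Tri I).val

theorem isFibreProd_tri :
    RingPO.IsFibreProd (Ideal.Quotient.mk I) ((Ideal.Quotient.mk I).comp (extFst (R := A) I A).toRingHom)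
      (triLast I).toRingHom (triPair I).toRingHom where
  surj := Ideal.Quotient.mk_surjective
  comm z := Ideal.Quotient.eq.mpr z.2.2
  ext z z' h₁ h₂ := by
    have e := congrArg Subtype.val h₂
    exact Subtype.ext (Prod.ext (Prod.ext_iff.mp e).1 (Prod.ext (Prod.ext_iff.mp e).2 h₁))
  exists_of_eq t a h := ⟨⟨(t.1.1, t.1.2, a), ext_mem t, Ideal.Quotient.eq.mp h⟩, rfl, Subtype.ext rfl⟩

/-- The sum of two congruences. -/
def triSum (hI : I ^ 2 = ⊥) : Tri I →ₐ[A] A where
  toFun z := z.1.2.1 + z.1.2.2 - z.1.1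
  map_one' := by simp
  map_zero' := by simp
  map_add' p q := by
    show (p.1.2.1 + q.1.2.1) + (p.1.2.2 + q.1.2.2) - (p.1.1 + q.1.1) = _
    ring
  map_mul' p q := by
    show p.1.2.1 * q.1.2.1 + p.1.2.2 * q.1.2.2 - p.1.1 * q.1.1 =
      (p.1.2.1 + p.1.2.2 - p.1.1) * (q.1.2.1 + q.1.2.2 - q.1.1)
    linear_combination -mul_eq_zero_of_mem hI p.2.1 q.2.2 - mul_eq_zero_of_mem hI p.2.2 q.2.1
  commutes' a := by
    show a + a - a = a
    simp

theorem scl_sub_mem (hI : I ^ 2 = ⊥) (r : A) (z : E) : scl hI r z - z.1.1 ∈ I := by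
  show z.1.1 + r * (z.1.2 - z.1.1) - z.1.1 ∈ I
  rw [add_sub_cancel_left]
  exact Ideal.mul_mem_left _ _ (ext_mem z)

/-- Two scalings at once. -/
def sclTri (hI : I ^ 2 = ⊥) (r r' : A) : E →ₐ[A] Tri I :=
  ((extFst I A).prod ((scl hI r).prod (scl hI r'))).codRestrict _ fun z =>
    ⟨scl_sub_mem hI r z, scl_sub_mem hI r' z⟩

/-- One scaling. -/
def sclPair (hI : I ^ 2 = ⊥) (r : A) : E →ₐ[A] E := (triPair I).comp (sclTri hI r 0)

variable {X : Over S}

theorem tri_hom_ext {y y' : sp b (Tri I) ⟶ X}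
    (h₁ : spm b ((extFst I A).comp (triPair I)) ≫ y = spm b ((extFst I A).comp (triPair I)) ≫ y')
    (h₂ : spm b ((extSnd I A).comp (triPair I)) ≫ y = spm b ((extSnd I A).comp (triPair I)) ≫ y')
    (h₃ : spm b (triLast I) ≫ y = spm b (triLast I) ≫ y') : y = y' := by
  have e : spm b (triPair I) ≫ y = spm b (triPair I) ≫ y' := by
    apply ext_hom_ext I
    · simpa only [← Category.assoc, spm_comp] using h₂
    · simpa only [← Category.assoc, spm_comp] using h₁
  exact Over.OverMorphism.ext ((isFibreProd_tri (I := I)).isPushout.hom_ext (congrArg CommaMorphism.left h₃)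
    (congrArg CommaMorphism.left e))

variable {G : Over S} [GrpObj G]

/-- The reduction of points. -/
noncomputable def red (b : Spec (CommRingCat.of A) ⟶ S) (I : Ideal A) (G : Over S) [GrpObj G] :
    (sp b A ⟶ G) →* (sp b (A ⧸ I) ⟶ G) where
  toFun x := spm b (Ideal.Quotient.mkₐ A I) ≫ x
  map_one' := MonObj.comp_one _
  map_mul' x y := MonObj.comp_mul _ x y

/-- A point of the kernel as a point on congruent pairs. -/
theorem exists_pair {x : sp b A ⟶ G} (hx : x ∈ (red b I G).ker) :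
    ∃ y : sp b E ⟶ G, spm b (extSnd I A) ≫ y = x ∧ spm b (extFst I A) ≫ y = 1 := by
  have h : ∀ J : Ideal A, J = I → spm b (Ideal.Quotient.mkₐ A J) ≫ x = 1 := by
    rintro J rfl
    exact hx
  exact exists_ext_one I x (h _ (Ideal.map_id I))

theorem scl_add (hI : I ^ 2 = ⊥) {y : sp b E ⟶ G} (hy : spm b (extFst I A) ≫ y = 1) (r r' : A) :
    spm b (scl hI (r + r')) ≫ y = (spm b (scl hI r) ≫ y) * (spm b (scl hI r') ≫ y) := by
  have h0 : scl (I := I) hI 0 = extFst I A := AlgHom.ext fun z => by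
    show z.1.1 + 0 * _ = z.1.1
    simp
  have hk : spm b (sclTri hI r r') ≫ y = (spm b (sclTri hI r 0) ≫ y) * (spm b (sclTri hI 0 r') ≫ y) := by
    apply tri_hom_ext <;> rw [MonObj.comp_mul] <;> simp only [← Category.assoc, spm_comp]
    · show spm b (extFst I A) ≫ y = (spm b (extFst I A) ≫ y) * (spm b (extFst I A) ≫ y)
      rw [hy, _root_.mul_one]
    · show spm b (scl hI r) ≫ y = (spm b (scl hI r) ≫ y) * (spm b (scl hI 0) ≫ y)
      rw [h0, hy, _root_.mul_one]
    · show spm b (scl hI r') ≫ y = (spm b (scl hI 0) ≫ y) * (spm b (scl hI r') ≫ y)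
      rw [h0, hy, _root_.one_mul]
  have hs : ∀ s s' : A, (triSum hI).comp (sclTri hI s s') = scl hI (s + s') := fun s s' => AlgHom.ext fun z => by
    show (z.1.1 + s * (z.1.2 - z.1.1)) + (z.1.1 + s' * (z.1.2 - z.1.1)) - z.1.1 = z.1.1 + (s + s') * (z.1.2 - z.1.1)
    ring
  have h := congrArg (spm b (triSum hI) ≫ ·) hk
  simpa only [MonObj.comp_mul, ← Category.assoc, spm_comp, hs, add_zero, zero_add] using h

theorem scl_one (hI : I ^ 2 = ⊥) : scl (I := I) hI 1 = extSnd I A := AlgHom.ext fun z => by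
  show z.1.1 + 1 * (z.1.2 - z.1.1) = z.1.2
  ring

theorem scl_natCast (hI : I ^ 2 = ⊥) {y : sp b E ⟶ G} (hy : spm b (extFst I A) ≫ y = 1) (r : A) (n : ℕ) :
    spm b (scl hI (n * r)) ≫ y = (spm b (scl hI r) ≫ y) ^ n := by
  induction n with
  | zero =>
    have h := scl_add hI hy 0 0
    simp only [add_zero] at h
    rw [Nat.cast_zero, zero_mul, pow_zero]
    exact left_eq_mul.mp h
  | succ n ih => rw [Nat.cast_succ, add_mul, _root_.one_mul, scl_add hI hy, ih, pow_succ]

/-- The kernel of reduction is commutative. -/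
theorem ker_comm (hI : I ^ 2 = ⊥) {x x' : sp b A ⟶ G} (hx : x ∈ (red b I G).ker) (hx' : x' ∈ (red b I G).ker) :
    x * x' = x' * x := by
  obtain ⟨y, hy, hy₁⟩ := exists_pair hx
  obtain ⟨y', hy', hy'₁⟩ := exists_pair hx'
  have h0 : scl (I := I) hI 0 = extFst I A := AlgHom.ext fun z => by
    show z.1.1 + 0 * _ = z.1.1
    simp
  let U := spm b (sclTri hI 1 0) ≫ y
  let V := spm b (sclTri hI 0 1) ≫ y'
  have hUV : U * V = V * U := by
    apply tri_hom_ext <;> simp only [U, V, MonObj.comp_mul, ← Category.assoc, spm_comp]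
    · show (spm b (extFst I A) ≫ y) * (spm b (extFst I A) ≫ y') = (spm b (extFst I A) ≫ y') * (spm b (extFst I A) ≫ y)
      rw [hy₁, hy'₁]
    · show (spm b (scl hI 1) ≫ y) * (spm b (scl hI 0) ≫ y') = (spm b (scl hI 0) ≫ y') * (spm b (scl hI 1) ≫ y)
      rw [h0, hy'₁, _root_.mul_one, _root_.one_mul]
    · show (spm b (scl hI 0) ≫ y) * (spm b (scl hI 1) ≫ y') = (spm b (scl hI 1) ≫ y') * (spm b (scl hI 0) ≫ y)
      rw [h0, hy₁, _root_.mul_one, _root_.one_mul]
  have h₁ : (triSum hI).comp (sclTri hI 1 0) = scl hI 1 := AlgHom.ext fun z => by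
    show (z.1.1 + 1 * (z.1.2 - z.1.1)) + (z.1.1 + 0 * (z.1.2 - z.1.1)) - z.1.1 = z.1.1 + 1 * (z.1.2 - z.1.1)
    ring
  have h₂ : (triSum hI).comp (sclTri hI 0 1) = scl hI 1 := AlgHom.ext fun z => by
    show (z.1.1 + 0 * (z.1.2 - z.1.1)) + (z.1.1 + 1 * (z.1.2 - z.1.1)) - z.1.1 = z.1.1 + 1 * (z.1.2 - z.1.1)
    ring
  have h := congrArg (spm b (triSum hI) ≫ ·) hUV
  simpa only [U, V, MonObj.comp_mul, ← Category.assoc, spm_comp, h₁, h₂, scl_one, hy, hy'] using h

/-- The kernel of reduction is uniquely divisible by the integers invertible in the ring. -/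
theorem ker_pow_bijective (hI : I ^ 2 = ⊥) {n : ℕ} (hn : IsUnit (n : A)) :
    Function.Bijective fun x : (red b I G).ker => x ^ n := by
  obtain ⟨r, hr⟩ := hn.exists_right_inv
  letI : CommGroup (red b I G).ker :=
    { (inferInstance : Group (red b I G).ker) with mul_comm := fun x y => Subtype.ext (ker_comm hI x.2 y.2) }
  refine ⟨fun x x' h => ?_, fun x => ?_⟩
  · suffices hone : ∀ z : (red b I G).ker, z ^ n = 1 → z = 1 by
      refine div_eq_one.mp (hone _ ?_)
      rw [div_pow, div_eq_one]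
      exact h
    intro z hz
    obtain ⟨y, hy, hy₁⟩ := exists_pair z.2
    have hz' : (z : sp b A ⟶ G) ^ n = 1 := congrArg Subtype.val hz
    have hp : spm b (sclPair hI (n : A)) ≫ y = 1 := by
      apply ext_hom_ext I <;> simp only [MonObj.comp_one, ← Category.assoc, spm_comp]
      · show spm b (scl hI (n : A)) ≫ y = 1
        rw [← _root_.mul_one (n : A), scl_natCast hI hy₁, scl_one, hy, hz']
      · show spm b (extFst I A) ≫ y = 1
        exact hy₁
    have h2 := congrArg (spm b (scl hI r) ≫ ·) hp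
    simp only [MonObj.comp_one, ← Category.assoc, spm_comp] at h2
    have h3 : (scl hI r).comp (sclPair hI (n : A)) = extSnd I A := AlgHom.ext fun w => by
      show w.1.1 + r * ((w.1.1 + (n : A) * (w.1.2 - w.1.1)) - w.1.1) = w.1.2
      linear_combination (w.1.2 - w.1.1) * hr
    rw [h3, hy] at h2
    exact Subtype.ext h2
  · obtain ⟨y, hy, hy₁⟩ := exists_pair x.2
    refine ⟨⟨spm b (scl hI r) ≫ y, ?_⟩, Subtype.ext ?_⟩
    · show spm b (Ideal.Quotient.mkₐ A I) ≫ spm b (scl hI r) ≫ y = 1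
      rw [← Category.assoc, spm_comp,
        show (Ideal.Quotient.mkₐ A I).comp (scl hI r) = (Ideal.Quotient.mkₐ A I).comp (extFst I A) from
          AlgHom.ext fun z => Ideal.Quotient.eq.mpr (scl_sub_mem hI r z),
        ← spm_comp, Category.assoc, hy₁, MonObj.comp_one]
    · rw [SubmonoidClass.coe_pow]
      show (spm b (scl hI r) ≫ y) ^ n = _
      rw [← scl_natCast hI hy₁, hr, scl_one, hy]

/-- A point whose power is congruent to the unit is congruent to a torsion point. -/
theorem exists_pow_eq_one (hI : I ^ 2 = ⊥) {n : ℕ} (hn : IsUnit (n : A)) (g : sp b A ⟶ G)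
    (hg : g ^ n ∈ (red b I G).ker) : ∃ g' : sp b A ⟶ G, red b I G g' = red b I G g ∧ g' ^ n = 1 := by
  obtain ⟨r, hr⟩ := (ker_pow_bijective hI hn).2 ⟨(g ^ n)⁻¹, inv_mem hg⟩
  have hr' : (r : sp b A ⟶ G) ^ n = (g ^ n)⁻¹ := congrArg Subtype.val hr
  have hc : g * r * g⁻¹ = (r : sp b A ⟶ G) := by
    refine congrArg Subtype.val ((ker_pow_bijective hI hn).1
      (a₁ := ⟨_, (red b I G).normal_ker.conj_mem _ r.2 g⟩) (a₂ := r) (Subtype.ext ?_))
    show (g * (r : sp b A ⟶ G) * g⁻¹) ^ n = (r : sp b A ⟶ G) ^ n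
    rw [conj_pow, hr']
    group
  refine ⟨g * r, by rw [_root_.map_mul, MonoidHom.mem_ker.mp r.2, _root_.mul_one], ?_⟩
  rw [(show Commute g (r : sp b A ⟶ G) from mul_inv_eq_iff_eq_mul.mp hc).mul_pow, hr', mul_inv_cancel]

/-- A point commuting modulo the ideal with a torsion point is congruent to one commuting with it. -/
theorem exists_commute (hI : I ^ 2 = ⊥) {n : ℕ} [NeZero n] (hn : IsUnit (n : A)) (g c : sp b A ⟶ G)
    (hg : g ^ n = 1) (hc : red b I G (c * g) = red b I G (g * c)) :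
    ∃ c' : sp b A ⟶ G, red b I G c' = red b I G c ∧ c' * g = g * c' := by
  have hm : ∀ i j : ℕ, (i : ZMod n) = j → g ^ i = g ^ j := fun i j h => by
    rw [pow_eq_pow_iff_modEq]
    exact Nat.ModEq.of_dvd (orderOf_dvd_of_pow_eq_one hg) ((ZMod.natCast_eq_natCast_iff' i j n).mp h)
  let s : Multiplicative (ZMod n) →* (sp b A ⟶ G) := MonoidHom.mk' (fun i => g ^ i.toAdd.val) fun i j => by
    rw [← pow_add]
    exact hm _ _ (by simp [ZMod.natCast_zmod_val])
  let t : Multiplicative (ZMod n) →* (sp b A ⟶ G) := (MulAut.conj c).toMonoidHom.comp s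
  have hcg : ∀ i : ℕ, red b I G c * red b I G g ^ i = red b I G g ^ i * red b I G c := fun i =>
    (show Commute (red b I G c) (red b I G g) by
      show _ = _
      rw [← _root_.map_mul, ← _root_.map_mul, hc]).pow_right i
  haveI := (red b I G).normal_ker
  obtain ⟨u, hu, hst, -⟩ := AvgLib.exists_conj (U := (red b I G).ker)
    (fun x y => Subtype.ext (ker_comm hI x.2 y.2))
    (by
      rw [Fintype.card_multiplicative, ZMod.card]
      exact ker_pow_bijective hI hn) s t fun i => by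
      rw [MonoidHom.mem_ker]
      show red b I G (c * g ^ i.toAdd.val * c⁻¹ * (g ^ i.toAdd.val)⁻¹) = 1
      simp only [_root_.map_mul, _root_.map_inv, _root_.map_pow]
      rw [hcg]
      group
  have h1 : s (Multiplicative.ofAdd 1) = g := by
    show g ^ (1 : ZMod n).val = g
    rw [hm (1 : ZMod n).val 1 (by simp [ZMod.natCast_zmod_val]), pow_one]
  have h2 := hst (Multiplicative.ofAdd 1)
  change c * s _ * c⁻¹ = _ at h2
  rw [h1] at h2
  refine ⟨u⁻¹ * c, by rw [_root_.map_mul, _root_.map_inv, MonoidHom.mem_ker.mp hu, inv_one, _root_.one_mul], ?_⟩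
  calc u⁻¹ * c * g = u⁻¹ * (c * g * c⁻¹) * c := by group
    _ = u⁻¹ * (u * g * u⁻¹) * c := by rw [h2]
    _ = g * (u⁻¹ * c) := by group

end Groth.Agent.GModLib.InfKernel
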