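import Groth.Agent.GModLib.CommutingTori
import Groth.Agent.MultConjLib.Comm
import Groth.Agent.SplitTorLib.Max

/-!
# Locally split subtori of a group of multiplicative type form a directed family
-/

set_option autoImplicit false
set_option linter.style.haveILetI false
set_option backward.isDefEq.respectTransparency false
set_option backward.isDefEq.respectTransparency.types false

universe u

open CategoryTheory CategoryTheory.Limits MonoidalCategory CartesianMonoidalCategory MonObj GrpObj AlgebraicGeometry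

namespace Groth.Agent.GModLib

variable {S : Scheme.{u}}

/-- Zariski-locally a split torus. -/
def IsLocallySplit (E : Over S) [GrpObj E] : Prop :=
  ∀ s : S, ∃ U : S.Opens, s ∈ U ∧ ∃ r : ℕ, Red.IsSplitTorusWith (Fin r → ℤ) (Red.bc U.ι E)

theorem IsLocallySplit.hloc {E : Over S} [GrpObj E] (h : IsLocallySplit E) (s : S) :
    ∃ U : S.Opens, s ∈ U ∧ ∃ r : ℕ, Red.IsSplitTorusWith (Fin r → ℤ) (Red.bc (U.ι ≫ 𝟙 S) E) := by
  obtain ⟨U, hs, r, ⟨e⟩⟩ := h s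
  obtain ⟨e₁⟩ := GrpSchLib.MultTypeBC.bc_congr (Category.comp_id U.ι) E
  exact ⟨U, hs, r, ⟨e₁ ≪≫ e⟩⟩

theorem IsLocallySplit.isTorus {E : Over S} [GrpObj E] (h : IsLocallySplit E) : Red.IsTorus E :=
  ⟨S, 𝟙 S, inferInstance, inferInstance, fun V hV => ⟨V, hV.isCompact, by simp⟩, h.hloc⟩

theorem IsLocallySplit.tensor {A B : Over S} [GrpObj A] [GrpObj B] (hA : IsLocallySplit A) (hB : IsLocallySplit B) :
    IsLocallySplit (A ⊗ B) := fun s => by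
  obtain ⟨U₁, h₁, a, hea⟩ := hA s
  obtain ⟨U₂, h₂, b, heb⟩ := hB s
  let U := U₁ ⊓ U₂
  let l₁ := S.homOfLE (inf_le_left : U ≤ U₁)
  let l₂ := S.homOfLE (inf_le_right : U ≤ U₂)
  obtain ⟨a₁⟩ := GrpSchLib.MultTypeBC.bc_congr (S.homOfLE_ι (inf_le_left : U ≤ U₁)) A
  obtain ⟨a₂⟩ := GrpSchLib.MultTypeBC.bc_bc l₁ U₁.ι A
  obtain ⟨a₃⟩ := TorusBasic.isSplit_bc l₁ hea
  obtain ⟨b₁⟩ := GrpSchLib.MultTypeBC.bc_congr (S.homOfLE_ι (inf_le_right : U ≤ U₂)) B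
  obtain ⟨b₂⟩ := GrpSchLib.MultTypeBC.bc_bc l₂ U₂.ι B
  obtain ⟨b₃⟩ := TorusBasic.isSplit_bc l₂ heb
  obtain ⟨e₀⟩ := TorusProd.bc_tensor U.ι A B
  obtain ⟨e₁⟩ := TorusProd.tensor_iso (a₁.symm ≪≫ a₂.symm ≪≫ a₃) (b₁.symm ≪≫ b₂.symm ≪≫ b₃)
  obtain ⟨e₂⟩ := TorusProd.DS_prod (U : Scheme.{u}) a b
  exact ⟨U, ⟨h₁, h₂⟩, a + b, ⟨e₀ ≪≫ e₁ ≪≫ e₂⟩⟩

set_option maxHeartbeats 1000000 in
/-- Two locally split subtori lie in a third one. -/
theorem exists_locallySplit_ge {G E₁ E₂ : Over S} [GrpObj G] [GrpObj E₁] [GrpObj E₂] (hG : SGA3x.IsMultTypeFT G)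
    (j₁ : E₁ ⟶ G) [IsMonHom j₁] (j₂ : E₂ ⟶ G) [IsMonHom j₂] (h₁ : IsLocallySplit E₁) (h₂ : IsLocallySplit E₂) :
    ∃ (E₃ : Over S) (_ : GrpObj E₃) (j₃ : E₃ ⟶ G) (g₁ : E₁ ⟶ E₃) (g₂ : E₂ ⟶ E₃), IsMonHom j₃ ∧ Mono j₃ ∧
      IsLocallySplit E₃ ∧ g₁ ≫ j₃ = j₁ ∧ g₂ ≫ j₃ = j₂ := by
  haveI : IsAffineHom G.hom := (TransLib.multTypeFT_essFree hG).1
  haveI : LocallyOfFinitePresentation G.hom := HomSchLib.lfp_of_multTypeFT hG
  let P := E₁ ⊗ E₂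
  have hP := h₁.tensor h₂
  let φ : P ⟶ G := (fst E₁ E₂ ≫ j₁) * (snd E₁ E₂ ≫ j₂)
  haveI : IsMonHom φ := isMonHom_prod_of_commute j₁ j₂ fun X a b =>
    MultConjLib.points_comm (MultConjLib.isLocDS_of_multTypeFT hG) _ _
  haveI : IsAffineHom P.hom :=
    (TransLib.multTypeFT_essFree (GrpSchLib.RankOne.isMultTypeFT_of_isTorus hP.isTorus)).1
  obtain ⟨Q, _, m, v, -, hQ, hm, hmm, -, hvm, -, -⟩ := TorusImage.exists_torus_image_cover (𝟙 S) inferInstance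
    inferInstance (fun V hV => ⟨V, hV.isCompact, by simp⟩) hP.hloc φ
  refine ⟨Q, inferInstance, m, lift (𝟙 E₁) 1 ≫ v, lift 1 (𝟙 E₂) ≫ v, hm, hmm, fun s => ?_, ?_, ?_⟩
  · obtain ⟨U, hs, r, ⟨e⟩⟩ := hQ s
    obtain ⟨e₁⟩ := GrpSchLib.MultTypeBC.bc_congr (Category.comp_id U.ι) Q
    exact ⟨U, hs, r, ⟨e₁.symm ≪≫ e⟩⟩
  · rw [Category.assoc, hvm, MonObj.comp_mul, lift_fst_assoc, lift_snd_assoc, Category.id_comp, MonObj.one_comp,
      _root_.mul_one]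
  · rw [Category.assoc, hvm, MonObj.comp_mul, lift_fst_assoc, lift_snd_assoc, Category.id_comp, MonObj.one_comp,
      _root_.one_mul]

/-- A maximal locally split subtorus is the greatest one. -/
theorem locallySplit_le_of_maximal {G E E' : Over S} [GrpObj G] [GrpObj E] [GrpObj E'] (hG : SGA3x.IsMultTypeFT G)
    (j : E ⟶ G) [IsMonHom j] (hE : IsLocallySplit E)
    (hmax : ∀ (E' : Over S) [GrpObj E'] (j' : E' ⟶ G) [IsMonHom j'] [Mono j'] (g : E ⟶ E'),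
      IsLocallySplit E' → g ≫ j' = j → IsIso g)
    (j' : E' ⟶ G) [IsMonHom j'] (hE' : IsLocallySplit E') : ∃ g' : E' ⟶ E, g' ≫ j = j' := by
  obtain ⟨E₃, _, j₃, g₁, g₂, h3m, h3mo, h3, e₁, e₂⟩ := exists_locallySplit_ge hG j j' hE hE'
  haveI := h3m; haveI := h3mo
  haveI := hmax E₃ j₃ g₁ h3 e₁
  exact ⟨g₂ ≫ inv g₁, by rw [Category.assoc, ← e₁, IsIso.inv_hom_id_assoc, e₂]⟩

end Groth.Agent.GModLib
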