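import Groth.Agent.GModLib.LocallySplit
import Groth.Agent.S16611

/-!
# The greatest locally split subtorus over a connected base
-/

set_option autoImplicit false
set_option linter.style.haveILetI false
set_option backward.isDefEq.respectTransparency false
set_option backward.isDefEq.respectTransparency.types false

universe u

open CategoryTheory CategoryTheory.Limits MonoidalCategory CartesianMonoidalCategory MonObj GrpObj AlgebraicGeometry

namespace Groth.Agent.GModLib

variable {S : Scheme.{u}}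

/-- The rank of a torus at a point. -/
def HasRankAt (E : Over S) [GrpObj E] (s : S) (r : ℕ) : Prop :=
  Red.IsSplitTorusWith (Fin r → ℤ) (Red.geomFibre s E)

theorem IsLocallySplit.exists_rank {E : Over S} [GrpObj E] (h : IsLocallySplit E) (s : S) :
    ∃ r, ∃ U : S.Opens, s ∈ U ∧ ∀ t ∈ U, HasRankAt E t r := by
  obtain ⟨U, hs, r, he⟩ := h s
  refine ⟨r, U, hs, fun t ht => ?_⟩
  have hr : Set.range (Red.geomPt t) ⊆ Set.range U.ι := by
    rintro _ ⟨w, rfl⟩
    rw [Scheme.Opens.range_ι, show Red.geomPt t w = t from Scheme.fromSpecResidueField_apply t _]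
    exact ht
  obtain ⟨a₁⟩ := GrpSchLib.MultTypeBC.bc_congr (IsOpenImmersion.lift_fac U.ι (Red.geomPt t) hr) E
  obtain ⟨a₂⟩ := GrpSchLib.MultTypeBC.bc_bc (IsOpenImmersion.lift U.ι (Red.geomPt t) hr) U.ι E
  obtain ⟨a₃⟩ := TorusBasic.isSplit_bc (IsOpenImmersion.lift U.ι (Red.geomPt t) hr) he
  exact ⟨a₁.symm ≪≫ a₂.symm ≪≫ a₃⟩

theorem rank_le_of_mono_at {E E' : Over S} [GrpObj E] [GrpObj E'] (g : E ⟶ E') [IsMonHom g] [Mono g] {s : S}
    {a b : ℕ} (ha : HasRankAt E s a) (hb : HasRankAt E' s b) : a ≤ b := by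
  obtain ⟨e⟩ := ha
  obtain ⟨e'⟩ := hb
  haveI : Mono ((Over.pullback (Red.geomPt s)).map g) := inferInstance
  obtain ⟨φ, hφm, hφh⟩ := SplitTorLib.sandwich e e' ((Over.pullback (Red.geomPt s)).map g) inferInstance inferInstance
  haveI := hφm
  haveI := hφh
  refine SplitTorLib.rank_le_of_mono (n := b) (fun i => (Pi.single i (1 : ℤ) : Fin b → ℤ)) ?_ φ
  refine eq_top_iff.mpr fun m _ => ?_
  rw [← Finset.univ_sum_single m]
  refine sum_mem fun i _ => ?_
  rw [show (Pi.single i (m i) : Fin b → ℤ) = m i • Pi.single i (1 : ℤ) by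
    rw [← Pi.single_smul, smul_eq_mul, _root_.mul_one]]
  exact AddSubgroup.zsmul_mem _ (AddSubgroup.subset_closure (Set.mem_range_self i)) _

theorem rank_unique {E : Over S} [GrpObj E] {s : S} {a b : ℕ} (ha : HasRankAt E s a) (hb : HasRankAt E s b) :
    a = b :=
  le_antisymm (rank_le_of_mono_at (𝟙 E) ha hb) (rank_le_of_mono_at (𝟙 E) hb ha)

theorem IsLocallySplit.rank_const [PreconnectedSpace S] {E : Over S} [GrpObj E] (h : IsLocallySplit E) {x : S} {r : ℕ}
    (hx : HasRankAt E x r) (s : S) : HasRankAt E s r := by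
  have h1 : IsClopen {s : S | HasRankAt E s r} := by
    refine ⟨⟨isOpen_iff_forall_mem_open.mpr fun t ht => ?_⟩, isOpen_iff_forall_mem_open.mpr fun t ht => ?_⟩
    all_goals obtain ⟨a, U, htU, hU⟩ := h.exists_rank t
    · exact ⟨U, fun w hw hc => ht (by rw [← rank_unique (hU w hw) hc]; exact hU t htU), U.isOpen, htU⟩
    · exact ⟨U, fun w hw => by
        show HasRankAt E w r
        rw [← rank_unique (hU t htU) ht]; exact hU w hw, U.isOpen, htU⟩
  exact Set.eq_univ_iff_forall.mp (h1.eq_univ ⟨x, hx⟩) s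

/-- Over a connected base a group of multiplicative type has a greatest locally split subtorus. -/
theorem exists_greatest_locallySplit [ConnectedSpace S] {G : Over S} [GrpObj G] (hG : SGA3x.IsMultTypeFT G) :
    ∃ (T : Over S) (_ : GrpObj T) (j : T ⟶ G), IsMonHom j ∧ Mono j ∧ IsLocallySplit T ∧
      ∀ (T' : Over S) [GrpObj T'] (j' : T' ⟶ G) [IsMonHom j'] [Mono j'], IsLocallySplit T' → ∃ g : T' ⟶ T, g ≫ j = j' := by
  classical
  obtain ⟨x⟩ := (inferInstance : Nonempty S)
  let P : ℕ → Prop := fun r => ∃ (T : Over S) (_ : GrpObj T) (j : T ⟶ G), IsMonHom j ∧ Mono j ∧ IsLocallySplit T ∧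
    HasRankAt T x r
  obtain ⟨N, hN⟩ := SplitTorLib.exists_rank_bound (GrpSchLib.MultTypeBC.isMultTypeFT_bc (Red.geomPt x) hG)
  have hbound : ∀ (T : Over S) [GrpObj T] (j : T ⟶ G) [IsMonHom j] [Mono j] (r : ℕ), HasRankAt T x r → r ≤ N :=
    fun T _ j _ _ r hr => hN _ ((Over.pullback (Red.geomPt x)).map j) r hr
  have h0 : P 0 := by
    have hs : Red.IsSplitTorusWith (Fin 0 → ℤ) (Red.DS S (Fin 0 → ℤ)) := ⟨Iso.refl _⟩
    have hl : IsLocallySplit (Red.DS S (Fin 0 → ℤ)) := fun s => ⟨⊤, trivial, 0, TorusBasic.isSplit_bc _ hs⟩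
    exact ⟨Red.DS S (Fin 0 → ℤ), inferInstance, toUnit _ ≫ η[G], inferInstance,
      ⟨fun a b _ => (SplitTorLib.subsingleton_hom_zero _).elim a b⟩, hl, TorusBasic.isSplit_bc _ hs⟩
  obtain ⟨T, iT, j, hj, hjm, hT, hTr⟩ := Nat.findGreatest_spec (P := P) (Nat.zero_le N) h0
  haveI := hj; haveI := hjm
  refine ⟨T, iT, j, hj, hjm, hT, fun T' _ j' _ _ hT' => ?_⟩
  refine locallySplit_le_of_maximal hG j hT (fun E' _ j₁ _ _ g hE' hg => ?_) j' hT'
  haveI : Mono (g ≫ j₁) := hg.symm ▸ hjm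
  haveI : Mono g := mono_of_mono g j₁
  haveI : IsMonHom (g ≫ j₁) := hg.symm ▸ hj
  haveI : IsMonHom g :=
    { one_hom := by rw [← cancel_mono j₁, Category.assoc, IsMonHom.one_hom (g ≫ j₁), IsMonHom.one_hom j₁]
      mul_hom := by
        rw [← cancel_mono j₁, Category.assoc, IsMonHom.mul_hom (g ≫ j₁), Category.assoc, IsMonHom.mul_hom j₁,
          ← Category.assoc, MonoidalCategory.tensorHom_comp_tensorHom] }
  obtain ⟨r', U, hxU, hU⟩ := hE'.exists_rank x
  have hle : r' ≤ Nat.findGreatest P N :=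
    Nat.le_findGreatest (hbound E' j₁ r' (hU x hxU)) ⟨E', inferInstance, j₁, inferInstance, inferInstance, hE', hU x hxU⟩
  have heq : r' = Nat.findGreatest P N := le_antisymm hle (rank_le_of_mono_at g hTr (hU x hxU))
  exact S16611.result hT.isTorus hE'.isTorus g fun s =>
    ⟨_, hT.rank_const hTr s, heq ▸ hE'.rank_const (hU x hxU) s⟩

end Groth.Agent.GModLib
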