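import Groth.Agent.GModLib.SpecialEigen

/-!
# Connected subgroups killed in all Borel subgroups containing a maximal torus
-/

set_option autoImplicit false
set_option backward.isDefEq.respectTransparency false
set_option backward.isDefEq.respectTransparency.types false

universe u

open CategoryTheory Limits AlgebraicGeometry MonoidalCategory CartesianMonoidalCategory MonObj GrpObj

namespace Groth.Agent.GModLib

open GrpSchLib GrpSchLib.Kunneth GrpSchLib.AffineHopf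

variable {k : Type u} [Field k] [IsAlgClosed k]

/-- A function on a connected smooth group with finitely many values is constant. -/
theorem eq_of_finite_values {H : Over (Spec (CommRingCat.of k))} [GrpObj H] [IsAffine H.left] [Smooth H.hom]
    [ConnectedSpace H.left] (a : Fn H) (hfin : (Set.range fun p : VecGrp.pt k k ⟶ H => pullFn p a).Finite)
    (p q : VecGrp.pt k k ⟶ H) : pullFn p a = pullFn q a := by
  classical
  haveI := isDomain_fn (G := H)
  haveI : IsReduced H.left := GrpSchLib.isReduced_of_smooth_field H.hom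
  have h0 : ∏ r ∈ hfin.toFinset, (a - algebraMap k (Fn H) r) = 0 := eq_of_forall_point fun x => by
    rw [map_prod, map_zero]
    exact Finset.prod_eq_zero (hfin.mem_toFinset.mpr ⟨x, rfl⟩) (by simp)
  obtain ⟨r, -, hr⟩ := Finset.prod_eq_zero_iff.mp h0
  rw [sub_eq_zero] at hr
  rw [hr, AlgHom.commutes, AlgHom.commutes]

variable {G : Over (Spec (CommRingCat.of k))} [GrpObj G] [IsAffine G.left] [Smooth G.hom] [ConnectedSpace G.left]
  {T B : Over (Spec (CommRingCat.of k))} [GrpObj T] [GrpObj B]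

/-- Two fixed points of a maximal torus on the quotient by a Borel subgroup differ by an element normalizing the
torus. -/
theorem exists_normalizing (iT : T ⟶ G) (hT : AGF.IsMaxTorus iT) (iB : B ⟶ G) (hB : Red.IsBorelOver k iB)
    (n n₁ : VecGrp.pt k k ⟶ G)
    (hn : ∀ t : VecGrp.pt k k ⟶ T, ∃ b : VecGrp.pt k k ⟶ B, (t ≫ iT) * n = n * (b ≫ iB))
    (hn₁ : ∀ t : VecGrp.pt k k ⟶ T, ∃ b : VecGrp.pt k k ⟶ B, (t ≫ iT) * n₁ = n₁ * (b ≫ iB)) :
    ∃ (m : VecGrp.pt k k ⟶ G) (b : VecGrp.pt k k ⟶ B), m⁻¹ * n = n₁ * (b ≫ iB) ∧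
      ∀ t : VecGrp.pt k k ⟶ T, ∃ t' : VecGrp.pt k k ⟶ T, (t ≫ iT) * m = m * (t' ≫ iT) := by
  obtain ⟨hBm, hBcl, hBsm, hBconn, hBsol, -⟩ := id hB
  haveI := hBm; haveI := hBcl; haveI := hBsm; haveI := hBconn
  haveI : IsAffine B.left := isAffine_of_isAffineHom iB.left
  haveI : Mono iB := Over.mono_of_mono_left iB
  haveI := hT.1; haveI := hT.2.1
  obtain ⟨h1, h2, h3, -, -⟩ := TorusBasic.torus_props hT.2.2.1
  haveI := h1; haveI := h2; haveI := h3
  haveI : IsReduced T.left := GrpSchLib.isReduced_of_smooth_field T.hom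
  obtain ⟨T₀, _, iT₀, hm₀, hcl₀, hT₀, hconj⟩ := exists_torus_conj_solvable hBsol
  haveI := hm₀; haveI := hcl₀
  haveI : Mono iT₀ := Over.mono_of_mono_left iT₀
  have key : ∀ n : VecGrp.pt k k ⟶ G,
      (∀ t : VecGrp.pt k k ⟶ T, ∃ b : VecGrp.pt k k ⟶ B, (t ≫ iT) * n = n * (b ≫ iB)) →
      ∃ (x : VecGrp.pt k k ⟶ B) (e : T ≅ T₀), ∀ t : VecGrp.pt k k ⟶ T,
        (x ≫ iB) * (n⁻¹ * (t ≫ iT) * n) * (x ≫ iB)⁻¹ = t ≫ e.hom ≫ iT₀ ≫ iB := by
    intro n hn
    let g : 𝟙_ (Over (Spec (CommRingCat.of k))) ⟶ G := (toPt _ ≫ n)⁻¹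
    have hg : toUnit (VecGrp.pt k k) ≫ g = n⁻¹ := by
      show _ ≫ (toPt _ ≫ n)⁻¹ = _
      rw [GrpObj.comp_inv, ← Category.assoc, toUnit_toPt, Category.id_comp]
    have hval : ∀ t : VecGrp.pt k k ⟶ T, t ≫ iT ≫ inner g = n⁻¹ * (t ≫ iT) * n := fun t => by
      rw [← Category.assoc, comp_inner, hg, _root_.inv_inv]
    obtain ⟨h, hh⟩ := exists_factor_of_points iB (iT ≫ inner g) fun t => by
      obtain ⟨b, hb⟩ := hn t
      exact ⟨b, by rw [hval, _root_.mul_assoc, hb, inv_mul_cancel_left]⟩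
    haveI : IsMonHom (h ≫ iB) := hh ▸ inferInstance
    haveI : IsMonHom h := isMonHom_of_comp h iB
    obtain ⟨x, e, he⟩ := hconj T h hT.2.2.1
    have heq : e ≫ iT₀ ≫ iB = iT ≫ inner ((x ≫ iB) * g) := by
      rw [← Category.assoc, he, Category.assoc, inner_comp, ← Category.assoc, hh, Category.assoc, inner_inner]
    haveI := isIso_of_maxTorus iT hT (iT₀ ≫ iB) hT₀ e _ heq
    refine ⟨toUnit _ ≫ x, asIso e, fun t => ?_⟩
    rw [asIso_hom, heq, ← Category.assoc, comp_inner, MonObj.comp_mul, hg, Category.assoc, _root_.mul_inv_rev,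
      _root_.inv_inv]
    simp only [_root_.mul_assoc]
  obtain ⟨x, e, he⟩ := key n hn
  obtain ⟨x₁, e₁, he₁⟩ := key n₁ hn₁
  let n' := n * (x ≫ iB)⁻¹
  let n₁' := n₁ * (x₁ ≫ iB)⁻¹
  refine ⟨n' * n₁'⁻¹, x₁⁻¹ * x, ?_, fun t => ⟨t ≫ e.hom ≫ e₁.inv, ?_⟩⟩
  · rw [MonObj.mul_comp, GrpObj.inv_comp]
    simp only [n', n₁']
    group
  · have h1 := he t
    have h2 := he₁ (t ≫ e.hom ≫ e₁.inv)
    simp only [Category.assoc, Iso.inv_hom_id_assoc] at h2 ⊢
    rw [← h1] at h2
    calc (t ≫ iT) * (n' * n₁'⁻¹)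
        = n * (x ≫ iB)⁻¹ * ((x ≫ iB) * (n⁻¹ * (t ≫ iT) * n) * (x ≫ iB)⁻¹) * (x₁ ≫ iB) * n₁⁻¹ := by
          simp only [n', n₁']; group
      _ = n * (x ≫ iB)⁻¹ * ((x₁ ≫ iB) * (n₁⁻¹ * (t ≫ e.hom ≫ e₁.inv ≫ iT) * n₁) * (x₁ ≫ iB)⁻¹) *
            (x₁ ≫ iB) * n₁⁻¹ := by rw [h2]
      _ = _ := by simp only [n', n₁']; group

set_option maxHeartbeats 1000000 in
/-- For every fixed point some conjugate of an eigenfunction of the Borel subgroup fixed by the torus does not vanish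
there. -/
theorem exists_good_eigen (iT : T ⟶ G) (hT : AGF.IsMaxTorus iT) (iB : B ⟶ G) (hB : Red.IsBorelOver k iB) {N : ℕ}
    (f : Fin N → Fn G) (φ : Fin N → ((VecGrp.pt k k ⟶ T) →* k)) (χ : (VecGrp.pt k k ⟶ B) → k)
    (hne : ∀ i, f i ≠ 0) (hwt : ∀ t g i, pullFn ((t ≫ iT) * g) (f i) = φ i t * pullFn g (f i))
    (hχ : ∀ g b, ∀ F ∈ Submodule.span k (Set.range f), pullFn (g * (b ≫ iB)) F = χ b * pullFn g F)
    (hnz : ∀ g : VecGrp.pt k k ⟶ G, ∃ i, pullFn g (f i) ≠ 0)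
    (hst : ∀ x, ∀ F ∈ Submodule.span k (Set.range f),
      ev ((toPt G ≫ x) * 𝟙 G) F ∈ Submodule.span k (Set.range f)) :
    ∃ F ∈ Submodule.span k (Set.range f), ∃ c : (VecGrp.pt k k ⟶ B) → k, F ≠ 0 ∧
      (∀ b g, pullFn ((b ≫ iB) * g) F = c b * pullFn g F) ∧
      ∀ n : VecGrp.pt k k ⟶ G,
        (∀ t : VecGrp.pt k k ⟶ T, ∃ b : VecGrp.pt k k ⟶ B, (t ≫ iT) * n = n * (b ≫ iB)) →
        ∃ M : VecGrp.pt k k ⟶ G, (∀ t : VecGrp.pt k k ⟶ T, ∃ b : VecGrp.pt k k ⟶ B,
          (t ≫ iT) * M = M * (b ≫ iB)) ∧ pullFn (M⁻¹ * n) F ≠ 0 := by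
  classical
  obtain ⟨hBm, hBcl, hBsm, hBconn, hBsol, -⟩ := id hB
  haveI := hBm; haveI := hBcl; haveI := hBsm; haveI := hBconn
  haveI : IsAffine B.left := isAffine_of_isAffineHom iB.left
  haveI := hT.1
  haveI : IsReduced G.left := GrpSchLib.isReduced_of_smooth_field G.hom
  haveI : IsAffineHom G.hom := inferInstance
  let W := Submodule.span k (Set.range f)
  haveI : Module.Finite k W := Module.Finite.span_of_finite k (Set.finite_range _)
  obtain ⟨g₁, -⟩ : ∃ g : VecGrp.pt k k ⟶ G, g = g := ⟨1, rfl⟩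
  obtain ⟨i₁, hi₁⟩ := hnz g₁
  obtain ⟨i₀, -, hext⟩ := exists_extreme_weight hT.2.2.1 φ Finset.univ ⟨i₁, Finset.mem_univ _⟩
  have hext' := fun c h => hext c (fun i _ => Finset.mem_univ i) h
  obtain ⟨g₀, hg₀⟩ : ∃ g : VecGrp.pt k k ⟶ G, pullFn g (f i₀) ≠ 0 := by
    by_contra h
    push_neg at h
    exact hne i₀ (eq_of_forall_point fun g => by rw [h g, map_zero])
  obtain ⟨n₁, l₁, -, -, hn₁0, hn₁fix⟩ := exists_degeneration iB (borel_cocompact iB hB) hT.2.2.1 iT f χ
    (fun g b i => hχ g b _ (Submodule.subset_span ⟨i, rfl⟩)) hnz φ hwt i₀ hext' g₀ ⟨i₀, rfl, hg₀⟩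
  have hWne : W ≠ ⊥ := fun h => by
    have h1 : f i₀ ∈ W := Submodule.subset_span ⟨i₀, rfl⟩
    rw [h, Submodule.mem_bot] at h1
    exact hne i₀ h1
  obtain ⟨F, hFW, c, hF0, hFe⟩ := exists_eigen_function iB hBsol W hWne hst
  refine ⟨F, hFW, c, hF0, hFe, ?_⟩
  -- it is enough to treat one fixed point
  suffices h : ∃ M : VecGrp.pt k k ⟶ G, (∀ t : VecGrp.pt k k ⟶ T, ∃ b : VecGrp.pt k k ⟶ B,
      (t ≫ iT) * M = M * (b ≫ iB)) ∧ pullFn (M⁻¹ * n₁) F ≠ 0 by
    intro n hn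
    obtain ⟨M, hMfix, hM⟩ := h
    obtain ⟨m, b, hb, hm⟩ := exists_normalizing iT hT iB hB n n₁ hn hn₁fix
    refine ⟨m * M, fun t => ?_, ?_⟩
    · obtain ⟨t', ht'⟩ := hm t
      obtain ⟨b', hb'⟩ := hMfix t'
      exact ⟨b', by rw [← _root_.mul_assoc, ht', _root_.mul_assoc, hb', _root_.mul_assoc]⟩
    · rw [_root_.mul_inv_rev, _root_.mul_assoc, hb, ← _root_.mul_assoc, hχ _ b F hFW]
      refine mul_ne_zero (fun h0 => ?_) hM
      obtain ⟨i, hi⟩ := hnz (n₁ * (b ≫ iB))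
      rw [hχ _ _ _ (Submodule.subset_span ⟨i, rfl⟩), h0, MulZeroClass.zero_mul] at hi
      exact hi rfl
  -- the functions on the orbit of the eigenfunction
  let Θ : (VecGrp.pt k k ⟶ G) → Fn G := fun y => ev ((𝟙 G)⁻¹ * (toPt G ≫ y)) F
  have hΘ : ∀ y x, pullFn x (Θ y) = pullFn (x⁻¹ * y) F := fun y x => by
    rw [pullFn_ev, MonObj.comp_mul, GrpObj.comp_inv, ← Category.assoc, comp_toPt, Category.id_comp, Category.comp_id]
  let U : Submodule k (Fn G) := Submodule.span k (Set.range Θ)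
  haveI : Module.Finite k U := by
    obtain ⟨d, M, w, cv, -, -, hcv, hE⟩ := exists_matrix_vec (G := G) F
    haveI : Module.Finite k (Submodule.span k (Set.range fun i => ev ((𝟙 G)⁻¹) (w i))) :=
      Module.Finite.span_of_finite k (Set.finite_range _)
    refine Submodule.finiteDimensional_of_le (S₂ := Submodule.span k (Set.range fun i => ev ((𝟙 G)⁻¹) (w i)))
      (Submodule.span_le.mpr ?_)
    rintro _ ⟨y, rfl⟩
    have e : Θ y = ∑ i, (∑ j, cv j * pullFn y (M i j)) • ev ((𝟙 G)⁻¹) (w i) := eq_of_forall_point fun x => by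
      have hb : ∀ j, pullFn (x⁻¹ * y) (w j) = ∑ i, pullFn x⁻¹ (w i) * pullFn y (M i j) := fun j => by
        have := congrArg (fun z => (Scheme.ΓSpecIso (CommRingCat.of k)).hom z) (hE _ x⁻¹ y j)
        simp only [map_sum, map_mul] at this
        exact this
      rw [hΘ]
      conv_lhs => rw [← hcv]
      simp only [map_sum, map_smul, hb, smul_eq_mul, pullFn_ev, GrpObj.comp_inv, Category.comp_id, Finset.mul_sum,
        Finset.sum_mul]
      rw [Finset.sum_comm]
      exact Finset.sum_congr rfl fun i _ => Finset.sum_congr rfl fun j _ => by ring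
    show Θ y ∈ Submodule.span k _
    rw [e]
    exact Submodule.sum_mem _ fun i _ => Submodule.smul_mem _ _ (Submodule.subset_span ⟨i, rfl⟩)
  have hUst : ∀ (t : VecGrp.pt k k ⟶ T), ∀ P ∈ U, ev ((toPt G ≫ t ≫ iT) * 𝟙 G) P ∈ U := by
    intro t P hP
    induction hP using Submodule.span_induction with
    | mem P hP =>
      obtain ⟨y, rfl⟩ := hP
      exact Submodule.subset_span ⟨(t ≫ iT)⁻¹ * y, eq_of_forall_point fun x => by
        rw [pullFn_translate, hΘ, hΘ, _root_.mul_inv_rev, _root_.mul_assoc]⟩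
    | zero => rw [map_zero]; exact Submodule.zero_mem _
    | add x y _ _ hx hy => rw [map_add]; exact Submodule.add_mem _ hx hy
    | smul r y _ hy => rw [map_smul]; exact Submodule.smul_mem _ _ hy
  obtain ⟨N', f', ψ, hspan, hne', hwt'⟩ := exists_weight_family hT.2.2.1 iT U hUst
  have hchi' : ∀ g b, ∀ P ∈ U, pullFn (g * (b ≫ iB)) P = c b⁻¹ * pullFn g P := by
    intro g b P hP
    induction hP using Submodule.span_induction with
    | mem P hP =>
      obtain ⟨y, rfl⟩ := hP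
      rw [hΘ, hΘ, _root_.mul_inv_rev, _root_.mul_assoc, ← GrpObj.inv_comp, hFe]
    | zero => simp
    | add x y _ _ hx hy => rw [map_add, map_add, hx, hy, mul_add]
    | smul r y _ hy => rw [map_smul, map_smul, hy, smul_eq_mul, smul_eq_mul]; ring
  have hf'U : ∀ i, f' i ∈ U := fun i => hspan ▸ Submodule.subset_span ⟨i, rfl⟩
  have hnz' : ∀ x : VecGrp.pt k k ⟶ G, ∃ i, pullFn x (f' i) ≠ 0 := fun x => by
    by_contra hall
    push_neg at hall
    refine hF0 (eq_of_forall_point fun y => ?_)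
    obtain ⟨a, ha⟩ := (Submodule.mem_span_range_iff_exists_fun k).mp
      (show Θ (x * y) ∈ Submodule.span k (Set.range f') by
        rw [hspan]; exact Submodule.subset_span ⟨x * y, rfl⟩)
    have h := hΘ (x * y) x
    rw [← ha, inv_mul_cancel_left] at h
    rw [map_zero, ← h]
    simp [hall]
  -- the value at the fixed point is an extreme weight vector
  obtain ⟨a, ha⟩ := (Submodule.mem_span_range_iff_exists_fun k).mp hFW
  let top : (VecGrp.pt k k ⟶ T) →* k :=
    { toFun := fun t => φ i₀ t⁻¹, map_one' := by simp,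
      map_mul' := fun s t => by
        rw [_root_.mul_inv_rev, map_mul, mul_comm] }
  have htop : ∀ x t, pullFn ((t ≫ iT) * x) (Θ n₁) = top t * pullFn x (Θ n₁) := by
    intro x t
    show _ = φ i₀ t⁻¹ * _
    rw [hΘ, hΘ, _root_.mul_inv_rev, _root_.mul_assoc]
    have hx : ∀ G₁ ∈ W, pullFn ((t ≫ iT)⁻¹ * n₁) G₁ = φ i₀ t⁻¹ * pullFn n₁ G₁ := by
      intro G₁ hG₁
      induction hG₁ using Submodule.span_induction with
      | mem G₁ hG₁ =>
        obtain ⟨i, rfl⟩ := hG₁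
        rw [← GrpObj.inv_comp, hwt]
        by_cases hi : φ i = φ i₀
        · rw [hi]
        · rw [hn₁0 i hi, MulZeroClass.mul_zero, MulZeroClass.mul_zero]
      | zero => simp
      | add x y _ _ hx hy => rw [map_add, map_add, hx, hy, mul_add]
      | smul r y _ hy => rw [map_smul, map_smul, hy, smul_eq_mul, smul_eq_mul]; ring
    have h := hx _ (hst x⁻¹ F hFW)
    rwa [pullFn_translate, pullFn_translate] at h
  -- weights on the orbit are inverse weights
  have hψ : ∀ j, ∃ i, ∀ t, ψ j t = φ i t⁻¹ := by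
    intro j
    obtain ⟨x, hx⟩ : ∃ x : VecGrp.pt k k ⟶ G, pullFn x (f' j) ≠ 0 := by
      by_contra h
      push_neg at h
      exact hne' j (eq_of_forall_point fun g => by rw [h g, map_zero])
    obtain ⟨r, hr⟩ : ∃ r : Fin N → k, ∀ t : VecGrp.pt k k ⟶ T,
        pullFn ((t ≫ iT) * x) (f' j) = ∑ i, r i * φ i t⁻¹ := by
      have hall : ∀ P ∈ U, ∃ r : Fin N → k, ∀ t : VecGrp.pt k k ⟶ T,
          pullFn ((t ≫ iT) * x) P = ∑ i, r i * φ i t⁻¹ := by
        intro P hP
        induction hP using Submodule.span_induction with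
        | mem P hP =>
          obtain ⟨y, rfl⟩ := hP
          obtain ⟨a', ha'⟩ := (Submodule.mem_span_range_iff_exists_fun k).mp (hst x⁻¹ F hFW)
          refine ⟨fun i => a' i * pullFn y (f i), fun t => ?_⟩
          rw [hΘ, _root_.mul_inv_rev, _root_.mul_assoc, ← pullFn_translate x⁻¹ _ F, ← ha', map_sum]
          refine Finset.sum_congr rfl fun i _ => ?_
          rw [map_smul, ← GrpObj.inv_comp, hwt, smul_eq_mul]
          ring
        | zero => exact ⟨0, fun t => by simp⟩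
        | add P P' _ _ hP hP' =>
          obtain ⟨r, hr⟩ := hP
          obtain ⟨r', hr'⟩ := hP'
          exact ⟨r + r', fun t => by simp [hr, hr', add_mul, Finset.sum_add_distrib]⟩
        | smul s P _ hP =>
          obtain ⟨r, hr⟩ := hP
          exact ⟨s • r, fun t => by simp [hr, Finset.mul_sum, _root_.mul_assoc]⟩
      exact hall _ (hf'U j)
    let φ' : Fin N → ((VecGrp.pt k k ⟶ T) →* k) := fun i =>
      { toFun := fun t => φ i t⁻¹, map_one' := by simp,
        map_mul' := fun s t => by rw [_root_.mul_inv_rev, map_mul, mul_comm] }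
    have h := coeff_of_weight_eq φ' r (ψ j) (pullFn x (f' j)) fun t => by
      rw [mul_comm, ← hwt', hr]; rfl
    by_contra hno
    push_neg at hno
    refine hx (h.trans (Finset.sum_eq_zero fun i hi => ?_))
    obtain ⟨t, ht⟩ := hno i
    exact absurd (DFunLike.congr_fun (Finset.mem_filter.mp hi).2 t).symm ht
  choose σ hσ using hψ
  -- a point where the value does not vanish
  obtain ⟨x₀, hx₀⟩ : ∃ x : VecGrp.pt k k ⟶ G, pullFn x (Θ n₁) ≠ 0 := by
    obtain ⟨y, hy⟩ : ∃ y : VecGrp.pt k k ⟶ G, pullFn y F ≠ 0 := by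
      by_contra h
      push_neg at h
      exact hF0 (eq_of_forall_point fun g => by rw [h g, map_zero])
    exact ⟨n₁ * y⁻¹, by rw [hΘ, _root_.mul_inv_rev, _root_.inv_inv, inv_mul_cancel_right]; exact hy⟩
  obtain ⟨b', hb'⟩ := (Submodule.mem_span_range_iff_exists_fun k).mp
    (show Θ n₁ ∈ Submodule.span k (Set.range f') by rw [hspan]; exact Submodule.subset_span ⟨n₁, rfl⟩)
  have hcoef : ∀ x, pullFn x (Θ n₁) = ∑ j ∈ Finset.univ.filter (fun j => ψ j = top), b' j * pullFn x (f' j) :=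
    fun x => coeff_of_weight_eq ψ (fun j => b' j * pullFn x (f' j)) top (pullFn x (Θ n₁)) fun t => by
      rw [mul_comm, ← htop, ← hb', map_sum]
      exact Finset.sum_congr rfl fun j _ => by rw [map_smul, hwt', smul_eq_mul]; ring
  obtain ⟨j₀, hj₀, hj₀'⟩ := Finset.exists_ne_zero_of_sum_ne_zero (hcoef x₀ ▸ hx₀)
  have hj₀top : ψ j₀ = top := (Finset.mem_filter.mp hj₀).2
  obtain ⟨n₂, l₂, hl₂, hn₂1, -, hn₂fix⟩ := exists_degeneration iB (borel_cocompact iB hB) hT.2.2.1 iT f'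
    (fun b => c b⁻¹) (fun g b i => hchi' g b _ (hf'U i)) hnz' ψ hwt' j₀ (fun e he j hj => by
      have h1 : ∀ t, ∏ i, φ i t ^ (∑ j ∈ Finset.univ.filter (fun j => σ j = i), e j) =
          φ i₀ t ^ ∑ i, ∑ j ∈ Finset.univ.filter (fun j => σ j = i), e j := fun t => by
        rw [Finset.sum_fiberwise]
        have h2 := he t⁻¹
        rw [hj₀top] at h2
        simp only [top, MonoidHom.coe_mk, OneHom.coe_mk, hσ, _root_.inv_inv] at h2
        rw [← h2, ← Finset.prod_fiberwise Finset.univ σ fun j => φ (σ j) t ^ e j]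
        refine Finset.prod_congr rfl fun i _ => ?_
        refine (Finset.prod_pow_eq_pow_sum _ _ _).symm.trans ?_
        exact Finset.prod_congr rfl fun j hj => by rw [(Finset.mem_filter.mp hj).2]
      have h3 := hext' _ h1 (σ j) fun h0 => hj ((Finset.sum_eq_zero_iff.mp h0) j (Finset.mem_filter.mpr
        ⟨Finset.mem_univ _, rfl⟩))
      refine MonoidHom.ext fun t => ?_
      rw [hj₀top, hσ, h3]
      rfl) x₀ ⟨j₀, rfl, right_ne_zero_of_mul hj₀'⟩
  refine ⟨n₂, hn₂fix, ?_⟩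
  rw [← hΘ, hcoef, Finset.sum_congr rfl fun j hj => by
    rw [hn₂1 j ((Finset.mem_filter.mp hj).2.trans hj₀top.symm), mul_left_comm], ← Finset.mul_sum, ← hcoef]
  exact mul_ne_zero hl₂ hx₀

set_option maxHeartbeats 1000000 in
/-- Points of a connected group lying, for every fixed point, in the corresponding conjugate of a Borel subgroup and
killed there by its characters lie in all conjugates. -/
theorem mem_all_conjugates (iT : T ⟶ G) (hT : AGF.IsMaxTorus iT) (iB : B ⟶ G) (hB : Red.IsBorelOver k iB)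
    {H : Over (Spec (CommRingCat.of k))} [GrpObj H] [IsAffine H.left] [Smooth H.hom] [ConnectedSpace H.left]
    (i : H ⟶ G) [IsMonHom i]
    (hH : ∀ (M : VecGrp.pt k k ⟶ G), (∀ t : VecGrp.pt k k ⟶ T, ∃ b : VecGrp.pt k k ⟶ B,
        (t ≫ iT) * M = M * (b ≫ iB)) →
      ∀ x : VecGrp.pt k k ⟶ H, ∃ b : VecGrp.pt k k ⟶ B, (x ≫ i) * M = M * (b ≫ iB) ∧
        ∀ ω : Fn B, IsChar ω → pullFn b ω = 1)
    (g₀ : VecGrp.pt k k ⟶ G) (x : VecGrp.pt k k ⟶ H) :
    ∃ b : VecGrp.pt k k ⟶ B, (x ≫ i) * g₀ = g₀ * (b ≫ iB) := by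
  classical
  obtain ⟨hBm, hBcl, hBsm, hBconn, hBsol, -⟩ := id hB
  haveI := hBm; haveI := hBcl; haveI := hBsm; haveI := hBconn
  haveI : IsAffine B.left := isAffine_of_isAffineHom iB.left
  haveI := hT.1
  obtain ⟨h1, h2, h3, -, -⟩ := TorusBasic.torus_props hT.2.2.1
  haveI := h1; haveI := h2; haveI := h3
  haveI : IsReduced G.left := GrpSchLib.isReduced_of_smooth_field G.hom
  obtain ⟨N, f, φ, χ, hne, hwt, hχ, hnz, hst, hsep⟩ := exists_semiInvariant_family iB hT.2.2.1 iT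
  obtain ⟨F₁, hF₁, c, hF₁0, hFe, hgood⟩ := exists_good_eigen iT hT iB hB f φ χ hne hwt hχ hnz hst
  let Fixed : (VecGrp.pt k k ⟶ G) → Prop := fun M =>
    ∀ t : VecGrp.pt k k ⟶ T, ∃ b : VecGrp.pt k k ⟶ B, (t ≫ iT) * M = M * (b ≫ iB)
  let P : (VecGrp.pt k k ⟶ G) → Fn G := fun M => ev ((toPt G ≫ M⁻¹) * 𝟙 G) F₁
  have hP : ∀ M g, pullFn g (P M) = pullFn (M⁻¹ * g) F₁ := fun M g => pullFn_translate _ _ _
  have hPW : ∀ M, P M ∈ Submodule.span k (Set.range f) := fun M => hst _ _ hF₁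
  have hPB : ∀ M g b, pullFn (g * (b ≫ iB)) (P M) = χ b * pullFn g (P M) := fun M g b => hχ g b _ (hPW M)
  -- no common zeros
  have hnoz : ∀ g : VecGrp.pt k k ⟶ G, ∃ M, Fixed M ∧ pullFn g (P M) ≠ 0 := by
    by_contra hcon
    push_neg at hcon
    obtain ⟨n, hn, hnfix⟩ := exists_fixed_solution iB (borel_cocompact iB hB) iT (isSolvableGrp_of_torus hT.2.2.1)
      (P '' {M | Fixed M})
      (fun g b h => by rintro _ ⟨M, hM, rfl⟩; rw [hPB, h _ ⟨M, hM, rfl⟩, MulZeroClass.mul_zero])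
      (fun g t h => by
        rintro _ ⟨M, hM, rfl⟩
        obtain ⟨b, hb⟩ := hM t
        rw [hP, ← _root_.mul_assoc, show M⁻¹ * (t ≫ iT) = (b ≫ iB) * M⁻¹ by
          rw [← mul_inv_cancel_right (M⁻¹ * (t ≫ iT)) M, _root_.mul_assoc M⁻¹, hb, inv_mul_cancel_left],
          _root_.mul_assoc, hFe, ← hP, h _ ⟨M, hM, rfl⟩, MulZeroClass.mul_zero])
      (by obtain ⟨g, hg⟩ := hcon; exact ⟨g, by rintro _ ⟨M, hM, rfl⟩; exact hg M hM⟩)
    obtain ⟨M, hM, hMn⟩ := hgood n hnfix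
    exact hMn (by rw [← hP]; exact hn _ ⟨M, hM, rfl⟩)
  -- the functions do not change along the subgroup
  obtain ⟨y₁, hy₁⟩ : ∃ y : VecGrp.pt k k ⟶ G, pullFn y F₁ ≠ 0 := by
    by_contra h
    push_neg at h
    exact hF₁0 (eq_of_forall_point fun g => by rw [h g, map_zero])
  let ω : Fn B := (pullFn y₁ F₁)⁻¹ • ev (iB * (toPt B ≫ y₁)) F₁
  have hω : ∀ b, pullFn b ω = c b := fun b => by
    rw [map_smul, pullFn_ev, MonObj.comp_mul, ← Category.assoc b (toPt B), comp_toPt, Category.id_comp, hFe,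
      smul_eq_mul, mul_comm (c b), inv_mul_cancel_left₀ hy₁]
  have hωc : IsChar ω := by
    refine ⟨fun a b => ?_, ?_⟩
    · rw [hω, hω, hω]
      have h := hFe (a * b) y₁
      rw [MonObj.mul_comp, _root_.mul_assoc, hFe, hFe, ← _root_.mul_assoc] at h
      exact (mul_right_cancel₀ hy₁ h).symm
    · rw [hω]
      have h := hFe 1 y₁
      rw [MonObj.one_comp, _root_.one_mul] at h
      exact (mul_eq_right₀ hy₁).mp h.symm
  have hinv : ∀ M, Fixed M → ∀ (x : VecGrp.pt k k ⟶ H) g, pullFn ((x ≫ i) * g) (P M) = pullFn g (P M) := by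
    intro M hM x g
    obtain ⟨b, hb, hbω⟩ := hH M hM x
    rw [hP, hP, ← _root_.mul_assoc, show M⁻¹ * (x ≫ i) = (b ≫ iB) * M⁻¹ by
      rw [← mul_inv_cancel_right (M⁻¹ * (x ≫ i)) M, _root_.mul_assoc M⁻¹, hb, inv_mul_cancel_left],
      _root_.mul_assoc, hFe, ← hω, hbω ω hωc, _root_.one_mul]
  obtain ⟨M₀, hM₀, hM₀g⟩ := hnoz g₀
  -- the ratios take finitely many values
  have hconst : ∀ l, pullFn ((x ≫ i) * g₀) (f l) = pullFn g₀ (f l) := by
    intro l
    let Φ : Option {M // Fixed M} → MvPolynomial (Fin 1) (Fn G) := fun o => match o with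
      | none => MvPolynomial.C (f l) * MvPolynomial.X 0 - MvPolynomial.C (P M₀)
      | some M => MvPolynomial.C (pullFn g₀ (P M₀) • P M.1 - pullFn g₀ (P M.1) • P M₀)
    have hΦ : ∀ (g : VecGrp.pt k k ⟶ G) (s : Fin 1 → k),
        (∀ o, MvPolynomial.eval s ((Φ o).map (pullFn g).toRingHom) = 0) ↔
          (pullFn g (f l) * s 0 = pullFn g (P M₀) ∧
            ∀ M, Fixed M → pullFn g₀ (P M₀) * pullFn g (P M) = pullFn g₀ (P M) * pullFn g (P M₀)) := fun g s => by
      simp only [Option.forall, Φ, map_sub, map_mul, MvPolynomial.map_C, MvPolynomial.map_X, MvPolynomial.eval_C,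
        MvPolynomial.eval_X, map_smul, smul_eq_mul, sub_eq_zero, AlgHom.toRingHom_eq_coe, RingHom.coe_coe,
        Subtype.forall]
    obtain ⟨Q, hQ0, hQ⟩ := exists_poly_of_unsolvable iB (borel_cocompact iB hB) Φ (fun g b s h => by
      rw [hΦ] at h ⊢
      refine ⟨?_, fun M hM => ?_⟩
      · rw [hχ g b _ (Submodule.subset_span ⟨l, rfl⟩), hPB, _root_.mul_assoc, h.1]
      · rw [hPB, hPB, mul_left_comm, h.2 M hM, mul_left_comm]) (fun _ => 0) (fun g => by
      by_contra hall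
      push_neg at hall
      obtain ⟨h0, hprop⟩ := (hΦ g _).mp hall
      rw [MulZeroClass.mul_zero] at h0
      obtain ⟨M, hM, hMg⟩ := hnoz g
      have := hprop M hM
      rw [← h0, MulZeroClass.mul_zero] at this
      exact hMg ((mul_eq_zero.mp this).resolve_left hM₀g))
    let q : Polynomial k := MvPolynomial.aeval (fun _ => Polynomial.X) Q
    have hq : ∀ s : k, q.eval s = MvPolynomial.eval (fun _ => s) Q := fun s => by
      rw [← Polynomial.coe_aeval_eq_eval, MvPolynomial.comp_aeval_apply]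
      simp only [Polynomial.aeval_X]
      rfl
    have hq0 : q ≠ 0 := fun h => hQ0 (by rw [← hq, h, Polynomial.eval_zero])
    let r : Fn H := ev (i * (toPt H ≫ g₀)) (f l)
    have hr : ∀ p : VecGrp.pt k k ⟶ H, pullFn p r = pullFn ((p ≫ i) * g₀) (f l) := fun p => by
      rw [pullFn_ev, MonObj.comp_mul, ← Category.assoc, comp_toPt, Category.id_comp]
    have hfin : (Set.range fun p : VecGrp.pt k k ⟶ H => pullFn p r).Finite := by
      refine Set.Finite.subset (((q.roots.toFinset.finite_toSet).image fun s => pullFn g₀ (P M₀) / s).union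
        (Set.finite_singleton (0 : k))) ?_
      rintro _ ⟨p, rfl⟩
      by_cases h0 : pullFn p r = 0
      · exact Or.inr h0
      left
      refine ⟨pullFn g₀ (P M₀) / pullFn p r, Finset.mem_coe.mpr (Multiset.mem_toFinset.mpr
        (Polynomial.mem_roots'.mpr ⟨hq0, ?_⟩)), ?_⟩
      · rw [Polynomial.IsRoot, hq]
        refine hQ ((p ≫ i) * g₀) _ ((hΦ _ _).mpr ⟨?_, fun M hM => ?_⟩)
        · rw [← hr, hinv M₀ hM₀]
          field_simp
        · rw [hinv M hM, hinv M₀ hM₀, mul_comm]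
      · show _ / _ = pullFn p r
        field_simp
    have h := eq_of_finite_values r hfin x 1
    rw [hr, hr, MonObj.one_comp, _root_.one_mul] at h
    exact h
  obtain ⟨b, hb⟩ := hsep g₀ ((x ≫ i) * g₀) fun p q => by rw [hconst, hconst, mul_comm]
  exact ⟨b, hb.symm⟩

end Groth.Agent.GModLib
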