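import Groth.Agent.GrpSchLib.AntiAffineGMod
import Groth.Agent.GrpSchLib.RepFamily

/-!
# Matrices of finite representations of group schemes given on affine points
-/

universe u v

open CategoryTheory Limits AlgebraicGeometry MonoidalCategory CartesianMonoidalCategory MonObj GrpObj TensorProduct
open TopologicalSpace Opposite

set_option backward.isDefEq.respectTransparency false
set_option backward.isDefEq.respectTransparency.types false

namespace Groth.Agent.GModLib

open GrpSchLib.Kunneth

variable {k : Type u} [Field k] {G : Over (Spec (CommRingCat.of k))}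

/-- Natural families of values on affine points are functions. -/
theorem exists_fn (F : ∀ (B : Type u) [CommRing B] [Algebra k B], (VecGrp.pt k B ⟶ G) → B)
    (hF : ∀ {B B' : Type u} [CommRing B] [Algebra k B] [CommRing B'] [Algebra k B'] (φ : B →ₐ[k] B') (g : VecGrp.pt k B ⟶ G),
      φ (F B g) = F B' (VecGrp.ptMap φ ≫ g)) :
    ∃ s : Fn G, ∀ (B : Type u) [CommRing B] [Algebra k B] (g : VecGrp.pt k B ⟶ G), F B g = pullFn g s := by
  let U : G.left.affineOpens → G.left.Opens := fun V => V.1
  let sf : ∀ V : G.left.affineOpens, Γ(G.left, U V) := fun V => letI := algOpen V.2; F _ (openPt V.2)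
  have hres : ∀ {V W : G.left.Opens} (hV : IsAffineOpen V) (hW : IsAffineOpen W) (h : W ≤ V),
      G.left.presheaf.map (homOfLE h).op (sf ⟨V, hV⟩) = sf ⟨W, hW⟩ := by
    intro V W hV hW h
    letI := algOpen hV
    letI := algOpen hW
    exact (hF (resAlg hV hW h) (openPt hV)).trans (by rw [ptMap_resAlg])
  have hcov : (⊤ : G.left.Opens) ≤ iSup U := (iSup_affineOpens_eq_top G.left).ge
  obtain ⟨s, hs, -⟩ := G.left.sheaf.existsUnique_gluing' U ⊤ (fun b => homOfLE le_top) hcov sf (fun V W => by
    refine eq_of_forall_affine fun Z hZ hZl => ?_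
    have e1 := hres V.2 hZ (hZl.trans inf_le_left)
    have e2 := hres W.2 hZ (hZl.trans inf_le_right)
    refine Eq.trans ?_ ((e1.trans e2.symm).trans ?_)
    · refine Eq.trans ?_ rfl
      exact (congr($(G.left.presheaf.map_comp _ _) (sf V))).symm
    · exact congr($(G.left.presheaf.map_comp _ _) (sf W)))
  refine ⟨s, fun B _ _ g => ?_⟩
  have hloc : ∀ V : G.left.affineOpens, letI := algOpen V.2; F _ (openPt V.2) = pullFn (openPt V.2) s := fun V => by
    letI := algOpen V.2
    exact (hs V).symm.trans (pullFn_openPt V.2 s).symm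
  -- locally on the test scheme
  let S : Set B := {r | ∃ (V : G.left.affineOpens), PrimeSpectrum.basicOpen r ≤ g.left ⁻¹ᵁ (U V)}
  have hspan : Ideal.span S = ⊤ := by
    rw [← PrimeSpectrum.zeroLocus_empty_iff_eq_top, PrimeSpectrum.zeroLocus_span, Set.eq_empty_iff_forall_notMem]
    intro p hp
    obtain ⟨V, hV⟩ := Opens.mem_iSup.mp (hcov (show g.left p ∈ (⊤ : G.left.Opens) from trivial))
    obtain ⟨_, ⟨r, rfl⟩, hr, hle⟩ := PrimeSpectrum.isTopologicalBasis_basic_opens.exists_subset_of_mem_open
      (show p ∈ ((g.left ⁻¹ᵁ (U V)).carrier : Set (PrimeSpectrum B)) from hV) (g.left ⁻¹ᵁ (U V)).isOpen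
    exact hr (hp ⟨V, hle⟩)
  suffices hrad : ∀ r ∈ S, ∃ m : ℕ, r ^ m * (F B g - pullFn g s) = 0 by
    let I : Ideal B := LinearMap.ker (LinearMap.toSpanSingleton B B (F B g - pullFn g s))
    have hI : ∀ a, a ∈ I ↔ a * (F B g - pullFn g s) = 0 := fun a => by simp [I]
    have : I.radical = ⊤ := top_unique (hspan ▸ Ideal.span_le.2 fun r hr => by
      obtain ⟨m, hm⟩ := hrad r hr
      exact ⟨m, (hI _).2 hm⟩)
    rw [Ideal.radical_eq_top] at this
    exact sub_eq_zero.mp (by simpa using (hI 1).1 (this ▸ trivial))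
  intro r hr
  obtain ⟨V, hle⟩ := hr
  letI := algOpen V.2
  let Br := Localization.Away r
  let φ : B →ₐ[k] Br := IsScalarTower.toAlgHom k B Br
  let h := VecGrp.ptMap φ ≫ g
  have hrange : Set.range h.left ⊆ Set.range V.2.fromSpec := by
    rw [V.2.range_fromSpec]
    rintro _ ⟨q, rfl⟩
    refine hle ?_
    have : (PrimeSpectrum.comap (algebraMap B Br) q) ∈ (PrimeSpectrum.basicOpen r : Set _) := by
      rw [← PrimeSpectrum.localization_away_comap_range Br r]
      exact ⟨q, rfl⟩
    exact this
  haveI := V.2.isOpenImmersion_fromSpec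
  let q := Spec.preimage (IsOpenImmersion.lift V.2.fromSpec h.left hrange)
  have hq : Spec.map q ≫ V.2.fromSpec = h.left := by rw [Spec.map_preimage, IsOpenImmersion.lift_fac]
  let ψ : Γ(G.left, V.1) →ₐ[k] Br := AlgHom.mk q.hom fun a => by
    have e : Spec.preimage (V.2.fromSpec ≫ G.hom) ≫ q = CommRingCat.ofHom (algebraMap k Br) := by
      apply Spec.map_injective
      rw [Spec.map_comp]
      refine (congrArg (Spec.map q ≫ ·) (Spec.map_preimage _)).trans ?_
      rw [← Category.assoc, hq]
      exact Over.w h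
    exact congr($e a)
  have hh : VecGrp.ptMap ψ ≫ openPt V.2 = h := Over.OverMorphism.ext hq
  have hz : algebraMap B Br (F B g - pullFn g s) = 0 := by
    rw [map_sub, sub_eq_zero]
    calc algebraMap B Br (F B g) = F Br h := hF φ g
      _ = ψ (F _ (openPt V.2)) := by rw [hF ψ, hh]
      _ = pullFn (VecGrp.ptMap ψ ≫ openPt V.2) s := by rw [hloc, pullFn_ptMap]
      _ = _ := by rw [hh]; exact pullFn_ptMap φ g s
  obtain ⟨⟨_, m, rfl⟩, hm⟩ := (IsLocalization.map_eq_zero_iff (Submonoid.powers r) Br _).1 hz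
  exact ⟨m, hm⟩

/-- Functions on any scheme are determined by their values on affine points. -/
theorem eq_of_pullFn {T : Over (Spec (CommRingCat.of k))} {a b : Fn T}
    (h : ∀ (B : Type u) [CommRing B] [Algebra k B] (p : VecGrp.pt k B ⟶ T), pullFn p a = pullFn p b) : a = b := by
  refine eq_of_forall_affine fun V hV hVU => ?_
  letI := algOpen hV
  exact ((pullFn_openPt hV a).symm.trans (h _ (openPt hV))).trans (pullFn_openPt hV b)

theorem pullFn_ev {T X : Over (Spec (CommRingCat.of k))} {B : Type u} [CommRing B] [Algebra k B]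
    (p : VecGrp.pt k B ⟶ T) (g : T ⟶ X) (f : Fn X) : pullFn p (ev g f) = pullFn (p ≫ g) f := by
  rw [pullFn_apply, pullFn_apply, ev_ev]

variable [GrpObj G] {M : Type u} [AddCommGroup M] [Module k M]

/-- A stable finite dimensional subspace gives a matrix representation. -/
theorem exists_matrix_of_stable (m : VecGrp.GMod G M) (N : Submodule k M) [Module.Finite k N]
    (hN : ∀ (B : Type u) [CommRing B] [Algebra k B] (g : VecGrp.pt k B ⟶ G) (x : VecGrp.W k M B),
      x ∈ Submodule.baseChange B N → m.ρ B g x ∈ Submodule.baseChange B N) :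
    ∃ (n : ℕ) (X : Matrix (Fin n) (Fin n) (Fn G)), IsRepMatrix X ∧
      ∀ (B : Type u) [CommRing B] [Algebra k B] (g : VecGrp.pt k B ⟶ G), X.map (pullFn g) = 1 →
        ∀ v ∈ N, m.ρ B g ((1 : B) ⊗ₜ v) = (1 : B) ⊗ₜ v := by
  classical
  let b := Module.finBasis k N
  let n := Module.finrank k N
  let e : Fin n → M := fun j => (b j).1
  obtain ⟨L, hL⟩ := LinearMap.exists_leftInverse_of_injective N.subtype N.ker_subtype
  have hLN : ∀ y : N, L y.1 = y := fun y => congr($hL y)
  -- coordinates
  let co : ∀ (B : Type u) [CommRing B] [Algebra k B], Fin n → (B ⊗[k] M →ₗ[B] B) := fun B _ _ i =>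
    (Algebra.TensorProduct.basis B b).coord i ∘ₗ L.baseChange B
  have hco : ∀ {B B' : Type u} [CommRing B] [Algebra k B] [CommRing B'] [Algebra k B'] (φ : B →ₐ[k] B') (i)
      (x : B ⊗[k] M), φ (co B i x) = co B' i (VecGrp.Wmap φ x) := by
    intro B B' _ _ _ _ φ i x
    induction x using TensorProduct.induction_on with
    | zero => simp
    | tmul r y =>
      simp [co, Algebra.TensorProduct.basis_repr_tmul]
    | add x y hx hy => simp only [map_add, hx, hy]
  have hexp : ∀ (B : Type u) [CommRing B] [Algebra k B] (x : B ⊗[k] M), x ∈ Submodule.baseChange B N →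
      x = ∑ i, co B i x • ((1 : B) ⊗ₜ e i) := by
    intro B _ _ x hx
    rw [Submodule.baseChange_eq_span] at hx
    induction hx using Submodule.span_induction with
    | mem x hx =>
      obtain ⟨y, hy, rfl⟩ := hx
      conv_lhs => rw [TensorProduct.mk_apply, show y = ∑ i, b.repr ⟨y, hy⟩ i • e i from by
        have := congrArg Subtype.val (b.sum_repr ⟨y, hy⟩)
        rw [Submodule.coe_sum] at this
        exact this.symm]
      rw [tmul_sum]
      refine Finset.sum_congr rfl fun i _ => ?_
      rw [tmul_smul, ← algebraMap_smul B (b.repr ⟨y, hy⟩ i)]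
      congr 1
      simp [co, Algebra.TensorProduct.basis_repr_tmul, hLN ⟨y, hy⟩, Algebra.algebraMap_eq_smul_one]
    | zero => simp
    | add x y _ _ hx hy =>
      conv_lhs => rw [hx, hy]
      simp only [map_add, add_smul, Finset.sum_add_distrib]
    | smul r x _ hx =>
      conv_lhs => rw [hx]
      simp only [map_smul, smul_eq_mul, Finset.smul_sum, mul_smul]
  have hmem : ∀ (B : Type u) [CommRing B] [Algebra k B] (j), (1 : B) ⊗ₜ[k] e j ∈ Submodule.baseChange B N :=
    fun B _ _ j => Submodule.tmul_mem_baseChange_of_mem 1 (b j).2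
  have hdelta : ∀ (B : Type u) [CommRing B] [Algebra k B] (i j), co B i ((1 : B) ⊗ₜ e j) = if i = j then 1 else 0 := by
    intro B _ _ i j
    simp [co, e, hLN (b j), Algebra.TensorProduct.basis_repr_tmul, Finsupp.single_apply, eq_comm (a := i)]
  choose X hX using fun i j => exists_fn (G := G)
    (fun B _ _ g => co B i (m.ρ B g ((1 : B) ⊗ₜ e j)))
    (fun φ g => by rw [hco, m.naturality]; simp)
  let XM : Matrix (Fin n) (Fin n) (Fn G) := Matrix.of X
  have hact : ∀ (B : Type u) [CommRing B] [Algebra k B] (g : VecGrp.pt k B ⟶ G) (j),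
      m.ρ B g ((1 : B) ⊗ₜ e j) = ∑ i, pullFn g (XM i j) • ((1 : B) ⊗ₜ e i) := by
    intro B _ _ g j
    refine (hexp B _ (hN B g _ (hmem B j))).trans (Finset.sum_congr rfl fun i _ => ?_)
    rw [hX i j B g]
    rfl
  have hmul : ∀ (B : Type u) [CommRing B] [Algebra k B] (g h : VecGrp.pt k B ⟶ G),
      XM.map (pullFn (g * h)) = XM.map (pullFn g) * XM.map (pullFn h) := by
    intro B _ _ g h
    refine Matrix.ext fun i j => ?_
    rw [Matrix.map_apply, Matrix.mul_apply]
    refine (hX i j B (g * h)).symm.trans ?_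
    simp only [map_mul, LinearEquiv.mul_apply, hact B h j, map_sum, map_smul, smul_eq_mul, Matrix.map_apply]
    refine Finset.sum_congr rfl fun l _ => ?_
    rw [hX i l B g, _root_.mul_comm]
    rfl
  have hone : ∀ (B : Type u) [CommRing B] [Algebra k B], XM.map (pullFn (1 : VecGrp.pt k B ⟶ G)) = 1 := by
    intro B _ _
    refine Matrix.ext fun i j => ?_
    rw [Matrix.map_apply, Matrix.one_apply]
    refine (hX i j B 1).symm.trans ?_
    rw [map_one]
    exact hdelta B i j
  refine ⟨n, XM, ⟨fun T g h => Matrix.ext fun i j => eq_of_pullFn fun B _ _ p => ?_,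
    fun T => Matrix.ext fun i j => eq_of_pullFn fun B _ _ p => ?_⟩, fun B _ _ g hg v hv => ?_⟩
  · rw [Matrix.map_apply, pullFn_ev, MonObj.comp_mul, Matrix.mul_apply, map_sum]
    simp only [map_mul, Matrix.map_apply, pullFn_ev]
    have := congrFun (congrFun (hmul B (p ≫ g) (p ≫ h)) i) j
    simpa only [Matrix.map_apply, Matrix.mul_apply] using this
  · rw [Matrix.map_apply, pullFn_ev, MonObj.comp_one]
    have := congrFun (congrFun (hone B) i) j
    rw [Matrix.map_apply] at this
    rw [this, Matrix.one_apply, Matrix.one_apply]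
    split <;> simp
  · have hj : ∀ j, m.ρ B g ((1 : B) ⊗ₜ e j) = (1 : B) ⊗ₜ e j := fun j => by
      rw [hact]
      have : ∀ i, pullFn g (XM i j) = (1 : Matrix (Fin n) (Fin n) B) i j := fun i =>
        congrFun (congrFun hg i) j
      simp [this, Matrix.one_apply]
    rw [show v = ∑ i, b.repr ⟨v, hv⟩ i • e i from by
      have := congrArg Subtype.val (b.sum_repr ⟨v, hv⟩)
      rw [Submodule.coe_sum] at this
      exact this.symm]
    rw [tmul_sum, map_sum]
    refine Finset.sum_congr rfl fun i _ => ?_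
    rw [tmul_smul, ← algebraMap_smul B (b.repr ⟨v, hv⟩ i), map_smul, hj]

end Groth.Agent.GModLib
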