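import Groth.Agent.GModLib.CentreTori
import Groth.Agent.GModLib.CartanContained
import Groth.Agent.GModLib.CentralizerBC
import Groth.Agent.GModLib.TorusBC
import Groth.Agent.GModLib.MaxTorusGeomConv
import Groth.Agent.Chevalley.BC.NonConn
import Groth.Agent.Chevalley.CommAff.BCSA

/-!
# Maximal tori stay maximal under extensions of algebraically closed fields
-/

set_option autoImplicit false
set_option backward.isDefEq.respectTransparency false
set_option backward.isDefEq.respectTransparency.types false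

universe u

open CategoryTheory Limits AlgebraicGeometry MonoidalCategory CartesianMonoidalCategory MonObj GrpObj

namespace Groth.Agent.GModLib

open GrpSchLib GrpSchLib.Kunneth

variable {k : Type u} [Field k] [IsAlgClosed k] {K : Type u} [Field K] [IsAlgClosed K]

/-- The affine part, cut out by a proper quotient of the neutral component. -/
theorem exists_affPart_kernel (G : Over (Spec (CommRingCat.of k))) [GrpObj G] [Smooth G.hom] [QuasiCompact G.hom] :
    ∃ (N L Q : Over (Spec (CommRingCat.of k))) (_ : GrpObj N) (_ : GrpObj L) (_ : GrpObj Q) (c : N ⟶ G) (l : L ⟶ N)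
      (q : N ⟶ Q), IsMonHom c ∧ IsClosedImmersion c.left ∧ IsClopen (Set.range c.left) ∧ IsMonHom l ∧
        IsClosedImmersion l.left ∧ Smooth L.hom ∧ ConnectedSpace L.left ∧ IsAffine L.left ∧ IsMonHom q ∧
        IsProper Q.hom ∧ AlgGrp.IsKernel l q := by
  obtain ⟨N, _, c, hcm, hcc, hNs, hNq, hNc, hcr⟩ := Chevalley.BC.exists_comp G
  haveI := hNs; haveI := hNq; haveI := hNc
  obtain ⟨L, _, l, Q, _, q, hl, hq, -, -, hk, hQp, -, -⟩ := Chevalley.BC.exists_chevalley N
  refine ⟨N, L, Q, inferInstance, inferInstance, inferInstance, c, l, q, hcm, hcc, ?_, hl.hom, hl.closed, hl.smooth,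
    hl.conn, hl.prop, hq, hQp, hk⟩
  haveI : IsLocallyNoetherian G.left := LocallyOfFiniteType.isLocallyNoetherian G.hom
  rw [hcr]
  exact ⟨isClosed_connectedComponent, GrpSchLib.isOpen_connectedComponent _⟩

/-- The torsion points of a central full torus are all torsion points. -/
theorem mem_range_of_pow_eq_one {C T : Over (Spec (CommRingCat.of k))} [GrpObj C] [GrpObj T] [IsAffine C.left]
    [Smooth C.hom] {d : ℕ} {M : Matrix (Fin d) (Fin d) (Fn C)} (hM : IsTriangular M) (iS : T ⟶ C)
    (hfull : IsFullTorus hM iS)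
    (hc : ∀ (p : VecGrp.pt k k ⟶ C) (s : VecGrp.pt k k ⟶ T), Commute (s ≫ iS) p) {n : ℕ} (hn : (n : k) ≠ 0)
    {p : VecGrp.pt k k ⟶ C} (hp : p ^ n = 1) : ∃ t : VecGrp.pt k k ⟶ T, t ≫ iS = p := by
  obtain ⟨hm, -, -, hf, hu⟩ := hfull
  haveI := hm
  obtain ⟨t, ht⟩ := hf p
  let u := p * (t ≫ iS)⁻¹
  have hud : u ∈ uni hM := (mem_uni_iff_diagHom hM _).mpr (by
    show diagHom hM (p * (t ≫ iS)⁻¹) = 1
    rw [map_mul, ← ht, ← map_mul, mul_inv_cancel, map_one])
  have hun : u ^ n = ((t ^ n)⁻¹ : VecGrp.pt k k ⟶ T) ≫ iS := by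
    rw [GrpObj.inv_comp, MonObj.pow_comp]
    show (p * (t ≫ iS)⁻¹) ^ n = _
    rw [(hc p t).symm.inv_right.mul_pow, hp, _root_.one_mul, _root_.inv_pow]
  have h1 : u ^ n = 1 := by
    have h2 : ((t ^ n)⁻¹ : VecGrp.pt k k ⟶ T) = 1 := hu _ (hun ▸ pow_mem hud n)
    rw [hun, h2, MonObj.one_comp]
  exact ⟨t, (mul_inv_eq_one.mp (eq_one_of_pow_eq_one hM hn hud h1)).symm⟩

set_option maxHeartbeats 1000000 in
/-- A torus over an extension commuting with a maximal torus lies in it. -/
theorem exists_factor_bc_maxTorus {G T : Over (Spec (CommRingCat.of k))} [GrpObj G] [GrpObj T] [Smooth G.hom]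
    [QuasiCompact G.hom] (i : T ⟶ G) (hT : AGF.IsMaxTorus i) (σ : Spec (CommRingCat.of K) ⟶ Spec (CommRingCat.of k))
    {R : Over (Spec (CommRingCat.of K))} [GrpObj R] (hR : Red.IsTorus R) (j : R ⟶ Red.bc σ G) [IsMonHom j]
    (hcomm : ∀ (X : Over (Spec (CommRingCat.of K))) (r : X ⟶ R) (t : X ⟶ Red.bc σ T),
      (r ≫ j) * (t ≫ (Over.pullback σ).map i) = (t ≫ (Over.pullback σ).map i) * (r ≫ j)) :
    ∃ f : R ⟶ Red.bc σ T, f ≫ (Over.pullback σ).map i = j := by
  obtain ⟨hTm, hTmo, hTt, hTmax⟩ := id hT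
  haveI := hTm; haveI := hTmo
  obtain ⟨q1, q2, q3, -, -⟩ := TorusBasic.torus_props hTt
  haveI := q1; haveI := q2; haveI := q3
  obtain ⟨r1, r2, r3, -, -⟩ := TorusBasic.torus_props hR
  haveI := r1; haveI := r2; haveI := r3
  haveI : IsReduced R.left := GrpSchLib.isReduced_of_smooth_field R.hom
  haveI : IsReduced T.left := GrpSchLib.isReduced_of_smooth_field T.hom
  -- the torus lies in the affine part
  obtain ⟨N, L, Q, _, _, _, c, l, q, hcm, hcc, hcr, hlm, hlc, hLs, hLn, hLa, hqm, hQp, hk⟩ := exists_affPart_kernel G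
  haveI := hcm; haveI := hcc; haveI := hlm; haveI := hlc; haveI := hLs; haveI := hLn; haveI := hLa
  haveI := hqm; haveI := hQp
  haveI : Mono c := Over.mono_of_mono_left c
  haveI : Mono l := Over.mono_of_mono_left l
  obtain ⟨e, he⟩ : ∃ e : T ⟶ L, e ≫ l ≫ c = i := by
    obtain ⟨a, ha⟩ := H23.RedSub.exists_lift_closed i.left c.left (by
      have h1 : _root_.IsPreconnected (Set.range i.left) := isPreconnected_range i.left.continuous
      refine h1.subset_isClopen hcr ⟨(η[G]).left (IsLocalRing.closedPoint k), ⟨(η[T]).left (IsLocalRing.closedPoint k), ?_⟩,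
        ⟨(η[N]).left (IsLocalRing.closedPoint k), ?_⟩⟩
      · rw [← Scheme.Hom.comp_apply, ← Over.comp_left, IsMonHom.one_hom i]
      · rw [← Scheme.Hom.comp_apply, ← Over.comp_left, IsMonHom.one_hom c])
    let a' : T ⟶ N := Over.homMk a (by rw [← Over.w c, reassoc_of% ha, Over.w i])
    have ha' : a' ≫ c = i := Over.OverMorphism.ext ha
    haveI : IsMonHom (a' ≫ c) := ha'.symm ▸ hTm
    haveI : IsMonHom a' := isMonHom_of_comp a' c
    have h1 : a' ≫ q = 1 := GrpSchLib.AffToProper.hom_eq_one (a' ≫ q)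
    exact ⟨hk.lift a' (toUnit T) (by rw [h1]; rfl), by rw [← Category.assoc, hk.lift_fst, ha']⟩
  haveI : IsMonHom (e ≫ l ≫ c) := he.symm ▸ hTm
  haveI : IsMonHom e := isMonHom_of_comp e (l ≫ c)
  haveI : Mono (e ≫ l ≫ c) := he.symm ▸ hTmo
  haveI : Mono e := mono_of_mono e (l ≫ c)
  have heM : AGF.IsMaxTorus e := ⟨inferInstance, inferInstance, hTt, fun T' _ g _ _ f hT' hf =>
    hTmax T' (g ≫ l ≫ c) f hT' (by rw [← Category.assoc, hf, he])⟩
  -- the torus of the extension lies in the extended affine part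
  let P := Over.pullback σ
  haveI : IsProper (Red.bc σ Q).hom := inferInstanceAs (IsProper (pullback.snd Q.hom σ))
  obtain ⟨jL, hjL⟩ : ∃ jL : R ⟶ Red.bc σ L, jL ≫ P.map (l ≫ c) = j := by
    haveI : IsClosedImmersion (P.map c).left := MorphismProperty.baseChange_map (P := @IsClosedImmersion) σ c hcc
    obtain ⟨a, ha⟩ := H23.RedSub.exists_lift_closed j.left (P.map c).left (by
      have hfst : (P.map c).left ≫ pullback.fst G.hom σ = pullback.fst N.hom σ ≫ c.left := pullback.lift_fst _ _ _
      have hsub : Set.range (P.map c).left = (pullback.fst G.hom σ) ⁻¹' Set.range c.left := by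
        ext x
        constructor
        · rintro ⟨y, rfl⟩
          exact ⟨(pullback.fst N.hom σ) y, by rw [← Scheme.Hom.comp_apply, ← hfst, Scheme.Hom.comp_apply]; rfl⟩
        · rintro ⟨y, hy⟩
          have sq : IsPullback (pullback.fst N.hom σ) (P.map c).left c.left (pullback.fst G.hom σ) := by
            refine IsPullback.of_bot ?_ hfst.symm (IsPullback.of_hasPullback G.hom σ)
            rw [Over.w c, show (P.map c).left ≫ pullback.snd G.hom σ = pullback.snd N.hom σ from Over.w (P.map c)]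
            exact IsPullback.of_hasPullback N.hom σ
          obtain ⟨z, -, hz⟩ := Scheme.exists_preimage_of_isPullback sq y x hy
          exact ⟨z, hz⟩
      rw [hsub]
      have h1 : _root_.IsPreconnected (Set.range j.left) := isPreconnected_range j.left.continuous
      refine h1.subset_isClopen (hcr.preimage (Scheme.Hom.continuous _))
        ⟨(η[Red.bc σ G]).left (IsLocalRing.closedPoint K), ⟨(η[R]).left (IsLocalRing.closedPoint K), ?_⟩, ?_⟩
      · rw [← Scheme.Hom.comp_apply, ← Over.comp_left, IsMonHom.one_hom j]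
      · rw [← hsub]
        exact ⟨(η[Red.bc σ N]).left (IsLocalRing.closedPoint K), by
          rw [← Scheme.Hom.comp_apply, ← Over.comp_left, IsMonHom.one_hom (P.map c)]⟩)
    let a' : R ⟶ Red.bc σ N := Over.homMk a (by rw [← Over.w (P.map c), reassoc_of% ha, Over.w j])
    have ha' : a' ≫ P.map c = j := Over.OverMorphism.ext ha
    haveI : IsMonHom (a' ≫ P.map c) := ha'.symm ▸ ‹IsMonHom j›
    haveI : Mono (P.map c) := inferInstance
    haveI : IsMonHom a' := isMonHom_of_comp a' (P.map c)
    have h1 : a' ≫ P.map q = 1 := GrpSchLib.AffToProper.hom_eq_one (a' ≫ P.map q)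
    have hkσ := Chevalley.CommAff.isKernel_bc σ hk
    exact ⟨hkσ.lift a' (toUnit R) (by rw [h1]; rfl), by rw [Functor.map_comp, ← Category.assoc, hkσ.lift_fst, ha']⟩
  haveI : IsMonHom (jL ≫ P.map (l ≫ c)) := hjL.symm ▸ ‹IsMonHom j›
  haveI : Mono (P.map (l ≫ c)) := inferInstance
  haveI : IsMonHom jL := isMonHom_of_comp jL (P.map (l ≫ c))
  -- inside the centralizer
  obtain ⟨C, _, hCa, hCs, hCn, iC, hiC, d, M, hM, iS, hcl, -, hiS, hfull, hcomm', -, -, huniv⟩ := exists_cartan e heM
  haveI := hCa; haveI := hCs; haveI := hCn; haveI := hiC; haveI := hcl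
  haveI := hfull.1; haveI := hfull.2.1
  haveI : Mono iC := Over.mono_of_mono_left iC
  obtain ⟨C', _, c', hm', hcc', hu'⟩ := TransLib.exists_centralizer e
  haveI := hm'; haveI := hcc'
  haveI : Mono c' := Over.mono_of_mono_left c'
  have hc' : Red.IsCentralizerOf e c' := ⟨inferInstance, inferInstance, hu'⟩
  obtain ⟨hs', -, hn'⟩ := centralizer_smooth_connected e hTt c' hc'
  haveI := hs'; haveI := hn'
  obtain ⟨v, hv⟩ := huniv C' c' fun p s => by
    have e1 := (hu' _ (p ≫ c')).mp ⟨p, rfl⟩ _ (𝟙 _) s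
    rw [Category.id_comp] at e1
    exact e1.symm
  obtain ⟨b, hb⟩ := ((BC.isCentralizerOf_bc σ hc').2.2 _ jL).mpr fun X x t => by
    rw [← cancel_mono (P.map (l ≫ c)), MonObj.mul_comp, MonObj.mul_comp, Category.assoc, hjL, Category.assoc,
      ← Functor.map_comp, he]
    exact hcomm X x t
  let a : R ⟶ Red.bc σ C := b ≫ P.map v
  have ha : a ≫ P.map iC = jL := by rw [Category.assoc, ← Functor.map_comp, hv, hb]
  haveI : IsMonHom (a ≫ P.map iC) := ha.symm ▸ ‹IsMonHom jL›
  haveI : Mono (P.map iC) := inferInstance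
  haveI : IsMonHom a := isMonHom_of_comp a (P.map iC)
  -- torsion points lie in the torus
  haveI : IsClosedImmersion (P.map iS).left := MorphismProperty.baseChange_map (P := @IsClosedImmersion) σ iS hfull.2.1
  have hcS : ∀ (p : VecGrp.pt k k ⟶ C) (s : VecGrp.pt k k ⟶ T), Commute (s ≫ iS) p := fun p s => by
    show _ * _ = _ * _
    rw [← cancel_mono iC, MonObj.mul_comp, MonObj.mul_comp, Category.assoc, hiS]
    exact (hcomm' p s).eq
  have hU := torus_eq_univ hR (((P.map iS).left.isClosedEmbedding.isClosed_range).preimage a.left.continuous)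
    fun r ⟨m, hm0, hrm⟩ => by
      obtain ⟨n, hnK, hrn⟩ := exists_invertible_order hR hm0 hrm
      have hnk : (n : k) ≠ 0 := fun h0 => hnK (by
        rw [← map_natCast (Spec.preimage σ).hom n, h0, map_zero])
      let z := r ≫ a
      have hz : DSPtsLib.theta σ z ^ n = 1 := by
        have h1 : z ^ n = 1 := by rw [← MonObj.pow_comp, hrn, MonObj.one_comp]
        have h2 := map_pow (MonoidHom.mk' (DSPtsLib.theta σ) (DSPtsLib.theta_mul σ) :
          (VecGrp.pt K K ⟶ Red.bc σ C) →* _) z n
        rw [h1, map_one] at h2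
        exact h2.symm
      let pn : C ⟶ C := (𝟙 C) ^ n
      let Y : Set C.left := pn.left ⁻¹' Set.range (η[C]).left
      haveI : IsSeparated C.hom := AntiAffine.isSeparated_grp C
      haveI : IsClosedImmersion (η[C]).left := by
        haveI : IsClosedImmersion ((η[C]).left ≫ C.hom) := by
          rw [Over.w η[C]]; exact inferInstanceAs (IsClosedImmersion (𝟙 (Spec (CommRingCat.of k))))
        exact IsClosedImmersion.of_comp (η[C]).left C.hom
      have hY : IsClosed Y :=
        (η[C]).left.isClosedEmbedding.isClosed_range.preimage pn.left.continuous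
      have hYS : Y ⊆ Set.range iS.left := by
        by_contra hne
        obtain ⟨x, hx, hx'⟩ := Set.not_subset.mp hne
        obtain ⟨p, hp, hp'⟩ := exists_point_locallyClosed
          (hY.isLocallyClosed.inter iS.left.isClosedEmbedding.isClosed_range.isOpen_compl.isLocallyClosed) ⟨x, hx, hx'⟩
        have h1 : (p ^ n).left (IsLocalRing.closedPoint k) ∈ Set.range (η[C]).left := by
          have : p ≫ pn = p ^ n := by rw [MonObj.comp_pow, Category.comp_id]
          rw [← this, Over.comp_left, Scheme.Hom.comp_apply]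
          exact hp
        obtain ⟨w, hw⟩ := exists_lift_point η[C] (p ^ n) h1
        have hpn : p ^ n = 1 := by rw [← hw, Hom.one_def, toUnit_unique w (toUnit _)]
        obtain ⟨t, ht⟩ := mem_range_of_pow_eq_one hM iS hfull hcS hnk hpn
        exact hp' ⟨t.left (IsLocalRing.closedPoint k), by rw [← Scheme.Hom.comp_apply, ← Over.comp_left, ht]⟩
      have hzY : (DSPtsLib.theta σ z).left (IsLocalRing.closedPoint K) ∈ Y := by
        have e : DSPtsLib.theta σ z ≫ pn = toUnit _ ≫ η[C] := by
          rw [MonObj.comp_pow, Category.comp_id, hz, Hom.one_def]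
        refine ⟨(toUnit ((Over.map σ).obj (VecGrp.pt K K))).left (IsLocalRing.closedPoint K), ?_⟩
        rw [← Scheme.Hom.comp_apply, ← Over.comp_left, ← e, Over.comp_left, Scheme.Hom.comp_apply]
      haveI : IsReduced ((Over.map σ).obj (VecGrp.pt K K)).left :=
        inferInstanceAs (IsReduced (Spec (CommRingCat.of K)))
      obtain ⟨y, hy⟩ := H23.RedSub.exists_lift_closed (DSPtsLib.theta σ z).left iS.left (by
        rintro _ ⟨w, rfl⟩
        rw [@Subsingleton.elim (PrimeSpectrum K) _ w (IsLocalRing.closedPoint K)]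
        exact hYS hzY)
      let y' : (Over.map σ).obj (VecGrp.pt K K) ⟶ T := Over.homMk y (by
        rw [← Over.w iS, reassoc_of% hy, Over.w (DSPtsLib.theta σ z)])
      obtain ⟨t, ht⟩ := (BC.exists_factor_iff σ (j := iS) z).mpr ⟨y', Over.OverMorphism.ext hy⟩
      refine ⟨t.left (IsLocalRing.closedPoint K), ?_⟩
      rw [← Scheme.Hom.comp_apply, ← Over.comp_left, ht, Over.comp_left, Scheme.Hom.comp_apply]
  obtain ⟨f, hf⟩ := H23.RedSub.exists_lift_closed a.left (P.map iS).left (by
    rintro _ ⟨w, rfl⟩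
    exact Set.eq_univ_iff_forall.mp hU w)
  let f' : R ⟶ Red.bc σ T := Over.homMk f (by rw [← Over.w (P.map iS), reassoc_of% hf, Over.w a])
  refine ⟨f', ?_⟩
  have hf' : f' ≫ P.map iS = a := Over.OverMorphism.ext hf
  rw [← he, ← hjL, ← ha, ← hf', ← hiS]
  simp only [Functor.map_comp, Category.assoc]
  rfl

/-- A maximal torus stays maximal after an extension of algebraically closed fields. -/
theorem isMaxTorus_bc {G T : Over (Spec (CommRingCat.of k))} [GrpObj G] [GrpObj T] [Smooth G.hom]
    [QuasiCompact G.hom] (i : T ⟶ G) (hT : AGF.IsMaxTorus i) (σ : Spec (CommRingCat.of K) ⟶ Spec (CommRingCat.of k)) :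
    AGF.IsMaxTorus ((Over.pullback σ).map i) := by
  haveI := hT.1; haveI := hT.2.1
  refine ⟨inferInstance, inferInstance, isTorus_bc σ hT.2.2.1, fun T' _ j _ _ f hT' hf => ?_⟩
  obtain ⟨g, hg⟩ := exists_factor_bc_maxTorus i hT σ hT' j fun X r t => by
    rw [← hf, ← Category.assoc t f j, ← MonObj.mul_comp, ← MonObj.mul_comp, TorusBilin.comm_of_isTorus hT']
  exact ⟨g, (cancel_mono ((Over.pullback σ).map i)).mp (by rw [Category.assoc, hg, hf, Category.id_comp]),
    (cancel_mono j).mp (by rw [Category.assoc, hf, hg, Category.id_comp])⟩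

end Groth.Agent.GModLib
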