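import Groth.Agent.GModLib.CentralTorusDescent
import Groth.Agent.GModLib.SigmaTorus
import Groth.Agent.GModLib.CentralKernelTori
import Groth.Agent.SplitTorLib.Image
import Mathlib.GroupTheory.FiniteAbelian.Basic

/-!
# The maximal torus of a group of multiplicative type
-/

set_option autoImplicit false
set_option linter.style.haveILetI false
set_option backward.isDefEq.respectTransparency false
set_option backward.isDefEq.respectTransparency.types false

universe u

open CategoryTheory CategoryTheory.Limits MonoidalCategory CartesianMonoidalCategory MonObj GrpObj AlgebraicGeometry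

namespace Groth.Agent.GModLib

open DSPtsLib (spU pt exists_eq_pt)
open SplitTorLib (chr chr_pull pt_DSmap pt_pow ringHom_ext')

variable {S : Scheme.{u}}

/-- The `e`-th power on `D(M)` is `D(e)`. -/
theorem pow_eq_DSmap (M : Type) [AddCommGroup M] (e : ℕ) :
    (𝟙 (Red.DS S M) : Red.DS S M ⟶ Red.DS S M) ^ e = Red.DSmap S (nsmulAddMonoidHom e : M →+ M) := by
  refine Over.OverMorphism.ext (Scheme.Cover.hom_ext (Red.DS S M).left.affineCover _ _ fun i => ?_)
  obtain ⟨B, hB⟩ : ∃ B : CommRingCat.{u}, (Red.DS S M).left.affineCover.X i = Spec B := ⟨_, rfl⟩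
  obtain ⟨io, hio⟩ : ∃ io : Spec B ⟶ (Red.DS S M).left, (Red.DS S M).left.affineCover.f i = eqToHom hB ≫ io :=
    ⟨eqToHom hB.symm ≫ (Red.DS S M).left.affineCover.f i, by simp⟩
  rw [hio, Category.assoc, Category.assoc]
  congr 1
  let x : spU (io ≫ (Red.DS S M).hom) ⟶ Red.DS S M := Over.homMk io rfl
  obtain ⟨c, hc⟩ := exists_eq_pt _ x
  have h : x ≫ (𝟙 (Red.DS S M) : Red.DS S M ⟶ Red.DS S M) ^ e = x ≫ Red.DSmap S (nsmulAddMonoidHom e : M →+ M) := by
    rw [MonObj.comp_pow, Category.comp_id, hc, pt_DSmap]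
    obtain ⟨g, hg, hgm⟩ := pt_pow (io ≫ (Red.DS S M).hom) c e
    rw [hg]
    refine congrArg (pt _) (ringHom_ext' fun m => ?_)
    show chr g m = chr _ m
    rw [chr_pull, hgm]
    show chr c m ^ e = chr c (m ^ e)
    clear hg hgm
    induction e with
    | zero => rw [pow_zero, pow_zero, SplitTorLib.chr_one]
    | succ n ih => rw [pow_succ, pow_succ, SplitTorLib.chr_mul, ih]
  exact congrArg CommaMorphism.left h

/-- Base change respects powers. -/
theorem map_id_pow {A : Over S} [GrpObj A] {U : Scheme.{u}} (σ : U ⟶ S) (e : ℕ) :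
    (Over.pullback σ).map ((𝟙 A : A ⟶ A) ^ e) = (𝟙 (Red.bc σ A) : Red.bc σ A ⟶ Red.bc σ A) ^ e := by
  have h := _root_.map_pow ((Over.pullback σ).homMonoidHom : (A ⟶ A) →* _) (𝟙 A) e
  refine h.trans ?_
  congr 1
  exact (Over.pullback σ).map_id A

/-- The power maps of a torus are surjective, flat and quasi-compact. -/
theorem covers_pow {R : Over S} [GrpObj R] (hR : Red.IsTorus R) {e : ℕ} (he : e ≠ 0) :
    FpqcDescLib.Covers ((𝟙 R : R ⟶ R) ^ e).left := by
  haveI := MultConjLib.smooth_of_isTorus hR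
  haveI : IsAffineHom R.hom := (TransLib.multTypeFT_essFree (GrpSchLib.RankOne.isMultTypeFT_of_isTorus hR)).1
  haveI : GeometricallyReduced R.hom := GrpSchLib.IsogenyFibre.geometricallyReduced_of_smooth' R.hom
  let p := (𝟙 R : R ⟶ R) ^ e
  haveI hpm : IsMonHom p := GrpSchLib.RankOne.isMonHom_of_comp p fun W a b => by
    rw [MonObj.comp_pow, MonObj.comp_pow, MonObj.comp_pow, Category.comp_id, Category.comp_id, Category.comp_id]
    exact Commute.mul_pow (GrpSchLib.RankOne.torus_mul_comm hR W a b) e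
  haveI : QuasiCompact p.left := by
    haveI : QuasiCompact (p.left ≫ R.hom) := by rw [Over.w p]; infer_instance
    exact QuasiCompact.of_comp p.left R.hom
  haveI hps : Surjective p.left := by
    obtain ⟨S', f, -, hfs, -, hloc⟩ := hR
    refine ⟨fun y => ?_⟩
    obtain ⟨s', hs'⟩ := hfs.1 (R.hom y)
    obtain ⟨U, hU, r, ⟨E⟩⟩ := hloc s'
    let σ := U.ι ≫ f
    obtain ⟨z, hz, -⟩ := Scheme.Pullback.exists_preimage_pullback (f := R.hom) (g := σ) y ⟨s', hU⟩
      (by rw [Scheme.Hom.comp_apply]; exact hs'.symm)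
    let q := (𝟙 (Red.DS (U : Scheme.{u}) (Fin r → ℤ)) : Red.DS (U : Scheme.{u}) (Fin r → ℤ) ⟶ _) ^ e
    haveI : Surjective q.left := by
      rw [show q = _ from pow_eq_DSmap _ e]
      exact (SplitTorLib.flat_surjective_qc_DSmap _ _ fun a b h => by
        funext i
        have h' := congrFun h i
        simp only [nsmulAddMonoidHom_apply, Pi.smul_apply, nsmul_eq_mul] at h'
        exact mul_left_cancel₀ (by exact_mod_cast he) h').2.1
    let a : Red.bc σ R ⟶ Red.DS (U : Scheme.{u}) (Fin r → ℤ) := E.hom.hom.hom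
    let a' : Red.DS (U : Scheme.{u}) (Fin r → ℤ) ⟶ Red.bc σ R := E.inv.hom.hom
    haveI : IsMonHom a := inferInstanceAs (IsMonHom E.hom.hom.hom)
    have haa : a ≫ a' = 𝟙 _ := congrArg (fun φ => φ.hom.hom) E.hom_inv_id
    have haa' : a' ≫ a = 𝟙 _ := congrArg (fun φ => φ.hom.hom) E.inv_hom_id
    haveI : IsIso a := ⟨a', haa, haa'⟩
    haveI : IsIso a' := ⟨a, haa', haa⟩
    have hq : (Over.pullback σ).map p = a ≫ q ≫ a' := by
      haveI : IsMonHom a' := inferInstanceAs (IsMonHom E.inv.hom.hom)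
      rw [map_id_pow, ← Category.assoc, MonObj.comp_pow, Category.comp_id, MonObj.pow_comp, haa]
    haveI : IsIso a.left := inferInstanceAs (IsIso ((Over.forget _).map a))
    haveI : IsIso a'.left := inferInstanceAs (IsIso ((Over.forget _).map a'))
    haveI : Surjective ((Over.pullback σ).map p).left := by
      rw [hq, Over.comp_left, Over.comp_left]; infer_instance
    obtain ⟨w, hw⟩ := ((Over.pullback σ).map p).left.surjective z
    refine ⟨pullback.fst R.hom σ w, ?_⟩
    have h : ((Over.pullback σ).map p).left ≫ pullback.fst R.hom σ = pullback.fst R.hom σ ≫ p.left :=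
      pullback.lift_fst _ _ _
    rw [← Scheme.Hom.comp_apply, ← h, ← hz, ← hw]
    exact Scheme.Hom.comp_apply _ _ _
  haveI : Flat p.left := (GrpSchLib.HomFlatLft.flat_hom p).1
  exact FpqcDescLib.covers_of_isCovering (FpqcDescLib.isCovering_of_quasiCompact _)

/-- If a power of the identity of `D` factors through a subgroup, so does every torus. -/
theorem factor_of_pow_factor {D T R : Over S} [GrpObj D] [GrpObj R] (i : T ⟶ D) [Mono i] (s : D ⟶ T) {e : ℕ}
    (he : e ≠ 0) (hs : s ≫ i = (𝟙 D : D ⟶ D) ^ e) (j : R ⟶ D) [IsMonHom j] (hR : Red.IsTorus R) :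
    ∃ g : R ⟶ T, g ≫ i = j := by
  have hp := covers_pow hR he
  haveI := hp.over_epi
  have h : (j ≫ s) ≫ i = ((𝟙 R : R ⟶ R) ^ e) ≫ j := by
    rw [Category.assoc, hs, MonObj.comp_pow, Category.comp_id, MonObj.pow_comp, Category.id_comp]
  obtain ⟨g, hg, -⟩ := hp.over_desc (j ≫ s) fun Y x y hxy => by
    rw [← cancel_mono i, Category.assoc x, Category.assoc y, h, reassoc_of% hxy]
  exact ⟨g, by rw [← cancel_epi ((𝟙 R : R ⟶ R) ^ e), reassoc_of% hg, ← Category.assoc, h]⟩

/-- A subtorus through which a power of the identity factors is maximal. -/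
theorem isMaximalTorus_of_pow_factor {D T : Over S} [GrpObj D] [GrpObj T] (i : T ⟶ D) [IsMonHom i] [Mono i]
    (hT : Red.IsTorus T) (s : D ⟶ T) {e : ℕ} (he : e ≠ 0) (hs : s ≫ i = (𝟙 D : D ⟶ D) ^ e) :
    Red.IsMaximalTorus i := by
  refine ⟨inferInstance, inferInstance, hT, fun t T'' _ j _ _ f hT'' hf => ?_⟩
  let σ := Red.geomPt t
  let iσ := (Over.pullback σ).map i
  obtain ⟨g, hg⟩ := factor_of_pow_factor iσ ((Over.pullback σ).map s) he
    (by rw [← Functor.map_comp, hs, map_id_pow]) j hT''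
  exact ⟨g, by rw [← cancel_mono iσ, Category.assoc, hg, hf, Category.id_comp],
    by rw [← cancel_mono j, Category.assoc, hf, hg, Category.id_comp]⟩

/-- The maximal torus of a diagonalizable group. -/
theorem exists_maxTorus_DS (M : Type) [AddCommGroup M] [AddGroup.FG M] :
    ∃ (r : ℕ) (i : Red.DS S (Fin r → ℤ) ⟶ Red.DS S M), Red.IsMaximalTorus i := by
  obtain ⟨n, J, _, p, hp, e', ⟨φ⟩⟩ := AddCommGroup.equiv_free_prod_directSum_zmod M
  let F := DirectSum J fun i => ZMod (p i ^ e' i)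
  haveI : ∀ i, NeZero (p i ^ e' i) := fun i => ⟨pow_ne_zero _ (hp i).ne_zero⟩
  haveI : Finite F := Finite.of_injective (fun x i => (x i : ZMod (p i ^ e' i))) DFunLike.coe_injective
  let ε := Nat.card F
  have hε : ε ≠ 0 := Nat.card_pos.ne'
  let fe : (Fin n →₀ ℤ) ≃+ (Fin n → ℤ) := (Finsupp.linearEquivFunOnFinite ℤ ℤ (Fin n)).toAddEquiv
  let q : M →+ (Fin n → ℤ) := fe.toAddMonoidHom.comp ((AddMonoidHom.fst _ _).comp φ.toAddMonoidHom)
  let sec : (Fin n → ℤ) →+ M :=
    φ.symm.toAddMonoidHom.comp ((AddMonoidHom.inl (Fin n →₀ ℤ) F).comp fe.symm.toAddMonoidHom)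
  have hq : Function.Surjective q := fun v => ⟨sec v, by simp [q, sec, F]⟩
  have hsq : ((nsmulAddMonoidHom ε).comp sec).comp q = nsmulAddMonoidHom ε := by
    ext m
    apply φ.injective
    simp only [AddMonoidHom.coe_comp, Function.comp_apply, nsmulAddMonoidHom_apply, map_nsmul]
    refine Prod.ext (by simp [q, sec, F]) ?_
    show ε • (φ (sec (q m))).2 = ε • (φ m).2
    rw [card_nsmul_eq_zero', card_nsmul_eq_zero']
  haveI hqm : IsMonHom (Red.DSmap S q) := S5427.isMonHom_DSmap S q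
  haveI : IsClosedImmersion (Red.DSmap S q).left := S5427.isClosedImmersion_DSmap S q hq
  haveI : Mono (Red.DSmap S q) := Over.mono_of_mono_left _
  have hT : Red.IsTorus (Red.DS S (Fin n → ℤ)) := SplitTorLib.isTorus_of_split ⟨Iso.refl _⟩
  have hs : Red.DSmap S ((nsmulAddMonoidHom ε).comp sec) ≫ Red.DSmap S q =
      (𝟙 (Red.DS S M) : Red.DS S M ⟶ Red.DS S M) ^ ε := by
    rw [SplitTorLib.DSmap_comp, hsq, pow_eq_DSmap]
  exact ⟨n, Red.DSmap S q, isMaximalTorus_of_pow_factor (Red.DSmap S q) hT _ hε hs⟩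

set_option maxHeartbeats 1000000 in
/-- A group of multiplicative type and finite type has a maximal torus, containing every subtorus. -/
theorem exists_maxTorus_multType {H : Over S} [GrpObj H] (hH : SGA3x.IsMultTypeFT H) :
    ∃ (T : Over S) (_ : GrpObj T) (i : T ⟶ H), Red.IsMaximalTorus i ∧
      ∀ (R : Over S) [GrpObj R] (j : R ⟶ H) [IsMonHom j] [Mono j], Red.IsTorus R → ∃ f : R ⟶ T, f ≫ i = j := by
  haveI : IsAffineHom H.hom := (TransLib.multTypeFT_essFree hH).1
  haveI : LocallyOfFinitePresentation H.hom := HomSchLib.lfp_of_multTypeFT hH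
  obtain ⟨S', f, hfl, hfs, hqc, hloc⟩ := id hH
  haveI := hfl; haveI := hfs
  choose U hU M iM hfg hE using hloc
  let 𝒰 : S'.OpenCover := Scheme.openCoverOfIsOpenCover S' U
    (TopologicalSpace.IsOpenCover.mk (eq_top_iff.mpr fun x _ => TopologicalSpace.Opens.mem_iSup.mpr ⟨x, hU x⟩))
  let d : (∐ fun s' : S' => (U s' : Scheme.{u})) ⟶ S' := Sigma.desc fun s' => (U s').ι
  haveI : Surjective d := ⟨fun x => ⟨Sigma.ι (fun s' : S' => (U s' : Scheme.{u})) x ⟨x, hU x⟩, by
    rw [← Scheme.Hom.comp_apply, Sigma.ι_desc]; rfl⟩⟩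
  haveI : Flat d := IsZariskiLocalAtSource.sigmaDesc fun i => inferInstance
  haveI : LocallyOfFinitePresentation d := IsZariskiLocalAtSource.sigmaDesc fun i => inferInstance
  let π := d ≫ f
  have hπ : FpqcDescLib.IsCovering π :=
    (FpqcDescLib.isCovering_of_lfp d).comp (FpqcDescLib.isCovering_of_flat f hqc)
  obtain ⟨T₀, _, i₀, h₀⟩ := exists_maxTorus_sigma (Red.bc π H) fun s' => by
    letI := iM s'
    haveI := hfg s'
    obtain ⟨r, i, hi⟩ := exists_maxTorus_DS (S := (U s' : Scheme.{u})) (M s')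
    obtain ⟨E⟩ := hE s'
    obtain ⟨e₁⟩ := GrpSchLib.MultTypeBC.bc_bc (Sigma.ι (fun s' : S' => (U s' : Scheme.{u})) s') π H
    obtain ⟨e₂⟩ := GrpSchLib.MultTypeBC.bc_congr
      (show Sigma.ι (fun s' : S' => (U s' : Scheme.{u})) s' ≫ π = (U s').ι ≫ f by
        simp [π, d]) H
    let E' := E.symm ≪≫ e₂.symm ≪≫ e₁.symm
    let β : Red.DS (U s' : Scheme.{u}) (M s') ≅ Red.bc (Sigma.ι (fun s' : S' => (U s' : Scheme.{u})) s') (Red.bc π H) :=
      ⟨E'.hom.hom.hom, E'.inv.hom.hom, congrArg (fun φ => φ.hom.hom) E'.hom_inv_id,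
        congrArg (fun φ => φ.hom.hom) E'.inv_hom_id⟩
    haveI : IsMonHom β.hom := inferInstanceAs (IsMonHom E'.hom.hom.hom)
    exact ⟨_, inferInstance, i ≫ β.hom, isMaximalTorus_of_iso β i hi⟩
  obtain ⟨T, _, i, hi, -, hR⟩ := exists_centralTorus hπ i₀ h₀
    (fun X t g => GrpSchLib.MultTypeComm.points_comm (GrpSchLib.MultTypeBC.isMultTypeFT_bc π hH) _ _)
  exact ⟨T, inferInstance, i, hi, hR⟩

end Groth.Agent.GModLib
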