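import Groth.Agent.GModLib.UniPart
import Groth.Agent.GModLib.TorusGeneric
import Groth.Agent.GrpSchLib.GaPts
import Groth.Agent.LargeNormal.Galois
import Groth.Agent.S8392

/-!
# Groups of multiplicative type in triangular groups
-/

set_option autoImplicit false
set_option backward.isDefEq.respectTransparency false
set_option backward.isDefEq.respectTransparency.types false

universe u

open CategoryTheory Limits AlgebraicGeometry MonoidalCategory CartesianMonoidalCategory MonObj GrpObj

namespace Groth.Agent.GModLib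

open GrpSchLib GrpSchLib.Kunneth

variable {k : Type u} [Field k] {G : Over (Spec (CommRingCat.of k))} [GrpObj G] [IsAffine G.left] {d : ℕ}
  {M : Matrix (Fin d) (Fin d) (Fn G)}

/-- A homomorphism from a group of multiplicative type into a unitriangular group is trivial. -/
theorem eq_one_of_diag_one (hM : IsTriangular M) {Z : Over (Spec (CommRingCat.of k))} [GrpObj Z]
    (hZ : SGA3x.IsMultTypeFT Z) (h : Z ⟶ G) [IsMonHom h] (hd : ∀ i, ev h (M i i) = 1) : h = 1 := by
  have key : ∀ r : ℕ, ∀ i j : Fin d, i < j → j.val ≤ i.val + r → ev h (M i j) = 0 := by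
    intro r
    induction r with
    | zero => exact fun i j hij hr => absurd hr (not_le.mpr hij)
    | succ r ih =>
      intro i j hij hr
      rcases Nat.lt_or_ge j.val (i.val + r + 1) with h1 | h1
      · exact ih i j hij (by omega)
      have hadd : ∀ (X : Over (Spec (CommRingCat.of k))) (a b : X ⟶ Z),
          ev ((a * b) ≫ h) (M i j) = ev (a ≫ h) (M i j) + ev (b ≫ h) (M i j) := fun X a b => by
        have hz : ∀ (x : X ⟶ Z) (p q : Fin d), p ≠ q → (q < p ∨ q.val ≤ p.val + r) → ev (x ≫ h) (M p q) = 0 :=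
          fun x p q hpq hc => by
            rw [← ev_ev]
            rcases lt_or_gt_of_ne hpq with hlt | hgt
            · rw [ih p q hlt (by rcases hc with hc | hc <;> [exact absurd hc (not_lt.mpr hlt.le); exact hc]), map_zero]
            · rw [hM.tri p q hgt, map_zero, map_zero]
        have h1' : ∀ (x : X ⟶ Z) (p : Fin d), ev (x ≫ h) (M p p) = 1 := fun x p => by rw [← ev_ev, hd, map_one]
        rw [MonObj.mul_comp]
        have e := congrFun (congrFun (hM.rep.mul X (a ≫ h) (b ≫ h)) i) j
        simp only [Matrix.map_apply, Matrix.mul_apply] at e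
        rw [e, Finset.sum_eq_add_of_mem i j (Finset.mem_univ _) (Finset.mem_univ _) hij.ne, h1', h1',
          _root_.one_mul, _root_.mul_one, add_comm]
        intro l _ hl
        rcases lt_or_ge l i with h2 | h2
        · rw [hz a i l hl.1.symm (Or.inl h2), MulZeroClass.zero_mul]
        · have h2' : i < l := lt_of_le_of_ne h2 hl.1.symm
          rcases lt_or_ge l j with h3 | h3
          · rw [hz a i l hl.1.symm (Or.inr (by have : l.val < j.val := h3; omega)), MulZeroClass.zero_mul]
          · rw [hz b l j hl.2 (Or.inl (lt_of_le_of_ne h3 hl.2.symm)), MulZeroClass.mul_zero]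
      let u : Z ⟶ Red.Ga (Spec (CommRingCat.of k)) := GaPts.ptOfFn (ev h (M i j))
      haveI : IsMonHom u := LargeNormal.isMonHom_of_mul u fun X a b => GaPts.gaFn_injective (by
        show Red.gaFn ((a * b) ≫ u) = Red.gaFn ((a ≫ u) * (b ≫ u))
        rw [GaPts.gaFn_mul, GaPts.gaFn_comp, GaPts.gaFn_comp, GaPts.gaFn_comp, GaPts.gaFn_ptOfFn]
        show ev (a * b) (ev h (M i j)) = ev a (ev h (M i j)) + ev b (ev h (M i j))
        rw [ev_ev, ev_ev, ev_ev, hadd])
      have hu := Groth.Agent.S8392.result _ Z hZ u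
      rw [← GaPts.gaFn_ptOfFn (ev h (M i j)), show GaPts.ptOfFn (ev h (M i j)) = u from rfl, hu, GaPts.gaFn_one]
  refine LineGroups.ext_ev (AlgHom.ext_of_adjoin_eq_top hM.gen ?_)
  rintro _ ⟨⟨i, j⟩, rfl⟩
  dsimp only
  have e1 := congrFun (congrFun (hM.rep.one Z) i) j
  rw [Matrix.map_apply] at e1
  rw [e1]
  rcases lt_trichotomy i j with h1 | rfl | h1
  · rw [key d i j h1 (by omega), Matrix.one_apply_ne h1.ne]
  · rw [hd, Matrix.one_apply_eq]
  · rw [hM.tri i j h1, map_zero, Matrix.one_apply_ne h1.ne']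

variable [IsAlgClosed k] [Smooth G.hom]

set_option maxHeartbeats 1000000 in
/-- The diagonal functions generate the functions of a full torus. -/
theorem diag_gen_fullTorus (hM : IsTriangular M) {T : Over (Spec (CommRingCat.of k))} [GrpObj T] (iT : T ⟶ G)
    [IsMonHom iT] [IsClosedImmersion iT.left] (hT : Red.IsTorus T) :
    Algebra.adjoin k (Set.range fun i => ev iT (M i i)) = ⊤ := by
  classical
  obtain ⟨h1, h2, h3, -, -⟩ := TorusBasic.torus_props hT
  haveI := h1; haveI := h2; haveI := h3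
  haveI : IsReduced T.left := GrpSchLib.isReduced_of_smooth_field T.hom
  let b := Module.Basis.ofSpan (span_chars hT).ge
  have hb : ∀ l, IsChar (b l) := fun l => by
    have : (b l) ∈ Set.range b := ⟨l, rfl⟩
    exact Module.Basis.ofSpan_subset (span_chars hT).ge this
  let s := (Finset.univ : Finset (Fin d × Fin d)).biUnion fun p => (b.repr (ev iT (M p.1 p.2))).support
  let P := fun l => Matrix.of fun i j => b.repr (ev iT (M i j)) l
  have hexp : ∀ i j, ev iT (M i j) = ∑ l ∈ s, P l i j • b l := fun i j => by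
    conv_lhs => rw [← b.linearCombination_repr (ev iT (M i j)), Finsupp.linearCombination_apply]
    exact Finsupp.sum_of_support_subset _ (Finset.subset_biUnion_of_mem (fun p : Fin d × Fin d =>
      (b.repr (ev iT (M p.1 p.2))).support) (Finset.mem_univ (i, j))) _ (fun l _ => zero_smul k _)
  have hind : ∀ (c c' : _ → k), (∀ t : VecGrp.pt k k ⟶ T, ∑ l ∈ s, c l * pullFn t (b l) = ∑ l ∈ s, c' l * pullFn t (b l)) →
      ∀ l ∈ s, c l = c' l := fun c c' h => linearIndependent_iff'ₛ.mp b.linearIndependent s c c'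
    (eq_of_forall_point fun t => by simpa only [map_sum, map_smul, smul_eq_mul] using h t)
  have hval : ∀ (t : VecGrp.pt k k ⟶ T) i j, pullFn (t ≫ iT) (M i j) = ∑ l ∈ s, P l i j * pullFn t (b l) :=
    fun t i j => by rw [← pullFn_ev, hexp, map_sum]; simp only [map_smul, smul_eq_mul]
  have htri : ∀ l ∈ s, ∀ i j, j < i → P l i j = 0 := fun l hl i j hij => by
    show b.repr (ev iT (M i j)) l = 0
    rw [hM.tri i j hij, map_zero, map_zero]
    rfl
  have hstep : ∀ l ∈ s, ∀ (t' : VecGrp.pt k k ⟶ T) i j, P l i j * pullFn t' (b l) =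
      ∑ p, P l i p * pullFn (t' ≫ iT) (M p j) := fun l hl t' i j => by
    refine hind (fun l => P l i j * pullFn t' (b l)) (fun l => ∑ p, P l i p * pullFn (t' ≫ iT) (M p j)) (fun t => ?_) l hl
    have e := congrFun (congrFun (GrassAct.map_pullFn_mul hM.rep (A := CommAlgCat.of k k) (t ≫ iT) (t' ≫ iT)) i) j
    simp only [Matrix.map_apply, Matrix.mul_apply] at e
    rw [show (t ≫ iT) * (t' ≫ iT) = (t * t') ≫ iT from (MonObj.mul_comp _ _ _).symm] at e
    calc ∑ m ∈ s, P m i j * pullFn t' (b m) * pullFn t (b m)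
        = pullFn ((t * t') ≫ iT) (M i j) := by
          rw [hval]
          exact Finset.sum_congr rfl fun m _ => by rw [(hb m).1]; ring
      _ = ∑ p, pullFn (t ≫ iT) (M i p) * pullFn (t' ≫ iT) (M p j) := e
      _ = _ := by
          simp only [hval t, Finset.sum_mul]
          rw [Finset.sum_comm]
          exact Finset.sum_congr rfl fun m _ => Finset.sum_congr rfl fun p _ => by ring
  have horth : ∀ l ∈ s, ∀ m ∈ s, ∀ i j, ∑ p, P l i p * P m p j = if m = l then P l i j else 0 := fun l hl m hm i j => by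
    refine hind (fun m => ∑ p, P l i p * P m p j) (fun m => if m = l then P l i j else 0) (fun t' => ?_) m hm
    rw [Finset.sum_congr rfl fun m _ => ite_mul _ _ _ _]
    simp only [MulZeroClass.zero_mul, Finset.sum_ite_eq', hl, if_true]
    rw [hstep l hl t' i j]
    simp only [hval t', Finset.mul_sum, Finset.sum_mul]
    rw [Finset.sum_comm]
    exact Finset.sum_congr rfl fun p _ => Finset.sum_congr rfl fun x _ => by ring
  have hdiag : ∀ l ∈ s, ∀ m ∈ s, ∀ i, P l i i * P m i i = if m = l then P l i i else 0 := fun l hl m hm i => by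
    rw [← horth l hl m hm i i, Finset.sum_eq_single i (fun p _ hp => ?_) (by simp)]
    rcases lt_or_gt_of_ne hp with h | h
    · rw [htri l hl i p h, MulZeroClass.zero_mul]
    · rw [htri m hm p i h, MulZeroClass.mul_zero]
  have hmem : ∀ l ∈ s, ∀ i j, P l i j ≠ 0 → ∃ q, ev iT (M q q) = b l := fun l hl i j hne => by
    obtain ⟨q, hq⟩ : ∃ q, P l q q ≠ 0 := by
      by_contra hall
      push_neg at hall
      have hz : ∀ r : ℕ, ∀ p q : Fin d, q.val < p.val + r → P l p q = 0 := by
        intro r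
        induction r with
        | zero => exact fun p q h => htri l hl p q (show q.val < p.val by omega)
        | succ r ih =>
          intro p q h
          have e := horth l hl l hl p q
          rw [if_pos rfl] at e
          rw [← e]
          refine Finset.sum_eq_zero fun x _ => ?_
          rcases lt_trichotomy x p with h1 | rfl | h1
          · rw [htri l hl p x h1, MulZeroClass.zero_mul]
          · rw [hall, MulZeroClass.zero_mul]
          · rw [ih x q (by have : p.val < x.val := h1; omega), MulZeroClass.mul_zero]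
      exact hne (hz d i j (by omega))
    have h1 : P l q q = 1 := by
      have e := hdiag l hl l hl q
      rw [if_pos rfl] at e
      exact mul_left_cancel₀ hq (e.trans (_root_.mul_one _).symm)
    refine ⟨q, ?_⟩
    rw [hexp, Finset.sum_eq_single l (fun m hm hml => ?_) (fun h => absurd hl h), h1, one_smul]
    have e := hdiag l hl m hm q
    rw [if_neg hml, h1, _root_.one_mul] at e
    rw [e, zero_smul]
  refine eq_top_iff.mpr fun f _ => ?_
  obtain ⟨F, rfl⟩ : ∃ F, ev iT F = f := iT.left.app_surjective ⊤ (isAffineOpen_top G.left) f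
  have hF : F ∈ Algebra.adjoin k (Set.range fun p : Fin d × Fin d => M p.1 p.2) := by rw [hM.gen]; trivial
  have := (Subalgebra.mem_map (S := Algebra.adjoin k (Set.range fun p : Fin d × Fin d => M p.1 p.2)) (f := ev iT)
    (y := ev iT F)).mpr ⟨F, hF, rfl⟩
  rw [AlgHom.map_adjoin] at this
  refine Algebra.adjoin_le ?_ this
  rintro _ ⟨_, ⟨⟨i, j⟩, rfl⟩, rfl⟩
  show ev iT (M i j) ∈ _
  rw [hexp]
  refine Subalgebra.sum_mem _ fun l hl => ?_
  by_cases h : P l i j = 0
  · rw [h, zero_smul]; exact zero_mem _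
  · obtain ⟨q, hq⟩ := hmem l hl i j h
    exact Subalgebra.smul_mem _
      (Algebra.subset_adjoin (s := Set.range fun i => ev iT (M i i)) (a := b l) (Set.mem_range.mpr ⟨q, hq⟩)) _

set_option maxHeartbeats 1000000 in
/-- A group of multiplicative type mapping to a triangular group with a central full torus lands in the torus. -/
theorem exists_factor_fullTorus (hM : IsTriangular M) {T Z : Over (Spec (CommRingCat.of k))} [GrpObj T] [GrpObj Z]
    (iT : T ⟶ G) (hT : IsFullTorus hM iT)
    (hc : ∀ (X : Over (Spec (CommRingCat.of k))) (a : X ⟶ T) (g : X ⟶ G), (a ≫ iT) * g = g * (a ≫ iT))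
    (hZ : SGA3x.IsMultTypeFT Z) (z : Z ⟶ G) [IsMonHom z] : ∃ f : Z ⟶ T, f ≫ iT = z := by
  obtain ⟨hm, hcl, hTt, hfull, -⟩ := hT
  haveI := hm; haveI := hcl
  haveI : IsAffine T.left := isAffine_of_isAffineHom iT.left
  haveI : IsReduced G.left := GrpSchLib.isReduced_of_smooth_field G.hom
  have hgen := diag_gen_fullTorus hM iT hTt
  let α : MvPolynomial (Fin d) k →ₐ[k] Fn T := MvPolynomial.aeval fun i => ev iT (M i i)
  let β : MvPolynomial (Fin d) k →ₐ[k] Fn G := MvPolynomial.aeval fun i => M i i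
  have hα : Function.Surjective α := by
    rw [← AlgHom.range_eq_top, ← hgen, Algebra.adjoin_range_eq_range_aeval]
  have hker : RingHom.ker α ≤ RingHom.ker β := fun p hp => by
    rw [RingHom.mem_ker] at hp ⊢
    refine eq_of_forall_point fun g => ?_
    obtain ⟨t, ht⟩ := hfull g
    have e := congrArg (pullFn t) hp
    rw [map_zero] at e ⊢
    rw [← e]
    show pullFn g (MvPolynomial.aeval (fun i => M i i) p) = pullFn t (MvPolynomial.aeval (fun i => ev iT (M i i)) p)
    simp only [MvPolynomial.comp_aeval_apply, pullFn_ev]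
    exact congrArg (fun v => MvPolynomial.aeval v p) ht.symm
  let ψ : Fn T →ₐ[k] Fn G :=
    { α.toRingHom.liftOfSurjective hα ⟨β.toRingHom, hker⟩ with
      commutes' := fun c => by
        have h := α.toRingHom.liftOfRightInverse_comp_apply _ (Function.rightInverse_surjInv hα) ⟨β.toRingHom, hker⟩
          (algebraMap k _ c)
        simp only [AlgHom.toRingHom_eq_coe, RingHom.coe_coe, AlgHom.commutes] at h
        exact h }
  obtain ⟨w, hw⟩ := LineGroups.exists_hom_ev ψ
  have hdw : ∀ i, ev (w ≫ iT) (M i i) = M i i := fun i => by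
    rw [← ev_ev, hw]
    have h := α.toRingHom.liftOfRightInverse_comp_apply _ (Function.rightInverse_surjInv hα) ⟨β.toRingHom, hker⟩
      (MvPolynomial.X i)
    simp only [AlgHom.toRingHom_eq_coe, RingHom.coe_coe, α, β, MvPolynomial.aeval_X] at h
    exact h
  have hdia : ∀ {X : Over (Spec (CommRingCat.of k))} (x y : X ⟶ G) i,
      ev (x * y) (M i i) = ev x (M i i) * ev y (M i i) := fun {X} x y i => by
    have e := congrFun (congrFun (hM.rep.mul X x y) i) i
    simp only [Matrix.map_apply, Matrix.mul_apply] at e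
    rw [e, Finset.sum_eq_single i (fun l _ hl => ?_) (by simp)]
    rcases lt_or_gt_of_ne hl with h | h
    · rw [hM.tri i l h, map_zero, MulZeroClass.zero_mul]
    · rw [hM.tri l i h, map_zero, MulZeroClass.mul_zero]
  haveI : IsMonHom w := LargeNormal.isMonHom_of_mul w fun X a b => LineGroups.ext_ev
    (AlgHom.ext_of_adjoin_eq_top hgen (by
      rintro _ ⟨i, rfl⟩
      rw [ev_ev, ev_ev, MonObj.mul_comp _ _ iT, hdia ((a ≫ w) ≫ iT), Category.assoc, Category.assoc, Category.assoc,
        ← ev_ev (a * b) (w ≫ iT), ← ev_ev a (w ≫ iT), ← ev_ev b (w ≫ iT), hdw, hdia]))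
  let e : Z ⟶ G := z * ((z ≫ w) ≫ iT)⁻¹
  haveI : IsMonHom e := LargeNormal.isMonHom_of_mul e fun X a b => by
    have hcomm : Commute (b ≫ z) ((a ≫ z ≫ w) ≫ iT)⁻¹ := (Commute.symm (hc X (a ≫ z ≫ w) (b ≫ z))).inv_right
    have hcomm' : Commute ((b ≫ z ≫ w) ≫ iT)⁻¹ ((a ≫ z ≫ w) ≫ iT)⁻¹ :=
      Commute.inv_inv (Commute.symm (hc X (a ≫ z ≫ w) ((b ≫ z ≫ w) ≫ iT)))
    simp only [e, MonObj.comp_mul, GrpObj.comp_inv, Category.assoc, MonObj.mul_comp, _root_.mul_inv_rev] at hcomm hcomm' ⊢
    calc (a ≫ z) * (b ≫ z) * ((b ≫ z ≫ w ≫ iT)⁻¹ * (a ≫ z ≫ w ≫ iT)⁻¹)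
        = (a ≫ z) * ((b ≫ z) * ((b ≫ z ≫ w ≫ iT)⁻¹ * (a ≫ z ≫ w ≫ iT)⁻¹)) := by group
      _ = (a ≫ z) * ((b ≫ z) * ((a ≫ z ≫ w ≫ iT)⁻¹ * (b ≫ z ≫ w ≫ iT)⁻¹)) := by rw [hcomm'.eq]
      _ = (a ≫ z) * (((b ≫ z) * (a ≫ z ≫ w ≫ iT)⁻¹) * (b ≫ z ≫ w ≫ iT)⁻¹) := by group
      _ = _ := by rw [hcomm.eq]; group
  have he : e = 1 := eq_one_of_diag_one hM hZ e fun i => by
    have h1 : e * ((z ≫ w) ≫ iT) = z := inv_mul_cancel_right z _
    have h2 : ev ((z ≫ w) ≫ iT) (M i i) = ev z (M i i) := by rw [Category.assoc, ← ev_ev, hdw]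
    have h3 : IsUnit (ev ((z ≫ w) ≫ iT) (M i i)) := IsUnit.of_mul_eq_one (ev (((z ≫ w) ≫ iT)⁻¹) (M i i)) (by
      rw [← hdia, mul_inv_cancel]
      exact ((congrFun (congrFun (hM.rep.one Z) i) i).trans (Matrix.one_apply_eq i)))
    refine h3.mul_left_injective ?_
    show ev e (M i i) * _ = 1 * _
    rw [← hdia, h1, _root_.one_mul, h2]
  exact ⟨z ≫ w, (mul_inv_eq_one.mp he).symm⟩

end Groth.Agent.GModLib
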