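import Groth.Agent.GModLib.NeutralSetAffine
import Groth.Agent.MultTypeLib.TorusFibre

/-!
# Over a local base, the neutral components near a torus fibre form a closed set
-/

set_option autoImplicit false
set_option linter.style.haveILetI false
set_option backward.isDefEq.respectTransparency false
set_option backward.isDefEq.respectTransparency.types false

universe u

open CategoryTheory CategoryTheory.Limits MonoidalCategory CartesianMonoidalCategory MonObj GrpObj AlgebraicGeometry
open scoped TensorProduct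

namespace Groth.Agent.GModLib

open GrpSchLib.AffineHopf IsLocalRing

set_option maxHeartbeats 2000000 in
/-- If the closed fibre is a torus, the neutral set is closed. -/
theorem isClosed_neutralSet_local {R : Type u} [CommRing R] [IsLocalRing R] {C : Type u} [CommRing C]
    [HopfAlgebra R C] [Algebra.FinitePresentation R C] [Module.Flat R C] (K : Type u) [Field K] [Algebra R K]
    (hK : maximalIdeal R ≤ RingHom.ker (algebraMap R K)) (r : ℕ)
    (eK : K ⊗[R] C ≃ₐc[K] MonoidAlgebra K (ULift.{u} (Multiplicative (Fin r → ℤ)))) :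
    IsClosed (SGA3x.neutralSet (sp R C)) := by
  let κ := ResidueField R
  let _ : Algebra κ K := (Ideal.Quotient.lift (maximalIdeal R) (algebraMap R K) fun a ha => hK ha).toAlgebra
  have : IsScalarTower R κ K := IsScalarTower.of_algebraMap_eq fun _ => rfl
  let eK' : K ⊗[κ] (κ ⊗[R] C) ≃ₐc[K] MonoidAlgebra K (ULift.{u} (Multiplicative (Fin r → ℤ))) :=
    (MultTypeLib.baseChangeTrans (R := R) κ K C).symm.trans eK
  have hs : SGA3b.IsMultType κ (κ ⊗[R] C) := MultTypeLib.isMultType_of_ff K ⟨_, inferInstance, ⟨eK'⟩⟩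
  obtain ⟨T, _, _, _, hT, e, he, hem, -, D, _, _, π, hπ, hker, E, _, _, -, -, hff, M, _, ⟨eM⟩⟩ :=
    MultTypeLib.exists_local_idem (C := C) (fun q _ _ => Module.Flat.trans R C _) hs
  let _ : Algebra R E := ((algebraMap T E).comp (algebraMap R T)).toAlgebra
  have : IsScalarTower R T E := IsScalarTower.of_algebraMap_eq fun _ => rfl
  -- the group over the cover
  let θ : E ⊗[R] C ≃ₐc[E] E ⊗[T] (T ⊗[R] C) := MultTypeLib.baseChangeTrans (R := R) T E C
  let πE : E ⊗[T] (T ⊗[R] C) →ₐc[E] E ⊗[T] D := Bialgebra.TensorProduct.map (BialgHom.id E E) π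
  have hπE : Function.Surjective πE :=
    LinearMap.lTensor_surjective E (g := (π : T ⊗[R] C →ₐ[T] D).toLinearMap) hπ
  let e' : E ⊗[T] (T ⊗[R] C) := 1 ⊗ₜ e
  have hkerE : ∀ x, πE x = 0 ↔ x ∈ Ideal.span {e'} := fun x => by
    have h1 : ∀ y, πE y = Algebra.TensorProduct.map (AlgHom.id T E) (π : T ⊗[R] C →ₐ[T] D) y := fun y => by
      induction y using TensorProduct.induction_on with
      | zero => rw [map_zero, map_zero]
      | add a b ha hb => rw [map_add, map_add, ha, hb]
      | tmul s y => rfl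
    have h2 : RingHom.ker (π : T ⊗[R] C →ₐ[T] D) = Ideal.span {e} := Ideal.ext fun z => hker z
    rw [h1, ← RingHom.mem_ker]
    refine Iff.of_eq (congrArg (x ∈ ·) ((Algebra.TensorProduct.lTensor_ker _ hπ).trans ?_))
    rw [h2, Ideal.map_span, Set.image_singleton]
    rfl
  let Φ : E ⊗[R] C →ₐc[E] MonoidAlgebra E M :=
    (eM : E ⊗[T] D →ₐc[E] MonoidAlgebra E M).comp (πE.comp (θ : E ⊗[R] C →ₐc[E] E ⊗[T] (T ⊗[R] C)))
  have hΦ : Function.Surjective Φ := (EquivLike.surjective eM).comp (hπE.comp (EquivLike.surjective θ))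
  let f : E ⊗[R] C := θ.symm e'
  have hf : IsIdempotentElem f :=
    (he.map (Algebra.TensorProduct.includeRight : T ⊗[R] C →ₐ[T] E ⊗[T] (T ⊗[R] C))).map
      (θ.symm : E ⊗[T] (T ⊗[R] C) ≃ₐ[E] E ⊗[R] C)
  have hΦker : ∀ x, Φ x = 0 ↔ x ∈ Ideal.span {f} := fun x => by
    show eM (πE (θ x)) = 0 ↔ _
    rw [map_eq_zero_iff _ (EquivLike.injective eM), hkerE, Ideal.mem_span_singleton, Ideal.mem_span_singleton]
    conv_lhs => rw [show e' = θ f from (BialgEquiv.apply_symm_apply θ e').symm]
    exact map_dvd_iff (θ : E ⊗[R] C ≃ₐ[E] E ⊗[T] (T ⊗[R] C))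
  -- a point of the cover over the closed point
  obtain ⟨⟨P, hP⟩, hPm⟩ := PrimeSpectrum.comap_surjective_of_faithfullyFlat (A := T) (B := E)
    ⟨maximalIdeal T, inferInstance⟩
  replace hPm : P.comap (algebraMap T E) = maximalIdeal T := congrArg PrimeSpectrum.asIdeal hPm
  let L := P.ResidueField
  have hPR : maximalIdeal R ≤ RingHom.ker (algebraMap R L) := fun a ha => by
    have hlT : algebraMap R T a ∈ maximalIdeal T := by
      refine (mem_maximalIdeal _).mpr fun hu => (mem_maximalIdeal a).mp ha ?_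
      exact (Module.FaithfullyFlat.isLocalHom (A := R) (B := T)).map_nonunit a hu
    rw [RingHom.mem_ker, IsScalarTower.algebraMap_apply R E L, IsScalarTower.algebraMap_apply R T E]
    exact Ideal.algebraMap_residueField_eq_zero.mpr (hPm.ge hlT)
  let _ : Algebra κ L := (Ideal.Quotient.lift (maximalIdeal R) (algebraMap R L) fun a ha => hPR ha).toAlgebra
  have : IsScalarTower R κ L := IsScalarTower.of_algebraMap_eq fun _ => rfl
  obtain ⟨r', hr'⟩ : ∃ r' : ℕ, Nonempty (M ≃* ULift.{u} (Multiplicative (Fin r' → ℤ))) := by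
    let ΦL : L ⊗[E] (E ⊗[R] C) →ₐc[L] L ⊗[E] MonoidAlgebra E M := Bialgebra.TensorProduct.map (BialgHom.id L L) Φ
    have hsL : Function.Surjective ΦL :=
      LinearMap.lTensor_surjective L (g := (Φ : E ⊗[R] C →ₐ[E] MonoidAlgebra E M).toLinearMap) hΦ
    have hfL : (1 : L) ⊗ₜ[E] f = 0 := by
      let inc : E ⊗[R] C →ₐ[E] L ⊗[E] (E ⊗[R] C) := Algebra.TensorProduct.includeRight
      have h0 : ∀ a ∈ maximalIdeal T, inc (algebraMap E (E ⊗[R] C) (algebraMap T E a)) = 0 := fun a ha => by
        have h1 : algebraMap E L (algebraMap T E a) = 0 := Ideal.algebraMap_residueField_eq_zero.mpr (hPm.ge ha)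
        rw [AlgHom.commutes, IsScalarTower.algebraMap_apply E L (L ⊗[E] (E ⊗[R] C)), h1, map_zero]
      show inc f = 0
      let j : T ⊗[R] C →+* L ⊗[E] (E ⊗[R] C) :=
        inc.toRingHom.comp ((θ.symm : E ⊗[T] (T ⊗[R] C) ≃ₐ[E] E ⊗[R] C).toAlgHom.toRingHom.comp
          (Algebra.TensorProduct.includeRight : T ⊗[R] C →ₐ[T] E ⊗[T] (T ⊗[R] C)).toRingHom)
      have hj : (maximalIdeal T).map (algebraMap T (T ⊗[R] C)) ≤ RingHom.ker j := by
        refine Ideal.map_le_iff_le_comap.mpr fun a ha => ?_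
        show inc ((θ.symm : E ⊗[T] (T ⊗[R] C) ≃ₐ[E] E ⊗[R] C)
          ((Algebra.TensorProduct.includeRight : T ⊗[R] C →ₐ[T] E ⊗[T] (T ⊗[R] C))
            (algebraMap T (T ⊗[R] C) a))) = 0
        rw [AlgHom.commutes, IsScalarTower.algebraMap_apply T E (E ⊗[T] (T ⊗[R] C)), AlgEquiv.commutes, h0 a ha]
      exact hj hem
    have hbij : Function.Bijective ΦL := by
      refine ⟨(injective_iff_map_eq_zero _).mpr fun x hx => ?_, hsL⟩
      have h1 : ∀ y, ΦL y = Algebra.TensorProduct.map (AlgHom.id E L) (Φ : E ⊗[R] C →ₐ[E] MonoidAlgebra E M) y :=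
          fun y => by
        induction y using TensorProduct.induction_on with
        | zero => rw [map_zero, map_zero]
        | add a b ha hb => rw [map_add, map_add, ha, hb]
        | tmul s y => rfl
      rw [h1, ← RingHom.mem_ker] at hx
      have h2 : RingHom.ker (Φ : E ⊗[R] C →ₐ[E] MonoidAlgebra E M) = Ideal.span {f} := Ideal.ext fun z => hΦker z
      have h3 := ((Algebra.TensorProduct.lTensor_ker (A := L) _ hΦ).le hx)
      rw [h2, Ideal.map_span, Set.image_singleton] at h3
      have h4 : (Algebra.TensorProduct.includeRight : E ⊗[R] C →ₐ[E] L ⊗[E] (E ⊗[R] C)) f = 0 := hfL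
      rw [h4, Ideal.span_singleton_eq_bot.mpr rfl] at h3
      exact h3
    let eL : L ⊗[κ] (κ ⊗[R] C) ≃ₐc[L] MonoidAlgebra L M :=
      (MultTypeLib.baseChangeTrans (R := R) κ L C).symm.trans
        ((MultTypeLib.baseChangeTrans (R := R) E L C).trans
          ((BialgEquiv.ofBijective ΦL hbij).trans (scalarBialgEquiv E L M).symm))
    have : Module.Flat κ K := inferInstance
    have : Module.Flat κ L := inferInstance
    obtain ⟨σ⟩ := (MultTypeLib.splitOfEquiv (R := κ) (A := κ ⊗[R] C) L eL).exists_mulEquiv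
      (MultTypeLib.splitOfEquiv (R := κ) (A := κ ⊗[R] C) K eK') (inferInstanceAs (Nontrivial (L ⊗[κ] K)))
    exact ⟨r, ⟨σ⟩⟩
  obtain ⟨σ⟩ := hr'
  -- the piece over the cover is a split torus
  let σ' := MonoidAlgebra.domCongrBialgEquiv E E (σ.trans MulEquiv.ulift)
  let Ψ : E ⊗[R] C →ₐc[E] MonoidAlgebra E (Multiplicative (Fin r' → ℤ)) :=
    (σ' : MonoidAlgebra E M →ₐc[E] MonoidAlgebra E (Multiplicative (Fin r' → ℤ))).comp Φ
  have hΨker : ∀ x, Ψ x = 0 ↔ x ∈ Ideal.span {f} := fun x => by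
    show σ' (Φ x) = 0 ↔ _
    rw [map_eq_zero_iff _ (EquivLike.injective σ'), hΦker]
  obtain ⟨eD⟩ := nonempty_DS_iso E (Fin r' → ℤ)
  have hNE := neutralSet_eq_of_closed_torus Ψ ((EquivLike.surjective σ').comp hΦ) hf hΨker
    (TorusBasic.isTorus_of_split ⟨eD⟩)
  -- descent
  have : Module.FaithfullyFlat R E := Module.FaithfullyFlat.trans R T E
  let q : Spec (CommRingCat.of (E ⊗[R] C)) ⟶ Spec (CommRingCat.of C) :=
    Spec.map (CommRingCat.ofHom (Algebra.TensorProduct.includeRight : C →ₐ[R] E ⊗[R] C).toRingHom)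
  have hff' : RingHom.FaithfullyFlat (Algebra.TensorProduct.includeRight : C →ₐ[R] E ⊗[R] C).toRingHom := by
    have h1 : (algebraMap C (C ⊗[R] E)).FaithfullyFlat :=
      RingHom.faithfullyFlat_algebraMap_iff.mpr inferInstance
    have h2 := RingHom.FaithfullyFlat.stableUnderComposition (algebraMap C (C ⊗[R] E))
      (Algebra.TensorProduct.comm R C E).toRingEquiv.toRingHom h1
      (RingHom.FaithfullyFlat.of_bijective (Algebra.TensorProduct.comm R C E).bijective)
    convert h2 using 1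
    ext c
    simp [Algebra.TensorProduct.algebraMap_apply]
  have : Flat q := (HasRingHomProperty.Spec_iff (P := @Flat)).mpr hff'.flat
  have : Surjective q := ⟨(RingHom.FaithfullyFlat.iff_flat_and_comap_surjective.mp hff').2⟩
  refine (Flat.isQuotientMap_of_surjective q).isClosed_preimage.mp ?_
  show IsClosed (PrimeSpectrum.comap (Algebra.TensorProduct.includeRight : C →ₐ[R] E ⊗[R] C).toRingHom ⁻¹'
      SGA3x.neutralSet (sp R C))
  rw [preimage_neutralSet_sp E C, hNE]
  exact (PrimeSpectrum.basicOpen f).isOpen.isClosed_compl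

end Groth.Agent.GModLib
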