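import Groth.Agent.GModLib.NeutralTorus
import Groth.Agent.GModLib.TorusBasic
import Groth.Agent.GModLib.MaxTorusBC
import Groth.Agent.GrpFieldLib.JetTransporter
import Groth.Agent.GrpSchLib.AffineHopf
import Mathlib.RingTheory.Spectrum.Prime.Topology

/-!
# Neutral components of affine groups over an affine base
-/

set_option autoImplicit false
set_option linter.style.haveILetI false
set_option backward.isDefEq.respectTransparency false
set_option backward.isDefEq.respectTransparency.types false

universe u

open CategoryTheory CategoryTheory.Limits MonoidalCategory CartesianMonoidalCategory MonObj GrpObj AlgebraicGeometry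
open scoped TensorProduct

namespace Groth.Agent.GModLib

open GrpSchLib.AffineHopf

/-- Neutral sets correspond under isomorphisms of groups. -/
theorem preimage_neutralSet_of_iso {S : Scheme.{u}} {X Y : Over S} [GrpObj X] [GrpObj Y]
    [LocallyOfFinitePresentation X.hom] [LocallyOfFinitePresentation Y.hom] (e : Grp.mk X ≅ Grp.mk Y) :
    e.hom.hom.hom.left ⁻¹' SGA3x.neutralSet Y = SGA3x.neutralSet X := by
  haveI : IsMonHom e.hom.hom.hom := e.hom.hom.isMonHom_hom
  haveI : IsMonHom e.inv.hom.hom := e.inv.hom.isMonHom_hom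
  refine Set.Subset.antisymm (fun x hx => ?_) fun x hx => GrpFieldLib.NeutralImage.map_mem e.hom.hom.hom hx
  have h := GrpFieldLib.NeutralImage.map_mem e.inv.hom.hom hx
  rwa [← Scheme.Hom.comp_apply, ← Over.comp_left, show e.hom.hom.hom ≫ e.inv.hom.hom = 𝟙 X from
    congrArg (fun φ => φ.hom.hom) e.hom_inv_id] at h

/-- A torus is the union of its neutral components. -/
theorem neutralSet_eq_univ_of_isTorus {S : Scheme.{u}} (T : Over S) [GrpObj T] (hT : Red.IsTorus T) :
    SGA3x.neutralSet T = Set.univ := by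
  refine GrpSchLib.Neutral.neutralSet_eq_univ T fun s => ?_
  let σ := Red.geomPt s
  haveI := (TorusBasic.torus_props (isTorus_bc σ hT)).2.2.1
  haveI : ConnectedSpace ↥(pullback T.hom σ) := ‹ConnectedSpace (Red.bc σ T).left›
  have hr : Set.range (pullback.fst T.hom σ) = T.hom.base ⁻¹' {s} := by
    rw [Scheme.Pullback.range_fst]
    have : Set.range σ = {s} := by
      refine Set.eq_singleton_iff_unique_mem.mpr
        ⟨⟨IsLocalRing.closedPoint _, Scheme.fromSpecResidueField_apply s _⟩, ?_⟩
      rintro _ ⟨w, rfl⟩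
      exact Scheme.fromSpecResidueField_apply s _
    rw [this]
  rw [← hr]
  exact (isConnected_range (pullback.fst T.hom σ).continuous).isPreconnected

variable {R : Type u} [CommRing R]

/-- The neutral set and scalar extension. -/
theorem preimage_neutralSet_sp (S : Type u) [CommRing S] [Algebra R S] (C : Type u) [CommRing C] [HopfAlgebra R C]
    [Algebra.FinitePresentation R C] :
    PrimeSpectrum.comap (Algebra.TensorProduct.includeRight : C →ₐ[R] S ⊗[R] C).toRingHom ⁻¹'
      SGA3x.neutralSet (sp R C) = SGA3x.neutralSet (sp S (S ⊗[R] C)) := by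
  let σ : Spec (CommRingCat.of S) ⟶ Spec (CommRingCat.of R) := Spec.map (CommRingCat.ofHom (algebraMap R S))
  haveI : LocallyOfFinitePresentation (sp R C).hom :=
    (HasRingHomProperty.Spec_iff (P := @LocallyOfFinitePresentation)).mpr
      (RingHom.finitePresentation_algebraMap.mpr ‹_›)
  let g : Red.bc σ (sp R C) ⟶ sp S (S ⊗[R] C) :=
    (pullbackSymmetry .. ≪≫ pullbackSpecIso' R S C).hom.asOver (Spec (CommRingCat.of S))
  haveI : IsMonHom g := inferInstanceAs (IsMonHom
    ((pullbackSymmetry .. ≪≫ pullbackSpecIso' R S C).hom.asOver (Spec (CommRingCat.of S))))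
  haveI : IsIso g.left := inferInstanceAs (IsIso (pullbackSymmetry .. ≪≫ pullbackSpecIso' R S C).hom)
  haveI : IsIso ((Over.forget _).map g) := ‹IsIso g.left›
  haveI : IsIso g := isIso_of_reflects_iso g (Over.forget _)
  haveI : LocallyOfFinitePresentation (sp S (S ⊗[R] C)).hom :=
    (HasRingHomProperty.Spec_iff (P := @LocallyOfFinitePresentation)).mpr
      (RingHom.finitePresentation_algebraMap.mpr inferInstance)
  haveI : LocallyOfFinitePresentation (Red.bc σ (sp R C)).hom :=
    inferInstanceAs (LocallyOfFinitePresentation (pullback.snd (sp R C).hom σ))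
  have h1 : g.left ≫ Spec.map (CommRingCat.ofHom
      (Algebra.TensorProduct.includeRight : C →ₐ[R] S ⊗[R] C).toRingHom) = pullback.fst (sp R C).hom σ := by
    show ((pullbackSymmetry _ _).hom ≫ (pullbackSpecIso R S C).hom) ≫ _ = _
    rw [Category.assoc]
    erw [pullbackSpecIso_hom_snd]
    exact pullbackSymmetry_hom_comp_snd _ _
  have h2 : (pullback.fst (sp R C).hom σ) ⁻¹' SGA3x.neutralSet (sp R C) = SGA3x.neutralSet (Red.bc σ (sp R C)) :=
    (GrpSchLib.Neutral.neutralSet_bc (sp R C) σ).symm
  have h3 := preimage_neutralSet_of_iso (Grp.mkIso' (asIso g))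
  rw [← h1] at h2
  ext z
  obtain ⟨w, rfl⟩ := (Surjective.surj (f := g.left)) z
  have h4 := Set.ext_iff.mp h2 w
  have h5 := Set.ext_iff.mp h3 w
  exact h4.trans h5.symm

set_option maxHeartbeats 400000 in
/-- A connected clopen subgroup is the neutral component. -/
theorem neutralSet_eq_of_closed_torus {X D : Type u} [CommRing X] [HopfAlgebra R X] [CommRing D] [HopfAlgebra R D]
    [Algebra.FinitePresentation R X] (π : X →ₐc[R] D) (hπ : Function.Surjective π) {e : X} (he : IsIdempotentElem e)
    (hker : ∀ x, π x = 0 ↔ x ∈ Ideal.span {e}) (hD : Red.IsTorus (sp R D)) :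
    SGA3x.neutralSet (sp R X) = (PrimeSpectrum.basicOpen e : Set (PrimeSpectrum X))ᶜ := by
  let U : Set (PrimeSpectrum X) := (PrimeSpectrum.basicOpen e : Set (PrimeSpectrum X))ᶜ
  haveI : LocallyOfFinitePresentation (sp R X).hom :=
    (HasRingHomProperty.Spec_iff (P := @LocallyOfFinitePresentation)).mpr
      (RingHom.finitePresentation_algebraMap.mpr ‹_›)
  have hkere : RingHom.ker (π : X →ₐ[R] D).toRingHom = Ideal.span {e} := Ideal.ext fun x => hker x
  have hr : Set.range (PrimeSpectrum.comap (π : X →ₐ[R] D).toRingHom) = U := by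
    rw [range_comap_of_surjective _ _ hπ, hkere]
    ext z
    simp [U, PrimeSpectrum.mem_zeroLocus, Ideal.span_le]
  refine Set.Subset.antisymm (fun z hz => ?_) fun z hz => ?_
  · have hU : IsClopen U := (PrimeSpectrum.isClopen_iff.mpr ⟨e, he, rfl⟩).compl
    obtain ⟨p, hp⟩ := Set.mem_iUnion.mp hz
    refine isPreconnected_connectedComponentIn.subset_isClopen hU
      ⟨η[sp R X].left p, mem_connectedComponentIn ?_, ?_⟩ hp
    · show (sp R X).hom (η[sp R X].left p) = _
      rw [← Scheme.Hom.comp_apply, Over.w η[sp R X]]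
    · rw [← hr]
      refine ⟨η[sp R D].left p, ?_⟩
      show (spMap (π : X →ₐ[R] D)).left (η[sp R D].left p) = _
      rw [← Scheme.Hom.comp_apply, ← Over.comp_left, IsMonHom.one_hom (spMap (π : X →ₐ[R] D))]
  · replace hz : z ∈ Set.range (PrimeSpectrum.comap (π : X →ₐ[R] D).toRingHom) := hr.symm ▸ hz
    obtain ⟨w, rfl⟩ := hz
    haveI : Smooth (sp R D).hom := MultConjLib.smooth_of_isTorus hD
    exact GrpFieldLib.NeutralImage.map_mem (spMap (π : X →ₐ[R] D))
      (neutralSet_eq_univ_of_isTorus (sp R D) hD ▸ Set.mem_univ w)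

end Groth.Agent.GModLib
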