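import Groth.Agent.GModLib.NilpotentTori
import Groth.Agent.GModLib.CentralizerRelative
import Groth.Agent.GModLib.CentralizerConnected
import Groth.Agent.GModLib.CentralKernelRelative
import Groth.Agent.GrpFieldLib.SVHom

/-!
# Uniform nilpotency from rational points, descent along field extensions
-/

set_option autoImplicit false
set_option backward.isDefEq.respectTransparency false
set_option backward.isDefEq.respectTransparency.types false

universe u

open CategoryTheory Limits AlgebraicGeometry MonoidalCategory CartesianMonoidalCategory MonObj GrpObj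

namespace Groth.Agent.GModLib

open GrpSchLib GrpFieldLib.SolvBound

/-- A smooth group over an algebraically closed field with nilpotent group of points is nilpotent. -/
theorem isNilpotentGrp_of_points {k : Type u} [Field k] [IsAlgClosed k] (G : Over (Spec (CommRingCat.of k)))
    [GrpObj G] [Smooth G.hom] (h : Group.IsNilpotent (VecGrp.pt k k ⟶ G)) : AGF.IsNilpotentGrp G := by
  haveI : IsSeparated G.hom := AntiAffine.isSeparated_grp G
  obtain ⟨n, hn⟩ := Subgroup.nilpotent_iff_lowerCentralSeries.mp h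
  haveI : Smooth (wordN G n).1.hom := (word_property G (P := @Smooth) (show Smooth G.hom from inferInstance) n).2
  haveI : IsReduced (wordN G n).1.left := GrpSchLib.isReduced_of_smooth_field (wordN G n).1.hom
  refine (isNilpotentGrp_iff G).mpr ⟨n, hom_ext_points_sep fun p => ?_⟩
  rw [MonObj.comp_one]
  exact (lowerCentralSeries_eq_bot_iff n _).mp hn p

/-- Nilpotency descends along a faithfully flat quasi-compact base change. -/
theorem isNilpotentGrp_of_bc {S U : Scheme.{u}} (g : U ⟶ S) [Flat g] [Surjective g] [QuasiCompact g]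
    (G : Over S) [GrpObj G] (h : AGF.IsNilpotentGrp (Red.bc g G)) : AGF.IsNilpotentGrp G := by
  obtain ⟨n, hn⟩ := h
  refine ⟨n, fun X => ?_⟩
  rw [← Subgroup.lowerCentralSeries_eq_bot_iff_upperCentralSeries_eq_top]
  let p : (Over.map g).obj (Red.bc g X) ⟶ X := Over.homMk (pullback.fst X.hom g) pullback.condition
  haveI : Flat p.left := inferInstanceAs (Flat (pullback.fst X.hom g))
  haveI : Surjective p.left := inferInstanceAs (Surjective (pullback.fst X.hom g))
  haveI : QuasiCompact p.left := inferInstanceAs (QuasiCompact (pullback.fst X.hom g))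
  haveI : Epi p := (show GrpSchLib.IsCover p from ⟨inferInstance, inferInstance, inferInstance⟩).epi
  let e : (Red.bc g X ⟶ Red.bc g G) ≃* ((Over.map g).obj (Red.bc g X) ⟶ G) :=
    MulEquiv.ofBijective (MonoidHom.mk' (DSPtsLib.theta g) (DSPtsLib.theta_mul g)) (DSPtsLib.theta_bijective g)
  let φ : (X ⟶ G) →* (Red.bc g X ⟶ Red.bc g G) :=
    e.symm.toMonoidHom.comp (MonoidHom.mk' (fun a => p ≫ a) (MonObj.comp_mul p))
  have hφ : Function.Injective φ := e.symm.injective.comp fun a b hab => (cancel_epi p).mp hab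
  have h1 := Subgroup.lowerCentralSeries_eq_bot_iff_upperCentralSeries_eq_top.mpr (hn (Red.bc g X))
  rw [eq_bot_iff]
  intro a ha
  have h2 := Subgroup.lowerCentralSeries.map φ n ⟨a, ha, rfl⟩
  rw [h1, Subgroup.mem_bot] at h2
  exact Subgroup.mem_bot.mpr (hφ (h2.trans (map_one φ).symm))

/-- A group over an algebraically closed field with central maximal torus is nilpotent. -/
theorem isNilpotentGrp_of_central_maxTorus {k : Type u} [Field k] [IsAlgClosed k]
    {C T : Over (Spec (CommRingCat.of k))} [GrpObj C] [Smooth C.hom] [QuasiCompact C.hom] [ConnectedSpace C.left]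
    [GrpObj T] (t : T ⟶ C) (ht : AGF.IsMaxTorus t)
    (hc : ∀ (X : Over (Spec (CommRingCat.of k))) (g : X ⟶ C) (a : X ⟶ T), g * (a ≫ t) = (a ≫ t) * g) :
    AGF.IsNilpotentGrp C := by
  refine isNilpotentGrp_of_points C (isNilpotent_of_central fun T₁ _ j _ _ hT₁ X a g => ?_)
  refine central_of_unique (fun T₂ T₃ _ _ i₂ i₃ h₂ h₃ => ?_) T₁ j hT₁ X a g
  obtain ⟨φ₂, e₂⟩ := maxTorus_unique_of_central t ht i₂ h₂ hc
  obtain ⟨φ₃, e₃⟩ := maxTorus_unique_of_central t ht i₃ h₃ hc
  exact ⟨φ₂ ≪≫ φ₃.symm, by rw [Iso.trans_hom, Category.assoc, Iso.symm_hom, ← e₃, φ₃.inv_hom_id_assoc, e₂]⟩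

/-- The centralizer of a maximal torus is smooth, connected and nilpotent. -/
theorem cartan_smooth_connected_nilpotent {k : Type u} [Field k] {G T C : Over (Spec (CommRingCat.of k))}
    [GrpObj G] [IsAffine G.left] [Smooth G.hom] [ConnectedSpace G.left] [GrpObj T] [GrpObj C] (iT : T ⟶ G)
    (hT : Red.IsMaximalTorus iT) (c : C ⟶ G) (hc : Red.IsCentralizerOf iT c) :
    Smooth C.hom ∧ ConnectedSpace ↥C.left ∧ AGF.IsNilpotentGrp C := by
  obtain ⟨him, himo, hTt, hTmax⟩ := id hT
  haveI := him; haveI := himo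
  obtain ⟨hcs, hcl, hcn⟩ := centralizer_smooth_connected iT hTt c hc
  haveI := hcs; haveI := hcn
  haveI := hc.1; haveI := hc.2.1
  refine ⟨hcs, hcn, ?_⟩
  haveI : QuasiCompact G.hom := inferInstance
  let s : ↥(Spec (CommRingCat.of k)) := IsLocalRing.closedPoint k
  let σ := Red.geomPt s
  haveI : Subsingleton ↥(Spec (CommRingCat.of k)) := inferInstanceAs (Subsingleton (PrimeSpectrum k))
  haveI : Surjective σ := ⟨fun z => ⟨IsLocalRing.closedPoint _, Subsingleton.elim _ _⟩⟩
  haveI : IsAffineHom σ := inferInstance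
  haveI : QuasiCompact C.hom := by
    haveI : IsClosedImmersion c.left := hcl
    rw [← Over.w c]; infer_instance
  haveI : Smooth (Red.bc σ C).hom := inferInstanceAs (Smooth (pullback.snd C.hom σ))
  haveI : QuasiCompact (Red.bc σ C).hom := inferInstanceAs (QuasiCompact (pullback.snd C.hom σ))
  haveI : ConnectedSpace ↥(Red.bc σ C).left := connectedSpace_geomFibre (fun t => by
    rw [show C.hom.base ⁻¹' {t} = Set.univ from Set.eq_univ_of_forall fun x => Subsingleton.elim (α := ↥(Spec (CommRingCat.of k))) _ _]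
    exact isConnected_univ) s
  refine isNilpotentGrp_of_bc σ C ?_
  obtain ⟨i', hi'⟩ := (hc.2.2 T iT).mpr fun X' x h => by
    rw [← MonObj.mul_comp, ← MonObj.mul_comp]
    exact congrArg (· ≫ iT)
      (MultConjLib.points_comm (MultConjLib.isLocDS_of_multTypeFT (RankOne.isMultTypeFT_of_isTorus hTt)) x h)
  haveI : IsMonHom (i' ≫ c) := hi' ▸ him
  haveI : IsMonHom i' := isMonHom_of_comp i' c
  haveI : Mono (i' ≫ c) := hi' ▸ himo
  haveI : Mono i' := mono_of_mono i' c
  have hTσ : AGF.IsMaxTorus ((Over.pullback σ).map i') :=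
    ⟨inferInstance, inferInstance, isTorus_bc σ hTt, fun T'' _ j _ _ f hT'' hf =>
      hTmax s T'' (j ≫ (Over.pullback σ).map c) f hT'' (by rw [← Category.assoc, hf, ← Functor.map_comp, hi'])⟩
  refine isNilpotentGrp_of_central_maxTorus ((Over.pullback σ).map i') hTσ fun X g a => ?_
  have hb := ((BC.isCentralizerOf_bc σ hc).2.2 X (g ≫ (Over.pullback σ).map c)).mp ⟨g, rfl⟩ X (𝟙 X) a
  rw [Category.id_comp, ← hi', Functor.map_comp, ← Category.assoc, ← MonObj.mul_comp, ← MonObj.mul_comp,
    cancel_mono] at hb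
  exact hb

end Groth.Agent.GModLib
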