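import Groth.Agent.GModLib.UnipotentCentralizer
import Groth.Agent.GModLib.SolvableEigen

/-!
# Normal subgroups of groups with trivial unipotent radical
-/

set_option autoImplicit false
set_option backward.isDefEq.respectTransparency false
set_option backward.isDefEq.respectTransparency.types false

universe u

open CategoryTheory Limits AlgebraicGeometry MonoidalCategory CartesianMonoidalCategory MonObj GrpObj

namespace Groth.Agent.GModLib

open GrpSchLib GrpSchLib.Kunneth GrpSchLib.AffineHopf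

/-- Normal homomorphisms are stable under base change. -/
theorem isNormalHom_bc {S S' : Scheme.{u}} (σ : S' ⟶ S) {N G : Over S} [GrpObj N] [GrpObj G] (i : N ⟶ G)
    (h : AlgGrp.IsNormalHom i) : AlgGrp.IsNormalHom ((Over.pullback σ).map i) := fun T g n => by
  obtain ⟨n', hn'⟩ := h _ (DSPtsLib.theta σ g) (DSPtsLib.theta σ n)
  obtain ⟨m, hm⟩ := (BC.exists_factor_iff σ (j := i) (g * (n ≫ (Over.pullback σ).map i) * g⁻¹)).mpr ⟨n', by
    rw [DSPtsLib.theta_mul, DSPtsLib.theta_mul, BC.theta_inv, BC.theta_map, hn']⟩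
  exact ⟨m, hm.symm⟩

variable {k : Type u} [Field k] [IsAlgClosed k]

set_option maxHeartbeats 1000000 in
/-- The absence of a unipotent radical passes to smooth normal subgroups, connected or not. -/
theorem isTrivialGrp_of_normal_in_normal {G N : Over (Spec (CommRingCat.of k))} [GrpObj G] [GrpObj N] [IsAffine G.left]
    [Smooth G.hom] (j : N ⟶ G) [IsMonHom j] (hj : IsClosedImmersion j.left) [Smooth N.hom] (hN : AlgGrp.IsNormalHom j)
    (hG : ∀ (U : Over (Spec (CommRingCat.of k))) [GrpObj U] (i : U ⟶ G) [IsMonHom i], IsClosedImmersion i.left →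
      Smooth U.hom → ConnectedSpace ↥U.left → AlgGrp.IsNormalHom i → Red.HasNoSubtorus k U → Red.IsTrivialGrp U)
    {U : Over (Spec (CommRingCat.of k))} [GrpObj U] (u : U ⟶ N) [IsMonHom u] [IsClosedImmersion u.left]
    [Smooth U.hom] [ConnectedSpace U.left] (hu : AlgGrp.IsNormalHom u) (hno : Red.HasNoSubtorus k U) :
    Red.IsTrivialGrp U := by
  classical
  haveI := hj
  haveI : IsAffine N.left := isAffine_of_isAffineHom j.left
  haveI : IsReduced N.left := GrpSchLib.isReduced_of_smooth_field N.hom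
  haveI : Mono j := Over.mono_of_mono_left j
  haveI : Mono u := Over.mono_of_mono_left u
  haveI : IsAffine U.left := isAffine_of_isAffineHom u.left
  haveI : IsReduced U.left := GrpSchLib.isReduced_of_smooth_field U.hom
  -- the neutral component of the normal subgroup
  obtain ⟨N₀, _, i₀, hi₀, hc₀, hs₀, hn₀, -, -, -, huniv⟩ :=
    exists_connected_subgroup (G := N) ⊤ ∅ fun g => by simp
  haveI := hi₀; haveI := hc₀; haveI := hs₀; haveI := hn₀
  haveI : IsAffine N₀.left := isAffine_of_isAffineHom i₀.left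
  haveI : Mono i₀ := Over.mono_of_mono_left i₀
  obtain ⟨B, _, iB, hB, -⟩ := exists_borel (G := N₀)
  obtain ⟨hBm, hBcl, hBsm, hBconn, hBsol, -⟩ := id hB
  haveI := hBm; haveI := hBcl; haveI := hBsm; haveI := hBconn
  haveI : IsAffine B.left := isAffine_of_isAffineHom iB.left
  obtain ⟨d, M, hM⟩ := exists_triangular hBsol
  haveI : IsClosedImmersion (iB ≫ i₀ ≫ j).left := by rw [Over.comp_left, Over.comp_left]; infer_instance
  obtain ⟨V, _, v, hvm, hv1, hv2, hv3, hv4, hv5, huni⟩ := exists_core (iB ≫ i₀ ≫ j) hM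
  haveI := hvm
  obtain ⟨w, hw⟩ := huni U (u ≫ j) fun p g => by
    -- the conjugate subgroup is again a normal subgroup of N
    let g' : 𝟙_ (Over (Spec (CommRingCat.of k))) ⟶ G := toPt _ ≫ g⁻¹
    have hg' : toUnit (VecGrp.pt k k) ≫ g' = g⁻¹ := by
      show _ ≫ toPt _ ≫ g⁻¹ = _
      rw [← Category.assoc, toUnit_toPt, Category.id_comp]
    obtain ⟨x, hx⟩ := hN U (toUnit U ≫ g') u
    have hxe : u ≫ j ≫ inner g' = x ≫ j := by
      rw [← hx, ← Category.assoc, comp_inner]
    haveI : IsMonHom (x ≫ j) := hxe ▸ inferInstance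
    haveI : IsMonHom x := isMonHom_of_comp x j
    obtain ⟨y, hy⟩ := huniv U x fun q => Subgroup.mem_top _
    haveI : IsMonHom (y ≫ i₀) := hy.symm ▸ inferInstance
    haveI : IsMonHom y := isMonHom_of_comp y i₀
    haveI : IsClosedImmersion (y.left ≫ i₀.left ≫ j.left) := by
      rw [← Over.comp_left, ← Over.comp_left, ← Category.assoc, hy, ← hxe]
      rw [Over.comp_left, Over.comp_left]; infer_instance
    haveI : IsClosedImmersion y.left := IsClosedImmersion.of_comp y.left (i₀.left ≫ j.left)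
    have hyn : AlgGrp.IsNormalHom y := fun T a n => by
      obtain ⟨a', ha'⟩ : ∃ a' : T ⟶ N, a' ≫ j = (toUnit T ≫ g')⁻¹ * (a ≫ i₀ ≫ j) * (toUnit T ≫ g') := by
        obtain ⟨a', ha'⟩ := hN T (toUnit T ≫ g')⁻¹ (a ≫ i₀)
        exact ⟨a', by rw [← ha', _root_.inv_inv, Category.assoc]⟩
      obtain ⟨n', hn'⟩ := hu T a' n
      refine ⟨n', (cancel_mono i₀).mp ((cancel_mono j).mp ?_)⟩
      have e : ∀ b : T ⟶ U, (b ≫ x) ≫ j = (toUnit T ≫ g') * ((b ≫ u) ≫ j) * (toUnit T ≫ g')⁻¹ := fun b => by
        rw [Category.assoc, ← hxe, ← Category.assoc, ← Category.assoc, comp_inner]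
      rw [Category.assoc n' y, hy, e, ← hn']
      simp only [MonObj.mul_comp, GrpObj.inv_comp, ha']
      rw [Category.assoc n y, hy, e]
      simp only [Category.assoc, _root_.mul_inv_rev, _root_.inv_inv, _root_.mul_assoc, mul_inv_cancel_left,
        inv_mul_cancel_left, mul_inv_cancel, _root_.mul_one]
    obtain ⟨h, hh⟩ := normal_noSubtorus_le_borel y hyn hno iB hB
    haveI : Mono iB := Over.mono_of_mono_left iB
    haveI : IsMonHom (h ≫ iB) := hh.symm ▸ inferInstance
    haveI : IsMonHom h := isMonHom_of_comp h iB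
    refine ⟨p ≫ h, fun i => ?_, ?_⟩
    · rw [matHom_apply, ← pullFn_ev]
      exact char_eq_one_of_hasNoSubtorus hno ⟨fun a b => by
        rw [pullFn_ev, pullFn_ev, pullFn_ev, MonObj.mul_comp, (isChar_diag hM i).1],
        by rw [pullFn_ev, MonObj.one_comp, (isChar_diag hM i).2]⟩ p
    · rw [show (p ≫ h) ≫ iB ≫ i₀ ≫ j = p ≫ x ≫ j by rw [← hy, ← hh]; simp only [Category.assoc], ← hxe,
        comp_inner, MonObj.comp_mul, MonObj.comp_mul, GrpObj.comp_inv]
      simp only [MonObj.comp_mul, GrpObj.comp_inv, comp_toUnit_assoc, hg', _root_.inv_inv, Category.assoc]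
      simp only [← _root_.mul_assoc, mul_inv_cancel, _root_.one_mul]
  refine isTrivialGrp_of_id_eq_one ((cancel_mono (u ≫ j)).mp ?_)
  rw [Category.id_comp, MonObj.one_comp, ← hw, eq_one_of_isTrivialGrp (hG V v hv1 hv2 hv3 hv4 hv5) w,
    MonObj.one_comp]

omit [IsAlgClosed k] in
/-- A smooth connected normal subgroup of a reductive group is reductive. -/
theorem isReductive_normal {G N : Over (Spec (CommRingCat.of k))} [GrpObj G] [GrpObj N] (hG : Red.IsReductive G)
    (i : N ⟶ G) [IsMonHom i] [IsClosedImmersion i.left] [Smooth N.hom] [ConnectedSpace N.left]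
    (hN : AlgGrp.IsNormalHom i) : Red.IsReductive N := by
  haveI : IsAffineHom G.hom := hG.1
  refine ⟨by rw [← Over.w i]; infer_instance, inferInstance, fun s => ?_⟩
  let σ := Red.geomPt s
  obtain ⟨ha, hsm, -, hred⟩ := hG.2.2 s
  haveI := ha; haveI := hsm
  haveI : IsClosedImmersion ((Over.pullback σ).map i).left :=
    MorphismProperty.baseChange_map (P := @IsClosedImmersion) σ i ‹_›
  haveI : Smooth (Red.bc σ N).hom := inferInstanceAs (Smooth (pullback.snd N.hom σ))
  haveI : IsAffine (Red.bc σ N).left := isAffine_of_isAffineHom ((Over.pullback σ).map i).left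
  have hcn : ConnectedSpace (Red.bc σ N).left := by
    have h := GrpSchLib.AntiAffine.connectedSpace_bc N (Spec.preimage σ).hom
    rwa [CommRingCat.ofHom_hom, Spec.map_preimage] at h
  refine ⟨‹_›, ‹_›, hcn, fun U _ u _ hu hUs hUn hn hno => ?_⟩
  haveI := hu; haveI := hUs; haveI := hUn
  exact isTrivialGrp_of_normal_in_normal ((Over.pullback σ).map i) ‹_› (isNormalHom_bc σ i hN) hred u hn hno

end Groth.Agent.GModLib
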