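import Groth.Agent.GModLib.BorelPoints
import Groth.Agent.GModLib.SemiInv
import Groth.Agent.GModLib.UniPart
import Groth.Agent.GModLib.InvariantConst

/-!
# A point normalizing a Borel subgroup lies in it
-/

set_option autoImplicit false
set_option backward.isDefEq.respectTransparency false
set_option backward.isDefEq.respectTransparency.types false

universe u

open CategoryTheory Limits AlgebraicGeometry MonoidalCategory CartesianMonoidalCategory MonObj GrpObj

namespace Groth.Agent.GModLib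

open GrpSchLib GrpSchLib.Kunneth GrpFieldLib

variable {k : Type u} [Field k] [IsAlgClosed k]

/-- A product of endomorphisms of a torus is an endomorphism. -/
theorem isMonHom_mul_of_isTorus {A T : Over (Spec (CommRingCat.of k))} [GrpObj A] [GrpObj T] (hT : Red.IsTorus T)
    (a b : A ⟶ T) [IsMonHom a] [IsMonHom b] : IsMonHom (a * b) where
  one_hom := by rw [MonObj.comp_mul, IsMonHom.one_hom a, IsMonHom.one_hom b, MonObj.one_eq_one, _root_.one_mul]
  mul_hom := by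
    have hμ : ∀ (c : A ⟶ T) [IsMonHom c], μ[A] ≫ c = (fst A A ≫ c) * (snd A A ≫ c) := fun c _ => by
      rw [show μ[A] = fst A A * snd A A by rw [Hom.mul_def, lift_fst_snd, Category.id_comp], MonObj.mul_comp]
    rw [show μ[T] = fst T T * snd T T by rw [Hom.mul_def, lift_fst_snd, Category.id_comp], MonObj.comp_mul,
      MonObj.comp_mul, tensorHom_fst, tensorHom_snd, hμ a, hμ b, MonObj.comp_mul, MonObj.comp_mul]
    simp only [_root_.mul_assoc]
    congr 1
    rw [← _root_.mul_assoc, ← _root_.mul_assoc, TorusBilin.comm_of_isTorus hT _ (snd A A ≫ a) (fst A A ≫ b)]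

/-- The partial norms of an endomorphism of a torus. -/
theorem exists_norm {T : Over (Spec (CommRingCat.of k))} [GrpObj T] (hT : Red.IsTorus T) (α : T ⟶ T) [IsMonHom α]
    (j : ℕ) : ∃ (ν : T ⟶ T) (_ : IsMonHom ν), (∀ s : VecGrp.pt k k ⟶ T,
        ((s ≫ ν) ≫ α) * s = (s ≫ ν) * (fun a : VecGrp.pt k k ⟶ T => a ≫ α)^[j] s) ∧
      ∀ (χ : (VecGrp.pt k k ⟶ T) → k), χ 1 = 1 → (∀ a b, χ (a * b) = χ a * χ b) → (∀ a, χ (a ≫ α) = χ a) →
        ∀ s, χ (s ≫ ν) = χ s ^ j := by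
  induction j with
  | zero =>
    haveI h1m : IsMonHom (1 : T ⟶ T) :=
      { one_hom := by rw [MonObj.comp_one, MonObj.one_eq_one]
        mul_hom := by
          rw [MonObj.comp_one, show μ[T] = fst T T * snd T T by rw [Hom.mul_def, lift_fst_snd, Category.id_comp],
            MonObj.comp_mul, tensorHom_fst, tensorHom_snd, MonObj.comp_one, MonObj.comp_one, _root_.mul_one] }
    refine ⟨1, h1m, fun s => ?_, fun χ h1 _ _ s => ?_⟩
    · rw [MonObj.comp_one, MonObj.one_comp, Function.iterate_zero_apply]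
    · rw [MonObj.comp_one, h1, pow_zero]
  | succ j ih =>
    obtain ⟨ν, hν, h1, h2⟩ := ih
    haveI : IsMonHom (ν ≫ α) := inferInstance
    refine ⟨𝟙 T * (ν ≫ α), isMonHom_mul_of_isTorus hT _ _, fun s => ?_, fun χ hχ1 hχm hχα s => ?_⟩
    · rw [MonObj.comp_mul, Category.comp_id, MonObj.mul_comp, ← Category.assoc, Function.iterate_succ_apply',
        _root_.mul_assoc s, ← MonObj.mul_comp (s ≫ ν) _ α, ← h1 s, MonObj.mul_comp,
        TorusBilin.comm_of_isTorus hT _ (s ≫ α) (((s ≫ ν) ≫ α) ≫ α),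
        TorusBilin.comm_of_isTorus hT _ s _]
    · rw [MonObj.comp_mul, Category.comp_id, hχm, ← Category.assoc, hχα, h2 χ hχ1 hχm hχα, pow_succ']

set_option maxHeartbeats 2000000 in
/-- A rational point normalizing a Borel subgroup lies in it. -/
theorem mem_borel_of_normalizes {G₀ : Over (Spec (CommRingCat.of k))} [GrpObj G₀] [IsAffine G₀.left] [Smooth G₀.hom]
    [ConnectedSpace G₀.left] {B₀ : Over (Spec (CommRingCat.of k))} [GrpObj B₀] (iB₀ : B₀ ⟶ G₀)
    (hB₀ : Red.IsBorelOver k iB₀) (x₀ : VecGrp.pt k k ⟶ G₀)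
    (h₁ : ∀ b : VecGrp.pt k k ⟶ B₀, ∃ b' : VecGrp.pt k k ⟶ B₀, x₀ * (b ≫ iB₀) * x₀⁻¹ = b' ≫ iB₀)
    (h₂ : ∀ b : VecGrp.pt k k ⟶ B₀, ∃ b' : VecGrp.pt k k ⟶ B₀, x₀⁻¹ * (b ≫ iB₀) * x₀ = b' ≫ iB₀) :
    ∃ b : VecGrp.pt k k ⟶ B₀, b ≫ iB₀ = x₀ := by
  haveI : IsNoetherian G₀.left := by
    haveI : IsLocallyNoetherian G₀.left := LocallyOfFiniteType.isLocallyNoetherian G₀.hom
    exact {}
  suffices key : ∀ (S : TopologicalSpace.Closeds G₀.left) (P : Over (Spec (CommRingCat.of k))) (_ : GrpObj P)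
      (iP : P ⟶ G₀), IsMonHom iP → IsClosedImmersion iP.left → Smooth P.hom → ConnectedSpace P.left →
      Set.range iP.left = (S : Set G₀.left) →
      ∀ (B : Over (Spec (CommRingCat.of k))) (_ : GrpObj B) (iB : B ⟶ P), Red.IsBorelOver k iB →
        ∀ x : VecGrp.pt k k ⟶ P,
          (∀ b : VecGrp.pt k k ⟶ B, ∃ b' : VecGrp.pt k k ⟶ B, x * (b ≫ iB) * x⁻¹ = b' ≫ iB) →
          (∀ b : VecGrp.pt k k ⟶ B, ∃ b' : VecGrp.pt k k ⟶ B, x⁻¹ * (b ≫ iB) * x = b' ≫ iB) →
          ∃ b : VecGrp.pt k k ⟶ B, b ≫ iB = x from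
    key ⊤ G₀ inferInstance (𝟙 G₀) inferInstance (inferInstanceAs (IsClosedImmersion (𝟙 G₀.left))) inferInstance
      inferInstance (by simp) B₀ inferInstance iB₀ hB₀ x₀ h₁ h₂
  intro S
  induction S using WellFoundedLT.induction with
  | _ S ih => ?_
  intro P _ iP hiP hPc hPs hPn hS B _ iB hB x hx₁ hx₂
  haveI := hiP; haveI := hPc; haveI := hPs; haveI := hPn
  haveI : IsAffine P.left := isAffine_of_isAffineHom iP.left
  haveI : IsReduced P.left := GrpSchLib.isReduced_of_smooth_field P.hom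
  obtain ⟨hBm, hBcl, hBsm, hBconn, hBsol, -⟩ := id hB
  haveI := hBm; haveI := hBcl; haveI := hBsm; haveI := hBconn
  haveI : IsAffine B.left := isAffine_of_isAffineHom iB.left
  haveI : Mono iB := Over.mono_of_mono_left iB
  haveI : IsReduced B.left := GrpSchLib.isReduced_of_smooth_field B.hom
  -- a maximal torus of the group inside the Borel subgroup
  obtain ⟨T, _, iT₀, hT₀⟩ := exists_maxTorus P
  haveI := hT₀.1; haveI := hT₀.2.1
  have hT := hT₀.2.2.1
  obtain ⟨q1, q2, q3, -, -⟩ := TorusBasic.torus_props hT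
  haveI := q1; haveI := q2; haveI := q3
  obtain ⟨g₀, iT, hiT⟩ := exists_torus_into_borel iB hB hT iT₀
  have hjT : AGF.IsMaxTorus (iT ≫ iB) := hiT ▸ isMaxTorus_inner hT₀ g₀
  obtain ⟨hjm, hjmo, -, -⟩ := id hjT
  haveI := hjm; haveI := hjmo
  haveI : IsMonHom iT := isMonHom_of_comp iT iB
  -- move the point into the normalizer of the torus
  obtain ⟨φ, hφ⟩ := exists_factor_of_points iB (iB ≫ inner (toPt _ ≫ x)) fun b => by
    obtain ⟨b', hb'⟩ := hx₁ b
    exact ⟨b', by rw [comp_inner_point, hb']⟩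
  haveI : IsMonHom (φ ≫ iB) := by rw [hφ]; infer_instance
  haveI : IsMonHom φ := isMonHom_of_comp φ iB
  obtain ⟨T₁, _, iT₁, hm₁, hc₁, hT₁, hconj⟩ := exists_torus_conj_solvable hBsol
  haveI := hm₁; haveI := hc₁
  haveI : Mono iT₁ := Over.mono_of_mono_left iT₁
  obtain ⟨y, e, he⟩ := hconj T iT hT
  obtain ⟨y', e', he'⟩ := hconj T (iT ≫ φ) hT
  have h1 : e ≫ iT₁ ≫ iB = (iT ≫ iB) ≫ inner (y ≫ iB) := by
    rw [← Category.assoc, he, Category.assoc, inner_comp, ← Category.assoc]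
  have h2 : e' ≫ iT₁ ≫ iB = (iT ≫ iB) ≫ inner ((y' ≫ iB) * (toPt _ ≫ x)) := by
    rw [← Category.assoc, he', Category.assoc, inner_comp, Category.assoc iT φ, ← Category.assoc φ, hφ,
      Category.assoc, inner_inner, Category.assoc]
  haveI := isIso_of_maxTorus (iT ≫ iB) hjT (iT₁ ≫ iB) hT₁ e _ h1
  haveI := isIso_of_maxTorus (iT ≫ iB) hjT (iT₁ ≫ iB) hT₁ e' _ h2
  set n := (y ≫ iB)⁻¹ * ((y' ≫ iB) * (toPt _ ≫ x)) with hn
  let α := e' ≫ inv e
  have hnT : (iT ≫ iB) ≫ inner n = α ≫ iT ≫ iB := by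
    rw [hn, ← inner_inner, ← Category.assoc, ← h2, show iT₁ ≫ iB = inv e ≫ (iT ≫ iB) ≫ inner (y ≫ iB) by
      rw [← h1, IsIso.inv_hom_id_assoc]]
    simp only [α, Category.assoc, inner_inner, inv_mul_cancel, inner_one, Category.comp_id]
  haveI : IsMonHom (α ≫ iT ≫ iB) := hnT ▸ inferInstance
  haveI : IsMonHom α := isMonHom_of_comp α (iT ≫ iB)
  let x' : VecGrp.pt k k ⟶ P := toUnit _ ≫ n
  obtain ⟨b₀, hb₀⟩ : ∃ b₀ : VecGrp.pt k k ⟶ B, x' = (b₀ ≫ iB) * x := ⟨toUnit _ ≫ (y⁻¹ * y'), by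
    simp only [x', hn, MonObj.comp_mul, GrpObj.comp_inv, MonObj.mul_comp, GrpObj.inv_comp, _root_.mul_assoc]
    rw [← Category.assoc (toUnit _) (toPt _) x, toUnit_toPt, Category.id_comp]
    simp only [← Category.assoc]⟩
  suffices hgoal : ∃ b : VecGrp.pt k k ⟶ B, b ≫ iB = x' by
    obtain ⟨b, hb⟩ := hgoal
    exact ⟨b₀⁻¹ * b, by rw [MonObj.mul_comp, GrpObj.inv_comp, hb, hb₀, inv_mul_cancel_left]⟩
  have hx'₁ : ∀ b : VecGrp.pt k k ⟶ B, ∃ b' : VecGrp.pt k k ⟶ B, x' * (b ≫ iB) * x'⁻¹ = b' ≫ iB := fun b => by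
    obtain ⟨b', hb'⟩ := hx₁ b
    refine ⟨b₀ * b' * b₀⁻¹, ?_⟩
    rw [hb₀, MonObj.mul_comp, MonObj.mul_comp, GrpObj.inv_comp, ← hb']
    group
  have hx'₂ : ∀ b : VecGrp.pt k k ⟶ B, ∃ b' : VecGrp.pt k k ⟶ B, x'⁻¹ * (b ≫ iB) * x' = b' ≫ iB := fun b => by
    obtain ⟨b', hb'⟩ := hx₂ (b₀⁻¹ * b * b₀)
    refine ⟨b', ?_⟩
    rw [← hb', hb₀, MonObj.mul_comp, MonObj.mul_comp, GrpObj.inv_comp]
    group
  have hα : ∀ s : VecGrp.pt k k ⟶ T, x' * (s ≫ iT ≫ iB) * x'⁻¹ = (s ≫ α) ≫ iT ≫ iB := fun s => by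
    rw [Category.assoc s α, ← hnT, ← Category.assoc s (iT ≫ iB), comp_inner]
  have hαj : ∀ (j : ℕ) (s : VecGrp.pt k k ⟶ T),
      x' ^ j * (s ≫ iT ≫ iB) * (x' ^ j)⁻¹ = (fun a : VecGrp.pt k k ⟶ T => a ≫ α)^[j] s ≫ iT ≫ iB := by
    intro j
    induction j with
    | zero => simp
    | succ j ih =>
      intro s
      rw [Function.iterate_succ_apply', ← hα, ← ih, pow_succ']
      group
  -- the automorphism has finite order
  obtain ⟨t, N, hN, htN, hgen⟩ := exists_generic hT (iT ≫ iB)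
  have hN0 : 0 < N := Nat.pos_of_ne_zero fun h => hN (by rw [h, Nat.cast_zero])
  obtain ⟨m, hm, hmT⟩ : ∃ m, 0 < m ∧ ∀ s : VecGrp.pt k k ⟶ T, (fun a : VecGrp.pt k k ⟶ T => a ≫ α)^[m] s = s := by
    haveI : Finite {s : VecGrp.pt k k ⟶ T | s ^ N = 1} := (finite_torsion hT hN0).to_subtype
    have hmem : ∀ j, (fun a : VecGrp.pt k k ⟶ T => a ≫ α)^[j] t ^ N = 1 := fun j => by
      rw [← cancel_mono (iT ≫ iB), MonObj.pow_comp, MonObj.one_comp, ← hαj, conj_pow, ← MonObj.pow_comp t _ (iT ≫ iB), htN,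
        MonObj.one_comp, _root_.mul_one, mul_inv_cancel]
    obtain ⟨a, b, hab, heq⟩ := Finite.exists_ne_map_eq_of_infinite
      (fun j : ℕ => (⟨_, hmem j⟩ : {s : VecGrp.pt k k ⟶ T | s ^ N = 1}))
    wlog hlt : a < b generalizing a b
    · exact this b a hab.symm heq.symm (lt_of_le_of_ne (not_lt.mp hlt) hab.symm)
    obtain ⟨m, rfl⟩ := Nat.exists_eq_add_of_lt hlt
    refine ⟨m + 1, Nat.succ_pos _, fun s => ?_⟩
    have heq' : x' ^ a * (t ≫ iT ≫ iB) * (x' ^ a)⁻¹ =
        x' ^ (a + m + 1) * (t ≫ iT ≫ iB) * (x' ^ (a + m + 1))⁻¹ := by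
      rw [hαj, hαj, show (fun a : VecGrp.pt k k ⟶ T => a ≫ α)^[a] t = _ from congrArg Subtype.val heq]
    have hc : Commute (t ≫ iT ≫ iB) (x' ^ (m + 1)) := by
      rw [show a + m + 1 = a + (m + 1) by omega, pow_add] at heq'
      show _ * _ = _ * _
      have e1 : t ≫ iT ≫ iB = x' ^ (m + 1) * (t ≫ iT ≫ iB) * (x' ^ (m + 1))⁻¹ := by
        have := congrArg (fun z => (x' ^ a)⁻¹ * z * x' ^ a) heq'
        calc t ≫ iT ≫ iB = (x' ^ a)⁻¹ * (x' ^ a * (t ≫ iT ≫ iB) * (x' ^ a)⁻¹) * x' ^ a := by group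
          _ = (x' ^ a)⁻¹ * (x' ^ a * x' ^ (m + 1) * (t ≫ iT ≫ iB) * (x' ^ a * x' ^ (m + 1))⁻¹) * x' ^ a := this
          _ = _ := by group
      conv_lhs => rw [e1]
      rw [inv_mul_cancel_right]
    have hs := hgen _ hc s
    rw [← cancel_mono (iT ≫ iB), ← hαj, ← hs.eq, mul_inv_cancel_right]
  obtain ⟨ν, hνm, hν, hνχ⟩ := exists_norm hT α m
  haveI := hνm
  have hfix : ∀ s : VecGrp.pt k k ⟶ T, (s ≫ ν) ≫ α = s ≫ ν := fun s => by
    have e1 := hν s
    rw [hmT] at e1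
    exact mul_right_cancel e1
  have hcommx : ∀ s : VecGrp.pt k k ⟶ T, Commute (s ≫ ν ≫ iT ≫ iB) x' := fun s => by
    have e1 := hα (s ≫ ν)
    rw [hfix, Category.assoc] at e1
    show _ * _ = _ * _
    conv_lhs => rw [← e1]
    rw [inv_mul_cancel_right]
  by_cases hcentral : ∀ (s : VecGrp.pt k k ⟶ T) (g : VecGrp.pt k k ⟶ P), Commute (s ≫ ν ≫ iT ≫ iB) g
  · -- the normalizer of the Borel subgroup is everything
    let Hn : Subgroup (VecGrp.pt k k ⟶ P) :=
      { carrier := {g | ∀ b : VecGrp.pt k k ⟶ B,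
          (∃ b' : VecGrp.pt k k ⟶ B, g * (b ≫ iB) * g⁻¹ = b' ≫ iB) ∧
          (∃ b' : VecGrp.pt k k ⟶ B, g⁻¹ * (b ≫ iB) * g = b' ≫ iB)}
        one_mem' := fun b => ⟨⟨b, by simp⟩, ⟨b, by simp⟩⟩
        mul_mem' := fun {g g'} hg hg' b => by
          constructor
          · obtain ⟨b₁, e1⟩ := (hg' b).1
            obtain ⟨b₂, e2⟩ := (hg b₁).1
            exact ⟨b₂, by rw [← e2, ← e1]; group⟩
          · obtain ⟨b₁, e1⟩ := (hg b).2
            obtain ⟨b₂, e2⟩ := (hg' b₁).2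
            exact ⟨b₂, by rw [← e2, ← e1]; group⟩
        inv_mem' := fun {g} hg b => by
          refine ⟨?_, ?_⟩
          · rw [_root_.inv_inv]; exact (hg b).2
          · rw [_root_.inv_inv]; exact (hg b).1 }
    let F : Set (Fn P) := {f | ∃ (b : VecGrp.pt k k ⟶ B) (f₀ : Fn P), ev iB f₀ = 0 ∧
      (f = ev (𝟙 P * (toPt P ≫ b ≫ iB) * (𝟙 P)⁻¹) f₀ ∨ f = ev ((𝟙 P)⁻¹ * (toPt P ≫ b ≫ iB) * 𝟙 P) f₀)}
    have hv₁ : ∀ (g : VecGrp.pt k k ⟶ P) (b : VecGrp.pt k k ⟶ B) (f₀ : Fn P),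
        pullFn g (ev (𝟙 P * (toPt P ≫ b ≫ iB) * (𝟙 P)⁻¹) f₀) = pullFn (g * (b ≫ iB) * g⁻¹) f₀ := fun g b f₀ => by
      rw [pullFn_ev, MonObj.comp_mul, MonObj.comp_mul, GrpObj.comp_inv, ← Category.assoc, comp_toPt, Category.id_comp,
        Category.comp_id]
    have hv₂ : ∀ (g : VecGrp.pt k k ⟶ P) (b : VecGrp.pt k k ⟶ B) (f₀ : Fn P),
        pullFn g (ev ((𝟙 P)⁻¹ * (toPt P ≫ b ≫ iB) * 𝟙 P) f₀) = pullFn (g⁻¹ * (b ≫ iB) * g) f₀ := fun g b f₀ => by
      rw [pullFn_ev, MonObj.comp_mul, MonObj.comp_mul, GrpObj.comp_inv, ← Category.assoc, comp_toPt, Category.id_comp,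
        Category.comp_id]
    obtain ⟨N', _, iN, hiN, hNc, hNs, hN'⟩ := exists_subgroup_of_functions Hn F fun g => by
      constructor
      · rintro hg f ⟨b, f₀, hf₀, rfl | rfl⟩
        · obtain ⟨b', hb'⟩ := (hg b).1
          rw [hv₁, hb', ← pullFn_ev, hf₀, map_zero]
        · obtain ⟨b', hb'⟩ := (hg b).2
          rw [hv₂, hb', ← pullFn_ev, hf₀, map_zero]
      · intro h b
        constructor
        · obtain ⟨b', hb'⟩ := (exists_lift_iff_vanish iB (g * (b ≫ iB) * g⁻¹)).mpr fun f₀ hf₀ => by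
            rw [← hv₁]; exact h _ ⟨b, f₀, hf₀, Or.inl rfl⟩
          exact ⟨b', hb'.symm⟩
        · obtain ⟨b', hb'⟩ := (exists_lift_iff_vanish iB (g⁻¹ * (b ≫ iB) * g)).mpr fun f₀ hf₀ => by
            rw [← hv₂]; exact h _ ⟨b, f₀, hf₀, Or.inr rfl⟩
          exact ⟨b', hb'.symm⟩
    haveI := hiN; haveI := hNc
    haveI : Mono iN := Over.mono_of_mono_left iN
    obtain ⟨jB, hjB⟩ := exists_factor_of_points iN iB fun b => (hN' _).2 fun b' =>
      ⟨⟨b * b' * b⁻¹, by rw [MonObj.mul_comp, MonObj.mul_comp, GrpObj.inv_comp]⟩,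
        ⟨b⁻¹ * b' * b, by rw [MonObj.mul_comp, MonObj.mul_comp, GrpObj.inv_comp]⟩⟩
    haveI : IsMonHom (jB ≫ iN) := hjB ▸ hBm
    haveI : IsMonHom jB := isMonHom_of_comp jB iN
    obtain ⟨xN, hxN⟩ := (hN' x').2 fun b => ⟨hx'₁ b, hx'₂ b⟩
    have hall : ∀ g : VecGrp.pt k k ⟶ P, ∃ z : VecGrp.pt k k ⟶ N', z ≫ iN = g := fun g => by
      refine exists_point_of_semiInvariant iN g fun f ⟨c, hcw⟩ hf1 => ?_
      by_contra hg
      have hf : f ≠ 0 := fun h => hg (by rw [h, map_zero])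
      obtain ⟨δ, l, hl, hδ, hδw⟩ := exists_det_char f hf
      have hcmul : ∀ a a', c (a * a') = c a * c a' := fun a a' => by
        refine mul_right_cancel₀ hg ?_
        rw [← hcw, MonObj.mul_comp, ← _root_.mul_assoc, hcw, hcw]
        ring
      have hc1 : c 1 = 1 := by
        refine mul_right_cancel₀ hg ?_
        rw [← hcw, MonObj.one_comp, _root_.mul_one, _root_.one_mul]
      let χN : (VecGrp.pt k k ⟶ N') → k := fun z => c z ^ l * pullFn (z ≫ iN) δ
      have hNmul : ∀ a a', χN (a * a') = χN a * χN a' := fun a a' => by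
        simp only [χN, hcmul, MonObj.mul_comp, hδ.1]
        ring
      have hN1 : χN 1 = 1 := by simp [χN, hc1, MonObj.one_comp, hδ.2]
      have hNconj : ∀ a z, χN (z * a * z⁻¹) = χN a := fun a z => by
        rw [hNmul, hNmul, mul_comm (χN z), _root_.mul_assoc, ← hNmul z, mul_inv_cancel, hN1, _root_.mul_one]
      let χT : (VecGrp.pt k k ⟶ T) → k := fun s => χN (s ≫ iT ≫ jB)
      have hT1 : χT 1 = 1 := by
        show χN _ = 1
        rw [MonObj.one_comp, hN1]
      have hTm : ∀ a b, χT (a * b) = χT a * χT b := fun a b => by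
        show χN _ = _
        rw [MonObj.mul_comp, hNmul]
      have hTα : ∀ a, χT (a ≫ α) = χT a := fun a => by
        show χN _ = _
        rw [show (a ≫ α) ≫ iT ≫ jB = xN * (a ≫ iT ≫ jB) * xN⁻¹ by
          rw [← cancel_mono iN, MonObj.mul_comp, MonObj.mul_comp, GrpObj.inv_comp, hxN]
          simp only [Category.assoc, hjB]
          rw [hα a, ← Category.assoc a α], hNconj]
      have hTone : ∀ s, χT s = 1 := fun s => by
        obtain ⟨r, q, hq, hqi⟩ := exists_iso_tor hT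
        haveI := hq; haveI := hqi
        haveI : IsMonHom (inv q) := inferInstanceAs (IsMonHom (asIso q).inv)
        obtain ⟨r₀, hr₀⟩ := exists_tor_root hm (s ≫ q)
        have hroot : (r₀ ≫ inv q) ^ m = s := by
          rw [← MonObj.pow_comp, hr₀, Category.assoc, IsIso.hom_inv_id, Category.comp_id]
        have hpow : ∀ (a : VecGrp.pt k k ⟶ T) (j : ℕ), χT (a ^ j) = χT a ^ j := fun a j => by
          induction j with
          | zero => rw [pow_zero, pow_zero, hT1]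
          | succ j ih => rw [pow_succ, pow_succ, hTm, ih]
        rw [← hroot, hpow, ← hνχ χT hT1 hTm hTα]
        show c _ ^ l * _ = 1
        rw [mul_comm]
        refine hδw _ _ (fun z => ?_) (fun z => hcw z _)
        simp only [Category.assoc, hjB]
        rw [← Category.assoc (r₀) (inv q)]
        exact hcentral (r₀ ≫ inv q) z
      let Cf : Fn B := (pullFn g f)⁻¹ • ev ((toPt B ≫ g) * iB) f
      have hC : ∀ b, pullFn b Cf = c (b ≫ jB) := fun b => by
        rw [map_smul, pullFn_ev, MonObj.comp_mul, ← Category.assoc, comp_toPt, Category.id_comp, ← hjB,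
          ← Category.assoc, hcw, smul_eq_mul]
        field_simp
      let χ : Fn B := Cf ^ l * ev iB δ
      have hχv : ∀ b, pullFn b χ = χN (b ≫ jB) := fun b => by
        simp only [χ, χN, map_mul, map_pow, hC, pullFn_ev, Category.assoc, hjB]
      have hχ : IsChar χ := ⟨fun a b => by rw [hχv, hχv, hχv, MonObj.mul_comp, hNmul],
        by rw [hχv, MonObj.one_comp, hN1]⟩
      obtain ⟨d, M, hM⟩ := exists_triangular hBsol
      obtain ⟨T₂, _, iT₂, h₂⟩ := exists_fullTorus hM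
      have hfull : Full hM iT := by
        obtain ⟨yc, ec, hec⟩ := exists_conj_into_fullTorus hM iT₂ h₂ hT iT
        obtain ⟨h2m, h2c, h2t, h2f, h2u⟩ := h₂
        haveI := h2m; haveI := h2c
        haveI : Mono iT₂ := Over.mono_of_mono_left iT₂
        haveI : IsIso ec := isIso_of_maxTorus (iT ≫ iB) hjT (iT₂ ≫ iB) h2t ec (yc ≫ iB)
          (by rw [← Category.assoc, hec, Category.assoc, inner_comp, ← Category.assoc])
        intro b
        obtain ⟨p, hp⟩ := h2f b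
        refine ⟨p ≫ inv ec, ?_⟩
        rw [← hp, show p ≫ iT₂ = (p ≫ inv ec) ≫ iT ≫ inner yc by rw [← hec, Category.assoc, IsIso.inv_hom_id_assoc],
          ← Category.assoc (p ≫ inv ec) iT, comp_inner, diagHom_conj]
      have hχ1 : ∀ b, pullFn b χ = 1 := fun b => by
        refine (char_eq_of_full hM iT hfull hχ isChar_one (fun s => ?_) b).trans (map_one _)
        rw [map_one, hχv, Category.assoc]
        exact hTone s
      have key : ∀ z, pullFn z (f ^ l * δ) = pullFn 1 (f ^ l * δ) := fun z =>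
        pullFn_eq_of_invariant iB (borel_cocompact iB hB) _ (fun z b => by
          have h := hχ1 b
          simp only [χ, map_mul, map_pow, hC, pullFn_ev] at h
          have hw : pullFn (z * (b ≫ iB)) f = c (b ≫ jB) * pullFn z f := by
            rw [← hjB, ← Category.assoc]; exact hcw z _
          simp only [map_mul, map_pow, hw, hδ.1, mul_pow]
          linear_combination (pullFn z f ^ l * pullFn z δ) * h) z 1
      have h := key g
      rw [map_mul, map_mul, map_pow, map_pow, hf1, zero_pow hl.ne', MulZeroClass.zero_mul] at h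
      rcases mul_eq_zero.mp h with h | h
      · exact hg (eq_zero_of_pow_eq_zero h)
      · exact (hδ.isUnit.map (pullFn g)).ne_zero h
    obtain ⟨z, b, hzb⟩ := exists_conj_mem_borel iB hB x'
    obtain ⟨b', hb'⟩ := ((hN' z).1 (hall z) b).1
    exact ⟨b', by rw [← hb', hzb]⟩
  · -- recursion in the centralizer
    push_neg at hcentral
    obtain ⟨s₀, g₁, hsg⟩ := hcentral
    obtain ⟨C, _, iC, hiC, hCc, hCs, hCn, hCmem, hCall, -⟩ := exists_torus_centralizer_connected hT (ν ≫ iT ≫ iB)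
    haveI := hiC; haveI := hCc; haveI := hCs; haveI := hCn
    haveI : IsAffine C.left := isAffine_of_isAffineHom iC.left
    haveI : Mono iC := Over.mono_of_mono_left iC
    obtain ⟨H, _, iH, hH, hHB, hHstab⟩ := exists_borel_of_centralizer iB hB hT (ν ≫ iT) iC
      (fun c s => by simpa only [Category.assoc] using hCmem c s)
      (fun g hg => hCall g fun s => by simpa only [Category.assoc] using hg s)
    haveI : IsClosedImmersion (iC ≫ iP).left := by rw [Over.comp_left]; infer_instance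
    obtain ⟨xc, hxc⟩ := hCall x' hcommx
    let S' : TopologicalSpace.Closeds G₀.left := ⟨_, (iC ≫ iP).left.isClosedEmbedding.isClosed_range⟩
    have hle : S' ≤ S := fun z hz => by
      obtain ⟨w, rfl⟩ := hz
      show _ ∈ (S : Set G₀.left)
      rw [← hS, Over.comp_left, Scheme.Hom.comp_apply]
      exact ⟨_, rfl⟩
    have hlt : S' < S := by
      refine lt_of_le_of_ne hle fun heq => hsg ?_
      haveI : Mono iP := Over.mono_of_mono_left iP
      obtain ⟨c, hc⟩ := exists_lift_point (iC ≫ iP) (g₁ ≫ iP) (by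
        show (g₁ ≫ iP).left _ ∈ (S' : Set G₀.left)
        rw [heq, ← hS, Over.comp_left, Scheme.Hom.comp_apply]
        exact ⟨_, rfl⟩)
      rw [← Category.assoc, cancel_mono] at hc
      exact hc ▸ hCmem c s₀
    obtain ⟨h, hh⟩ := ih S' hlt C inferInstance (iC ≫ iP) inferInstance inferInstance inferInstance inferInstance rfl
      H inferInstance iH hH xc (hHstab xc (by rw [hxc]; exact hx'₁)) (fun p => by
        have := hHstab xc⁻¹ (by rw [GrpObj.inv_comp, hxc, _root_.inv_inv]; exact hx'₂) p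
        rwa [_root_.inv_inv] at this)
    obtain ⟨b, hb⟩ := hHB h
    exact ⟨b, by rw [hb, ← Category.assoc, hh, hxc]⟩

end Groth.Agent.GModLib
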