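import Groth.Agent.S11190
import Groth.Agent.GrpSchLib.HomClosedRange

/-!
# Observable subgroups and subgroups of finite index
-/

universe u

open CategoryTheory Limits AlgebraicGeometry MonoidalCategory CartesianMonoidalCategory MonObj GrpObj TensorProduct
open TopologicalSpace

set_option backward.isDefEq.respectTransparency false
set_option backward.isDefEq.respectTransparency.types false

namespace Groth.Agent.GModLib

open GrpSchLib GrpSchLib.Kunneth

variable {k : Type u} [Field k]

/-- Restriction of a module along a homomorphism. -/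
noncomputable def restrict {G K : Over (Spec (CommRingCat.of k))} [GrpObj G] [GrpObj K] {W : Type u} [AddCommGroup W]
    [Module k W] (j : K ⟶ G) [IsMonHom j] (ρ : VecGrp.GMod G W) : VecGrp.GMod K W where
  ρ B _ _ := (ρ.ρ B).comp
    { toFun := fun g => g ≫ j
      map_one' := MonObj.one_comp j
      map_mul' := fun g h => MonObj.mul_comp g h j }
  naturality φ g x := by
    show VecGrp.Wmap φ (ρ.ρ _ (g ≫ j) x) = ρ.ρ _ ((VecGrp.ptMap φ ≫ g) ≫ j) (VecGrp.Wmap φ x)
    rw [Category.assoc]
    exact ρ.naturality φ (g ≫ j) x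

variable [IsAlgClosed k]

/-- Observability is transitive. -/
theorem observable_comp {G K H : Over (Spec (CommRingCat.of k))} [GrpObj G] [GrpObj K] [GrpObj H] [IsAffine G.left]
    [Smooth G.hom] [Smooth K.hom] [Smooth H.hom] (j : K ⟶ G) [IsMonHom j] [IsClosedImmersion j.left] (i : H ⟶ K)
    [IsMonHom i] [IsClosedImmersion i.left] (hH : AGF.IsObservableIn k i) (hK : AGF.IsObservableIn k j) :
    AGF.IsObservableIn k (i ≫ j) := by
  haveI : IsAffine K.left := isAffine_of_isAffineHom j.left
  haveI : IsClosedImmersion (i ≫ j).left := inferInstanceAs (IsClosedImmersion (i.left ≫ j.left))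
  refine (S11190.result k G H (i ≫ j)).mpr fun V _ _ _ σ => ?_
  obtain ⟨W, _, _, _, τ, φ, hφ, hφe⟩ := (S11190.result k K H i).mp hH V σ
  obtain ⟨U, _, _, _, ρ, ψ, hψ, hψe⟩ := (S11190.result k G K j).mp hK W τ
  refine ⟨U, inferInstance, inferInstance, inferInstance, ρ, ψ ∘ₗ φ, hψ.comp hφ, fun B _ _ h x => ?_⟩
  rw [LinearMap.baseChange_comp, LinearMap.comp_apply, LinearMap.comp_apply, hφe, hψe, Category.assoc]

/-- An observable subgroup is observable in intermediate subgroups. -/
theorem observable_restrict {G K H : Over (Spec (CommRingCat.of k))} [GrpObj G] [GrpObj K] [GrpObj H] [IsAffine G.left]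
    [Smooth G.hom] [Smooth K.hom] [Smooth H.hom] (j : K ⟶ G) [IsMonHom j] [IsClosedImmersion j.left] (i : H ⟶ K)
    [IsMonHom i] [IsClosedImmersion i.left] (h : AGF.IsObservableIn k (i ≫ j)) :
    AGF.IsObservableIn k i := by
  haveI : IsAffine K.left := isAffine_of_isAffineHom j.left
  haveI : IsClosedImmersion (i ≫ j).left := inferInstanceAs (IsClosedImmersion (i.left ≫ j.left))
  refine (S11190.result k K H i).mpr fun V _ _ _ σ => ?_
  obtain ⟨W, _, _, _, ρ, φ, hφ, hφe⟩ := (S11190.result k G H (i ≫ j)).mp h V σ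
  refine ⟨W, inferInstance, inferInstance, inferInstance, restrict j ρ, φ, hφ, fun B _ _ h x => ?_⟩
  rw [hφe]
  show _ = ρ.ρ B ((h ≫ i) ≫ j) _
  rw [Category.assoc]

omit [IsAlgClosed k] in
/-- Open subgroups are closed. -/
theorem isClosedImmersion_of_openSubgroup {G G₀ : Over (Spec (CommRingCat.of k))} [GrpObj G] [GrpObj G₀]
    [LocallyOfFiniteType G.hom] (j : G₀ ⟶ G) [IsMonHom j] [IsOpenImmersion j.left] : IsClosedImmersion j.left := by
  haveI : IsLocallyNoetherian G.left := LocallyOfFiniteType.isLocallyNoetherian G.hom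
  haveI : LocallyOfFiniteType G₀.hom := by rw [← Over.w j]; infer_instance
  haveI : QuasiCompact j.left := inferInstance
  exact IsClosedImmersion.of_isPreimmersion _ (Groth.Agent.GrpSchLib.HomClosedRange.isClosed_range j)

/-- Open subgroups are observable. -/
theorem observable_openSubgroup {G G₀ : Over (Spec (CommRingCat.of k))} [GrpObj G] [GrpObj G₀] [IsAffine G.left]
    [Smooth G.hom] [Smooth G₀.hom] (j : G₀ ⟶ G) [IsMonHom j] [IsOpenImmersion j.left] :
    AGF.IsObservableIn k j := by
  haveI := isClosedImmersion_of_openSubgroup j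
  exact (S11190.result k G G₀ j).mpr fun V _ _ _ σ => S11193.result k G G₀ j V σ

set_option maxHeartbeats 1000000 in
/-- A subgroup with an observable open subgroup is observable. -/
theorem observable_of_openSubgroup {G H H₁ : Over (Spec (CommRingCat.of k))} [GrpObj G] [GrpObj H] [GrpObj H₁]
    [IsAffine G.left] [Smooth G.hom] [Smooth H.hom] (i : H ⟶ G) [IsMonHom i] [IsClosedImmersion i.left]
    (jH : H₁ ⟶ H) [IsMonHom jH] [IsOpenImmersion jH.left] (hobs : AGF.IsObservableIn k (jH ≫ i)) :
    AGF.IsObservableIn k i := by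
  classical
  haveI : IsAffine H.left := isAffine_of_isAffineHom i.left
  haveI : IsClosedImmersion jH.left := isClosedImmersion_of_openSubgroup jH
  haveI : IsClosedImmersion (jH ≫ i).left := inferInstanceAs (IsClosedImmersion (jH.left ≫ i.left))
  haveI : Smooth H₁.hom := by rw [← Over.w jH]; infer_instance
  haveI : IsReduced G.left := GrpSchLib.isReduced_of_smooth_field G.hom
  -- finitely many cosets
  let S : Subgroup (VecGrp.pt k k ⟶ H) := MonoidHom.range
    ({ toFun := fun z => z ≫ jH
       map_one' := MonObj.one_comp jH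
       map_mul' := fun g h => MonObj.mul_comp g h jH } : (VecGrp.pt k k ⟶ H₁) →* (VecGrp.pt k k ⟶ H))
  have hfac : ∀ x : VecGrp.pt k k ⟶ H, x.left (IsLocalRing.closedPoint k) ∈ Set.range jH.left → x ∈ S := by
    intro x hx
    have hr : Set.range x.left ⊆ Set.range jH.left := by
      rintro _ ⟨p, rfl⟩
      rwa [Subsingleton.elim (α := PrimeSpectrum k) p (IsLocalRing.closedPoint k)]
    exact ⟨Over.homMk (IsOpenImmersion.lift jH.left x.left hr) (by
      rw [← Over.w jH, ← Category.assoc, IsOpenImmersion.lift_fac, Over.w x]),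
      Over.OverMorphism.ext (IsOpenImmersion.lift_fac _ _ _)⟩
  haveI : Finite ((VecGrp.pt k k ⟶ H) ⧸ S) := by
    let q : H ⟶ VecGrp.pt k k := Over.homMk H.hom (by
      show H.hom ≫ Spec.map (CommRingCat.ofHom (algebraMap k k)) = H.hom
      rw [show CommRingCat.ofHom (algebraMap k k) = 𝟙 _ from rfl, Spec.map_id, Category.comp_id])
    let L : (VecGrp.pt k k ⟶ H) → (H ⟶ H) := fun h => (q ≫ h⁻¹) * 𝟙 H
    have hL : ∀ h p : VecGrp.pt k k ⟶ H, p ≫ L h = h⁻¹ * p := fun h p => by
      simp only [L]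
      rw [MonObj.comp_mul, ← Category.assoc, S11188.pt_end_eq (p ≫ q), Category.id_comp, Category.comp_id]
    let U : (VecGrp.pt k k ⟶ H) → H.left.Opens := fun h => (L h).left ⁻¹ᵁ jH.left.opensRange
    have hmem : ∀ h p : VecGrp.pt k k ⟶ H, p.left (IsLocalRing.closedPoint k) ∈ U h →
        (h⁻¹ * p).left (IsLocalRing.closedPoint k) ∈ Set.range jH.left := fun h p hp => by
      rw [← hL]
      exact hp
    haveI : JacobsonSpace H.left := LocallyOfFiniteType.jacobsonSpace H.hom
    have hcov : (⊤ : H.left.Opens) ≤ iSup U := by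
      intro y _
      by_contra hy
      obtain ⟨w, hw, hwc⟩ := nonempty_inter_closedPoints (Z := ((iSup U : H.left.Opens) : Set H.left)ᶜ) ⟨y, hy⟩
        (iSup U).isOpen.isClosed_compl.isLocallyClosed
      obtain ⟨p, hp⟩ := exists_point_of_isClosed (K := k) H hwc
      refine hw (Opens.mem_iSup.mpr ⟨p, ?_⟩)
      show (L p).left w ∈ Set.range jH.left
      rw [← hp]
      change (p ≫ L p).left _ ∈ _
      rw [hL, inv_mul_cancel, ← MonObj.one_comp jH]
      exact ⟨_, rfl⟩
    haveI : CompactSpace H.left := (quasiCompact_iff_compactSpace H.hom).mp inferInstance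
    obtain ⟨t, ht⟩ := isCompact_univ.elim_finite_subcover (fun h => (U h : Set H.left)) (fun h => (U h).isOpen)
      (fun y _ => by
        obtain ⟨h, hh⟩ := Opens.mem_iSup.mp (hcov (show y ∈ (⊤ : H.left.Opens) from trivial))
        exact Set.mem_iUnion.mpr ⟨h, hh⟩)
    refine Finite.of_surjective (fun h : t => (QuotientGroup.mk h.1 : (VecGrp.pt k k ⟶ H) ⧸ S)) fun z => ?_
    obtain ⟨p, rfl⟩ := QuotientGroup.mk_surjective z
    obtain ⟨h, hht, hh⟩ := Set.mem_iUnion₂.mp (ht (Set.mem_univ (p.left (IsLocalRing.closedPoint k))))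
    exact ⟨⟨h, hht⟩, QuotientGroup.eq.mpr (hfac _ (hmem h p hh))⟩
  haveI : Fintype ((VecGrp.pt k k ⟶ H) ⧸ S) := Fintype.ofFinite _
  refine S11220.observable_of_inverse k G H i fun χ hχ hf => ?_
  haveI := hχ
  obtain ⟨f, hf0, hf⟩ := hf
  let c : (VecGrp.pt k k ⟶ H) → k := fun h => pullFn h (Red.gmFn χ)
  have hcmul : ∀ g h, c (g * h) = c g * c h := fun g h => by
    show pullFn _ _ = pullFn g _ * pullFn h _
    rw [← chiVal_eq, ← chiVal_eq, ← chiVal_eq, VecGrp.chiVal, VecGrp.chiVal, VecGrp.chiVal, MonObj.mul_comp g h χ,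
      GmPts.gmFn_mul]
    exact map_mul _ _ _
  have hc0 : ∀ h, c h ≠ 0 := fun h => ((GmPts.isUnit_gmFn χ).map (pullFn h)).ne_zero
  -- `f` with value one at the unit
  obtain ⟨f₁, hf₁1, hf₁⟩ : ∃ f₁ : Fn G, pullFn (1 : VecGrp.pt k k ⟶ G) f₁ ≠ 0 ∧
      ∀ x h, pullFn (x * (h ≫ i)) f₁ = c h * pullFn x f₁ := by
    obtain ⟨a, ha⟩ : ∃ a : VecGrp.pt k k ⟶ G, pullFn a f ≠ 0 := by
      by_contra hall
      push_neg at hall
      exact hf0 (eq_of_forall_point fun p => (hall p).trans (map_zero (pullFn p)).symm)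
    obtain ⟨f', hf'⟩ := exists_translate a f
    exact ⟨f', by rwa [hf', _root_.mul_one], fun x h => by rw [hf', hf', ← _root_.mul_assoc, hf]⟩
  obtain ⟨g₀, hg₀1, hg₀⟩ := exists_inverse_weight (jH ≫ i) hobs (fun z => c (z ≫ jH)) f₁
    (fun h => hf₁1 (by rw [h, map_zero])) (fun x z => by rw [← hf₁, Category.assoc])
  -- functions with the inverse weight on the open subgroup
  let W : Submodule k (Fn G) :=
    { carrier := {g | ∀ x (z : VecGrp.pt k k ⟶ H₁), c (z ≫ jH) * pullFn (x * (z ≫ jH ≫ i)) g = pullFn x g}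
      add_mem' := fun {a b} ha hb x z => by rw [map_add, map_add, mul_add, ha x z, hb x z]
      zero_mem' := fun x z => by simp
      smul_mem' := fun r a ha x z => by rw [map_smul, map_smul, smul_eq_mul, smul_eq_mul, mul_left_comm, ha x z] }
  let rep : (VecGrp.pt k k ⟶ H) ⧸ S → (VecGrp.pt k k ⟶ H) := Quotient.out
  obtain ⟨g₁, hg₁⟩ := Module.Dual.exists_forall_ne_zero_of_forall_exists
    (fun q => (pullFn (rep q ≫ i)).toLinearMap ∘ₗ W.subtype) fun q => by
      obtain ⟨g', hg'⟩ := exists_translate ((rep q ≫ i)⁻¹) g₀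
      refine ⟨⟨g', fun x z => ?_⟩, ?_⟩
      · rw [hg', hg', ← _root_.mul_assoc]
        exact hg₀ _ _
      · show pullFn (rep q ≫ i) g' ≠ 0
        rw [hg', inv_mul_cancel, hg₀1]
        exact one_ne_zero
  let R : (VecGrp.pt k k ⟶ G) → (G ⟶ G) := fun a =>
    𝟙 G * ((Over.homMk G.hom (by
      show G.hom ≫ Spec.map (CommRingCat.ofHom (algebraMap k k)) = G.hom
      rw [show CommRingCat.ofHom (algebraMap k k) = 𝟙 _ from rfl, Spec.map_id, Category.comp_id]) : G ⟶ VecGrp.pt k k) ≫ a)
  have hR : ∀ a y, pullFn y (ev (R a) g₁.1) = pullFn (y * a) g₁.1 := fun a y => by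
    simp only [R]
    rw [pullFn_ev, MonObj.comp_mul, ← Category.assoc, S11188.pt_end_eq (y ≫ _), Category.id_comp, Category.comp_id]
  let N : Fn G := ∏ q, ev (R (rep q ≫ i)) g₁.1
  have hN : ∀ x h, c h ^ Fintype.card ((VecGrp.pt k k ⟶ H) ⧸ S) * pullFn (x * (h ≫ i)) N = pullFn x N := by
    intro x h
    have hη : ∀ q, (rep (h • q))⁻¹ * (h * rep q) ∈ S := fun q => by
      rw [← QuotientGroup.eq]
      refine (QuotientGroup.out_eq' (h • q)).trans ?_
      conv_lhs => rw [← QuotientGroup.out_eq' q]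
      rfl
    choose z hz using fun q => MonoidHom.mem_range.mp (hη q)
    replace hz : ∀ q, z q ≫ jH = (rep (h • q))⁻¹ * (h * rep q) := hz
    have e1 : ∀ q, c (z q ≫ jH) * pullFn (x * (h ≫ i)) (ev (R (rep q ≫ i)) g₁.1) =
        pullFn x (ev (R (rep (h • q) ≫ i)) g₁.1) := fun q => by
      rw [hR, hR, ← g₁.2 (x * (rep (h • q) ≫ i)) (z q)]
      congr 2
      rw [← Category.assoc, hz, _root_.mul_assoc x, _root_.mul_assoc x, ← MonObj.mul_comp, ← MonObj.mul_comp,
        mul_inv_cancel_left]
    have e2 : ∀ q, c (rep (h • q)) * c (z q ≫ jH) = c h * c (rep q) := fun q => by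
      rw [← hcmul, ← hcmul, hz, mul_inv_cancel_left]
    have e3 : ∏ q, c (z q ≫ jH) = c h ^ Fintype.card ((VecGrp.pt k k ⟶ H) ⧸ S) := by
      have h1 : ∏ q, (c (rep (h • q)) * c (z q ≫ jH)) = ∏ q, (c h * c (rep q)) := Finset.prod_congr rfl fun q _ => e2 q
      rw [Finset.prod_mul_distrib, Finset.prod_mul_distrib, Finset.prod_const, Finset.card_univ,
        (MulAction.bijective h).prod_comp (fun q => c (rep q)), _root_.mul_comm (c h ^ _)] at h1
      exact mul_left_cancel₀ (Finset.prod_ne_zero_iff.mpr fun q _ => hc0 _) h1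
    simp only [N, map_prod]
    rw [← e3, ← Finset.prod_mul_distrib]
    refine (Finset.prod_congr rfl fun q _ => e1 q).trans ?_
    exact (MulAction.bijective h).prod_comp (fun q => pullFn x (ev (R (rep q ≫ i)) g₁.1))
  obtain ⟨m, hm⟩ : ∃ m, Fintype.card ((VecGrp.pt k k ⟶ H) ⧸ S) = m + 1 :=
    ⟨_, (Nat.succ_pred_eq_of_pos Fintype.card_pos).symm⟩
  refine ⟨N * f₁ ^ m, ?_, fun x h => ?_⟩
  · simp only [map_mul, map_pow, N, map_prod]
    refine mul_ne_zero (Finset.prod_ne_zero_iff.mpr fun q _ => ?_) (pow_ne_zero _ hf₁1)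
    rw [hR, _root_.one_mul]
    exact hg₁ q
  · simp only [map_mul, map_pow, hf₁, ← hN x h, hm]
    ring

end Groth.Agent.GModLib

namespace Groth.Agent.GModLib

open GrpSchLib GrpSchLib.Kunneth

variable {k : Type u} [Field k] [IsAlgClosed k]

/-- Observability only depends on open subgroups. -/
theorem observable_iff_of_square {G H G₀ K : Over (Spec (CommRingCat.of k))} [GrpObj G] [GrpObj H] [GrpObj G₀]
    [GrpObj K] [IsAffine G.left] [Smooth G.hom] [Smooth H.hom] (i : H ⟶ G) [IsMonHom i] [IsClosedImmersion i.left]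
    (j : G₀ ⟶ G) [IsMonHom j] [IsOpenImmersion j.left] (a : K ⟶ H) [IsMonHom a] [IsOpenImmersion a.left]
    (b : K ⟶ G₀) [IsMonHom b] (w : b ≫ j = a ≫ i) :
    AGF.IsObservableIn k i ↔ AGF.IsObservableIn k b := by
  haveI : IsAffine H.left := isAffine_of_isAffineHom i.left
  haveI : Smooth G₀.hom := by rw [← Over.w j]; infer_instance
  haveI : Smooth K.hom := by rw [← Over.w a]; infer_instance
  haveI : IsClosedImmersion a.left := isClosedImmersion_of_openSubgroup a
  haveI : IsClosedImmersion j.left := isClosedImmersion_of_openSubgroup j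
  haveI : IsClosedImmersion b.left := by
    haveI : IsClosedImmersion (b.left ≫ j.left) := by
      rw [show b.left ≫ j.left = a.left ≫ i.left from congrArg CommaMorphism.left w]
      infer_instance
    exact IsClosedImmersion.of_comp b.left j.left
  constructor
  · intro h
    have h' : AGF.IsObservableIn k (a ≫ i) := observable_comp i a (observable_openSubgroup a) h
    exact observable_restrict j b (by rw [w]; exact h')
  · intro h
    haveI : IsAffine G₀.left := isAffine_of_isAffineHom j.left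
    have h' : AGF.IsObservableIn k (b ≫ j) := observable_comp j b h (observable_openSubgroup j)
    exact observable_of_openSubgroup i a (by rw [← w]; exact h')

end Groth.Agent.GModLib
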