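import Groth.Agent.GModLib.CartanPoint
import Groth.Agent.S16764
import Groth.Agent.GrpPointIso.Flat

/-!
# The locus where a monomorphism of smooth groups is an isomorphism on fibres
-/

set_option autoImplicit false
set_option backward.isDefEq.respectTransparency false
set_option backward.isDefEq.respectTransparency.types false

universe u

open CategoryTheory Limits AlgebraicGeometry MonoidalCategory CartesianMonoidalCategory MonObj GrpObj

namespace Groth.Agent.GModLib

open GrpSchLib GrpFieldLib

variable {S : Scheme.{u}}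

/-- A morphism which is an isomorphism at a point with values in a field is one on the fibre. -/
theorem isIso_fibre_of_point {B N : Over S} (b : B ⟶ N) {K : Type u} [Field K]
    (a : Spec (CommRingCat.of K) ⟶ S) [IsIso ((Over.pullback a).map b)] :
    IsIso ((Over.pullback (S.fromSpecResidueField (a (IsLocalRing.closedPoint K)))).map b) := by
  let s := a (IsLocalRing.closedPoint K)
  let χ : S.residueField s ⟶ CommRingCat.of K := (Scheme.SpecToEquivOfField K S a).2
  have ha : Spec.map χ ≫ S.fromSpecResidueField s = a := (Scheme.SpecToEquivOfField K S).left_inv a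
  let φ : Spec (CommRingCat.of K) ⟶ Spec (CommRingCat.of (S.residueField s)) := Spec.map χ
  have hn := (Over.pullbackComp φ (S.fromSpecResidueField s)).hom.naturality b
  haveI : IsIso ((Over.pullback (φ ≫ S.fromSpecResidueField s)).map b) := by
    show IsIso ((Over.pullback (Spec.map χ ≫ S.fromSpecResidueField s)).map b)
    rw [ha]
    infer_instance
  haveI : IsIso ((Over.pullback φ).map ((Over.pullback (S.fromSpecResidueField s)).map b)) := by
    haveI : IsIso ((Over.pullbackComp φ (S.fromSpecResidueField s)).hom.app B ≫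
        (Over.pullback φ).map ((Over.pullback (S.fromSpecResidueField s)).map b)) := by
      refine Eq.mpr (congrArg IsIso hn.symm) ?_
      infer_instance
    exact IsIso.of_isIso_comp_left ((Over.pullbackComp φ (S.fromSpecResidueField s)).hom.app B) _
  haveI : Flat φ := flat_spec_map_field χ.hom
  haveI : Surjective φ := surjective_spec_map_field χ.hom
  exact isIso_of_isIso_bc φ _

variable {B N : Over S} [GrpObj B] [GrpObj N] [Smooth B.hom] [Smooth N.hom] (b : B ⟶ N) [IsMonHom b] [Mono b]

set_option maxHeartbeats 1000000 in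
/-- If a monomorphism of smooth groups is an isomorphism on one fibre and the target has connected fibres, it is one
on all nearby fibres. -/
theorem exists_open_isIso_fibres (hN : ∀ s : S, ConnectedSpace (Red.bc (Red.geomPt s) N).left) {K : Type u} [Field K]
    (a : Spec (CommRingCat.of K) ⟶ S) [IsIso ((Over.pullback a).map b)] :
    ∃ U : S.Opens, a (IsLocalRing.closedPoint K) ∈ U ∧ ∀ t ∈ U, IsIso ((Over.pullback (Red.geomPt t)).map b) := by
  let s := a (IsLocalRing.closedPoint K)
  let e : S ⟶ B.left := η[B].left
  have he : ∀ t : S, B.hom (e t) = t := Neutral.hom_unit B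
  let z := e s
  let z' : ↥(B.hom.fiber (B.hom z)) := B.hom.asFiber z
  have hbs : IsIso ((Over.pullback (S.fromSpecResidueField (B.hom z))).map b) := by
    rw [show B.hom z = s from he s]
    exact isIso_fibre_of_point b a
  haveI : IsIso (CohIII.fiberMapOver b.left B.hom N.hom (Over.w b) (B.hom z)) := by
    haveI := hbs
    have h : ((Over.pullback (S.fromSpecResidueField (B.hom z))).map b).left =
        CohIII.fiberMapOver b.left B.hom N.hom (Over.w b) (B.hom z) :=
      pullback.hom_ext (by simp [CohIII.fiberMapOver]) (by simp [CohIII.fiberMapOver])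
    rw [← h]
    exact inferInstanceAs (IsIso ((Over.forget _).map ((Over.pullback (S.fromSpecResidueField (B.hom z))).map b)))
  obtain ⟨V, hzV, hV⟩ := (Groth.Agent.S16764.result N.hom B.hom b.left (Over.w b) z (Flat.stalkMap B.hom z) z'
    (Scheme.Hom.fiberι_asFiber B.hom z)).mpr ⟨⊤, trivial, inferInstance⟩
  haveI := hV
  refine ⟨e ⁻¹ᵁ V, hzV, fun t ht => ?_⟩
  let σ := Red.geomPt t
  let bσ := (Over.pullback σ).map b
  let Bσ := Red.bc σ B
  let p := pullback.fst B.hom σ
  let W : Bσ.left.Opens := p ⁻¹ᵁ V
  have hpb : IsPullback p bσ.left b.left (pullback.fst N.hom σ) := by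
    refine IsPullback.of_bot ?_ (by simp [bσ, p]) (IsPullback.of_hasPullback N.hom σ)
    rw [Over.w b, show bσ.left ≫ pullback.snd N.hom σ = pullback.snd B.hom σ from Over.w bσ]
    exact IsPullback.of_hasPullback B.hom σ
  haveI : Flat (W.ι ≫ bσ.left) := by
    have h2 : IsPullback (p ∣_ V) (W.ι ≫ bσ.left) (V.ι ≫ b.left) (pullback.fst N.hom σ) :=
      (isPullback_morphismRestrict p V).paste_vert hpb
    exact MorphismProperty.of_isPullback (P := @Flat) h2 inferInstance
  let x₀ : Bσ.left := η[Bσ].left (IsLocalRing.closedPoint _)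
  have hx₀ : x₀ ∈ W := by
    show p x₀ ∈ V
    have h1 : η[Bσ].left ≫ p = σ ≫ e := by
      haveI : (Over.pullback σ).Monoidal := inferInstance
      have h2 := DSPtsLib.theta_mul (H := B) σ (1 : 𝟙_ _ ⟶ Bσ) 1
      rw [_root_.one_mul, eq_comm, mul_eq_left] at h2
      have h3 := congrArg (fun m : (Over.map σ).obj (𝟙_ _) ⟶ B => m.left) h2
      simp only [Hom.one_def, toUnit_unique (toUnit (𝟙_ (Over (Spec (CommRingCat.of (AlgebraicClosure (S.residueField t)))))))
        (𝟙 _), Category.id_comp] at h3
      refine Eq.trans h3 ?_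
      show ((toUnit ((Over.map σ).obj (𝟙_ _))).left) ≫ e = σ ≫ e
      congr 1
    show (η[Bσ].left ≫ p) (IsLocalRing.closedPoint _) ∈ V
    rw [h1, Scheme.Hom.comp_apply]
    have hσt : σ (IsLocalRing.closedPoint _) = t := Scheme.fromSpecResidueField_apply t _
    exact (congrArg (fun q => e q ∈ V) hσt).mpr ht
  haveI : Mono bσ := inferInstance
  haveI : Flat bσ.left := by
    refine GrpPointIso.flat_of_flat_unit bσ ?_
    have h := Flat.stalkMap (W.ι ≫ bσ.left) ⟨x₀, hx₀⟩
    rw [Scheme.Hom.stalkMap_comp, CommRingCat.hom_comp] at h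
    exact (RingHom.Flat.respectsIso.cancel_right_isIso (bσ.left.stalkMap x₀) (W.ι.stalkMap ⟨x₀, hx₀⟩)).mp h
  haveI : LocallyOfFinitePresentation bσ.left := by
    haveI : Smooth Bσ.hom := inferInstanceAs (Smooth (pullback.snd B.hom σ))
    haveI : Smooth (Red.bc σ N).hom := inferInstanceAs (Smooth (pullback.snd N.hom σ))
    haveI : LocallyOfFinitePresentation (bσ.left ≫ (Red.bc σ N).hom) := by
      rw [Over.w bσ]; infer_instance
    exact AlgSpPts.locallyOfFinitePresentation_of_comp bσ.left (Red.bc σ N).hom
  haveI : Mono bσ.left := inferInstance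
  haveI : IsOpenImmersion bσ.left := IsOpenImmersion.of_flat_of_mono _
  haveI : Surjective bσ.left := ⟨fun y => by
    have hn : SGA3x.neutralSet (Red.bc σ N) = Set.univ := by
      refine Neutral.neutralSet_eq_univ _ fun q => ?_
      haveI := hN t
      rw [show (Red.bc σ N).hom ⁻¹' {q} = Set.univ from Set.eq_univ_of_forall fun x => @Subsingleton.elim (PrimeSpectrum _) _ _ _]
      exact isPreconnected_univ
    exact (Neutral.openSubgroup (Red.bc σ N) Bσ bσ).1 (hn ▸ Set.mem_univ y)⟩
  haveI : IsIso bσ.left := (isIso_iff_isOpenImmersion_and_surjective _).mpr ⟨inferInstance, inferInstance⟩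
  haveI : IsIso ((Over.forget _).map bσ) := ‹IsIso bσ.left›
  exact isIso_of_reflects_iso bσ (Over.forget _)

end Groth.Agent.GModLib
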