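import Groth.Agent.GModLib.OrbitWeights
import Mathlib.LinearAlgebra.LinearIndependent.Lemmas

/-!
# Degenerating an orbit to an extreme weight
-/

set_option autoImplicit false
set_option backward.isDefEq.respectTransparency false
set_option backward.isDefEq.respectTransparency.types false

universe u

open CategoryTheory Limits AlgebraicGeometry MonoidalCategory CartesianMonoidalCategory MonObj GrpObj

namespace Groth.Agent.GModLib

open GrpSchLib GrpSchLib.Kunneth GrpSchLib.AffineHopf

variable {k : Type u} [Field k] [IsAlgClosed k] {G B T : Over (Spec (CommRingCat.of k))} [GrpObj G] [GrpObj B]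
  [GrpObj T] [IsAffine G.left] [LocallyOfFiniteType G.hom] [LocallyOfFiniteType B.hom]

/-- The orbit of a point in the space of semi-invariant functions degenerates to its extreme weight component, which
is fixed by the torus. -/
theorem exists_degeneration_supp (iB : B ⟶ G) (hco : Cocompact iB) (hT : Red.IsTorus T) (iT : T ⟶ G) [IsMonHom iT]
    {N : ℕ} (f : Fin N → Fn G) (χ : (VecGrp.pt k k ⟶ B) → k)
    (hχ : ∀ g b i, pullFn (g * (b ≫ iB)) (f i) = χ b * pullFn g (f i))
    (hnz : ∀ g : VecGrp.pt k k ⟶ G, ∃ i, pullFn g (f i) ≠ 0)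
    (φ : Fin N → ((VecGrp.pt k k ⟶ T) →* k))
    (hφ : ∀ t g i, pullFn ((t ≫ iT) * g) (f i) = φ i t * pullFn g (f i))
    (i₀ : Fin N)
    (g : VecGrp.pt k k ⟶ G)
    (hext : ∀ c : Fin N → ℕ, (∀ i, c i ≠ 0 → pullFn g (f i) ≠ 0) →
      (∀ t, ∏ i, φ i t ^ c i = φ i₀ t ^ ∑ i, c i) → ∀ i, c i ≠ 0 → φ i = φ i₀) (hg : ∃ i, φ i = φ i₀ ∧ pullFn g (f i) ≠ 0) :
    ∃ (n : VecGrp.pt k k ⟶ G) (l : k), l ≠ 0 ∧ (∀ i, φ i = φ i₀ → pullFn n (f i) = l * pullFn g (f i)) ∧
      (∀ i, φ i ≠ φ i₀ → pullFn n (f i) = 0) ∧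
      ∀ t : VecGrp.pt k k ⟶ T, ∃ b : VecGrp.pt k k ⟶ B, (t ≫ iT) * n = n * (b ≫ iB) := by
  classical
  obtain ⟨h1, h2, h3, -, -⟩ := TorusBasic.torus_props hT
  haveI := h1; haveI := h2; haveI := h3
  let v : Fin N → k := fun i => if φ i = φ i₀ then pullFn g (f i) else 0
  obtain ⟨i₁, hi₁, hgi₁⟩ := hg
  have hv1 : v i₁ ≠ 0 := by simpa [v, hi₁] using hgi₁
  let Φ : Fin N × Fin N → MvPolynomial (Fin N) (Fn G) := fun p =>
    MvPolynomial.C (f p.1) * MvPolynomial.X p.2 - MvPolynomial.C (f p.2) * MvPolynomial.X p.1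
  have hev : ∀ (x : VecGrp.pt k k ⟶ G) (w : Fin N → k) p,
      MvPolynomial.eval w ((Φ p).map (pullFn x).toRingHom) = pullFn x (f p.1) * w p.2 - pullFn x (f p.2) * w p.1 :=
    fun x w p => by simp [Φ]
  have hsol : ∃ x : VecGrp.pt k k ⟶ G, ∀ i j, pullFn x (f i) * v j = pullFn x (f j) * v i := by
    by_contra hno
    push_neg at hno
    obtain ⟨Q, hQv, hQ⟩ := exists_poly_of_unsolvable iB hco Φ (fun x b w h p => by
      have := h p
      rw [hev, sub_eq_zero] at this
      rw [hev, hχ, hχ, sub_eq_zero, _root_.mul_assoc, this, _root_.mul_assoc]) v (fun x => by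
      obtain ⟨i, j, hij⟩ := hno x
      exact ⟨(i, j), by rw [hev, sub_ne_zero]; exact hij⟩)
    let ψ : (Fin N →₀ ℕ) → ((VecGrp.pt k k ⟶ T) × k →* k) := fun m =>
      { toFun := fun p => ∏ i, (p.2 * φ i p.1) ^ m i
        map_one' := by simp
        map_mul' := fun p q => by
          rw [← Finset.prod_mul_distrib]
          exact Finset.prod_congr rfl fun i _ => by rw [← mul_pow, Prod.snd_mul, Prod.fst_mul, map_mul]; ring }
    let co : (Fin N →₀ ℕ) → k := fun m => Q.coeff m * ∏ i, pullFn g (f i) ^ m i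
    have hzero : ∀ p, ∑ m ∈ Q.support, co m * ψ m p = 0 := fun p => by
      have h := hQ ((p.1 ≫ iT) * g) (fun i => p.2 * pullFn ((p.1 ≫ iT) * g) (f i)) fun q => by rw [hev]; ring
      rw [MvPolynomial.eval_eq'] at h
      refine Eq.trans (Finset.sum_congr rfl fun m _ => ?_) h
      show Q.coeff m * (∏ i, pullFn g (f i) ^ m i) * (∏ i, (p.2 * φ i p.1) ^ m i) = _
      rw [_root_.mul_assoc, ← Finset.prod_mul_distrib]
      congr 1
      exact Finset.prod_congr rfl fun i _ => by rw [← mul_pow, hφ]; ring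
    have hfib : ∀ χ' ∈ Q.support.image ψ, ∑ m ∈ Q.support.filter (fun m => ψ m = χ'), co m = 0 := by
      have hl := linearIndependent_iff'ₛ.mp (linearIndependent_monoidHom ((VecGrp.pt k k ⟶ T) × k) k)
        (Q.support.image ψ) (fun χ' => ∑ m ∈ Q.support.filter (fun m => ψ m = χ'), co m) (fun _ => 0) (by
          rw [Finset.sum_eq_zero (fun _ _ => zero_smul k _)]
          funext p
          rw [Finset.sum_apply, Pi.zero_apply]
          refine Eq.trans ?_ (hzero p)
          rw [← Finset.sum_fiberwise_of_maps_to (fun m hm => Finset.mem_image_of_mem ψ hm) fun m => co m * ψ m p]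
          refine Finset.sum_congr rfl fun χ' _ => ?_
          rw [Pi.smul_apply, smul_eq_mul, Finset.sum_mul]
          exact Finset.sum_congr rfl fun m hm => by rw [← (Finset.mem_filter.mp hm).2])
      exact hl
    let top : (Fin N →₀ ℕ) → Prop := fun m => ∀ i, m i ≠ 0 → φ i = φ i₀
    have htop : ∀ m m', ψ m = ψ m' → co m' ≠ 0 → top m → top m' := fun m m' h hne hm => by
      have hdeg : ∑ i, m i = ∑ i, m' i := by
        have e : (Polynomial.X ^ (∑ i, m i) : Polynomial k) = Polynomial.X ^ (∑ i, m' i) :=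
          Polynomial.funext fun s => by
            have := DFunLike.congr_fun h ((1 : VecGrp.pt k k ⟶ T), s)
            simpa [ψ, Finset.prod_pow_eq_pow_sum] using this
        simpa using congrArg Polynomial.natDegree e
      refine hext _ (fun i hi hzero => hne ?_) fun t => ?_
      · show Q.coeff m' * _ = 0
        rw [Finset.prod_eq_zero (Finset.mem_univ i) (by rw [hzero, zero_pow hi]), MulZeroClass.mul_zero]
      have h1 := DFunLike.congr_fun h (t, (1 : k))
      simp only [ψ, MonoidHom.coe_mk, OneHom.coe_mk, _root_.one_mul] at h1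
      rw [← h1, ← hdeg, ← Finset.prod_pow_eq_pow_sum]
      refine Finset.prod_congr rfl fun i _ => ?_
      by_cases hi : m i = 0
      · rw [hi, pow_zero, pow_zero]
      · rw [hm i hi]
    refine hQv ?_
    rw [MvPolynomial.eval_eq']
    calc ∑ m ∈ Q.support, Q.coeff m * ∏ i, v i ^ m i
        = ∑ m ∈ Q.support, (if top m then co m else 0) := by
          refine Finset.sum_congr rfl fun m _ => ?_
          by_cases hm : top m
          · rw [if_pos hm]
            show _ = Q.coeff m * _
            congr 1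
            refine Finset.prod_congr rfl fun i _ => ?_
            by_cases hi : m i = 0
            · rw [hi, pow_zero, pow_zero]
            · simp only [v, if_pos (hm i hi)]
          · rw [if_neg hm]
            obtain ⟨i, hi, hφi⟩ := not_forall.mp hm |>.imp fun i h => Classical.not_imp.mp h
            rw [Finset.prod_eq_zero (Finset.mem_univ i) (by simp only [v, if_neg hφi]; exact zero_pow hi),
              MulZeroClass.mul_zero]
      _ = ∑ χ' ∈ Q.support.image ψ, ∑ m ∈ Q.support.filter (fun m => ψ m = χ'), (if top m then co m else 0) :=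
          (Finset.sum_fiberwise_of_maps_to (fun m hm => Finset.mem_image_of_mem ψ hm) _).symm
      _ = 0 := Finset.sum_eq_zero fun χ' hχ' => by
          obtain ⟨m, hm, rfl⟩ := Finset.mem_image.mp hχ'
          by_cases htm : top m
          · refine Eq.trans (Finset.sum_congr rfl fun m' hm' => ?_) (hfib _ hχ')
            by_cases h0 : co m' = 0
            · rw [h0, ite_self]
            · rw [if_pos (htop m m' (Finset.mem_filter.mp hm').2.symm h0 htm)]
          · by_cases hall : ∀ m' ∈ Q.support.filter (fun m' => ψ m' = ψ m), top m' → co m' = 0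
            · exact Finset.sum_eq_zero fun m' hm' => by
                split_ifs with h
                · exact hall m' hm' h
                · rfl
            · push Not at hall
              obtain ⟨m₁, hm₁, htm₁, hco₁⟩ := hall
              refine Eq.trans (Finset.sum_congr rfl fun m' hm' => ?_) (hfib _ hχ')
              by_cases h0 : co m' = 0
              · rw [h0, ite_self]
              · rw [if_pos (htop m₁ m' ((Finset.mem_filter.mp hm₁).2.trans (Finset.mem_filter.mp hm').2.symm) h0 htm₁)]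
  let F : Set (Fn G) := Set.range fun p : Fin N × Fin N => v p.2 • f p.1 - v p.1 • f p.2
  have hF : ∀ x : VecGrp.pt k k ⟶ G,
      (∀ h ∈ F, pullFn x h = 0) ↔ ∀ i j, pullFn x (f i) * v j = pullFn x (f j) * v i := fun x => by
    simp only [F, Set.forall_mem_range, Prod.forall, map_sub, map_smul, smul_eq_mul, sub_eq_zero]
    exact forall_congr' fun i => forall_congr' fun j => by rw [mul_comm (v j), mul_comm (v i)]
  obtain ⟨x₀, hx₀⟩ := hsol
  obtain ⟨n, hn, hfix⟩ := exists_fixed_solution iB hco iT (isSolvableGrp_of_torus hT) F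
    (fun x b h => (hF _).mpr fun i j => by
      rw [hχ, hχ, _root_.mul_assoc, (hF x).mp h i j, _root_.mul_assoc])
    (fun x t h => (hF _).mpr fun i j => by
      rw [hφ, hφ]
      by_cases hj : φ j = φ i₀ <;> by_cases hi : φ i = φ i₀
      · rw [hi, hj, _root_.mul_assoc, (hF x).mp h i j, _root_.mul_assoc]
      · have : v i = 0 := if_neg hi
        have h1 := (hF x).mp h i j
        rw [this, MulZeroClass.mul_zero] at h1
        rw [this, MulZeroClass.mul_zero, _root_.mul_assoc, h1, MulZeroClass.mul_zero]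
      · have : v j = 0 := if_neg hj
        have h1 := (hF x).mp h i j
        rw [this, MulZeroClass.mul_zero] at h1
        rw [this, MulZeroClass.mul_zero, _root_.mul_assoc, ← h1, MulZeroClass.mul_zero]
      · simp [v, hi, hj])
    ⟨x₀, (hF x₀).mpr hx₀⟩
  have hn' := (hF n).mp hn
  have hzero : ∀ i, φ i ≠ φ i₀ → pullFn n (f i) = 0 := fun i hi => by
    have h := hn' i i₁
    rw [show v i = 0 from if_neg hi, MulZeroClass.mul_zero] at h
    exact (mul_eq_zero.mp h).resolve_right hv1
  refine ⟨n, pullFn n (f i₁) / v i₁, ?_, fun i hi => ?_, hzero, hfix⟩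
  · refine div_ne_zero (fun h => ?_) hv1
    obtain ⟨i, hi⟩ := hnz n
    have h2 := hn' i i₁
    rw [h, MulZeroClass.zero_mul] at h2
    exact hi ((mul_eq_zero.mp h2).resolve_right hv1)
  · rw [div_mul_eq_mul_div, eq_div_iff hv1, hn' i i₁, show v i = pullFn g (f i) from if_pos hi]

/-- The orbit of a point degenerates to an extreme weight component. -/
theorem exists_degeneration (iB : B ⟶ G) (hco : Cocompact iB) (hT : Red.IsTorus T) (iT : T ⟶ G) [IsMonHom iT]
    {N : ℕ} (f : Fin N → Fn G) (χ : (VecGrp.pt k k ⟶ B) → k)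
    (hχ : ∀ g b i, pullFn (g * (b ≫ iB)) (f i) = χ b * pullFn g (f i))
    (hnz : ∀ g : VecGrp.pt k k ⟶ G, ∃ i, pullFn g (f i) ≠ 0)
    (φ : Fin N → ((VecGrp.pt k k ⟶ T) →* k))
    (hφ : ∀ t g i, pullFn ((t ≫ iT) * g) (f i) = φ i t * pullFn g (f i))
    (i₀ : Fin N)
    (hext : ∀ c : Fin N → ℕ, (∀ t, ∏ i, φ i t ^ c i = φ i₀ t ^ ∑ i, c i) → ∀ i, c i ≠ 0 → φ i = φ i₀)
    (g : VecGrp.pt k k ⟶ G) (hg : ∃ i, φ i = φ i₀ ∧ pullFn g (f i) ≠ 0) :
    ∃ (n : VecGrp.pt k k ⟶ G) (l : k), l ≠ 0 ∧ (∀ i, φ i = φ i₀ → pullFn n (f i) = l * pullFn g (f i)) ∧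
      (∀ i, φ i ≠ φ i₀ → pullFn n (f i) = 0) ∧
      ∀ t : VecGrp.pt k k ⟶ T, ∃ b : VecGrp.pt k k ⟶ B, (t ≫ iT) * n = n * (b ≫ iB) :=
  exists_degeneration_supp iB hco hT iT f χ hχ hnz φ hφ i₀ g (fun c _ => hext c) hg

end Groth.Agent.GModLib
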