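import Groth.Agent.GModLib.FixedSolution
import Mathlib.LinearAlgebra.FreeModule.Basic
import Mathlib.LinearAlgebra.LinearIndependent.Basic
import Mathlib.RingTheory.Polynomial.Basic
import Groth.Agent.GModLib.TorusGeneric

/-!
# Weights of a torus on semi-invariant functions and extreme weights of orbits
-/

set_option autoImplicit false
set_option backward.isDefEq.respectTransparency false
set_option backward.isDefEq.respectTransparency.types false

universe u

open CategoryTheory Limits AlgebraicGeometry MonoidalCategory CartesianMonoidalCategory MonObj GrpObj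

namespace Groth.Agent.GModLib

open GrpSchLib GrpSchLib.Kunneth GrpSchLib.AffineHopf

/-- A finite subset of a torsion-free commutative monoid with cancellation has an extreme element. -/
theorem exists_extreme {Φ : Type*} [CommMonoid Φ] [IsLeftCancelMul Φ]
    (htf : ∀ (a b : Φ) (n : ℕ), 0 < n → a ^ n = b ^ n → a = b) (s : Finset Φ) (hs : s.Nonempty) :
    ∃ b ∈ s, ∀ c : Φ → ℕ, ∏ a ∈ s, a ^ c a = b ^ ∑ a ∈ s, c a → ∀ a ∈ s, c a ≠ 0 → a = b := by
  classical
  induction s using Finset.induction_on with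
  | empty => exact absurd hs Finset.not_nonempty_empty
  | insert a₀ s ha₀ ih =>
    by_cases h0 : ∀ c : Φ → ℕ, ∏ a ∈ insert a₀ s, a ^ c a = a₀ ^ ∑ a ∈ insert a₀ s, c a →
        ∀ a ∈ insert a₀ s, c a ≠ 0 → a = a₀
    · exact ⟨a₀, Finset.mem_insert_self _ _, h0⟩
    push_neg at h0
    obtain ⟨e, he, a₁, ha₁, hne, ha₁₀⟩ := h0
    have ha₁s : a₁ ∈ s := (Finset.mem_insert.mp ha₁).resolve_left ha₁₀
    rw [Finset.prod_insert ha₀, Finset.sum_insert ha₀, pow_add] at he
    have he' : ∏ a ∈ s, a ^ e a = a₀ ^ ∑ a ∈ s, e a := mul_left_cancel he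
    have hE : 0 < ∑ a ∈ s, e a :=
      lt_of_lt_of_le (Nat.pos_of_ne_zero hne) (Finset.single_le_sum (fun a _ => Nat.zero_le _) ha₁s)
    obtain ⟨b, hb, hbext⟩ := ih ⟨a₁, ha₁s⟩
    refine ⟨b, Finset.mem_insert_of_mem hb, fun c hc => ?_⟩
    rw [Finset.prod_insert ha₀, Finset.sum_insert ha₀] at hc
    have h1 : ∏ a ∈ s, a ^ ((∑ a ∈ s, e a) * c a + c a₀ * e a) =
        b ^ ∑ a ∈ s, ((∑ a ∈ s, e a) * c a + c a₀ * e a) := by
      have h2 : (a₀ ^ c a₀ * ∏ a ∈ s, a ^ c a) ^ (∑ a ∈ s, e a) = (b ^ (c a₀ + ∑ a ∈ s, c a)) ^ (∑ a ∈ s, e a) :=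
        congrArg (· ^ _) hc
      rw [Finset.sum_add_distrib, ← Finset.mul_sum, ← Finset.mul_sum]
      rw [mul_pow, ← pow_mul, ← pow_mul, Nat.mul_comm (c a₀) (∑ a ∈ s, e a), pow_mul, ← he', ← Finset.prod_pow,
        ← Finset.prod_pow, ← Finset.prod_mul_distrib] at h2
      refine Eq.trans (Finset.prod_congr rfl fun a _ => ?_) (h2.trans (congrArg _ ?_))
      · rw [← pow_mul, ← pow_mul, ← pow_add, Nat.mul_comm (c a) (∑ a ∈ s, e a), Nat.mul_comm (e a) (c a₀), add_comm]
      · ring
    have h3 := hbext _ h1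
    have hc0 : c a₀ = 0 := by
      by_contra hc0
      refine ha₀ ((?_ : a₀ = b) ▸ hb)
      refine htf a₀ b _ hE (he'.symm.trans ?_)
      calc ∏ a ∈ s, a ^ e a = ∏ a ∈ s, b ^ e a := Finset.prod_congr rfl fun a ha => by
            by_cases h : e a = 0
            · rw [h, pow_zero, pow_zero]
            · rw [h3 a ha fun h' => (Nat.mul_ne_zero hc0 h) (Nat.eq_zero_of_add_eq_zero_left h')]
        _ = _ := Finset.prod_pow_eq_pow_sum s e b
    intro a ha hca
    rcases Finset.mem_insert.mp ha with rfl | ha'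
    · exact absurd hc0 hca
    · exact h3 a ha' fun h' => (Nat.mul_ne_zero hE.ne' hca) (Nat.eq_zero_of_add_eq_zero_right h')

variable {k : Type u} [Field k] [IsAlgClosed k] {G T : Over (Spec (CommRingCat.of k))} [GrpObj G] [GrpObj T]
  [IsAffine G.left] [Smooth G.hom]

/-- The rational points of a torus are divisible. -/
theorem exists_torus_root (hT : Red.IsTorus T) {n : ℕ} (hn : 0 < n) (t : VecGrp.pt k k ⟶ T) :
    ∃ s : VecGrp.pt k k ⟶ T, s ^ n = t := by
  obtain ⟨r, q, hq, hqi⟩ := exists_iso_tor hT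
  haveI := hq; haveI := hqi
  haveI : IsMonHom (inv q) := inferInstanceAs (IsMonHom (asIso q).inv)
  obtain ⟨s, hs⟩ := exists_tor_root hn (t ≫ q)
  exact ⟨s ≫ inv q, by rw [← MonObj.pow_comp, hs, Category.assoc, IsIso.hom_inv_id, Category.comp_id]⟩

/-- Among finitely many weights of a torus there is an extreme one. -/
theorem exists_extreme_weight (hT : Red.IsTorus T) {N : ℕ} (φ : Fin N → ((VecGrp.pt k k ⟶ T) →* k))
    (s : Finset (Fin N)) (hs : s.Nonempty) :
    ∃ i₀ ∈ s, ∀ c : Fin N → ℕ, (∀ i, c i ≠ 0 → i ∈ s) →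
      (∀ t, ∏ i, φ i t ^ c i = φ i₀ t ^ ∑ i, c i) → ∀ i, c i ≠ 0 → φ i = φ i₀ := by
  classical
  let ψ : Fin N → ((VecGrp.pt k k ⟶ T) →* kˣ) := fun i => (φ i).toHomUnits
  have hψ : ∀ i j, ψ i = ψ j ↔ φ i = φ j := fun i j => by
    refine ⟨fun h => MonoidHom.ext fun t => ?_, fun h => by simp [ψ, h]⟩
    exact congrArg Units.val (DFunLike.congr_fun h t)
  obtain ⟨b, hb, hext⟩ := exists_extreme (Φ := (VecGrp.pt k k ⟶ T) →* kˣ) (fun a b n hn h => MonoidHom.ext fun t => by
    obtain ⟨s, rfl⟩ := exists_torus_root hT hn t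
    rw [map_pow, map_pow]
    exact DFunLike.congr_fun h s) (s.image ψ) (hs.image ψ)
  obtain ⟨i₀, hi₀, rfl⟩ := Finset.mem_image.mp hb
  refine ⟨i₀, hi₀, fun c hcs hc i hi => (hψ i i₀).mp ?_⟩
  refine hext (fun a => ∑ j ∈ s.filter (fun j => ψ j = a), c j) ?_ (ψ i) (Finset.mem_image_of_mem _ (hcs i hi)) ?_
  · refine MonoidHom.ext fun t => Units.ext ?_
    have e1 : ∏ a ∈ s.image ψ, a ^ ∑ j ∈ s.filter (fun j => ψ j = a), c j = ∏ j ∈ s, ψ j ^ c j := by
      rw [← Finset.prod_fiberwise_of_maps_to (fun j hj => Finset.mem_image_of_mem ψ hj) fun j => ψ j ^ c j]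
      refine Finset.prod_congr rfl fun a _ => ?_
      refine (Finset.prod_pow_eq_pow_sum _ c a).symm.trans ?_
      exact Finset.prod_congr rfl fun j hj => by rw [(Finset.mem_filter.mp hj).2]
    have e2 : ∑ a ∈ s.image ψ, ∑ j ∈ s.filter (fun j => ψ j = a), c j = ∑ j, c j := by
      rw [Finset.sum_fiberwise_of_maps_to (fun j hj => Finset.mem_image_of_mem ψ hj)]
      exact Finset.sum_subset (Finset.subset_univ s) fun j _ hj => by_contra fun h => hj (hcs j h)
    rw [e1, e2, MonoidHom.finset_prod_apply, Units.coe_prod,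
      Finset.prod_subset (Finset.subset_univ s) fun j _ hj => by
        rw [show c j = 0 from by_contra fun h => hj (hcs j h)]; simp]
    simpa [ψ, MonoidHom.pow_apply] using hc t
  · intro h
    rw [Finset.sum_eq_zero_iff] at h
    exact hi (h i (Finset.mem_filter.mpr ⟨hcs i hi, rfl⟩))

/-- Weight components of a function under a torus acting by left translations. -/
theorem exists_weight_components (hT : Red.IsTorus T) (iT : T ⟶ G) [IsMonHom iT] (F : Fn G) :
    ∃ (m : ℕ) (φ : Fin m → ((VecGrp.pt k k ⟶ T) →* k)) (c : Fin m → Fn G), ∑ i, c i = F ∧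
      (∀ (i : Fin m) (t : VecGrp.pt k k ⟶ T) (g : VecGrp.pt k k ⟶ G),
        pullFn ((t ≫ iT) * g) (c i) = φ i t * pullFn g (c i)) ∧
      ∀ i, c i ∈ Submodule.span k (Set.range fun t : VecGrp.pt k k ⟶ T => ev ((toPt G ≫ t ≫ iT) * 𝟙 G) F) := by
  classical
  obtain ⟨h1, h2, h3, -, -⟩ := TorusBasic.torus_props hT
  haveI := h1; haveI := h2; haveI := h3
  haveI : IsReduced T.left := GrpSchLib.isReduced_of_smooth_field T.hom
  haveI : QuasiCompact G.hom := inferInstance
  haveI : QuasiCompact T.hom := inferInstance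
  haveI : IsSeparated G.hom := inferInstance
  haveI : IsSeparated T.hom := inferInstance
  let b := Module.Basis.ofSpan (span_chars hT).ge
  have hb : ∀ l, IsChar (b l) := fun l => by
    have : (b l) ∈ Set.range b := ⟨l, rfl⟩
    exact Module.Basis.ofSpan_subset (span_chars hT).ge this
  obtain ⟨s, a, ha⟩ := exists_expand (X := G) (Y := T) b (ev ((snd G T ≫ iT) * fst G T) F)
  have hval : ∀ (t : VecGrp.pt k k ⟶ T) (g : VecGrp.pt k k ⟶ G),
      pullFn ((t ≫ iT) * g) F = ∑ l ∈ s, pullFn g (a l) * pullFn t (b l) := fun t g => by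
    have h := congrArg (pullFn (lift g t)) ha
    rw [pullFn_ev, map_sum, MonObj.comp_mul, lift_fst, lift_snd_assoc] at h
    rw [h]
    exact Finset.sum_congr rfl fun l _ => by rw [map_mul, pullFn_ev, pullFn_ev, lift_fst, lift_snd]
  have hind : ∀ x y : _ → k, (∀ t : VecGrp.pt k k ⟶ T, ∑ l ∈ s, x l * pullFn t (b l) = ∑ l ∈ s, y l * pullFn t (b l)) →
      ∀ l ∈ s, x l = y l := fun x y h =>
    linearIndependent_iff'ₛ.mp b.linearIndependent s x y (eq_of_forall_point fun t => by
      simpa only [map_sum, map_smul, smul_eq_mul] using h t)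
  haveI : IsReduced G.left := GrpSchLib.isReduced_of_smooth_field G.hom
  have htr : ∀ t : VecGrp.pt k k ⟶ T, ev ((toPt G ≫ t ≫ iT) * 𝟙 G) F = ∑ l ∈ s, pullFn t (b l) • a l := fun t =>
    eq_of_forall_point fun g => by
      rw [pullFn_ev, MonObj.comp_mul, ← Category.assoc, comp_toPt, Category.id_comp, Category.comp_id, hval, map_sum]
      exact Finset.sum_congr rfl fun l _ => by rw [map_smul, smul_eq_mul, mul_comm]
  let φ : _ → ((VecGrp.pt k k ⟶ T) →* k) := fun l =>
    { toFun := fun t => pullFn t (b l), map_one' := (hb l).2, map_mul' := (hb l).1 }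
  let eI := s.equivFin
  refine ⟨s.card, fun i => φ (eI.symm i).1, fun i => a (eI.symm i).1, ?_, fun i t g => ?_, fun i => ?_⟩
  · rw [Equiv.sum_comp eI.symm (fun x => a x.1), Finset.sum_coe_sort s a]
    refine eq_of_forall_point fun g => ?_
    have h := hval 1 g
    rw [MonObj.one_comp, _root_.one_mul] at h
    rw [h, map_sum]
    exact Finset.sum_congr rfl fun l _ => by rw [(hb l).2, _root_.mul_one]
  · -- weights
    show _ = pullFn t (b (eI.symm i).1) * _
    refine hind (fun l => pullFn ((t ≫ iT) * g) (a l)) (fun l => pullFn t (b l) * pullFn g (a l)) (fun t₁ => ?_)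
      _ (eI.symm i).2
    rw [← hval]
    refine Eq.trans ?_ (Finset.sum_congr rfl fun l _ => show
      pullFn g (a l) * pullFn (t₁ * t) (b l) = _ by rw [(hb l).1]; ring)
    rw [← hval, ← _root_.mul_assoc, MonObj.mul_comp]
  · by_contra hni
    obtain ⟨L, hL, hker⟩ := Submodule.exists_dual_map_eq_bot_of_notMem hni inferInstance
    refine hL (hind (fun l => L (a l)) (fun _ => 0) (fun t => ?_) _ (eI.symm i).2)
    have hmem : L (ev ((toPt G ≫ t ≫ iT) * 𝟙 G) F) = 0 := by
      rw [← Submodule.mem_bot k, ← hker]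
      exact Submodule.mem_map_of_mem (Submodule.subset_span ⟨t, rfl⟩)
    rw [htr, map_sum] at hmem
    simp only [map_smul, smul_eq_mul] at hmem
    simp only [MulZeroClass.zero_mul, Finset.sum_const_zero]
    exact (Finset.sum_congr rfl fun l _ => mul_comm _ _).trans hmem

end Groth.Agent.GModLib
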