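import Groth.Agent.GModLib.CentreTori
import Groth.Agent.GModLib.MaxTorusExtension
import Groth.Agent.GModLib.NeutralTorus
import Groth.Agent.GModLib.CharTorus
import Groth.Agent.Chevalley.CommAff.TorusDeg

/-!
# The rank of a maximal torus bounds the torsion of the centre
-/

set_option autoImplicit false
set_option backward.isDefEq.respectTransparency false
set_option backward.isDefEq.respectTransparency.types false

universe u

open CategoryTheory Limits AlgebraicGeometry MonoidalCategory CartesianMonoidalCategory MonObj GrpObj WithConv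

namespace Groth.Agent.GModLib

open GrpSchLib GrpSchLib.Kunneth GrpSchLib.AffineHopf TorusBilin

section Tor

variable {k : Type u} [Field k] {m : ℕ}

/-- Convolution powers evaluated at group-like monomials. -/
theorem convPow_single {K : Type u} [CommRing K] [Algebra k K] (f : Coord k m →ₐ[k] K) (n : ℕ)
    (v : Multiplicative (Fin m → ℤ)) :
    (toConv f ^ n).ofConv (MonoidAlgebra.single v 1) = f (MonoidAlgebra.single v 1) ^ n := by
  induction n with
  | zero => simp [AlgHom.convOne_apply]
  | succ n ih =>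
    rw [_root_.pow_succ, _root_.pow_succ]
    show ((toConv f ^ n) * toConv f) (MonoidAlgebra.single v 1) = _
    rw [AlgHom.convMul_apply, MonoidAlgebra.comul_single]
    simp [ih]

/-- A split torus of rank `m` has at most `n ^ m` points killed by `n` in any field. -/
theorem card_torsion_le {K : Type u} [Field K] [Algebra k K] {Idx : Type} [Fintype Idx]
    (p : Idx → (sp k K ⟶ Tor k m)) (hp : Function.Injective p) {n : ℕ} [NeZero n] (hn : ∀ i, p i ^ n = 1) :
    Fintype.card Idx ≤ n ^ m := by
  choose f hf using fun i => exists_eq_spMap (p i)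
  have hpow : ∀ i (v : Multiplicative (Fin m → ℤ)), f i (MonoidAlgebra.single v 1) ^ n = 1 := fun i v => by
    have h1 : (Spec.mapMulEquiv (toConv (f i)) : sp k K ⟶ Tor k m) ^ n = 1 := by
      rw [← spMap_eq_mapMulEquiv, ← hf i]; exact hn i
    rw [← map_pow, ← map_one Spec.mapMulEquiv] at h1
    rw [← convPow_single, Spec.mapMulEquiv.injective h1]
    simp [AlgHom.convOne_apply]
  let e : Fin m → Multiplicative (Fin m → ℤ) := fun j => Multiplicative.ofAdd (Pi.single j (1 : ℤ))
  let F : Idx → Fin m → rootsOfUnity n K := fun i j => rootsOfUnity.mkOfPowEq _ (hpow i (e j))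
  have hF : Function.Injective F := fun a b hab => hp (by
    rw [hf a, hf b]
    congr 1
    refine MonoidAlgebra.algHom_ext (fun v => ?_) (by ext)
    let Ha : Multiplicative (Fin m → ℤ) →* Kˣ := ((MonoidAlgebra.lift k K _).symm (f a)).toHomUnits
    let Hb : Multiplicative (Fin m → ℤ) →* Kˣ := ((MonoidAlgebra.lift k K _).symm (f b)).toHomUnits
    have hgen : ∀ j, Ha (e j) = Hb (e j) := fun j => Units.ext
      (congrArg (fun z : rootsOfUnity n K => ((z : Kˣ) : K)) (congrFun hab j))
    have hv : v = ∏ j, (e j) ^ v.toAdd j := by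
      apply Multiplicative.toAdd.injective
      rw [toAdd_prod]
      ext i
      simp [e, Finset.sum_apply, Pi.single_apply]
    have hab' : Ha v = Hb v := by
      rw [hv, map_prod, map_prod]
      simp only [map_zpow, hgen]
    exact congrArg (fun z : Kˣ => (z : K)) hab')
  rw [← Nat.card_eq_fintype_card]
  refine (Nat.card_le_card_of_injective F hF).trans ?_
  rw [Nat.card_pi, Finset.prod_const, Finset.card_univ, Fintype.card_fin]
  exact Nat.pow_le_pow_left (card_rootsOfUnity K n) m

/-- A split torus of rank `m` has `n ^ m` points killed by `n` invertible. -/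
theorem exists_torsion [IsAlgClosed k] {n : ℕ} (hn : (n : k) ≠ 0) :
    ∃ p : (Fin m → Fin n) → (sp k k ⟶ Tor k m), Function.Injective p ∧ ∀ e, p e ^ n = 1 := by
  haveI : NeZero n := ⟨fun h => hn (by simp [h])⟩
  haveI : NeZero (n : k) := ⟨hn⟩
  obtain ⟨ζ, hζ⟩ := HasEnoughRootsOfUnity.exists_primitiveRoot k n
  have hu : IsPrimitiveRoot (hζ.isUnit (NeZero.ne n)).unit n := hζ.isUnit_unit (NeZero.ne n)
  let z := (hζ.isUnit (NeZero.ne n)).unit
  refine ⟨fun e => pts k m fun j => z ^ (e j : ℕ), fun a b hab => ?_, fun e => ?_⟩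
  · have h := spMap_injective (f := charAlg fun j => z ^ (a j : ℕ)) (g := charAlg fun j => z ^ (b j : ℕ)) hab
    refine funext fun j => Fin.ext (hu.pow_inj (a j).isLt (b j).isLt (Units.ext ?_))
    have e' := AlgHom.congr_fun h (MonoidAlgebra.single (Multiplicative.ofAdd (Pi.single j (1 : ℤ))) 1)
    rw [charAlg_single, charAlg_single] at e'
    rw [Finset.prod_eq_single j (fun i _ hi => by simp [Pi.single_eq_of_ne hi]) (by simp),
      Finset.prod_eq_single j (fun i _ hi => by simp [Pi.single_eq_of_ne hi]) (by simp)] at e'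
    simp only [toAdd_ofAdd, Pi.single_eq_same, zpow_one] at e'
    exact e'
  · rw [← map_pow, show (fun j => z ^ (e j : ℕ)) ^ n = 1 from funext fun j => by
      rw [Pi.pow_apply, ← pow_mul, mul_comm, pow_mul, hu.pow_eq_one, _root_.one_pow, Pi.one_apply], map_one]

/-- The dimension of a split torus. -/
theorem topologicalKrullDim_tor {T : Over (Spec (CommRingCat.of k))} (q : T ⟶ Tor k m) [IsIso q] :
    topologicalKrullDim ↥T.left = (m : WithBot ℕ∞) := by
  haveI : IsIso q.left := inferInstanceAs (IsIso ((Over.forget _).map q))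
  rw [q.left.homeomorph.isHomeomorph.topologicalKrullDim_eq]
  exact (PrimeSpectrum.topologicalKrullDim_eq_ringKrullDim (Coord k m)).trans
    (Chevalley.CommAff.ringKrullDim_laurent k m)

end Tor

variable {k : Type u} [Field k] [IsAlgClosed k]

set_option maxHeartbeats 1000000 in
/-- Central torsion points of order prime to the characteristic lie in each maximal torus. -/
theorem central_point_mem {G T : Over (Spec (CommRingCat.of k))} [GrpObj G] [GrpObj T] [IsAffine G.left]
    [Smooth G.hom] [ConnectedSpace G.left] (iT : T ⟶ G) (hT : AGF.IsMaxTorus iT) (z : VecGrp.pt k k ⟶ G)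
    {n : ℕ} (hn : (n : k) ≠ 0) (hz : z ^ n = 1)
    (hc : ∀ (X : Over (Spec (CommRingCat.of k))) (g : X ⟶ G), (toPt X ≫ z) * g = g * (toPt X ≫ z)) :
    ∃ t : VecGrp.pt k k ⟶ T, t ≫ iT = z := by
  obtain ⟨hTm, hTmo, hTt, -⟩ := id hT
  haveI := hTm; haveI := hTmo
  obtain ⟨C, _, hCa, hCs, hCn, iC, hiC, d, M, hM, iS, hcl, -, hiS, hfull, hcomm, -, -, huniv⟩ := exists_cartan iT hT
  haveI := hCa; haveI := hCs; haveI := hCn; haveI := hiC; haveI := hcl
  haveI : Mono iC := Over.mono_of_mono_left iC
  obtain ⟨C', _, c', hm', hcc', hu'⟩ := TransLib.exists_centralizer iT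
  haveI := hm'; haveI := hcc'
  haveI : Mono c' := Over.mono_of_mono_left c'
  obtain ⟨hs', -, hn'⟩ := centralizer_smooth_connected iT hTt c' ⟨inferInstance, inferInstance, hu'⟩
  haveI := hs'; haveI := hn'
  obtain ⟨v, hv⟩ := huniv C' c' fun p s => by
    have e := (hu' _ (p ≫ c')).mp ⟨p, rfl⟩ _ (𝟙 _) s
    rw [Category.id_comp] at e
    exact e.symm
  obtain ⟨z', hz'⟩ := (hu' _ z).mpr fun X' x h => by
    rw [show x = toPt X' from Over.OverMorphism.ext ((Category.comp_id _).symm.trans (by
      have := Over.w x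
      rw [show (VecGrp.pt k k).hom = 𝟙 _ from Spec.map_id _] at this
      exact this))]
    exact hc X' (h ≫ iT)
  have hzC : (z' ≫ v) ≫ iC = z := by rw [Category.assoc, hv, hz']
  have hzn : (z' ≫ v) ^ n = 1 := by
    rw [← cancel_mono iC, MonObj.pow_comp, hzC, hz, MonObj.one_comp]
  have hcS : ∀ (p : VecGrp.pt k k ⟶ C) (s : VecGrp.pt k k ⟶ T), Commute (s ≫ iS) p := fun p s => by
    show _ * _ = _ * _
    rw [← cancel_mono iC, MonObj.mul_comp, MonObj.mul_comp, Category.assoc, hiS]
    exact (hcomm p s).eq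
  obtain ⟨t, ht⟩ := mem_range_of_pow_eq_one hM iS hfull hcS hn hzn
  exact ⟨t, by rw [← hiS, ← Category.assoc, ht, hzC]⟩

set_option maxHeartbeats 1000000 in
/-- The reductive rank bounds the number of central torsion points of connected smooth subgroups of the fibres
over extensions. -/
theorem exists_rank_bound (G : Over (Spec (CommRingCat.of k))) [GrpObj G] [Smooth G.hom] [QuasiCompact G.hom] :
    ∃ (T : Over (Spec (CommRingCat.of k))) (_ : GrpObj T) (i : T ⟶ G) (m : ℕ), Red.IsMaximalTorus i ∧
      topologicalKrullDim ↥T.left = (m : WithBot ℕ∞) ∧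
      ∀ (K : Type u) [Field K] [IsAlgClosed K] (σ : Spec (CommRingCat.of K) ⟶ Spec (CommRingCat.of k))
        (H : Over (Spec (CommRingCat.of K))) [GrpObj H] [IsAffine H.left] [Smooth H.hom] [ConnectedSpace H.left]
        (j : H ⟶ Red.bc σ G) [IsMonHom j] [Mono j] (Idx : Type) [Fintype Idx] (z : Idx → (VecGrp.pt K K ⟶ H)) (n : ℕ),
        (n : K) ≠ 0 → Function.Injective z → (∀ a, z a ^ n = 1) →
        (∀ a (X : Over (Spec (CommRingCat.of K))) (g : X ⟶ H), (toPt X ≫ z a) * g = g * (toPt X ≫ z a)) →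
        Fintype.card Idx ≤ n ^ m := by
  haveI : LocallyOfFinitePresentation G.hom := inferInstance
  obtain ⟨G0, _, io, hio, hG0s, hG0q, hG0sep, hG0c⟩ := exists_neutral G
  haveI := hG0s; haveI := hG0q; haveI := hio.isMonHom; haveI := hio.openImm
  haveI : Mono io := Over.mono_of_mono_left io
  haveI : ConnectedSpace G0.left := connectedSpace_iff_univ.mpr (by
    have h := hG0c (IsLocalRing.closedPoint k)
    rwa [show G0.hom.base ⁻¹' {IsLocalRing.closedPoint k} = Set.univ from
      Set.eq_univ_of_forall fun z => @Subsingleton.elim (PrimeSpectrum k) _ _ _] at h)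
  obtain ⟨T, _, i₀, hT, -⟩ := exists_maxTorus_all G0
  haveI := hT.1; haveI := hT.2.1
  obtain ⟨m, q, hqm, hqi⟩ := exists_iso_tor hT.2.2.1
  haveI := hqm; haveI := hqi
  refine ⟨T, inferInstance, i₀ ≫ io, m, hio.isMaximalTorus_up i₀ (isMaximalTorus_of_isMaxTorus hT),
    topologicalKrullDim_tor q, fun K _ _ σ H _ _ _ _ j _ _ Idx _ z n hn hzi hzn hzc => ?_⟩
  haveI : NeZero n := ⟨fun h => hn (by simp [h])⟩
  obtain ⟨TH, _, iH, hTH⟩ := exists_maxTorus H
  haveI := hTH.1; haveI := hTH.2.1
  choose tz htz using fun a => central_point_mem iH hTH (z a) hn (hzn a) (hzc a)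
  have htn : ∀ a, tz a ^ n = 1 := fun a => by
    rw [← cancel_mono iH, MonObj.pow_comp, htz, hzn, MonObj.one_comp]
  have hti : Function.Injective tz := fun a b h => hzi (by rw [← htz a, ← htz b, h])
  -- into the neutral component of the extended group
  haveI : LocallyOfFinitePresentation (Red.bc σ G).hom :=
    inferInstanceAs (LocallyOfFinitePresentation (pullback.snd G.hom σ))
  haveI := MultConjLib.smooth_of_isTorus hTH.2.2.1
  have hioσ := hio.bc σ
  haveI := hioσ.isMonHom; haveI := hioσ.openImm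
  obtain ⟨w, hw, hwio⟩ := hioσ.exists_factor (MultConjLib.neutralSet_eq_univ_of_isTorus hTH.2.2.1) (iH ≫ j)
  haveI := hw
  haveI : Mono (w ≫ (Over.pullback σ).map io) := hwio.symm ▸ mono_comp iH j
  haveI : Mono w := mono_of_mono w ((Over.pullback σ).map io)
  haveI : Smooth (Red.bc σ G0).hom := inferInstanceAs (Smooth (pullback.snd G0.hom σ))
  haveI : QuasiCompact (Red.bc σ G0).hom := inferInstanceAs (QuasiCompact (pullback.snd G0.hom σ))
  haveI : ConnectedSpace (Red.bc σ G0).left := connectedSpace_point hG0c σ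
  obtain ⟨M, _, iM, hM, hall⟩ := exists_maxTorus_all (Red.bc σ G0)
  obtain ⟨x, e, he⟩ := hall TH w hTH.2.2.1
  have hTb := isMaxTorus_bc i₀ hT σ
  haveI := hTb.1; haveI := hTb.2.1; haveI := hM.1; haveI := hM.2.1
  obtain ⟨y, f, hf⟩ := hall _ ((Over.pullback σ).map i₀) hTb.2.2.1
  haveI : Mono (f ≫ iM) := hf.symm ▸ mono_comp _ _
  haveI : IsMonHom (f ≫ iM) := hf.symm ▸ inferInstance
  haveI : IsMonHom f := isMonHom_of_comp f iM
  haveI : IsIso f := hTb.2.2.2 M (iM ≫ inner y⁻¹) f hM.2.2.1 (by
    rw [← Category.assoc, hf, Category.assoc, inner_inner, inv_mul_cancel, inner_one, Category.comp_id])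
  haveI : IsMonHom (e ≫ iM) := he.symm ▸ inferInstance
  haveI : IsMonHom e := isMonHom_of_comp e iM
  haveI : Mono (e ≫ iM) := he.symm ▸ mono_comp _ _
  haveI : Mono e := mono_of_mono e iM
  haveI : IsMonHom (inv f) := inferInstanceAs (IsMonHom (asIso f).inv)
  let u : Idx → (VecGrp.pt K K ⟶ Red.bc σ T) := fun a => tz a ≫ e ≫ inv f
  have hui : Function.Injective u := fun a b h => hti ((cancel_mono (e ≫ inv f)).mp h)
  have hun : ∀ a, u a ^ n = 1 := fun a => by
    rw [← MonObj.pow_comp, htn, MonObj.one_comp]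
  -- as points of the split torus over the smaller field
  letI : Algebra k K := (Spec.preimage σ).hom.toAlgebra
  have hsp : Spec.map (CommRingCat.ofHom (algebraMap k K)) = σ := Spec.map_preimage σ
  let idK : sp k K ⟶ (Over.map σ).obj (VecGrp.pt K K) := Over.homMk (𝟙 _) (by
    show 𝟙 _ ≫ Spec.map (CommRingCat.ofHom (algebraMap K K)) ≫ σ = Spec.map (CommRingCat.ofHom (algebraMap k K))
    rw [show CommRingCat.ofHom (algebraMap K K) = 𝟙 _ from rfl, Spec.map_id, Category.id_comp, Category.id_comp, hsp])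
  haveI : IsIso idK.left := inferInstanceAs (IsIso (𝟙 _))
  haveI : IsIso ((Over.forget _).map idK) := inferInstanceAs (IsIso idK.left)
  haveI : IsIso idK := isIso_of_reflects_iso idK (Over.forget _)
  let θ : (VecGrp.pt K K ⟶ Red.bc σ T) →* ((Over.map σ).obj (VecGrp.pt K K) ⟶ T) :=
    MonoidHom.mk' (DSPtsLib.theta σ) (DSPtsLib.theta_mul σ)
  refine card_torsion_le (fun a => idK ≫ θ (u a) ≫ q) (fun a b h => hui ?_) fun a => ?_
  · exact (DSPtsLib.theta_bijective σ).1 ((cancel_mono q).mp ((cancel_epi idK).mp h))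
  · rw [← MonObj.comp_pow, ← MonObj.pow_comp, ← map_pow, hun, map_one, MonObj.one_comp, MonObj.comp_one]

end Groth.Agent.GModLib
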