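import Groth.Agent.GModLib.TorsionFamily

/-!
# Central sections lifting the torsion points of a torus of a fibre
-/

set_option autoImplicit false
set_option backward.isDefEq.respectTransparency false
set_option backward.isDefEq.respectTransparency.types false

universe u

open CategoryTheory Limits AlgebraicGeometry MonoidalCategory CartesianMonoidalCategory MonObj GrpObj

namespace Groth.Agent.GModLib

section Step

variable {S : Scheme.{u}} {k : Type u} [Field k] {Z : Over S} [GrpObj Z] [Smooth Z.hom] [IsSeparated Z.hom]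
  [QuasiCompact Z.hom] {a : Spec (CommRingCat.of k) ⟶ S}

set_option maxHeartbeats 1000000 in
/-- The family of centralizers, with its universal central torsion point. -/
theorem exists_step_point (t : 𝟙_ (Over (Spec (CommRingCat.of k))) ⟶ Red.bc a Z) {n : ℕ} [NeZero n] (hn : (n : k) ≠ 0)
    (ht : t ^ n = 1) :
    ∃ (P : Scheme.{u}) (τ : P ⟶ S) (σ : Spec (CommRingCat.of k) ⟶ P) (hσ : σ ≫ τ = a) (C : Over P) (_ : GrpObj C)
      (d : C ⟶ Red.bc τ Z) (g : 𝟙_ (Over P) ⟶ C), Smooth τ ∧ Smooth C.hom ∧ IsSeparated C.hom ∧ QuasiCompact C.hom ∧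
        IsMonHom d ∧ IsClosedImmersion d.left ∧ g ^ n = 1 ∧
        (∀ (X : Over P) (x : X ⟶ C), x * (toUnit X ≫ g) = (toUnit X ≫ g) * x) ∧
        t.left ≫ pullback.fst Z.hom a = σ ≫ g.left ≫ d.left ≫ pullback.fst Z.hom τ ∧
        (∀ (X : Over P) (x : X ⟶ Red.bc τ Z),
          (∃ x' : X ⟶ C, x' ≫ d = x) ↔ x * (toUnit X ≫ g ≫ d) = (toUnit X ≫ g ≫ d) * x) ∧
        ∀ (X : Over (Spec (CommRingCat.of k))) (x : X ⟶ Red.bc a Z),
          (∃ x' : X ⟶ Red.bc σ C, x' ≫ fibreHom hσ d = x) ↔ x * (toUnit X ≫ t) = (toUnit X ≫ t) * x := by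
  obtain ⟨V, haV, hu⟩ := exists_open_isUnit a n hn
  let aV : Spec (CommRingCat.of k) ⟶ (V : Scheme.{u}) :=
    IsOpenImmersion.lift V.ι a (by rw [Scheme.Opens.range_ι]; exact haV)
  have haV' : aV ≫ V.ι = a := IsOpenImmersion.lift_fac _ _ _
  let ZV : Over (V : Scheme.{u}) := Red.bc V.ι Z
  haveI : Smooth ZV.hom := inferInstanceAs (Smooth (pullback.snd Z.hom V.ι))
  haveI : IsSeparated ZV.hom := inferInstanceAs (IsSeparated (pullback.snd Z.hom V.ι))
  haveI : QuasiCompact ZV.hom := inferInstanceAs (QuasiCompact (pullback.snd Z.hom V.ι))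
  obtain ⟨P, p, hpc, hPs, hpn, hlift⟩ := exists_torsion_scheme (Z := ZV) hu
  haveI := hPs
  -- the torsion point as a point of the family
  let e := fibreIso (a := aV) haV' Z
  haveI : IsMonHom e.inv := inferInstanceAs (IsMonHom (fibreIso (a := aV) haV' Z).inv)
  let x₀ := DSPtsLib.theta aV (t ≫ e.inv)
  have hx₀ : x₀ ^ n = 1 := by
    show (thetaHom aV _ (t ≫ e.inv)) ^ n = 1
    rw [← _root_.map_pow, ← MonObj.pow_comp, ht, MonObj.one_comp, _root_.map_one]
  obtain ⟨x', hx'⟩ := hlift _ x₀ hx₀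
  let σ : Spec (CommRingCat.of k) ⟶ P.left := x'.left
  have hσP : σ ≫ P.hom = aV := (Over.w x').trans (Category.id_comp _)
  let τ : P.left ⟶ S := P.hom ≫ V.ι
  have hσ : σ ≫ τ = a := by
    show σ ≫ P.hom ≫ V.ι = a
    rw [reassoc_of% hσP, haV']
  -- the universal point
  let pA : (Over.map P.hom).obj (𝟙_ (Over P.left)) ⟶ P := Over.homMk (𝟙 P.left) (by
    show 𝟙 P.left ≫ P.hom = 𝟙 P.left ≫ P.hom
    rfl)
  obtain ⟨gu, hgu⟩ := (DSPtsLib.theta_bijective (H := ZV) P.hom).2 (pA ≫ p)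
  have hgn : gu ^ n = 1 := by
    refine (DSPtsLib.theta_bijective (H := ZV) P.hom).1 ?_
    show thetaHom P.hom _ (gu ^ n) = thetaHom P.hom _ 1
    rw [_root_.map_pow, _root_.map_one]
    show (DSPtsLib.theta P.hom gu) ^ n = 1
    rw [hgu, ← MonObj.comp_pow, hpn, MonObj.comp_one]
  let ZP : Over P.left := Red.bc P.hom ZV
  haveI : Smooth ZP.hom := inferInstanceAs (Smooth (pullback.snd ZV.hom P.hom))
  haveI : IsSeparated ZP.hom := inferInstanceAs (IsSeparated (pullback.snd ZV.hom P.hom))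
  haveI : QuasiCompact ZP.hom := inferInstanceAs (QuasiCompact (pullback.snd ZV.hom P.hom))
  have huP : IsUnit (n : Γ(P.left, ⊤)) := by
    have h := hu.map P.hom.appTop.hom
    rwa [_root_.map_natCast] at h
  obtain ⟨C, _, c, hcm, hcc, hCs, hC⟩ := exists_centralizer_point huP gu hgn
  haveI := hcm; haveI := hcc
  let κ : ZP ≅ Red.bc τ Z := fibreIso (a := P.hom) (rfl : P.hom ≫ V.ι = τ) Z
  haveI : IsMonHom κ.hom := inferInstanceAs (IsMonHom (fibreIso (a := P.hom) (rfl : P.hom ≫ V.ι = τ) Z).hom)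
  haveI : IsIso κ.hom.left := inferInstanceAs (IsIso ((Over.forget _).map κ.hom))
  have hdc : IsClosedImmersion (c ≫ κ.hom).left := by rw [Over.comp_left]; infer_instance
  haveI : Mono c := Over.mono_of_mono_left c
  obtain ⟨gC, hgC⟩ := (hC _ gu).mpr (by rw [toUnit_unique (toUnit _) (𝟙 _), Category.id_comp])
  refine ⟨P.left, τ, σ, hσ, C, inferInstance, c ≫ κ.hom, gC, inferInstance, hCs,
    by rw [← Over.w c]; infer_instance, by rw [← Over.w c]; infer_instance, inferInstance, hdc, ?_, ?_, ?_, ?_,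
    fun X x => ?_⟩
  · rw [← cancel_mono c, MonObj.pow_comp, hgC, hgn, MonObj.one_comp]
  · intro X x
    rw [← cancel_mono c, MonObj.mul_comp, MonObj.mul_comp, Category.assoc, hgC]
    exact (hC X (x ≫ c)).mp ⟨x, rfl⟩
  · have e1 : gC.left ≫ (c ≫ κ.hom).left = gu.left ≫ κ.hom.left := by
      rw [← Over.comp_left, ← Category.assoc, hgC, Over.comp_left]
    have e2 : gu.left ≫ pullback.fst ZV.hom P.hom = p.left :=
      (congrArg CommaMorphism.left hgu).trans (Category.id_comp p.left)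
    have e3 : κ.hom.left ≫ pullback.fst Z.hom τ = pullback.fst ZV.hom P.hom ≫ pullback.fst Z.hom V.ι := by
      show (fibreIso (a := P.hom) (rfl : P.hom ≫ V.ι = τ) Z).hom.left ≫ _ = _
      rw [← fibreHom_id, fibreHom_left_fst, Over.id_left, Category.id_comp]
    have e4 : σ ≫ p.left = t.left ≫ e.inv.left ≫ pullback.fst ZV.hom aV := by
      refine (congrArg CommaMorphism.left hx').trans ?_
      show (t ≫ e.inv).left ≫ pullback.fst ZV.hom aV = _
      rw [Over.comp_left, Category.assoc]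
    have e5 : e.hom.left ≫ pullback.fst Z.hom a = pullback.fst ZV.hom aV ≫ pullback.fst Z.hom V.ι := by
      show (fibreIso (a := aV) haV' Z).hom.left ≫ _ = _
      rw [← fibreHom_id, fibreHom_left_fst, Over.id_left, Category.id_comp]
    rw [reassoc_of% e1, e3, reassoc_of% e2, reassoc_of% e4, ← e5, ← Category.assoc e.inv.left, ← Over.comp_left,
      e.inv_hom_id, Over.id_left, Category.id_comp]
  · intro X x
    obtain ⟨x₁, rfl⟩ : ∃ x₁, x₁ ≫ κ.hom = x := ⟨x ≫ κ.inv, by rw [Category.assoc, κ.inv_hom_id, Category.comp_id]⟩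
    simp only [← Category.assoc, cancel_mono κ.hom, ← MonObj.mul_comp]
    rw [hC X x₁, Category.assoc (toUnit X) gC c, hgC]
  -- the fibre of the centralizer
  let E : Red.bc σ ZP ≅ Red.bc a Z :=
    { hom := fibreHom hσ κ.hom
      inv := (fibreIso hσ Z).inv ≫ (Over.pullback σ).map κ.inv
      hom_inv_id := by
        rw [fibreHom_eq', Category.assoc, Iso.hom_inv_id_assoc, ← CategoryTheory.Functor.map_comp, κ.hom_inv_id,
          CategoryTheory.Functor.map_id]
      inv_hom_id := by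
        rw [fibreHom_eq', Category.assoc, ← Functor.map_comp_assoc, κ.inv_hom_id, CategoryTheory.Functor.map_id,
          Category.id_comp, Iso.inv_hom_id] }
  haveI : IsMonHom E.hom := isMonHom_fibreHom hσ κ.hom
  haveI : IsIso E.hom := E.isIso_hom
  obtain ⟨g₁, hg₁⟩ := (DSPtsLib.theta_bijective (H := ZP) σ).2
    (toUnit ((Over.map σ).obj (𝟙_ (Over (Spec (CommRingCat.of k))))) ≫ gu)
  have hg₁t : g₁ ≫ E.hom = t := by
    refine bc_hom_ext ?_
    rw [Over.comp_left, Category.assoc]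
    show g₁.left ≫ (fibreHom hσ κ.hom).left ≫ _ = _
    rw [fibreHom_left_fst]
    have e1 : g₁.left ≫ pullback.fst ZP.hom σ = σ ≫ gu.left := by
      refine (congrArg CommaMorphism.left hg₁).trans ?_
      show (𝟙 _ ≫ σ) ≫ gu.left = _
      rw [Category.id_comp]
    have e2 : gu.left ≫ pullback.fst ZV.hom P.hom = p.left :=
      (congrArg CommaMorphism.left hgu).trans (Category.id_comp p.left)
    have e3 : κ.hom.left ≫ pullback.fst Z.hom τ = pullback.fst ZV.hom P.hom ≫ pullback.fst Z.hom V.ι := by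
      show (fibreIso (a := P.hom) (rfl : P.hom ≫ V.ι = τ) Z).hom.left ≫ _ = _
      rw [← fibreHom_id, fibreHom_left_fst, Over.id_left, Category.id_comp]
    have e4 : σ ≫ p.left = t.left ≫ e.inv.left ≫ pullback.fst ZV.hom aV := by
      refine (congrArg CommaMorphism.left hx').trans ?_
      show (t ≫ e.inv).left ≫ pullback.fst ZV.hom aV = _
      rw [Over.comp_left, Category.assoc]
    have e5 : e.hom.left ≫ pullback.fst Z.hom a = pullback.fst ZV.hom aV ≫ pullback.fst Z.hom V.ι := by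
      show (fibreIso (a := aV) haV' Z).hom.left ≫ _ = _
      rw [← fibreHom_id, fibreHom_left_fst, Over.id_left, Category.id_comp]
    rw [reassoc_of% e1, e3, reassoc_of% e2, reassoc_of% e4, ← e5, ← Category.assoc e.inv.left, ← Over.comp_left,
      e.inv_hom_id, Over.id_left, Category.id_comp]
  have hEj : fibreHom hσ (c ≫ κ.hom) = (Over.pullback σ).map c ≫ E.hom := by
    show _ = _ ≫ fibreHom hσ κ.hom
    rw [fibreHom_eq', fibreHom_eq', Functor.map_comp, Category.assoc]
  obtain ⟨x₁, rfl⟩ : ∃ x₁, x₁ ≫ E.hom = x := ⟨x ≫ E.inv, by rw [Category.assoc, E.inv_hom_id, Category.comp_id]⟩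
  simp only [hEj, ← Category.assoc, cancel_mono E.hom]
  rw [BC.exists_factor_iff, hC, ← hg₁t, ← Category.assoc, ← MonObj.mul_comp, ← MonObj.mul_comp, cancel_mono E.hom,
    ← (DSPtsLib.theta_bijective (H := ZP) σ).1.eq_iff (a := x₁ * (toUnit X ≫ g₁)), DSPtsLib.theta_mul,
    DSPtsLib.theta_mul, DSPtsLib.theta_comp, hg₁, ← Category.assoc, toUnit_unique ((Over.map σ).map (toUnit X) ≫ toUnit _) (toUnit _)]

end Step

variable {S : Scheme.{u}} {k : Type u} [Field k] [IsAlgClosed k]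

set_option maxHeartbeats 1000000 in
/-- Finitely many torsion points of a torus of a fibre lift to central torsion sections of a smooth subgroup over
a smooth base change, whose fibre still contains the torus. -/
theorem exists_central_lifts (G : Over S) [GrpObj G] [Smooth G.hom] [IsSeparated G.hom] [QuasiCompact G.hom]
    (a : Spec (CommRingCat.of k) ⟶ S) {T : Over (Spec (CommRingCat.of k))} [GrpObj T] (i : T ⟶ Red.bc a G)
    [IsMonHom i] [Mono i] (hT : Red.IsTorus T) {n : ℕ} [NeZero n] (hn : (n : k) ≠ 0)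
    (F : List (VecGrp.pt k k ⟶ T)) (hF : ∀ t ∈ F, t ^ n = 1) :
    ∃ (Y : Scheme.{u}) (π : Y ⟶ S) (σ : Spec (CommRingCat.of k) ⟶ Y) (hσ : σ ≫ π = a) (C : Over Y) (_ : GrpObj C)
      (c : C ⟶ Red.bc π G) (i' : T ⟶ Red.bc σ C), Smooth π ∧ Smooth C.hom ∧ IsSeparated C.hom ∧ QuasiCompact C.hom ∧
        IsMonHom c ∧ IsClosedImmersion c.left ∧ IsMonHom i' ∧ i' ≫ fibreHom hσ c = i ∧
        ∀ t ∈ F, ∃ g : 𝟙_ (Over Y) ⟶ C, g ^ n = 1 ∧
          (∀ (X : Over Y) (x : X ⟶ C), x * (toUnit X ≫ g) = (toUnit X ≫ g) * x) ∧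
          (t ≫ i').left ≫ pullback.fst C.hom σ = σ ≫ g.left := by
  induction F with
  | nil =>
    have hσ : a ≫ 𝟙 S = a := Category.comp_id a
    let C := Red.bc (𝟙 S) G
    let e := fibreIso (a := a) hσ G
    haveI : IsMonHom e.inv := inferInstanceAs (IsMonHom (fibreIso (a := a) hσ G).inv)
    refine ⟨S, 𝟙 S, a, hσ, C, inferInstance, 𝟙 C, i ≫ e.inv, inferInstance,
      inferInstanceAs (Smooth (pullback.snd G.hom (𝟙 S))), inferInstanceAs (IsSeparated (pullback.snd G.hom (𝟙 S))),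
      inferInstanceAs (QuasiCompact (pullback.snd G.hom (𝟙 S))), inferInstance,
      inferInstanceAs (IsClosedImmersion (𝟙 C.left)), inferInstance, ?_, fun t ht => by simp at ht⟩
    show _ ≫ fibreHom hσ (𝟙 (Red.bc (𝟙 S) G)) = _
    rw [fibreHom_id, Category.assoc, e.inv_hom_id, Category.comp_id]
  | cons t F ih =>
    obtain ⟨Y, π, σ, hσ, C, _, c, i', hπ, hCs, hCsep, hCqc, hcm, hcc, hi'm, hi', hg⟩ :=
      ih fun s hs => hF s (List.mem_cons_of_mem _ hs)
    haveI := hπ; haveI := hCs; haveI := hCsep; haveI := hCqc; haveI := hcm; haveI := hcc; haveI := hi'm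
    haveI : IsMonHom (fibreHom hσ c) := isMonHom_fibreHom hσ c
    haveI : Mono (i' ≫ fibreHom hσ c) := hi'.symm ▸ ‹Mono i›
    haveI : Mono i' := mono_of_mono i' (fibreHom hσ c)
    let pt' : 𝟙_ (Over (Spec (CommRingCat.of k))) ⟶ VecGrp.pt k k := toPt _
    have hone : toUnit (VecGrp.pt k k) ≫ pt' = 𝟙 _ := toUnit_toPt
    let t' : 𝟙_ (Over (Spec (CommRingCat.of k))) ⟶ Red.bc σ C := pt' ≫ t ≫ i'
    have ht' : t' ^ n = 1 := by
      show (pt' ≫ t ≫ i') ^ n = 1
      rw [← Category.assoc, ← MonObj.pow_comp, ← MonObj.comp_pow, hF t (List.mem_cons_self ..), MonObj.comp_one,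
        MonObj.one_comp]
    obtain ⟨P, τ, σ₁, hσ₁, D, _, d, gN, hτ, hDs, hDsep, hDqc, hdm, hdc, hgNn, hgNc, hgNσ, hcrit, hD⟩ :=
      exists_step_point t' hn ht'
    haveI := hτ; haveI := hDs; haveI := hDsep; haveI := hDqc; haveI := hdm; haveI := hdc
    haveI : Mono d := Over.mono_of_mono_left d
    haveI : IsMonHom (fibreHom hσ₁ d) := isMonHom_fibreHom hσ₁ d
    haveI := isClosedImmersion_fibreHom hσ₁ d
    haveI : Mono (fibreHom hσ₁ d) := Over.mono_of_mono_left _
    obtain ⟨i₁, hi₁⟩ := (hD T i').mpr (by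
      show _ * (toUnit T ≫ pt' ≫ t ≫ i') = (toUnit T ≫ pt' ≫ t ≫ i') * _
      have e := congrArg (· ≫ i') (TorusBilin.comm_of_isTorus hT _ (𝟙 T) (toUnit T ≫ pt' ≫ t))
      simpa only [MonObj.mul_comp, Category.id_comp, Category.assoc] using e)
    haveI : IsMonHom (i₁ ≫ fibreHom hσ₁ d) := hi₁.symm ▸ hi'm
    haveI : IsMonHom i₁ := isMonHom_of_comp i₁ (fibreHom hσ₁ d)
    let dπ := fibreHom (a := τ) (rfl : τ ≫ π = τ ≫ π) c
    haveI : IsMonHom dπ := isMonHom_fibreHom _ c
    haveI : IsClosedImmersion dπ.left := isClosedImmersion_fibreHom _ c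
    have hσ' : σ₁ ≫ τ ≫ π = a := by rw [reassoc_of% hσ₁, hσ]
    have hpth : (VecGrp.pt k k).hom = 𝟙 _ := Spec.map_id _
    -- comparison of fibres, in the smaller subgroup
    have key : ∀ (s : VecGrp.pt k k ⟶ T) (y : 𝟙_ (Over P) ⟶ D),
        (s ≫ i').left ≫ pullback.fst C.hom σ = σ₁ ≫ y.left ≫ d.left ≫ pullback.fst C.hom τ →
        (s ≫ i₁).left ≫ pullback.fst D.hom σ₁ = σ₁ ≫ y.left := fun s y h => by
      rw [← cancel_mono d.left]
      refine pullback.hom_ext ?_ ?_
      · rw [Category.assoc, Category.assoc, Category.assoc, Category.assoc, ← h, ← hi₁, Over.comp_left,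
          Over.comp_left, Over.comp_left, Category.assoc, Category.assoc, Category.assoc, fibreHom_left_fst]
      · have hd : d.left ≫ pullback.snd C.hom τ = D.hom := Over.w d
        rw [Category.assoc, Category.assoc, Category.assoc, Category.assoc, hd, pullback.condition, Over.w y]
        have hs : (s ≫ i₁).left ≫ pullback.snd D.hom σ₁ = (VecGrp.pt k k).hom := Over.w (s ≫ i₁)
        rw [reassoc_of% hs, hpth, Category.id_comp]
        exact (Category.comp_id _).symm
    refine ⟨P, τ ≫ π, σ₁, hσ', D, inferInstance, d ≫ dπ, i₁, inferInstance, hDs, hDsep, hDqc, inferInstance,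
      by rw [Over.comp_left]; infer_instance, inferInstance, ?_, fun s hs => ?_⟩
    · rw [show fibreHom hσ' (d ≫ dπ) = fibreHom hσ₁ d ≫ fibreHom hσ c from fibreHom_comp hσ hσ₁ rfl d c,
        ← Category.assoc, hi₁, hi']
    rcases List.mem_cons.mp hs with rfl | hs
    · refine ⟨gN, hgNn, hgNc, key s gN (Eq.trans ?_ hgNσ)⟩
      show (s ≫ i').left ≫ _ = (pt' ≫ s ≫ i').left ≫ _
      have e0 : pt'.left = 𝟙 (Spec (CommRingCat.of k)) := rfl
      exact congrArg (· ≫ pullback.fst C.hom σ) (((congrArg (· ≫ (s ≫ i').left) e0).trans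
        (Category.id_comp _)).symm.trans (Over.comp_left (f := pt') (g := s ≫ i')).symm)
    obtain ⟨g, hgn, hgc, hgσ⟩ := hg s hs
    let x : 𝟙_ (Over P) ⟶ Red.bc τ C := Over.homMk (pullback.lift (τ ≫ g.left) (𝟙 _) (by
      rw [Category.assoc, Over.w g]
      exact (Category.comp_id τ).trans (Category.id_comp τ).symm)) (pullback.lift_snd _ _ _)
    have hθ : ∀ X : Over P, DSPtsLib.theta τ (toUnit X ≫ x) = toUnit ((Over.map τ).obj X) ≫ g := fun X => by
      refine Over.OverMorphism.ext ?_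
      show (X.hom ≫ pullback.lift _ _ _) ≫ pullback.fst C.hom τ = (X.hom ≫ τ) ≫ g.left
      rw [Category.assoc, pullback.lift_fst, Category.assoc]
    have hxc : ∀ (X : Over P) (y : X ⟶ Red.bc τ C), y * (toUnit X ≫ x) = (toUnit X ≫ x) * y := fun X y => by
      refine (DSPtsLib.theta_bijective (H := C) τ).1 ?_
      rw [DSPtsLib.theta_mul, DSPtsLib.theta_mul, hθ]
      exact hgc _ _
    obtain ⟨y, hy⟩ := (hcrit _ x).mpr (by
      rw [toUnit_unique (toUnit _) (𝟙 _), Category.id_comp]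
      have e := hxc _ (gN ≫ d)
      rw [toUnit_unique (toUnit _) (𝟙 _), Category.id_comp] at e
      exact e.symm)
    refine ⟨y, ?_, fun X z => ?_, key s y ?_⟩
    · rw [← cancel_mono d, MonObj.pow_comp, hy, MonObj.one_comp]
      refine (DSPtsLib.theta_bijective (H := C) τ).1 ?_
      show thetaHom τ _ (x ^ n) = thetaHom τ _ 1
      rw [_root_.map_pow, _root_.map_one]
      show (DSPtsLib.theta τ x) ^ n = 1
      rw [show x = toUnit (𝟙_ (Over P)) ≫ x by rw [toUnit_unique (toUnit _) (𝟙 _), Category.id_comp], hθ,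
        ← MonObj.comp_pow, hgn, MonObj.comp_one]
    · rw [← cancel_mono d, MonObj.mul_comp, MonObj.mul_comp, Category.assoc, hy]
      exact hxc X (z ≫ d)
    · rw [hgσ, ← hσ₁, Category.assoc]
      congr 1
      rw [← Category.assoc y.left, ← Over.comp_left, hy]
      exact (pullback.lift_fst _ _ _).symm

end Groth.Agent.GModLib
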