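import Groth.Agent.GModLib.RankTorsion
import Groth.Agent.GModLib.TorsionLifts

/-!
# The reductive rank is lower semicontinuous

Torsion points of a maximal torus of a geometric fibre lift to central sections of smooth subgroups over a smooth base
change; in every nearby fibre they lie in a maximal torus, whose rank is therefore at least as large.
-/

set_option autoImplicit false
set_option backward.isDefEq.respectTransparency false
set_option backward.isDefEq.respectTransparency.types false

universe u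

open CategoryTheory Limits AlgebraicGeometry MonoidalCategory CartesianMonoidalCategory MonObj GrpObj

namespace Groth.Agent.GModLib

open TorusBilin

/-- The locus where two sections of a separated scheme differ is open, and detected on field valued points. -/
theorem exists_open_ne {Y : Scheme.{u}} {C : Over Y} [IsSeparated C.hom] (g g' : 𝟙_ (Over Y) ⟶ C) :
    ∃ U : Y.Opens, ∀ (K : Type u) [Field K] (y : Spec (CommRingCat.of K) ⟶ Y),
      y (IsLocalRing.closedPoint K) ∈ U ↔ y ≫ g.left ≠ y ≫ g'.left := by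
  let w := pullback.lift g.left g'.left ((Over.w g).trans (Over.w g').symm)
  let e := pullback.snd (pullback.diagonal C.hom) w
  haveI : IsClosedImmersion (pullback.diagonal C.hom) := IsSeparated.isClosedImmersion_diagonal
  haveI : IsClosedImmersion e := MorphismProperty.pullback_snd _ _ ‹_›
  have h1 := congrArg (· ≫ pullback.fst _ _) (pullback.condition (f := pullback.diagonal C.hom) (g := w))
  have h2 := congrArg (· ≫ pullback.snd _ _) (pullback.condition (f := pullback.diagonal C.hom) (g := w))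
  simp only [Category.assoc, pullback.diagonal_fst, pullback.diagonal_snd, Category.comp_id, w,
    pullback.lift_fst, pullback.lift_snd] at h1 h2
  refine ⟨⟨(Set.range e)ᶜ, e.isClosedEmbedding.isClosed_range.isOpen_compl⟩, fun K _ y => ⟨fun hy heq => hy ?_, ?_⟩⟩
  · let l := pullback.lift (f := pullback.diagonal C.hom) (g := w) (y ≫ g.left) y (by
      apply pullback.hom_ext
      · simp only [w, Category.assoc, pullback.diagonal_fst, Category.comp_id, pullback.lift_fst]
      · simp only [w, Category.assoc, pullback.diagonal_snd, Category.comp_id, pullback.lift_snd, heq])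
    refine ⟨l (IsLocalRing.closedPoint K), ?_⟩
    rw [← Scheme.Hom.comp_apply, show l ≫ e = y from pullback.lift_snd _ _ _]
    rfl
  · rintro hne ⟨x, hx⟩
    haveI : IsReduced (Spec (CommRingCat.of K)) := inferInstance
    obtain ⟨l, hl⟩ := H23.RedSub.exists_lift_closed y e (by
      rintro _ ⟨p, rfl⟩
      rw [@Subsingleton.elim (PrimeSpectrum K) _ p (IsLocalRing.closedPoint K)]
      exact ⟨x, hx⟩)
    refine hne ?_
    rw [← hl, Category.assoc, Category.assoc]
    exact congrArg (l ≫ ·) (h1.symm.trans h2)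

/-- Neutral components over a field are closed. -/
theorem IsNeutral.isClosedImmersion_field {K : Type u} [Field K] {G G0 : Over (Spec (CommRingCat.of K))} [GrpObj G]
    [GrpObj G0] {i : G0 ⟶ G} (h : IsNeutral i) : IsClosedImmersion i.left := by
  haveI := h.openImm
  refine IsClosedImmersion.of_isPreimmersion _ ?_
  rw [h.range]
  haveI : Subsingleton ↥(𝟙_ (Over (Spec (CommRingCat.of K)))).left := inferInstanceAs (Subsingleton (PrimeSpectrum K))
  refine isClosed_iUnion_of_finite fun p => ?_
  rw [show G.hom.base ⁻¹' {(𝟙_ (Over (Spec (CommRingCat.of K)))).hom.base p} = Set.univ from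
    Set.eq_univ_of_forall fun z => @Subsingleton.elim (PrimeSpectrum K) _ _ _, connectedComponentIn_univ]
  exact isClosed_connectedComponent

theorem exists_prime_ne_zero (K : Type u) [Field K] : ∃ l : ℕ, l.Prime ∧ (l : K) ≠ 0 := by
  by_cases h : (2 : K) = 0
  · refine ⟨3, Nat.prime_three, fun h3 => one_ne_zero (α := K) ?_⟩
    have : ((3 : ℕ) : K) = (2 : K) + 1 := by norm_num
    rw [this, h, _root_.zero_add] at h3
    exact h3
  · exact ⟨2, Nat.prime_two, by simpa using h⟩

set_option maxHeartbeats 2000000 in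
/-- The reductive rank is lower semicontinuous. -/
theorem exists_open_redRank_ge {S : Scheme.{u}} (G : Over S) [GrpObj G] [IsAffineHom G.hom] [Smooth G.hom] (s : S)
    {r₀ : WithBot ℕ∞} (h : SGA3x.HasRedRank G s r₀) :
    ∃ U : Set S, IsOpen U ∧ s ∈ U ∧ ∀ t ∈ U, ∃ r : WithBot ℕ∞, SGA3x.HasRedRank G t r ∧ r₀ ≤ r := by
  obtain ⟨T, _, i, hi, hdim⟩ := h
  haveI := hi.1; haveI := hi.2.1
  let k := AlgebraicClosure (S.residueField s)
  obtain ⟨r, q, hqm, hqi⟩ := exists_iso_tor hi.2.2.1
  haveI := hqm; haveI := hqi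
  haveI : IsMonHom (inv q) := inferInstanceAs (IsMonHom (asIso q).inv)
  have hr : r₀ = (r : WithBot ℕ∞) := hdim.symm.trans (topologicalKrullDim_tor q)
  obtain ⟨l, hl, hlk⟩ := exists_prime_ne_zero k
  haveI : NeZero l := ⟨hl.ne_zero⟩
  obtain ⟨p, hpi, hpn⟩ := exists_torsion (k := k) (m := r) hlk
  let tp : (Fin r → Fin l) → (VecGrp.pt k k ⟶ T) := fun e => p e ≫ inv q
  have htpi : Function.Injective tp := fun a b hab => hpi ((cancel_mono (inv q)).mp hab)
  obtain ⟨Y, π, σ, hσ, C, _, c, i', hπ, hCs, hCsep, hCqc, hcm, hcc, hi'm, hi', hg⟩ :=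
    exists_central_lifts G (Red.geomPt s) i hi.2.2.1 hlk (Finset.univ.toList.map tp) (by
      intro t ht
      obtain ⟨e, -, rfl⟩ := List.mem_map.mp ht
      show (p e ≫ inv q) ^ l = 1
      rw [← MonObj.pow_comp]
      exact (congrArg (· ≫ inv q) (hpn e)).trans (MonObj.one_comp _))
  haveI := hπ; haveI := hCs; haveI := hCsep; haveI := hCqc; haveI := hcm; haveI := hcc; haveI := hi'm
  choose g hgn hgc hgσ using fun e => hg (tp e) (List.mem_map.mpr ⟨e, Finset.mem_toList.mpr (Finset.mem_univ e), rfl⟩)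
  haveI : IsMonHom (fibreHom hσ c) := isMonHom_fibreHom hσ c
  haveI : Mono (i' ≫ fibreHom hσ c) := hi'.symm ▸ hi.2.1
  haveI : Mono i' := mono_of_mono i' (fibreHom hσ c)
  haveI : LocallyOfFinitePresentation C.hom := inferInstance
  haveI : LocallyOfFinitePresentation (Red.bc σ C).hom :=
    inferInstanceAs (LocallyOfFinitePresentation (pullback.snd C.hom σ))
  haveI : LocallyOfFinitePresentation (Red.geomFibre s G).hom :=
    inferInstanceAs (LocallyOfFinitePresentation (pullback.snd G.hom _))
  haveI := MultConjLib.smooth_of_isTorus hi.2.2.1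
  obtain ⟨C0, _, io, hio, hC0s, hC0q, hC0sep, hC0c⟩ := exists_neutral C
  haveI := hio.isMonHom; haveI := hio.openImm; haveI := hC0s; haveI := hC0q
  haveI : Mono io := Over.mono_of_mono_left io
  obtain ⟨i₀, -, hi₀⟩ := (hio.bc σ).exists_factor (MultConjLib.neutralSet_eq_univ_of_isTorus hi.2.2.1) i'
  choose Une hUne using fun e e' => exists_open_ne (g e) (g e')
  obtain ⟨Vl, hσl, hul⟩ := exists_open_isUnit σ l hlk
  let σ₀ : Y := σ (IsLocalRing.closedPoint k)
  let W : Set Y := (Vl : Set Y) ∩ ((⋂ e, (g e).left.base ⁻¹' Set.range io.left) ∩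
    ⋂ x : {x : (Fin r → Fin l) × (Fin r → Fin l) // x.1 ≠ x.2}, (Une x.1.1 x.1.2 : Set Y))
  have hWo : IsOpen W := Vl.isOpen.inter ((isOpen_iInter_of_finite fun e =>
    io.left.isOpenEmbedding.isOpen_range.preimage (g e).left.continuous).inter
    (isOpen_iInter_of_finite fun x => (Une x.1.1 x.1.2).isOpen))
  have hσW : σ₀ ∈ W := by
    refine ⟨hσl ⟨_, rfl⟩, Set.mem_iInter.mpr fun e => ?_, Set.mem_iInter.mpr fun x => ?_⟩
    · have h1 : σ ≫ (g e).left = ((tp e ≫ i₀).left ≫ pullback.fst C0.hom σ) ≫ io.left := by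
        rw [← hgσ e, ← hi₀]
        simp only [Over.comp_left, Category.assoc]
        congr 2
        exact pullback.lift_fst _ _ _
      have h2 : (σ ≫ (g e).left) (IsLocalRing.closedPoint k) ∈ Set.range io.left := by
        rw [h1, Scheme.Hom.comp_apply]
        exact ⟨_, rfl⟩
      exact h2
    · refine (hUne x.1.1 x.1.2 k σ).mpr fun heq => x.2 (htpi ((cancel_mono i').mp (bc_hom_ext ?_)))
      exact (hgσ x.1.1).trans (heq.trans (hgσ x.1.2).symm)
  refine ⟨π.base '' W, π.isOpenMap _ hWo, ⟨σ₀, hσW, ?_⟩, ?_⟩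
  · show π (σ (IsLocalRing.closedPoint k)) = s
    rw [← Scheme.Hom.comp_apply, hσ]
    exact Scheme.fromSpecResidueField_apply s _
  rintro _ ⟨y, hy, rfl⟩
  let K := AlgebraicClosure (Y.residueField y)
  let yb := Red.geomPt y
  have hyb : yb (IsLocalRing.closedPoint K) = y := Scheme.fromSpecResidueField_apply y _
  let t := π y
  let Gt := Red.geomFibre t G
  haveI : Smooth Gt.hom := inferInstanceAs (Smooth (pullback.snd G.hom _))
  haveI : QuasiCompact Gt.hom := inferInstanceAs (QuasiCompact (pullback.snd G.hom _))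
  obtain ⟨Tt, _, it, m, hit, hdimt, hbound⟩ := exists_rank_bound Gt
  refine ⟨_, ⟨Tt, inferInstance, it, hit, hdimt⟩, ?_⟩
  obtain ⟨ρ, hρ⟩ := exists_geomPt_lift π y
  let H := Red.bc yb C0
  haveI : Smooth H.hom := inferInstanceAs (Smooth (pullback.snd C0.hom yb))
  haveI : ConnectedSpace H.left := connectedSpace_point hC0c yb
  let ioy := (Over.pullback yb).map io
  have hioy : IsNeutral ioy := hio.bc yb
  haveI := hioy.isMonHom
  haveI hioc : IsClosedImmersion ioy.left := hioy.isClosedImmersion_field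
  haveI : Mono ioy := Over.mono_of_mono_left _
  haveI : IsAffineHom C.hom := by
    rw [← Over.w c]
    haveI : IsAffineHom (Red.bc π G).hom := MorphismProperty.pullback_snd G.hom π ‹IsAffineHom G.hom›
    infer_instance
  haveI : IsAffineHom (Red.bc yb C).hom := MorphismProperty.pullback_snd C.hom yb ‹IsAffineHom C.hom›
  haveI : IsAffine (Red.bc yb C).left := isAffine_of_isAffineHom (Red.bc yb C).hom
  haveI : IsAffine H.left := isAffine_of_isAffineHom ioy.left
  let j : H ⟶ Red.bc ρ Gt := ioy ≫ fibreHom (a := yb) (rfl : yb ≫ π = yb ≫ π) c ≫ (fibreIso hρ G).inv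
  haveI : IsMonHom (fibreHom (a := yb) (rfl : yb ≫ π = yb ≫ π) c) := isMonHom_fibreHom _ c
  haveI := isClosedImmersion_fibreHom (a := yb) (rfl : yb ≫ π = yb ≫ π) c
  haveI : Mono (fibreHom (a := yb) (rfl : yb ≫ π = yb ≫ π) c) := Over.mono_of_mono_left _
  haveI : IsMonHom (fibreIso hρ G).inv := inferInstance
  haveI : IsMonHom j := inferInstanceAs (IsMonHom (_ ≫ _ ≫ _))
  haveI : Mono j := mono_comp _ _
  have hpt : (VecGrp.pt K K).hom = 𝟙 _ := Spec.map_id _
  -- the points of the fibre
  have hz : ∀ e, ∃ z : VecGrp.pt K K ⟶ H, (z ≫ ioy).left ≫ pullback.fst C.hom yb = yb ≫ (g e).left := fun e => by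
    let z' : VecGrp.pt K K ⟶ Red.bc yb C := Over.homMk (pullback.lift (yb ≫ (g e).left) (𝟙 _) (by
      rw [Category.assoc, Over.w (g e)]
      exact (Category.comp_id yb).trans (Category.id_comp yb).symm))
      ((pullback.lift_snd _ _ _).trans hpt.symm)
    have hmem : (g e).left y ∈ Set.range io.left := Set.mem_iInter.mp hy.2.1 e
    obtain ⟨lz, hlz⟩ : ∃ lz, lz ≫ io.left = yb ≫ (g e).left := ⟨IsOpenImmersion.lift io.left _ (by
      rintro _ ⟨w, rfl⟩
      rw [Scheme.Hom.comp_apply, @Subsingleton.elim (PrimeSpectrum K) _ w (IsLocalRing.closedPoint K), hyb]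
      exact hmem), IsOpenImmersion.lift_fac _ _ _⟩
    let z : VecGrp.pt K K ⟶ H := Over.homMk (pullback.lift lz (𝟙 _) (by
      rw [← Over.w io, reassoc_of% hlz, Over.w (g e)]
      exact (Category.comp_id yb).trans (Category.id_comp yb).symm))
      ((pullback.lift_snd _ _ _).trans hpt.symm)
    refine ⟨z, ?_⟩
    show (pullback.lift lz _ _ ≫ pullback.lift _ _ _) ≫ _ = _
    rw [Category.assoc, pullback.lift_fst, pullback.lift_fst_assoc, hlz]
  choose z hz using hz
  have hθ : ∀ e (X : Over (Spec (CommRingCat.of K))),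
      DSPtsLib.theta yb (toPt X ≫ z e ≫ ioy) = toUnit ((Over.map yb).obj X) ≫ g e := fun e X => by
    refine Over.OverMorphism.ext ?_
    show (X.hom ≫ (z e ≫ ioy).left) ≫ pullback.fst C.hom yb = (X.hom ≫ yb) ≫ (g e).left
    rw [Category.assoc, hz]
    exact (Category.assoc X.hom yb (g e).left).symm
  have hk : (l : K) ≠ 0 := fun h0 => by
    have h1 := isUnit_natCast_of_hom (IsOpenImmersion.lift Vl.ι yb (by
      rintro _ ⟨w, rfl⟩
      rw [Scheme.Opens.range_ι, @Subsingleton.elim (PrimeSpectrum K) _ w (IsLocalRing.closedPoint K), hyb]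
      exact hy.1)) hul
    exact not_isUnit_zero (h0 ▸ h1)
  have hbd := hbound K ρ H j (Fin r → Fin l) z l hk (fun a b hab => by
    by_contra hne
    have hU := Set.mem_iInter.mp hy.2.2 ⟨(a, b), hne⟩
    rw [← hyb] at hU
    exact (hUne a b K yb).mp hU (by rw [← hz a, hab, hz b])) (fun a => by
    rw [← cancel_mono ioy, MonObj.pow_comp, MonObj.one_comp]
    refine (DSPtsLib.theta_bijective (H := C) yb).1 ?_
    show thetaHom yb _ ((z a ≫ ioy) ^ l) = thetaHom yb _ 1
    rw [_root_.map_pow, _root_.map_one, show z a ≫ ioy = toPt (VecGrp.pt K K) ≫ z a ≫ ioy by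
      rw [show toPt (VecGrp.pt K K) = 𝟙 _ from Over.OverMorphism.ext hpt, Category.id_comp]]
    show DSPtsLib.theta yb _ ^ l = 1
    rw [hθ, ← MonObj.comp_pow, hgn, MonObj.comp_one]) (fun a X x => by
    rw [← cancel_mono ioy, MonObj.mul_comp, MonObj.mul_comp, Category.assoc]
    refine (DSPtsLib.theta_bijective (H := C) yb).1 ?_
    rw [DSPtsLib.theta_mul, DSPtsLib.theta_mul, hθ]
    exact (hgc a _ _).symm)
  rw [hr]
  have hrm : r ≤ m := by
    rw [Fintype.card_fun, Fintype.card_fin, Fintype.card_fin] at hbd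
    exact (Nat.pow_le_pow_iff_right hl.one_lt).mp hbd
  exact_mod_cast hrm

end Groth.Agent.GModLib
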