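import Groth.Agent.GModLib.ReductiveCartan
import Groth.Agent.GModLib.ConjDense
import Groth.Agent.GModLib.ConjBorel
import Groth.Agent.GModLib.CentralizerBC
import Groth.Agent.GrpSchLib.GaPts

/-!
# Reductive groups have no additive characters
-/

set_option autoImplicit false
set_option backward.isDefEq.respectTransparency false
set_option backward.isDefEq.respectTransparency.types false

universe u

open CategoryTheory Limits AlgebraicGeometry MonoidalCategory CartesianMonoidalCategory MonObj GrpObj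

namespace Groth.Agent.GModLib

open GrpSchLib GrpSchLib.Kunneth

set_option maxHeartbeats 1000000 in
/-- An additive function on a reductive group over an algebraically closed field vanishes. -/
theorem additive_fn_eq_zero {k : Type u} [Field k] [IsAlgClosed k] {G : Over (Spec (CommRingCat.of k))} [GrpObj G]
    (hG : Red.IsReductiveOver k G) (a : Fn G)
    (ha : ∀ g h : VecGrp.pt k k ⟶ G, pullFn (g * h) a = pullFn g a + pullFn h a) : a = 0 := by
  obtain ⟨ha', hsm, hcn, -⟩ := id hG
  haveI := ha'; haveI := hsm; haveI := hcn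
  haveI : IsReduced G.left := GrpSchLib.isReduced_of_smooth_field G.hom
  obtain ⟨T, _, iT, hT⟩ := exists_maxTorus G
  obtain ⟨hTm, hTmo, hTt, -⟩ := id hT
  haveI := hTm; haveI := hTmo
  obtain ⟨q1, q2, q3, -, -⟩ := TorusBasic.torus_props hTt
  haveI := q1; haveI := q2; haveI := q3
  haveI : IsReduced T.left := GrpSchLib.isReduced_of_smooth_field T.hom
  have h1 : pullFn (1 : VecGrp.pt k k ⟶ G) a = 0 := by
    have h := ha 1 1
    rw [_root_.mul_one] at h
    exact left_eq_add.mp h
  have hpow : ∀ (g : VecGrp.pt k k ⟶ G) (n : ℕ), pullFn (g ^ n) a = n * pullFn g a := fun g n => by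
    induction n with
    | zero => rw [pow_zero, h1, Nat.cast_zero, MulZeroClass.zero_mul]
    | succ n ih => rw [pow_succ, ha, ih, Nat.cast_succ, add_mul, _root_.one_mul]
  have hTa : ev iT a = 0 := by
    by_contra hne
    obtain ⟨t, n, hn, htn, ht⟩ := exists_torsion_ne_zero hTt hne
    refine ht ?_
    have h := hpow (t ≫ iT) n
    rw [← MonObj.pow_comp, htn, MonObj.one_comp, h1] at h
    rw [pullFn_ev]
    exact (mul_eq_zero.mp h.symm).resolve_left hn
  obtain ⟨C, _, hCa, hCs, hCn, iC, hiC, d, M, hM, iS, hcl, -, hiS, hfull, hcomm, -, hR, -⟩ := exists_cartan iT hT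
  haveI := hCa; haveI := hCs; haveI := hCn; haveI := hiC; haveI := hcl
  have hself := isCentralizerOf_self_of_reductive iT hT hG
  haveI : IsSeparated G.hom := AntiAffine.isSeparated_grp G
  haveI : IsReduced C.left := GrpSchLib.isReduced_of_smooth_field C.hom
  have hC0 : ∀ c : VecGrp.pt k k ⟶ C, pullFn (c ≫ iC) a = 0 := by
    intro c
    obtain ⟨t, ht⟩ := (hself.2.2 _ (c ≫ iC)).mpr fun X x h => by
      let l : T ⟶ G := (toPt T ≫ c ≫ iC) * iT
      let r : T ⟶ G := iT * (toPt T ≫ c ≫ iC)
      have hlr : l = r := hom_ext_points_sep fun s => by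
        simp only [l, r, MonObj.comp_mul, ← Category.assoc s (toPt T), comp_toPt, Category.id_comp]
        exact (hcomm c s).eq.symm
      have h1 := congrArg (h ≫ ·) hlr
      simp only [l, r, MonObj.comp_mul, ← Category.assoc h (toPt T), eq_toPt (h ≫ toPt T)] at h1
      rw [eq_toPt x]
      exact h1
    rw [← ht, ← pullFn_ev, hTa, map_zero]
  obtain ⟨U, hU, hUx⟩ := exists_open_conj_cartan iT hTt iC hM iS hiS hfull hcomm hR
  by_contra hne
  have hb : (G.left.basicOpen a : Set G.left).Nonempty := by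
    rw [Set.nonempty_iff_ne_empty]
    intro he
    exact hne (eq_zero_of_basicOpen_eq_bot a (TopologicalSpace.Opens.ext he))
  haveI : IrreducibleSpace G.left := GrpFieldLib.SmoothDense.irreducibleSpace_of_connected G.hom
  obtain ⟨p, hpU, hpa⟩ := exists_point_mem (D := G) (U := (U : Set G.left) ∩ G.left.basicOpen a)
    (U.2.inter (G.left.basicOpen a).2) (nonempty_preirreducible_inter U.2 (G.left.basicOpen a).2 hU hb)
  obtain ⟨g, c, rfl⟩ := hUx p hpU
  refine (mem_basicOpen_iff _ _).mp hpa ?_
  have h2 := ha g g⁻¹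
  rw [mul_inv_cancel, h1] at h2
  rw [ha, ha, hC0, add_zero, ← h2]

set_option maxHeartbeats 1000000 in
/-- A homomorphism from a reductive group to the additive group is trivial. -/
theorem hom_ga_eq_one {k : Type u} [Field k] {G : Over (Spec (CommRingCat.of k))} [GrpObj G]
    (hG : Red.IsReductive G) (φ : G ⟶ Red.Ga (Spec (CommRingCat.of k))) [IsMonHom φ] : φ = 1 := by
  haveI : IsAffineHom G.hom := hG.1
  haveI : Smooth G.hom := hG.2.1
  haveI : IsAffine G.left := isAffine_of_isAffineHom G.hom
  haveI : IsReduced G.left := GrpSchLib.isReduced_of_smooth_field G.hom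
  apply GaPts.gaFn_injective
  show Red.gaFn φ = Red.gaFn 1
  rw [GaPts.gaFn_one]
  let s : Spec (CommRingCat.of k) := IsLocalRing.closedPoint k
  let σ := Red.geomPt s
  obtain ⟨ha, hs, hn, hred⟩ := hG.2.2 s
  let K := AlgebraicClosure ((Spec (CommRingCat.of k)).residueField s)
  let fst' : (Red.bc σ G).left ⟶ G.left := pullback.fst G.hom σ
  have h0 : (fst'.appTop (Red.gaFn φ) : Fn (Red.bc σ G)) = 0 := by
    refine additive_fn_eq_zero ⟨ha, hs, hn, hred⟩ _ fun g h => ?_
    have hval : ∀ p : VecGrp.pt K K ⟶ Red.bc σ G, pullFn p (fst'.appTop (Red.gaFn φ) : Fn (Red.bc σ G)) =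
        (Scheme.ΓSpecIso (CommRingCat.of K)).hom (Red.gaFn (DSPtsLib.theta σ p ≫ φ)) := fun p => by
      rw [GaPts.gaFn_comp, DSPtsLib.theta_left, pullFn_apply]
      exact congrArg _ (GmPts.appTop_comp_apply _ _ _).symm
    rw [hval, hval, hval, DSPtsLib.theta_mul, MonObj.mul_comp, GaPts.gaFn_mul, map_add]
  refine eq_zero_of_basicOpen_eq_bot _ (TopologicalSpace.Opens.ext (Set.eq_empty_of_forall_notMem fun x hx => ?_))
  haveI : Surjective σ := ⟨fun x => ⟨IsLocalRing.closedPoint _, @Subsingleton.elim (PrimeSpectrum k) _ _ _⟩⟩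
  haveI : Surjective fst' := MorphismProperty.pullback_fst _ _ inferInstance
  obtain ⟨y, rfl⟩ := fst'.surjective x
  have hy : y ∈ fst' ⁻¹ᵁ G.left.basicOpen (Red.gaFn φ) := hx
  rw [Scheme.preimage_basicOpen] at hy
  rw [show fst'.app ⊤ (Red.gaFn φ) = 0 from h0, Scheme.basicOpen_zero] at hy
  exact hy

end Groth.Agent.GModLib
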