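import Groth.Agent.GModLib.LunaBorel
import Groth.Agent.GModLib.Cartan
import Groth.Agent.GModLib.CentralizerNonAffine
import Groth.Agent.GModLib.CartanBorel
import Groth.Agent.GModLib.BorelPoints
import Groth.Agent.GModLib.MultUnipotent

/-!
# The unipotent part of the intersection of the Borel subgroups and self-centralizing tori
-/

set_option autoImplicit false
set_option backward.isDefEq.respectTransparency false
set_option backward.isDefEq.respectTransparency.types false

universe u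

open CategoryTheory Limits AlgebraicGeometry MonoidalCategory CartesianMonoidalCategory MonObj GrpObj

namespace Groth.Agent.GModLib

open GrpSchLib GrpSchLib.Kunneth GrpSchLib.AffineHopf

variable {k : Type u} [Field k]

theorem isTrivialGrp_of_id_eq_one {S : Over (Spec (CommRingCat.of k))} [GrpObj S] (h : (𝟙 S : S ⟶ S) = 1) :
    Red.IsTrivialGrp S := by
  show IsIso S.hom
  refine ⟨(η[S] : 𝟙_ _ ⟶ S).left, ?_, Over.w (η[S] : 𝟙_ _ ⟶ S)⟩
  have e := congrArg (fun f : S ⟶ S => f.left) h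
  simp only [Over.id_left] at e
  rw [e, show (1 : S ⟶ S) = toUnit S ≫ η[S] from rfl, Over.comp_left]
  rfl

theorem eq_one_of_isTrivialGrp {D U : Over (Spec (CommRingCat.of k))} [GrpObj U] (hU : Red.IsTrivialGrp U)
    (f : D ⟶ U) : f = 1 := by
  haveI : IsIso U.hom := hU
  refine Over.OverMorphism.ext ((cancel_mono U.hom).mp ?_)
  rw [Over.w f, Over.w (1 : D ⟶ U)]

variable [IsAlgClosed k]

/-- A torus mapping to unipotent points maps trivially. -/
theorem torus_hom_eq_one_of_uni {B S : Over (Spec (CommRingCat.of k))} [GrpObj B] [IsAffine B.left] [Smooth B.hom]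
    [GrpObj S] {d : ℕ} {M : Matrix (Fin d) (Fin d) (Fn B)} (hM : IsTriangular M) (hS : Red.IsTorus S) (j : S ⟶ B)
    [IsMonHom j] (h : ∀ s : VecGrp.pt k k ⟶ S, s ≫ j ∈ uni hM) : j = 1 := by
  refine LineGroups.ext_ev (AlgHom.ext fun f => ?_)
  by_contra hne
  obtain ⟨t, n, hn, htn, ht⟩ := exists_torsion_ne_zero hS (sub_ne_zero.mpr hne)
  have htj : t ≫ j = 1 := eq_one_of_pow_eq_one hM hn (h t) (by rw [← MonObj.pow_comp, htn, MonObj.one_comp])
  refine ht ?_
  rw [map_sub, pullFn_ev, pullFn_ev, htj, MonObj.comp_one, sub_self]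

variable {G : Over (Spec (CommRingCat.of k))} [GrpObj G] [IsAffine G.left] [Smooth G.hom]
  {B : Over (Spec (CommRingCat.of k))} [GrpObj B] [IsAffine B.left] [Smooth B.hom]

set_option maxHeartbeats 1000000 in
/-- The largest connected subgroup all of whose conjugates lie in the unipotent points of a solvable subgroup. -/
theorem exists_core (iB : B ⟶ G) [IsMonHom iB] [IsClosedImmersion iB.left] {d : ℕ}
    {M : Matrix (Fin d) (Fin d) (Fn B)} (hM : IsTriangular M) :
    ∃ (V : Over (Spec (CommRingCat.of k))) (_ : GrpObj V) (v : V ⟶ G) (_ : IsMonHom v),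
      IsClosedImmersion v.left ∧ Smooth V.hom ∧ ConnectedSpace V.left ∧ AlgGrp.IsNormalHom v ∧
      Red.HasNoSubtorus k V ∧
      ∀ (D : Over (Spec (CommRingCat.of k))) [GrpObj D] [Smooth D.hom] [ConnectedSpace D.left] (f : D ⟶ G)
        [IsMonHom f],
        (∀ (p : VecGrp.pt k k ⟶ D) (g : VecGrp.pt k k ⟶ G),
          ∃ b, b ∈ uni hM ∧ (p ≫ f) * g = g * (b ≫ iB)) → ∃ w : D ⟶ V, w ≫ v = f := by
  classical
  haveI : Mono iB := Over.mono_of_mono_left iB
  haveI : IsReduced G.left := GrpSchLib.isReduced_of_smooth_field G.hom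
  let K : Subgroup (VecGrp.pt k k ⟶ G) := ⨅ x : VecGrp.pt k k ⟶ G,
    Subgroup.map (MulAut.conj x).toMonoidHom (Subgroup.map (pushPt iB) (uni hM))
  have hK : ∀ g, g ∈ K ↔ ∀ x : VecGrp.pt k k ⟶ G, ∃ b, b ∈ uni hM ∧ g * x = x * (b ≫ iB) := fun g => by
    simp only [K, Subgroup.mem_iInf, Subgroup.mem_map, MulEquiv.coe_toMonoidHom, MulAut.conj_apply, pushPt_apply]
    constructor
    · intro h x
      obtain ⟨_, ⟨b, hb, rfl⟩, e⟩ := h x
      exact ⟨b, hb, by rw [← e, inv_mul_cancel_right]⟩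
    · intro h x
      obtain ⟨b, hb, e⟩ := h x
      exact ⟨_, ⟨b, hb, rfl⟩, by rw [← e, mul_inv_cancel_right]⟩
  choose L hL using fun i : Fin d => surjective_ev iB (M i i)
  let cj : (VecGrp.pt k k ⟶ G) → (G ⟶ G) := fun x => (toPt G ≫ x⁻¹) * 𝟙 G * (toPt G ≫ x)
  have hcj : ∀ x g : VecGrp.pt k k ⟶ G, g ≫ cj x = x⁻¹ * g * x := fun x g => by
    simp only [cj, MonObj.comp_mul, ← Category.assoc, comp_toPt, Category.id_comp, Category.comp_id]
  obtain ⟨V, _, v, hvm, hvc, hVs, hVn, hVK, -, -, huniv⟩ := exists_connected_subgroup K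
    {F | ∃ x f, F = ev (cj x) f ∧ (ev iB f = 0 ∨ ∃ i, f = L i - 1)} fun g => by
      rw [hK]
      constructor
      · rintro h _ ⟨x, f, rfl, hf⟩
        obtain ⟨b, hb, e⟩ := h x
        rw [pullFn_ev, hcj, _root_.mul_assoc, e, inv_mul_cancel_left]
        rcases hf with hf | ⟨i, rfl⟩
        · rw [← pullFn_ev, hf, map_zero]
        · rw [← pullFn_ev, map_sub, map_one, hL, map_sub, map_one, (mem_uni_iff hM b).mp hb i, sub_self]
      · intro h x
        obtain ⟨b, hb⟩ := (exists_lift_iff_vanish iB (x⁻¹ * g * x)).mpr fun f hf => by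
          rw [← hcj, ← pullFn_ev]
          exact h _ ⟨x, f, rfl, Or.inl hf⟩
        refine ⟨b, fun i => ?_, by rw [hb, ← _root_.mul_assoc, mul_inv_cancel_left]⟩
        have h2 := h _ ⟨x, L i - 1, rfl, Or.inr ⟨i, rfl⟩⟩
        rw [pullFn_ev, hcj, ← hb, ← pullFn_ev, map_sub, map_one, hL, map_sub, map_one, sub_eq_zero] at h2
        exact h2
  haveI := hvm; haveI := hvc; haveI := hVs; haveI := hVn
  haveI : Mono v := Over.mono_of_mono_left v
  haveI : IsAffine V.left := isAffine_of_isAffineHom v.left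
  haveI : IsReduced V.left := GrpSchLib.isReduced_of_smooth_field V.hom
  refine ⟨V, inferInstance, v, inferInstance, hvc, hVs, hVn, ?_, ?_, fun D _ _ _ f _ hf =>
    huniv D f fun p => (hK _).mpr fun x => hf p x⟩
  · -- normality, on all points
    haveI : IsReduced (G ⊗ V).left := GrpSchLib.isReduced_pullback_of_perfectField G.hom V.hom
    haveI : LocallyOfFiniteType (G ⊗ V).hom :=
      inferInstanceAs (LocallyOfFiniteType (pullback.fst G.hom V.hom ≫ G.hom))
    obtain ⟨m, hm⟩ := exists_factor_of_points v (fst G V * (snd G V ≫ v) * (fst G V)⁻¹) fun p => by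
      rw [MonObj.comp_mul, MonObj.comp_mul, GrpObj.comp_inv, ← Category.assoc]
      have hmem : (p ≫ snd G V) ≫ v ∈ K := hVK _
      -- conjugation by a point preserves the subgroup
      let x := p ≫ fst G V
      let g : 𝟙_ (Over (Spec (CommRingCat.of k))) ⟶ G := toPt _ ≫ x
      have hg : toUnit (VecGrp.pt k k) ≫ g = x := by
        show _ ≫ toPt _ ≫ x = _
        rw [← Category.assoc, toUnit_toPt, Category.id_comp]
      obtain ⟨w, hw⟩ := huniv V (v ≫ inner g) fun q => by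
        rw [← Category.assoc, comp_inner, hg]
        refine (hK _).mpr fun y => ?_
        obtain ⟨b, hb, e⟩ := (hK _).mp (hVK q) (x⁻¹ * y)
        refine ⟨b, hb, ?_⟩
        rw [_root_.mul_assoc, _root_.mul_assoc, e, ← _root_.mul_assoc, mul_inv_cancel_left]
      refine ⟨(p ≫ snd G V) ≫ w, ?_⟩
      rw [Category.assoc, hw, ← Category.assoc, comp_inner, hg]
    intro T' g n
    refine ⟨lift g n ≫ m, ?_⟩
    rw [Category.assoc, hm, MonObj.comp_mul, MonObj.comp_mul, GrpObj.comp_inv, lift_fst, lift_snd_assoc]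
  · intro S _ j _ _ hS
    obtain ⟨q1, q2, q3, -, -⟩ := TorusBasic.torus_props hS
    haveI := q1; haveI := q2; haveI := q3
    haveI : IsReduced S.left := GrpSchLib.isReduced_of_smooth_field S.hom
    have hpts : ∀ s : VecGrp.pt k k ⟶ S, ∃ b, b ∈ uni hM ∧ b ≫ iB = s ≫ j ≫ v := fun s => by
      obtain ⟨b, hb, e⟩ := (hK _).mp (hVK (s ≫ j)) 1
      exact ⟨b, hb, by rw [_root_.mul_one, _root_.one_mul] at e; rw [← e, Category.assoc]⟩
    obtain ⟨r, hr⟩ := exists_factor_of_points iB (j ≫ v) fun s => by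
      obtain ⟨b, -, hb⟩ := hpts s
      exact ⟨b, hb⟩
    haveI : IsMonHom (r ≫ iB) := hr ▸ inferInstance
    haveI : IsMonHom r := isMonHom_of_comp r iB
    have hr1 : r = 1 := torus_hom_eq_one_of_uni hM hS r fun s => by
      obtain ⟨b, hb, e⟩ := hpts s
      rwa [(cancel_mono iB).mp (show (s ≫ r) ≫ iB = b ≫ iB by rw [Category.assoc, hr, e])]
    refine isTrivialGrp_of_id_eq_one ((cancel_mono (j ≫ v)).mp ?_)
    rw [Category.id_comp, MonObj.one_comp, ← hr, hr1, MonObj.one_comp]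

variable [ConnectedSpace G.left]

set_option maxHeartbeats 1000000 in
/-- A connected subgroup killed in all Borel subgroups containing a maximal torus lies in a normal connected subgroup
without subtori. -/
theorem exists_normal_of_killed {T : Over (Spec (CommRingCat.of k))} [GrpObj T] (iT : T ⟶ G)
    (hT : AGF.IsMaxTorus iT) (iB : B ⟶ G) (hB : Red.IsBorelOver k iB) {H : Over (Spec (CommRingCat.of k))}
    [GrpObj H] [Smooth H.hom] [ConnectedSpace H.left] (i : H ⟶ G) [IsMonHom i] [IsClosedImmersion i.left]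
    (hH : ∀ (M : VecGrp.pt k k ⟶ G), (∀ t : VecGrp.pt k k ⟶ T, ∃ b : VecGrp.pt k k ⟶ B,
        (t ≫ iT) * M = M * (b ≫ iB)) →
      ∀ x : VecGrp.pt k k ⟶ H, ∃ b : VecGrp.pt k k ⟶ B, (x ≫ i) * M = M * (b ≫ iB) ∧
        ∀ ω : Fn B, IsChar ω → pullFn b ω = 1) :
    ∃ (V : Over (Spec (CommRingCat.of k))) (_ : GrpObj V) (v : V ⟶ G) (_ : IsMonHom v),
      IsClosedImmersion v.left ∧ Smooth V.hom ∧ ConnectedSpace V.left ∧ AlgGrp.IsNormalHom v ∧
      Red.HasNoSubtorus k V ∧ ∃ w : H ⟶ V, w ≫ v = i := by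
  classical
  obtain ⟨hBm, hBcl, hBsm, hBconn, hBsol, -⟩ := id hB
  haveI := hBm; haveI := hBcl; haveI := hBconn
  haveI : Mono iB := Over.mono_of_mono_left iB
  haveI : IsAffine H.left := isAffine_of_isAffineHom i.left
  haveI : IsReduced H.left := GrpSchLib.isReduced_of_smooth_field H.hom
  haveI := hT.1
  obtain ⟨q1, q2, q3, -, -⟩ := TorusBasic.torus_props hT.2.2.1
  haveI := q1; haveI := q2; haveI := q3
  obtain ⟨d, M, hM⟩ := exists_triangular (G := B) hBsol
  obtain ⟨V, hV, v, hvm, h1, h2, h3, h4, h5, huniv⟩ := exists_core iB hM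
  refine ⟨V, hV, v, hvm, h1, h2, h3, h4, h5, huniv H i fun p g => ?_⟩
  have hall := mem_all_conjugates iT hT iB hB i hH
  -- conjugation into the Borel subgroup
  have hconj : ∀ g : VecGrp.pt k k ⟶ G, ∃ (h : H ⟶ B) (_ : IsMonHom h), IsClosedImmersion h.left ∧
      ∀ p : VecGrp.pt k k ⟶ H, (p ≫ i) * g = g * ((p ≫ h) ≫ iB) := by
    intro g
    let c : 𝟙_ (Over (Spec (CommRingCat.of k))) ⟶ G := (toPt _ ≫ g)⁻¹
    have hc : toUnit (VecGrp.pt k k) ≫ c = g⁻¹ := by
      show _ ≫ (toPt _ ≫ g)⁻¹ = _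
      rw [GrpObj.comp_inv, ← Category.assoc, toUnit_toPt, Category.id_comp]
    obtain ⟨h, hh⟩ := exists_factor_of_points iB (i ≫ inner c) fun p => by
      obtain ⟨b, hb⟩ := hall g p
      exact ⟨b, by rw [← Category.assoc, comp_inner, hc, _root_.inv_inv, _root_.mul_assoc, hb, inv_mul_cancel_left]⟩
    haveI : IsMonHom (h ≫ iB) := hh ▸ inferInstance
    haveI : IsMonHom h := isMonHom_of_comp h iB
    haveI : IsClosedImmersion (h.left ≫ iB.left) := by
      rw [← Over.comp_left, hh, Over.comp_left]; infer_instance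
    refine ⟨h, inferInstance, IsClosedImmersion.of_comp h.left iB.left, fun p => ?_⟩
    rw [Category.assoc, hh, ← Category.assoc, comp_inner, hc, _root_.inv_inv]
    simp only [← _root_.mul_assoc, mul_inv_cancel, _root_.one_mul]
  -- the characters of the subgroup are trivial
  obtain ⟨g₁, -, hg₁⟩ := exists_fixed_solution iB (borel_cocompact iB hB) iT (isSolvableGrp_of_torus hT.2.2.1) ∅
    (fun _ _ _ f hf => absurd hf (Set.notMem_empty f)) (fun _ _ _ f hf => absurd hf (Set.notMem_empty f))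
    ⟨1, fun f hf => absurd hf (Set.notMem_empty f)⟩
  obtain ⟨h₁, hh₁m, hh₁c, hh₁⟩ := hconj g₁
  haveI := hh₁m; haveI := hh₁c
  have hMH := isTriangular_restrict h₁ hM
  have hchar : ∀ (a : Fn H), IsChar a → ∀ p : VecGrp.pt k k ⟶ H, pullFn p a = 1 := fun a ha p =>
    char_eq_one_of_uni hMH ha fun j => by
      obtain ⟨b, hb, hbω⟩ := hH g₁ hg₁ p
      have e : b = p ≫ h₁ := (cancel_mono iB).mp (mul_left_cancel (hb.symm.trans (hh₁ p)))
      rw [matHom_apply, Matrix.map_apply, pullFn_ev, ← e]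
      exact hbω _ (isChar_diag hM j)
  obtain ⟨h, hhm, -, hh⟩ := hconj g
  haveI := hhm
  refine ⟨p ≫ h, fun j => ?_, hh p⟩
  rw [matHom_apply, ← pullFn_ev]
  exact hchar _ ⟨fun a b => by
    rw [pullFn_ev, pullFn_ev, pullFn_ev, MonObj.mul_comp, (isChar_diag hM j).1],
    by rw [pullFn_ev, MonObj.one_comp, (isChar_diag hM j).2]⟩ p

omit [IsAffine B.left] [Smooth B.hom] [GrpObj B] in
set_option maxHeartbeats 2000000 in
/-- A maximal torus of a reductive group is its own centralizer. -/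
theorem isCentralizerOf_self_of_reductive {T : Over (Spec (CommRingCat.of k))} [GrpObj T] (iT : T ⟶ G)
    (hT : AGF.IsMaxTorus iT) (hG : Red.IsReductiveOver k G) : Red.IsCentralizerOf iT iT := by
  classical
  obtain ⟨hTm, hTmo, hTt, -⟩ := id hT
  haveI := hTm; haveI := hTmo
  obtain ⟨q1, q2, q3, -, -⟩ := TorusBasic.torus_props hTt
  haveI := q1; haveI := q2; haveI := q3
  haveI : IsReduced T.left := GrpSchLib.isReduced_of_smooth_field T.hom
  haveI : IsClosedImmersion iT.left := torus_isClosedImmersion hTt iT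
  obtain ⟨C, _, hCa, hCs, hCn, iC, hiC, d, M, hM, iS, hcl, -, hiS, hfull, hcomm, -, -, huniv⟩ := exists_cartan iT hT
  haveI := hCa; haveI := hCs; haveI := hCn; haveI := hiC; haveI := hcl
  haveI : Mono iC := Over.mono_of_mono_left iC
  haveI : IsReduced C.left := GrpSchLib.isReduced_of_smooth_field C.hom
  obtain ⟨hSm, hScl, -, hSfull, -⟩ := id hfull
  haveI := hSm; haveI := hScl
  obtain ⟨C', _, c', hm', hcc', hu'⟩ := TransLib.exists_centralizer iT
  haveI := hm'; haveI := hcc'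
  haveI : Mono c' := Over.mono_of_mono_left c'
  have hcen : Red.IsCentralizerOf iT c' := ⟨inferInstance, inferInstance, hu'⟩
  obtain ⟨hs', -, hn'⟩ := centralizer_smooth_connected iT hTt c' hcen
  haveI := hs'; haveI := hn'
  haveI : IsAffine C'.left := isAffine_of_isAffineHom c'.left
  haveI : IsReduced C'.left := GrpSchLib.isReduced_of_smooth_field C'.hom
  obtain ⟨v', hv'⟩ := huniv C' c' fun p s => by
    have e := (hu' _ (p ≫ c')).mp ⟨p, rfl⟩ _ (𝟙 _) s
    rw [Category.id_comp] at e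
    exact e.symm
  -- the Cartan subgroup lies in the Borel subgroups containing the torus
  haveI : Smooth (T ⊗ C).hom := GrpFieldLib.SolvBound.tensor_property (P := @Smooth) q1 hCs
  haveI : IsReduced (T ⊗ C).left := GrpSchLib.isReduced_of_smooth_field (T ⊗ C).hom
  haveI : IsSeparated G.hom := AntiAffine.isSeparated_grp G
  have hcomm' : (fst T C ≫ iT) * (snd T C ≫ iC) = (snd T C ≫ iC) * (fst T C ≫ iT) := hom_ext_points_sep fun p => by
    rw [MonObj.comp_mul, MonObj.comp_mul, ← Category.assoc, ← Category.assoc]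
    exact (hcomm (p ≫ snd T C) (p ≫ fst T C)).eq
  obtain ⟨u, hu⟩ := (hu' C iC).mpr fun X' x h => by
    have e := congrArg (lift h x ≫ ·) hcomm'
    simp only [MonObj.comp_mul, lift_fst_assoc, lift_snd_assoc] at e
    exact e.symm
  obtain ⟨B₀, _, iB₀, hB₀, -⟩ := exists_borel (G := G)
  obtain ⟨hBm, hBcl, hBsm, hBconn, -, -⟩ := id hB₀
  haveI := hBm; haveI := hBcl; haveI := hBsm; haveI := hBconn
  haveI : IsAffine B₀.left := isAffine_of_isAffineHom iB₀.left
  have hCB : ∀ (M₀ : VecGrp.pt k k ⟶ G),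
      (∀ t : VecGrp.pt k k ⟶ T, ∃ b : VecGrp.pt k k ⟶ B₀, (t ≫ iT) * M₀ = M₀ * (b ≫ iB₀)) →
      ∃ (h : C ⟶ B₀) (_ : IsMonHom h), ∀ x, (x ≫ iC) * M₀ = M₀ * ((x ≫ h) ≫ iB₀) := by
    intro M₀ hM₀
    let g : 𝟙_ (Over (Spec (CommRingCat.of k))) ⟶ G := toPt _ ≫ M₀
    have hg : toUnit (VecGrp.pt k k) ≫ g = M₀ := by
      show _ ≫ toPt _ ≫ M₀ = _
      rw [← Category.assoc, toUnit_toPt, Category.id_comp]
    have hB' := isBorelOver_inner iB₀ hB₀ g
    haveI := hB'.1; haveI := hB'.2.1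
    haveI : Mono (iB₀ ≫ inner g) := Over.mono_of_mono_left _
    obtain ⟨t, ht⟩ := exists_factor_of_points (iB₀ ≫ inner g) iT fun s => by
      obtain ⟨b, hb⟩ := hM₀ s
      exact ⟨b, by rw [← Category.assoc, comp_inner, hg, ← hb, mul_inv_cancel_right]⟩
    obtain ⟨D, _, dC, _, dB, hD⟩ := exists_grp_pullback c' (iB₀ ≫ inner g)
    haveI := centralizer_le_borel_algClosed iT hT c' hcen (iB₀ ≫ inner g) hB' t ht dC dB hD
    let h : C ⟶ B₀ := u ≫ inv dC ≫ dB
    have hh : h ≫ iB₀ ≫ inner g = iC := by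
      simp only [h, Category.assoc, ← hD.w, IsIso.inv_hom_id_assoc, hu]
    haveI : IsMonHom (h ≫ iB₀ ≫ inner g) := hh.symm ▸ hiC
    haveI : IsMonHom h := isMonHom_of_comp h (iB₀ ≫ inner g)
    refine ⟨h, inferInstance, fun x => ?_⟩
    conv_lhs => rw [← hh, ← Category.assoc, ← Category.assoc, comp_inner, hg]
    rw [inv_mul_cancel_right]
  -- the unipotent part
  obtain ⟨H, _, iH, hHm, hHc, hHs, hHn, hHuni, -, ⟨R, hR⟩, -⟩ := exists_connected_subgroup (uni hM)
    (Set.range fun j => M j j - 1) fun g => by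
      rw [mem_uni_iff, Set.forall_mem_range]
      exact forall_congr' fun j => by rw [map_sub, map_one, sub_eq_zero]
  haveI := hHm; haveI := hHc; haveI := hHs; haveI := hHn
  haveI : Mono iH := Over.mono_of_mono_left iH
  haveI : IsClosedImmersion (iH ≫ iC).left := by rw [Over.comp_left]; infer_instance
  obtain ⟨V, _, v, hvm, hv1, hv2, hv3, hv4, hv5, w, hw⟩ := exists_normal_of_killed iT hT iB₀ hB₀ (iH ≫ iC)
    fun M₀ hM₀ x => by
      obtain ⟨h, _, hh⟩ := hCB M₀ hM₀
      refine ⟨(x ≫ iH) ≫ h, by rw [← hh, Category.assoc], fun ω hω => ?_⟩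
      rw [← pullFn_ev]
      exact char_eq_one_of_uni hM (χ := ev h ω)
        ⟨fun a b => by rw [pullFn_ev, pullFn_ev, pullFn_ev, MonObj.mul_comp, hω.1],
          by rw [pullFn_ev, MonObj.one_comp, hω.2]⟩ (hHuni x)
  have hH1 : ∀ x : VecGrp.pt k k ⟶ H, x ≫ iH = 1 := fun x => by
    rw [← cancel_mono iC, Category.assoc, ← hw, eq_one_of_isTrivialGrp (hG.2.2.2 V v hv1 hv2 hv3 hv4 hv5) w,
      MonObj.one_comp, MonObj.comp_one, MonObj.one_comp]
  -- the torus has all points of the Cartan subgroup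
  haveI := isDomain_fn (G := C)
  have hCT : ∀ c : VecGrp.pt k k ⟶ C, ∃ t : VecGrp.pt k k ⟶ T, t ≫ iS = c := by
    intro c
    refine (exists_lift_iff_vanish iS c).mpr fun f hf => ?_
    suffices hf0 : f = 0 by rw [hf0, map_zero]
    have h0 : ∏ r ∈ R, ev (𝟙 C * (toPt C ≫ r⁻¹)) f = 0 := eq_of_forall_point fun x => by
      obtain ⟨t, ht⟩ := hSfull x
      obtain ⟨r, hr, y, hy⟩ := hR ((t ≫ iS)⁻¹ * x) ((diagHom_eq_iff hM _ _).mp ht)
      rw [map_prod, map_zero]
      refine Finset.prod_eq_zero hr ?_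
      rw [pullFn_ev, MonObj.comp_mul, Category.comp_id, ← Category.assoc, comp_toPt, Category.id_comp]
      rw [hH1 y, _root_.mul_one] at hy
      rw [hy, _root_.mul_inv_rev, _root_.inv_inv, ← _root_.mul_assoc, mul_inv_cancel, _root_.one_mul, ← pullFn_ev, hf,
        map_zero]
    obtain ⟨r, -, hr⟩ := Finset.prod_eq_zero_iff.mp h0
    refine eq_of_forall_point fun x => ?_
    have h := congrArg (pullFn (x * r)) hr
    rw [pullFn_ev, MonObj.comp_mul, Category.comp_id, ← Category.assoc, comp_toPt, Category.id_comp,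
      mul_inv_cancel_right, map_zero] at h
    rw [h, map_zero]
  obtain ⟨e, he⟩ := exists_factor_of_points iT c' fun p => by
    obtain ⟨t, ht⟩ := hCT (p ≫ v')
    exact ⟨t, by rw [← hiS, ← Category.assoc, ht, Category.assoc, hv']⟩
  refine ⟨inferInstance, inferInstance, fun X g => ⟨?_, fun h => ?_⟩⟩
  · rintro ⟨z, rfl⟩ X' x h
    rw [← Category.assoc, ← MonObj.mul_comp, ← MonObj.mul_comp, TorusBilin.comm_of_isTorus hTt]
  · obtain ⟨z, hz⟩ := (hu' X g).mpr h
    exact ⟨z ≫ e, by rw [Category.assoc, he, hz]⟩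

end Groth.Agent.GModLib
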