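import Groth.Agent.GModLib.UnipotentRadical
import Groth.Agent.GModLib.CentreTori
import Groth.Agent.GModLib.CentralizerBC
import Groth.Agent.GModLib.TorusBC

/-!
# Centralizers of tori in reductive groups are reductive
-/

set_option autoImplicit false
set_option backward.isDefEq.respectTransparency false
set_option backward.isDefEq.respectTransparency.types false

universe u

open CategoryTheory Limits AlgebraicGeometry MonoidalCategory CartesianMonoidalCategory MonObj GrpObj

namespace Groth.Agent.GModLib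

open GrpSchLib GrpSchLib.Kunneth

variable {k : Type u} [Field k] [IsAlgClosed k]

/-- A maximal torus of the centralizer of a torus is maximal in the group and contains the torus. -/
theorem exists_maxTorus_through {G S C : Over (Spec (CommRingCat.of k))} [GrpObj G] [IsAffine G.left] [Smooth G.hom]
    [ConnectedSpace G.left] [GrpObj S] [GrpObj C] (iS : S ⟶ G) [IsMonHom iS] [Mono iS] (hS : Red.IsTorus S)
    (c : C ⟶ G) (hc : Red.IsCentralizerOf iS c) :
    ∃ (T : Over (Spec (CommRingCat.of k))) (_ : GrpObj T) (iT : T ⟶ G) (e : S ⟶ T), AGF.IsMaxTorus iT ∧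
      e ≫ iT = iS ∧ ∃ (iT' : T ⟶ C), iT' ≫ c = iT := by
  haveI := hc.1; haveI := hc.2.1
  obtain ⟨hs, hcl, hn⟩ := centralizer_smooth_connected iS hS c hc
  haveI := hs; haveI := hcl; haveI := hn
  haveI : IsAffine C.left := isAffine_of_isAffineHom c.left
  obtain ⟨T, _, iT', hT'⟩ := exists_maxTorus C
  haveI := hT'.1; haveI := hT'.2.1
  obtain ⟨j, hj⟩ := (hc.2.2 S iS).mpr fun X x h => by
    rw [← MonObj.mul_comp, ← MonObj.mul_comp, TorusBilin.comm_of_isTorus hS]
  haveI : IsMonHom (j ≫ c) := hj.symm ▸ ‹IsMonHom iS›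
  haveI : IsMonHom j := isMonHom_of_comp j c
  obtain ⟨e, he⟩ := central_multType_factors iT' hT' (RankOne.isMultTypeFT_of_isTorus hS) j fun X x g =>
    (cancel_mono c).mp (by
      have h := (hc.2.2 X (g ≫ c)).mp ⟨g, rfl⟩ X (𝟙 X) x
      rw [MonObj.mul_comp, MonObj.mul_comp, Category.assoc, hj]
      rw [Category.id_comp] at h
      exact h.symm)
  have hes : e ≫ iT' ≫ c = iS := by rw [← Category.assoc, he, hj]
  refine ⟨T, inferInstance, iT' ≫ c, e, ⟨inferInstance, inferInstance, hT'.2.2.1, ?_⟩, hes, iT', rfl⟩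
  intro T' _ r _ _ f hTt hf
  obtain ⟨r', hr⟩ := (hc.2.2 T' r).mpr fun X x h => by
    rw [← hes, show h ≫ e ≫ iT' ≫ c = (h ≫ e ≫ f) ≫ r by rw [← hf]; simp only [Category.assoc],
      ← MonObj.mul_comp, ← MonObj.mul_comp, TorusBilin.comm_of_isTorus hTt]
  haveI : IsMonHom (r' ≫ c) := hr.symm ▸ ‹IsMonHom r›
  haveI : IsMonHom r' := isMonHom_of_comp r' c
  haveI : Mono (r' ≫ c) := hr.symm ▸ ‹Mono r›
  haveI : Mono r' := mono_of_mono r' c
  exact hT'.2.2.2 T' r' f hTt ((cancel_mono c).mp (by rw [Category.assoc, hr, hf]))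

set_option maxHeartbeats 1000000 in
/-- A normal subgroup without subtori of the centralizer of a torus lies in such a subgroup of the group. -/
theorem exists_normal_over_centralizer {G S C U : Over (Spec (CommRingCat.of k))} [GrpObj G] [IsAffine G.left]
    [Smooth G.hom] [ConnectedSpace G.left] [GrpObj S] [GrpObj C] [GrpObj U] (iS : S ⟶ G) [IsMonHom iS] [Mono iS]
    (hS : Red.IsTorus S) (c : C ⟶ G) (hc : Red.IsCentralizerOf iS c) (u : U ⟶ C) [IsMonHom u]
    [IsClosedImmersion u.left] [Smooth U.hom] [ConnectedSpace U.left] (hnorm : AlgGrp.IsNormalHom u)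
    (hno : Red.HasNoSubtorus k U) :
    ∃ (V : Over (Spec (CommRingCat.of k))) (_ : GrpObj V) (v : V ⟶ G) (_ : IsMonHom v),
      IsClosedImmersion v.left ∧ Smooth V.hom ∧ ConnectedSpace V.left ∧ AlgGrp.IsNormalHom v ∧
      Red.HasNoSubtorus k V ∧ ∃ w : U ⟶ V, w ≫ v = u ≫ c := by
  haveI := hc.1; haveI := hc.2.1
  obtain ⟨hs, hcl, hn⟩ := centralizer_smooth_connected iS hS c hc
  haveI := hs; haveI := hcl; haveI := hn
  haveI : IsAffine C.left := isAffine_of_isAffineHom c.left
  haveI : IsAffine U.left := isAffine_of_isAffineHom u.left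
  haveI : IsReduced U.left := GrpSchLib.isReduced_of_smooth_field U.hom
  haveI : Mono u := Over.mono_of_mono_left u
  obtain ⟨T, _, iT, e, hT, he, iT', hiT'⟩ := exists_maxTorus_through iS hS c hc
  haveI := hT.1; haveI := hT.2.1
  obtain ⟨q1, q2, q3, -, -⟩ := TorusBasic.torus_props hT.2.2.1
  haveI := q1; haveI := q2; haveI := q3
  haveI : IsReduced T.left := GrpSchLib.isReduced_of_smooth_field T.hom
  obtain ⟨s1, s2, s3, -, -⟩ := TorusBasic.torus_props hS
  haveI := s1; haveI := s2; haveI := s3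
  haveI : IsReduced S.left := GrpSchLib.isReduced_of_smooth_field S.hom
  obtain ⟨B₀, _, iB₀, hB₀, -⟩ := exists_borel (G := G)
  haveI := hB₀.1; haveI := hB₀.2.1; haveI : Smooth B₀.hom := hB₀.2.2.1; haveI := hB₀.2.2.2.1
  haveI : IsAffine B₀.left := isAffine_of_isAffineHom iB₀.left
  haveI : Mono iB₀ := Over.mono_of_mono_left iB₀
  haveI : IsClosedImmersion (u ≫ c).left := by rw [Over.comp_left]; infer_instance
  refine exists_normal_of_killed iT hT iB₀ hB₀ (u ≫ c)
    fun M hM x => by
      let g : 𝟙_ (Over (Spec (CommRingCat.of k))) ⟶ G := toPt _ ≫ M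
      have hg : toUnit (VecGrp.pt k k) ≫ g = M := by
        show _ ≫ toPt _ ≫ M = _
        rw [← Category.assoc, toUnit_toPt, Category.id_comp]
      have hB' := isBorelOver_inner iB₀ hB₀ g
      haveI := hB'.1; haveI := hB'.2.1
      haveI : Mono (iB₀ ≫ inner g) := Over.mono_of_mono_left _
      obtain ⟨t, ht⟩ := exists_factor_of_points (iB₀ ≫ inner g) iT fun s => by
        obtain ⟨b, hb⟩ := hM s
        exact ⟨b, by rw [← Category.assoc, comp_inner, hg, ← hb, mul_inv_cancel_right]⟩
      haveI : IsMonHom (t ≫ iB₀ ≫ inner g) := ht.symm ▸ hT.1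
      haveI : IsMonHom t := isMonHom_of_comp t (iB₀ ≫ inner g)
      have het : (e ≫ t) ≫ iB₀ ≫ inner g = iS := by rw [Category.assoc, ht, he]
      haveI : IsMonHom ((e ≫ t) ≫ iB₀ ≫ inner g) := het.symm ▸ ‹IsMonHom iS›
      haveI : IsMonHom (e ≫ t) := isMonHom_of_comp (e ≫ t) (iB₀ ≫ inner g)
      obtain ⟨H, _, iH, hH, hHB, -⟩ := exists_borel_of_centralizer (iB₀ ≫ inner g) hB' hS (e ≫ t) c
        (fun p s => by
          rw [het]
          have h := (hc.2.2 _ (p ≫ c)).mp ⟨p, rfl⟩ _ (𝟙 _) s
          rw [Category.id_comp] at h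
          exact h.symm)
        (fun y hy => by
          let cy : S ⟶ G := (toPt S ≫ y) * iS
          let yc : S ⟶ G := iS * (toPt S ≫ y)
          haveI : IsSeparated G.hom := AntiAffine.isSeparated_grp G
          have hcy : cy = yc := hom_ext_points_sep fun s => by
            simp only [cy, yc, MonObj.comp_mul, ← Category.assoc, comp_toPt, Category.id_comp]
            have h := hy s
            rw [het] at h
            exact h.eq.symm
          refine (hc.2.2 _ y).mpr fun X x h => ?_
          have h1 := congrArg (h ≫ ·) hcy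
          simp only [cy, yc, MonObj.comp_mul, ← Category.assoc h (toPt S), eq_toPt (h ≫ toPt S)] at h1
          rw [eq_toPt x]
          exact h1)
      obtain ⟨f, hf⟩ := normal_noSubtorus_le_borel u hnorm hno iH hH
      obtain ⟨b, hb⟩ := hHB (x ≫ f)
      have hxb : (x ≫ u ≫ c) = (b ≫ iB₀ ≫ inner g) := by
        rw [hb, ← hf]; simp only [Category.assoc]
      refine ⟨b, ?_, fun ω hω => ?_⟩
      · conv_lhs => rw [hxb, ← Category.assoc, comp_inner, hg]
        rw [inv_mul_cancel_right]
      · obtain ⟨h, hh⟩ := exists_factor_of_points (iB₀ ≫ inner g) (u ≫ c) fun p => by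
          obtain ⟨b', hb'⟩ := hHB (p ≫ f)
          exact ⟨b', by rw [hb', ← hf]; simp only [Category.assoc]⟩
        haveI : IsMonHom (h ≫ iB₀ ≫ inner g) := hh.symm ▸ inferInstance
        haveI : IsMonHom h := isMonHom_of_comp h (iB₀ ≫ inner g)
        have hbx : b = x ≫ h := (cancel_mono (iB₀ ≫ inner g)).mp (by rw [← hxb, Category.assoc x h, hh])
        rw [hbx, ← pullFn_ev]
        exact char_eq_one_of_hasNoSubtorus hno (ω := ev h ω)
          ⟨fun a b => by rw [pullFn_ev, pullFn_ev, pullFn_ev, MonObj.mul_comp, hω.1],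
            by rw [pullFn_ev, MonObj.one_comp, hω.2]⟩ x

/-- The centralizer of a torus in a reductive group is reductive. -/
theorem isReductiveOver_centralizer {G S C : Over (Spec (CommRingCat.of k))} [GrpObj G] [GrpObj S] [GrpObj C]
    (hG : Red.IsReductiveOver k G) (iS : S ⟶ G) [IsMonHom iS] [Mono iS] (hS : Red.IsTorus S)
    (c : C ⟶ G) (hc : Red.IsCentralizerOf iS c) : Red.IsReductiveOver k C := by
  obtain ⟨ha, hsm, hcn, hred⟩ := hG
  haveI := ha; haveI := hsm; haveI := hcn
  haveI := hc.1; haveI := hc.2.1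
  obtain ⟨hs, hcl, hn⟩ := centralizer_smooth_connected iS hS c hc
  haveI := hs; haveI := hcl; haveI := hn
  haveI : IsAffine C.left := isAffine_of_isAffineHom c.left
  refine ⟨inferInstance, hs, hn, fun U _ u _ hu hUs hUn hnorm hno => ?_⟩
  haveI := hu; haveI := hUs; haveI := hUn
  haveI : Mono u := Over.mono_of_mono_left u
  obtain ⟨V, _, v, hvm, hv1, hv2, hv3, hv4, hv5, w, hw⟩ :=
    exists_normal_over_centralizer iS hS c hc u hnorm hno
  haveI := hvm
  refine isTrivialGrp_of_id_eq_one ((cancel_mono (u ≫ c)).mp ?_)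
  rw [Category.id_comp, MonObj.one_comp, ← hw, eq_one_of_isTrivialGrp (hred V v hv1 hv2 hv3 hv4 hv5) w,
    MonObj.one_comp]

set_option maxHeartbeats 1000000 in
omit [IsAlgClosed k] in
/-- The centralizer of a torus in a reductive group over a field is reductive. -/
theorem isReductive_centralizer_field {G S C : Over (Spec (CommRingCat.of k))} [GrpObj G] [GrpObj S] [GrpObj C]
    (hG : Red.IsReductive G) (iS : S ⟶ G) [IsMonHom iS] [Mono iS] (hS : Red.IsTorus S)
    (c : C ⟶ G) (hc : Red.IsCentralizerOf iS c) : Red.IsReductive C := by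
  haveI : IsAffineHom G.hom := hG.1
  haveI : Smooth G.hom := hG.2.1
  haveI : IsAffine G.left := isAffine_of_isAffineHom G.hom
  haveI : ConnectedSpace G.left := by
    let s : Spec (CommRingCat.of k) := IsLocalRing.closedPoint k
    let σ := Red.geomPt s
    obtain ⟨-, -, hn, -⟩ := hG.2.2 s
    haveI : ConnectedSpace (pullback G.hom σ).carrier := hn
    haveI : Surjective σ := ⟨fun x => ⟨IsLocalRing.closedPoint _, @Subsingleton.elim (PrimeSpectrum k) _ _ _⟩⟩
    haveI : Surjective (pullback.fst G.hom σ) := MorphismProperty.pullback_fst _ _ inferInstance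
    exact (pullback.fst G.hom σ).surjective.connectedSpace (Scheme.Hom.continuous _)
  haveI := hc.1; haveI := hc.2.1
  obtain ⟨hs, hcl, hn⟩ := centralizer_smooth_connected iS hS c hc
  haveI := hs; haveI := hcl
  refine ⟨by rw [← Over.w c]; infer_instance, hs, fun s => ?_⟩
  exact isReductiveOver_centralizer (hG.2.2 s) ((Over.pullback (Red.geomPt s)).map iS) (isTorus_bc _ hS)
    ((Over.pullback (Red.geomPt s)).map c) (BC.isCentralizerOf_bc _ hc)

end Groth.Agent.GModLib
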