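import Groth.Agent.GModLib.CentreMultTypeGlobal

/-!
# Geometric fibres of reductive groups have self-centralizing tori
-/

set_option autoImplicit false
set_option linter.style.haveILetI false
set_option backward.isDefEq.respectTransparency false
set_option backward.isDefEq.respectTransparency.types false

universe u

open CategoryTheory CategoryTheory.Limits MonoidalCategory CartesianMonoidalCategory MonObj GrpObj AlgebraicGeometry

namespace Groth.Agent.GModLib

variable {S : Scheme.{u}} {G : Over S} [GrpObj G]

/-- A reductive group has connected fibres. -/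
theorem isConnected_fibre_of_isReductive (hG : Red.IsReductive G) (s : S) :
    _root_.IsConnected (G.hom.base ⁻¹' {s}) := by
  obtain ⟨-, -, hn, -⟩ := hG.2.2 s
  haveI : ConnectedSpace ↥(pullback G.hom (Red.geomPt s)) := hn
  have hr : Set.range (pullback.fst G.hom (Red.geomPt s)) = G.hom.base ⁻¹' {s} := by
    rw [Scheme.Pullback.range_fst]
    have : Set.range (Red.geomPt s) = {s} := by
      refine Set.eq_singleton_iff_unique_mem.mpr
        ⟨⟨IsLocalRing.closedPoint _, Scheme.fromSpecResidueField_apply s _⟩, ?_⟩
      rintro _ ⟨w, rfl⟩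
      exact Scheme.fromSpecResidueField_apply s _
    rw [this]
  rw [← hr]
  exact isConnected_range (pullback.fst G.hom (Red.geomPt s)).continuous

/-- The geometric fibres of a reductive group have self-centralizing maximal tori. -/
theorem exists_selfCentralizing_of_isReductive (hG : Red.IsReductive G) (s : S) :
    ∃ (T : Over (Spec (CommRingCat.of (AlgebraicClosure (S.residueField s))))) (_ : GrpObj T)
      (i : T ⟶ Red.bc (Red.geomPt s) G), Red.IsTorus T ∧ Red.IsCentralizerOf i i := by
  obtain ⟨ha, hs, hn, hred⟩ := hG.2.2 s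
  haveI := ha; haveI := hs; haveI := hn
  haveI : IsAffine (Red.bc (Red.geomPt s) G).left := ha
  haveI : Smooth (Red.bc (Red.geomPt s) G).hom := hs
  haveI : ConnectedSpace (Red.bc (Red.geomPt s) G).left := hn
  haveI : QuasiCompact (Red.bc (Red.geomPt s) G).hom := inferInstance
  obtain ⟨T, _, i, hi, -⟩ := exists_maxTorus_all (Red.bc (Red.geomPt s) G)
  haveI := hi.1; haveI := hi.2.1
  exact ⟨T, inferInstance, i, hi.2.2.1,
    isCentralizerOf_self_of_reductive (G := Red.bc (Red.geomPt s) G) i hi ⟨ha, hs, hn, hred⟩⟩

/-- The geometric fibres of a group of unipotent rank zero have self-centralizing maximal tori. -/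
theorem exists_selfCentralizing_of_unipotentRankZero [Smooth G.hom] [QuasiCompact G.hom]
    (hconn : ∀ s : S, _root_.IsConnected (G.hom.base ⁻¹' {s})) (hu : SGA3x.UnipotentRankZero G) (s : S) :
    ∃ (T : Over (Spec (CommRingCat.of (AlgebraicClosure (S.residueField s))))) (_ : GrpObj T)
      (i : T ⟶ Red.bc (Red.geomPt s) G), Red.IsTorus T ∧ Red.IsCentralizerOf i i := by
  haveI : Smooth (Red.bc (Red.geomPt s) G).hom := inferInstanceAs (Smooth (pullback.snd G.hom _))
  haveI : QuasiCompact (Red.bc (Red.geomPt s) G).hom := inferInstanceAs (QuasiCompact (pullback.snd G.hom _))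
  haveI := connectedSpace_geomFibre hconn s
  obtain ⟨T, _, i, hi, -⟩ := exists_maxTorus_all (Red.bc (Red.geomPt s) G)
  exact ⟨T, inferInstance, i, hi.2.2.1, hu s T i (isMaximalTorus_of_isMaxTorus hi)⟩

end Groth.Agent.GModLib
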