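import Groth.Agent.GModLib.InverseWeight
import Groth.Prelude.Def_GmPts

/-!
# Semi-invariant vectors and semi-invariant functions
-/

universe u

open CategoryTheory Limits AlgebraicGeometry MonoidalCategory CartesianMonoidalCategory MonObj GrpObj TensorProduct
open TopologicalSpace

set_option backward.isDefEq.respectTransparency false
set_option backward.isDefEq.respectTransparency.types false

namespace Groth.Agent.GModLib

open GrpSchLib GrpSchLib.Kunneth

variable {k : Type u} [Field k] {G H : Over (Spec (CommRingCat.of k))}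

/-- The value of a character is the value of its function. -/
theorem chiVal_eq (χ : H ⟶ Red.Gm (Spec (CommRingCat.of k))) {B : Type u} [CommRing B] [Algebra k B]
    (h : VecGrp.pt k B ⟶ H) : VecGrp.chiVal χ h = pullFn h (Red.gmFn χ) := by
  rw [VecGrp.chiVal, GmPts.gmFn_comp]
  rfl

variable [GrpObj G] [GrpObj H] (i : H ⟶ G)

omit [GrpObj H] in
/-- A semi-invariant vector gives a semi-invariant function. -/
theorem exists_fn_of_vec {V : Type u} [AddCommGroup V] [Module k V] (ρ : VecGrp.GMod G V) {v : V} (hv : v ≠ 0)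
    (c : (VecGrp.pt k k ⟶ H) → k) (hc : ∀ h, ρ.ρ k (h ≫ i) ((1 : k) ⊗ₜ[k] v) = c h • ((1 : k) ⊗ₜ[k] v)) :
    ∃ f : Fn G, pullFn (1 : VecGrp.pt k k ⟶ G) f ≠ 0 ∧
      ∀ (x : VecGrp.pt k k ⟶ G) (h : VecGrp.pt k k ⟶ H), pullFn (x * (h ≫ i)) f = c h * pullFn x f := by
  obtain ⟨φ, hφ⟩ : ∃ φ : Module.Dual k V, φ v ≠ 0 := by
    by_contra hall
    push_neg at hall
    exact hv ((Module.forall_dual_apply_eq_zero_iff k v).mp hall)
  let co : ∀ (B : Type u) [CommRing B] [Algebra k B], B ⊗[k] V →ₗ[B] B := fun B _ _ =>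
    (TensorProduct.AlgebraTensorModule.rid k B B).toLinearMap ∘ₗ φ.baseChange B
  have hco : ∀ {B B' : Type u} [CommRing B] [Algebra k B] [CommRing B'] [Algebra k B'] (e : B →ₐ[k] B')
      (x : B ⊗[k] V), e (co B x) = co B' (VecGrp.Wmap e x) := by
    intro B B' _ _ _ _ e x
    induction x using TensorProduct.induction_on with
    | zero => simp
    | tmul r y => simp [co]
    | add x y hx hy => simp only [map_add, hx, hy]
  obtain ⟨f, hf⟩ := exists_fn (G := G) (fun B _ _ x => co B (ρ.ρ B x ((1 : B) ⊗ₜ[k] v)))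
    (fun e x => by rw [hco, ρ.naturality]; simp)
  refine ⟨f, ?_, fun x h => ?_⟩
  · rw [← hf, map_one]
    simpa [co] using hφ
  · rw [← hf, ← hf, map_mul, LinearEquiv.mul_apply, hc, map_smul, map_smul, smul_eq_mul]

variable [IsAlgClosed k] [IsAffine G.left] [Smooth G.hom] [Smooth H.hom]

omit [GrpObj H] in
/-- A semi-invariant function gives a semi-invariant vector. -/
theorem exists_vec_of_fn (χ : H ⟶ Red.Gm (Spec (CommRingCat.of k))) {f : Fn G} (hf : f ≠ 0)
    (hw : ∀ (x : VecGrp.pt k k ⟶ G) (h : VecGrp.pt k k ⟶ H),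
      pullFn (x * (h ≫ i)) f = pullFn h (Red.gmFn χ) * pullFn x f) :
    ∃ (V : Type u) (_ : AddCommGroup V) (_ : Module k V) (_ : Module.Finite k V) (ρ : VecGrp.GMod G V) (v : V), v ≠ 0 ∧
      ∀ (B : Type u) [CommRing B] [Algebra k B] (h : VecGrp.pt k B ⟶ H),
        ρ.ρ B (h ≫ i) ((1 : B) ⊗ₜ[k] v) = VecGrp.chiVal χ h • ((1 : B) ⊗ₜ[k] v) := by
  haveI : IsAffineHom G.hom := inferInstance
  haveI : IsReduced G.left := GrpSchLib.isReduced_of_smooth_field G.hom
  obtain ⟨n, M, w, cv, hM, hwli, hcv, hE⟩ := exists_matrix_vec (G := G) f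
  have hcv0 : cv ≠ 0 := fun h => hf (by rw [← hcv, h]; simp)
  refine ⟨Fin n → k, inferInstance, inferInstance, inferInstance, hM.gmod, cv, hcv0, fun B _ _ h => ?_⟩
  have hpts : ∀ (h : VecGrp.pt k k ⟶ H) (a : Fin n),
      (M.map (pullFn (h ≫ i))).mulVec cv a = pullFn h (Red.gmFn χ) * cv a := by
    intro h
    have h0 : ∑ a, ((M.map (pullFn (h ≫ i))).mulVec cv a - pullFn h (Red.gmFn χ) * cv a) • w a = 0 := by
      refine eq_of_forall_point fun x => ?_
      have e : ∀ j, pullFn (x * (h ≫ i)) (w j) = ∑ a, pullFn x (w a) * pullFn (h ≫ i) (M a j) := fun j => by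
        have := congrArg (fun z => (Scheme.ΓSpecIso (CommRingCat.of k)).hom z) (hE _ x (h ≫ i) j)
        simp only [map_sum, map_mul] at this
        exact this
      have e1 := hw x h
      rw [← hcv] at e1
      simp only [map_sum, map_smul, e, smul_eq_mul, Finset.mul_sum, Matrix.mulVec, dotProduct, Matrix.map_apply,
        map_zero, sub_mul, Finset.sum_sub_distrib, Finset.sum_mul, sub_eq_zero] at e1 ⊢
      rw [Finset.sum_comm] at e1
      refine Eq.trans (Eq.trans ?_ e1) ?_
      · exact Finset.sum_congr rfl fun a _ => Finset.sum_congr rfl fun b _ => by ring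
      · exact Finset.sum_congr rfl fun a _ => by ring
    exact fun a => sub_eq_zero.1 (Fintype.linearIndependent_iff.1 hwli _ h0 a)
  refine (stdB k n B).repr.injective (Finsupp.ext fun a => ?_)
  let F : ∀ (B : Type u) [CommRing B] [Algebra k B], (VecGrp.pt k B ⟶ H) → B :=
    fun B _ _ h => ∑ b, pullFn (h ≫ i) (M a b) * algebraMap k B (cv b)
  have key := eq_fam_of_points F (fun B _ _ h => pullFn h (Red.gmFn χ) * algebraMap k B (cv a))
    (fun φ g => by simp [F, ← pullFn_ptMap])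
    (fun φ g => by simp [← pullFn_ptMap])
    (fun g => by simpa [F, Matrix.mulVec, dotProduct, mul_comm] using hpts g a) B h
  have hv : (1 : B) ⊗ₜ[k] cv = ∑ j, algebraMap k B (cv j) • stdB k n B j := by
    conv_lhs => rw [← (Pi.basisFun k (Fin n)).sum_repr cv]
    simp [TensorProduct.tmul_sum, Algebra.TensorProduct.basis_apply, TensorProduct.tmul_smul, algebraMap_smul]
  rw [show hM.gmod.ρ B (h ≫ i) ((1 : B) ⊗ₜ[k] cv) = endHom hM B (h ≫ i) ((1 : B) ⊗ₜ[k] cv) from rfl, hv,
    chiVal_eq]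
  simp only [map_sum, map_smul, endHom_basis, Finsupp.coe_finset_sum, Finset.sum_apply, Finsupp.smul_apply,
    Module.Basis.repr_self, smul_eq_mul, Finsupp.single_apply, mul_ite, _root_.mul_one, MulZeroClass.mul_zero,
    Finset.sum_ite_eq', Finset.mem_univ, if_true]
  simpa [F, mul_comm] using key

omit [GrpObj G] [IsAffine G.left] [Smooth G.hom] in
/-- A multiplicative function with value one at the unit is a character. -/
theorem exists_character (c : Fn H) (h1 : pullFn (1 : VecGrp.pt k k ⟶ H) c = 1)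
    (hmul : ∀ g h : VecGrp.pt k k ⟶ H, pullFn (g * h) c = pullFn g c * pullFn h c) :
    ∃ χ : H ⟶ Red.Gm (Spec (CommRingCat.of k)), IsMonHom χ ∧ Red.gmFn χ = c := by
  haveI : IsReduced H.left := GrpSchLib.isReduced_of_smooth_field H.hom
  have hinv : c * ev ((𝟙 H)⁻¹) c = 1 := eq_of_forall_point fun p => by
    rw [map_mul, pullFn_ev, map_one, GrpObj.comp_inv, Category.comp_id, ← hmul, mul_inv_cancel, h1]
  let v : (Fn H)ˣ := Units.mkOfMulEqOne c _ hinv
  let χ : H ⟶ Red.Gm (Spec (CommRingCat.of k)) := GmPts.ptOfUnit v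
  have hχ : Red.gmFn χ = c := GmPts.gmFn_ptOfUnit v
  refine ⟨χ, ?_, hχ⟩
  haveI : Smooth (H ⊗ H).hom := inferInstanceAs (Smooth (Limits.pullback.fst H.hom H.hom ≫ H.hom))
  haveI : IsReduced (H ⊗ H).left := GrpSchLib.isReduced_of_smooth_field (H ⊗ H).hom
  have hm : μ[H] ≫ χ = (fst H H ≫ χ) * (snd H H ≫ χ) := by
    refine GmPts.gmFn_injective ?_
    show Red.gmFn _ = Red.gmFn _
    rw [GmPts.gmFn_mul, GmPts.gmFn_comp, GmPts.gmFn_comp, GmPts.gmFn_comp, hχ]
    show ev μ[H] c = ev (fst H H) c * ev (snd H H) c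
    refine eq_of_forall_point fun p => ?_
    rw [map_mul, pullFn_ev, pullFn_ev, pullFn_ev, ← hmul, Hom.mul_def]
    congr 2
    rw [← comp_lift, lift_fst_snd, Category.comp_id]
  refine { one_hom := ?_, mul_hom := ?_ }
  · refine GmPts.gmFn_injective ?_
    show Red.gmFn _ = Red.gmFn _
    rw [GmPts.gmFn_comp, hχ, show (η[Red.Gm (Spec (CommRingCat.of k))] : _) = 1 from by
      rw [Hom.one_def, toUnit_unit, Category.id_comp], GmPts.gmFn_one]
    show ev η[H] c = 1
    obtain ⟨r, hr⟩ := fn_unit_const (ev (η[H] : 𝟙_ _ ⟶ H) c)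
    have e : pullFn (1 : VecGrp.pt k k ⟶ H) c = r := by
      rw [show (1 : VecGrp.pt k k ⟶ H) = toUnit _ ≫ η[H] from rfl, ← pullFn_ev, ← hr, AlgHom.commutes]
      rfl
    rw [← hr, ← e, h1, map_one]
  · rw [hm, Hom.mul_def, lift_fst_comp_snd_comp]

end Groth.Agent.GModLib
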