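import Groth.Agent.GModLib.FibreHom
import Groth.Agent.ModPairLib.CoprodAdm
import Groth.Agent.GrpSchLib.MonoSubgroup

/-!
# Subgroups over a disjoint union of bases
-/

set_option autoImplicit false
set_option backward.isDefEq.respectTransparency false
set_option backward.isDefEq.respectTransparency.types false

universe u

open CategoryTheory Limits AlgebraicGeometry MonoidalCategory CartesianMonoidalCategory MonObj GrpObj

namespace Groth.Agent.GModLib

set_option maxHeartbeats 1000000 in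
/-- Subgroups given on the pieces of a disjoint union glue. -/
theorem exists_sigma_subgroup {J : Type u} {X : J → Scheme.{u}} (G : Over (∐ X)) [GrpObj G]
    (T : ∀ i, Over (X i)) [∀ i, GrpObj (T i)] (t : ∀ i, T i ⟶ Red.bc (Sigma.ι X i) G) [∀ i, IsMonHom (t i)]
    [∀ i, Mono (t i)] :
    ∃ (TT : Over (∐ X)) (_ : GrpObj TT) (tt : TT ⟶ G), IsMonHom tt ∧ Mono tt ∧
      ∀ i, ∃ φ : Red.bc (Sigma.ι X i) TT ≅ T i, IsMonHom φ.hom ∧
        φ.hom ≫ t i = (Over.pullback (Sigma.ι X i)).map tt := by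
  classical
  let g : J → Scheme.{u} := fun i => (T i).left
  let hm : ∀ i, g i ⟶ X i := fun i => (T i).hom
  let tl : (∐ g) ⟶ G.left := Sigma.desc fun i => (t i).left ≫ pullback.fst G.hom (Sigma.ι X i)
  have hbase : tl ≫ G.hom = Limits.Sigma.map hm := Sigma.hom_ext _ _ fun i => by
    rw [Sigma.ι_desc_assoc, Limits.Sigma.ι_map, Category.assoc, pullback.condition, ← Category.assoc]
    exact congrArg (· ≫ Sigma.ι X i) (Over.w (t i))
  let TT : Over (∐ X) := Over.mk (Limits.Sigma.map hm)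
  let tt : TT ⟶ G := Over.homMk tl hbase
  have hsq := fun i => (ModPairLib.isPullback_sigmaMap hm i).flip
  let e : ∀ i, T i ≅ Red.bc (Sigma.ι X i) TT := fun i =>
    Over.isoMk (hsq i).isoPullback (IsPullback.isoPullback_hom_snd _)
  have he : ∀ i, (e i).hom ≫ (Over.pullback (Sigma.ι X i)).map tt = t i := fun i => by
    refine bc_hom_ext ?_
    rw [Over.comp_left, Category.assoc]
    show (hsq i).isoPullback.hom ≫ pullback.lift _ _ _ ≫ pullback.fst G.hom (Sigma.ι X i) = _
    rw [pullback.lift_fst]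
    show (hsq i).isoPullback.hom ≫ pullback.fst (Limits.Sigma.map hm) (Sigma.ι X i) ≫ tl = _
    rw [IsPullback.isoPullback_hom_fst_assoc, Sigma.ι_desc]
  -- pieces of test objects
  let cov : ∀ Y : Over (∐ X), Y.left.OpenCover := fun Y => (sigmaOpenCover X).pullback₁ Y.hom
  have hmono : Mono tt := ⟨fun {Y} a b hab => by
    refine Over.OverMorphism.ext ((cov Y).hom_ext _ _ fun i => ?_)
    have h1 := congrArg (Over.pullback (Sigma.ι X i)).map hab
    rw [Functor.map_comp, Functor.map_comp] at h1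
    have h2 : (Over.pullback (Sigma.ι X i)).map a ≫ (e i).inv = (Over.pullback (Sigma.ι X i)).map b ≫ (e i).inv := by
      rw [← cancel_mono (t i), ← he i]
      simpa only [Category.assoc, Iso.inv_hom_id_assoc] using h1
    rw [cancel_mono] at h2
    have h3 := congrArg (fun m => m.left ≫ pullback.fst TT.hom (Sigma.ι X i)) h2
    exact ((pullback.lift_fst _ _ _).symm.trans h3).trans (pullback.lift_fst _ _ _)⟩
  haveI := hmono
  -- points of the glued subgroup
  have key : ∀ (Y : Over (∐ X)) (x : Y ⟶ G), (∀ i, ∃ y, y ≫ t i = (Over.pullback (Sigma.ι X i)).map x) →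
      ∃ x', x' ≫ tt = x := by
    intro Y x hx
    choose y hy using hx
    let l : ∀ i, (cov Y).X i ⟶ TT.left := fun i => (y i).left ≫ Sigma.ι g i
    have hlx : ∀ i, l i ≫ tl = (cov Y).f i ≫ x.left := fun i => by
      show ((y i).left ≫ Sigma.ι g i) ≫ tl = _
      rw [Category.assoc, Sigma.ι_desc]
      refine ((congrArg (fun m => m.left ≫ pullback.fst G.hom (Sigma.ι X i)) (hy i)).symm.symm).trans ?_
      exact pullback.lift_fst _ _ _
    haveI : Mono tt.left := inferInstance
    have hagree : ∀ i j, pullback.fst ((cov Y).f i) ((cov Y).f j) ≫ l i = pullback.snd _ _ ≫ l j := fun i j => by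
      rw [← cancel_mono tt.left]
      show (_ ≫ l i) ≫ tl = (_ ≫ l j) ≫ tl
      refine (Category.assoc _ _ _).trans (Eq.trans ?_ (Category.assoc _ _ _).symm)
      refine (congrArg (pullback.fst ((cov Y).f i) ((cov Y).f j) ≫ ·) (hlx i)).trans (Eq.trans ?_
        (congrArg (pullback.snd ((cov Y).f i) ((cov Y).f j) ≫ ·) (hlx j)).symm)
      exact ((Category.assoc _ _ _).symm.trans (congrArg (· ≫ x.left) pullback.condition)).trans (Category.assoc _ _ _)
    have hgl : (cov Y).glueMorphisms l hagree ≫ tl = x.left := (cov Y).hom_ext _ _ fun i => by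
      rw [Scheme.Cover.ι_glueMorphisms_assoc, hlx]
    refine ⟨Over.homMk ((cov Y).glueMorphisms l hagree) ?_, Over.OverMorphism.ext hgl⟩
    show _ ≫ Limits.Sigma.map hm = Y.hom
    rw [← hbase, ← Category.assoc, hgl, Over.w x]
  have hfac : ∀ {Y : Over (∐ X)} (x : Y ⟶ TT) (i : J), ∃ y, y ≫ t i = (Over.pullback (Sigma.ι X i)).map (x ≫ tt) :=
    fun x i => ⟨(Over.pullback (Sigma.ι X i)).map x ≫ (e i).inv, by
      rw [← he i, Category.assoc, Iso.inv_hom_id_assoc, ← Functor.map_comp]⟩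
  let P : ∀ i (Y : Over (∐ X)), (Y ⟶ G) →* ((Over.pullback (Sigma.ι X i)).obj Y ⟶ Red.bc (Sigma.ι X i) G) :=
    fun i Y => (Over.pullback (Sigma.ι X i)).homMonoidHom
  obtain ⟨η', hη'⟩ := key _ (1 : 𝟙_ (Over (∐ X)) ⟶ G) fun i => ⟨1, by
    rw [MonObj.one_comp]
    exact (_root_.map_one (P i _)).symm⟩
  obtain ⟨μ', hμ'⟩ := key _ ((fst TT TT ≫ tt) * (snd TT TT ≫ tt)) fun i => by
    obtain ⟨y₁, h₁⟩ := hfac (fst TT TT) i
    obtain ⟨y₂, h₂⟩ := hfac (snd TT TT) i
    exact ⟨y₁ * y₂, by
      rw [MonObj.mul_comp, h₁, h₂]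
      exact (_root_.map_mul (P i _) _ _).symm⟩
  obtain ⟨inv', hinv'⟩ := key _ tt⁻¹ fun i => by
    obtain ⟨y, h⟩ := hfac (𝟙 TT) i
    rw [Category.id_comp] at h
    exact ⟨y⁻¹, by
      rw [GrpObj.inv_comp, h]
      exact (_root_.map_inv (P i TT) tt).symm⟩
  obtain ⟨str, hmon⟩ := GrpSchLib.exists_grpObj_of_mono tt η' (by
    rw [hη', Hom.one_def, toUnit_unique (toUnit _) (𝟙 _), Category.id_comp]) μ' hμ' inv' hinv'
  refine ⟨TT, str, tt, hmon, hmono, fun i => ?_⟩
  letI := str
  haveI := hmon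
  have hc : (e i).inv ≫ t i = (Over.pullback (Sigma.ι X i)).map tt := by rw [← he i, Iso.inv_hom_id_assoc]
  refine ⟨(e i).symm, ?_, hc⟩
  show IsMonHom (e i).inv
  haveI : IsMonHom ((e i).inv ≫ t i) := by rw [hc]; infer_instance
  exact
    { one_hom := by rw [← cancel_mono (t i), Category.assoc, IsMonHom.one_hom ((e i).inv ≫ t i), IsMonHom.one_hom (t i)]
      mul_hom := by
        rw [← cancel_mono (t i), Category.assoc, IsMonHom.mul_hom ((e i).inv ≫ t i), Category.assoc,
          IsMonHom.mul_hom (t i), ← Category.assoc (_ ⊗ₘ _), MonoidalCategory.tensorHom_comp_tensorHom] }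

end Groth.Agent.GModLib
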