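import Groth.Agent.GModLib.OrbitDegenerate
import Groth.Agent.GModLib.BorelCentralizing
import Groth.Agent.GrpSchLib.LineVecSemi

/-!
# Eigenfunctions of Borel subgroups not vanishing at fixed points
-/

set_option autoImplicit false
set_option backward.isDefEq.respectTransparency false
set_option backward.isDefEq.respectTransparency.types false

universe u

open CategoryTheory Limits AlgebraicGeometry MonoidalCategory CartesianMonoidalCategory MonObj GrpObj

namespace Groth.Agent.GModLib

open GrpSchLib GrpSchLib.Kunneth GrpSchLib.AffineHopf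

variable {k : Type u} [Field k] [IsAlgClosed k]

/-- The coefficient of a weight in a combination of weights. -/
theorem coeff_of_weight_eq {M : Type*} [Monoid M] {J : Type*} [Fintype J] (ψ : J → (M →* k)) (a : J → k)
    (ψ₀ : M →* k) (c : k) (h : ∀ x, c * ψ₀ x = ∑ j, a j * ψ j x) [DecidablePred fun j => ψ j = ψ₀] :
    c = ∑ j ∈ Finset.univ.filter (fun j => ψ j = ψ₀), a j := by
  classical
  let s : Finset (M →* k) := insert ψ₀ (Finset.univ.image ψ)
  have hmaps : ∀ j ∈ (Finset.univ : Finset J), ψ j ∈ s := fun j hj =>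
    Finset.mem_insert_of_mem (Finset.mem_image_of_mem ψ hj)
  have := linearIndependent_iff'ₛ.mp (linearIndependent_monoidHom M k) s
    (fun χ => if χ = ψ₀ then c else 0) (fun χ => ∑ j ∈ Finset.univ.filter (fun j => ψ j = χ), a j) (by
      funext x
      simp only [Finset.sum_apply, Pi.smul_apply, smul_eq_mul, ite_mul, MulZeroClass.zero_mul, Finset.sum_ite_eq',
        s, Finset.mem_insert_self, if_true]
      rw [h x, ← Finset.sum_fiberwise_of_maps_to hmaps fun j => a j * ψ j x]
      refine Finset.sum_congr rfl fun χ _ => ?_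
      rw [Finset.sum_mul]
      exact Finset.sum_congr rfl fun j hj => by rw [(Finset.mem_filter.mp hj).2]) ψ₀ (Finset.mem_insert_self _ _)
  simp only [if_true] at this
  rw [this]
  exact Finset.sum_congr (by ext j; simp) fun _ _ => rfl

variable {G : Over (Spec (CommRingCat.of k))} [GrpObj G] [IsAffine G.left] [Smooth G.hom]
  {T : Over (Spec (CommRingCat.of k))} [GrpObj T]

theorem pullFn_translate (x g : VecGrp.pt k k ⟶ G) (F : Fn G) :
    pullFn g (ev ((toPt G ≫ x) * 𝟙 G) F) = pullFn (x * g) F := by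
  rw [pullFn_ev, MonObj.comp_mul, ← Category.assoc, comp_toPt, Category.id_comp, Category.comp_id]

/-- A finite-dimensional space of functions has a family of weight vectors. -/
theorem exists_weight_family (hT : Red.IsTorus T) (iT : T ⟶ G) [IsMonHom iT] (W : Submodule k (Fn G))
    [Module.Finite k W] (hW : ∀ (t : VecGrp.pt k k ⟶ T), ∀ F ∈ W, ev ((toPt G ≫ t ≫ iT) * 𝟙 G) F ∈ W) :
    ∃ (N : ℕ) (f : Fin N → Fn G) (φ : Fin N → ((VecGrp.pt k k ⟶ T) →* k)),
      Submodule.span k (Set.range f) = W ∧ (∀ i, f i ≠ 0) ∧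
      ∀ t g i, pullFn ((t ≫ iT) * g) (f i) = φ i t * pullFn g (f i) := by
  classical
  let v := Module.finBasis k W
  choose m φ c hsum hwt hmem using fun j => exists_weight_components hT iT ((v j : W) : Fn G)
  let I := { p : Σ j, Fin (m j) // c p.1 p.2 ≠ 0 }
  let e := Fintype.equivFin I
  refine ⟨Fintype.card I, fun i => c (e.symm i).1.1 (e.symm i).1.2, fun i => φ (e.symm i).1.1 (e.symm i).1.2, ?_,
    fun i => (e.symm i).2, fun t g i => hwt _ _ t g⟩
  have hc : ∀ j l, c j l ∈ W := fun j l => by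
    refine Submodule.span_le.mpr ?_ (hmem j l)
    rintro _ ⟨t, rfl⟩
    exact hW t _ (v j).2
  refine le_antisymm (Submodule.span_le.mpr ?_) fun F hF => ?_
  · rintro _ ⟨i, rfl⟩
    exact hc _ _
  · have h := congrArg Subtype.val (v.sum_repr ⟨F, hF⟩)
    rw [Submodule.coe_sum] at h
    rw [← show (∑ j, ((v.repr ⟨F, hF⟩ j • v j : W) : Fn G)) = F from h]
    refine Submodule.sum_mem _ fun j _ => ?_
    rw [Submodule.coe_smul, ← hsum j]
    refine Submodule.smul_mem _ _ (Submodule.sum_mem _ fun l _ => ?_)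
    by_cases hl : c j l = 0
    · rw [hl]; exact Submodule.zero_mem _
    · exact Submodule.subset_span ⟨e ⟨⟨j, l⟩, hl⟩, congrArg (fun p : I => c p.1.1 p.1.2) (e.symm_apply_apply _)⟩

variable {B : Over (Spec (CommRingCat.of k))} [GrpObj B]

/-- Translation-stable weight vectors of semi-invariant functions remembering a subgroup. -/
theorem exists_semiInvariant_family (iB : B ⟶ G) [IsMonHom iB] [IsClosedImmersion iB.left] (hT : Red.IsTorus T)
    (iT : T ⟶ G) [IsMonHom iT] :
    ∃ (N : ℕ) (f : Fin N → Fn G) (φ : Fin N → ((VecGrp.pt k k ⟶ T) →* k)) (χ : (VecGrp.pt k k ⟶ B) → k),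
      (∀ i, f i ≠ 0) ∧
      (∀ t g i, pullFn ((t ≫ iT) * g) (f i) = φ i t * pullFn g (f i)) ∧
      (∀ g b, ∀ F ∈ Submodule.span k (Set.range f), pullFn (g * (b ≫ iB)) F = χ b * pullFn g F) ∧
      (∀ g : VecGrp.pt k k ⟶ G, ∃ i, pullFn g (f i) ≠ 0) ∧
      (∀ x, ∀ F ∈ Submodule.span k (Set.range f),
        ev ((toPt G ≫ x) * 𝟙 G) F ∈ Submodule.span k (Set.range f)) ∧
      ∀ g g' : VecGrp.pt k k ⟶ G, (∀ i j, pullFn g (f i) * pullFn g' (f j) = pullFn g (f j) * pullFn g' (f i)) →
        ∃ b : VecGrp.pt k k ⟶ B, g * (b ≫ iB) = g' := by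
  classical
  haveI : IsAffineHom G.hom := inferInstance
  haveI : IsReduced G.left := GrpSchLib.isReduced_of_smooth_field G.hom
  obtain ⟨n, z, α, c, h1, hc, hz⟩ := GrpSchLib.HomogeneousQuot.exists_vec_semi G B iB
  let W : Submodule k (Fn G) :=
    Submodule.span k (Set.range fun p : (VecGrp.pt k k ⟶ G) × Fin (n + 1) => ev ((toPt G ≫ p.1) * 𝟙 G) (z p.2))
  obtain ⟨m, M, w, cv, hM, -, hcv, hE⟩ := exists_matrix_family (G := G) z
  haveI : Module.Finite k W := by
    haveI : Module.Finite k (Submodule.span k (Set.range fun p : Fin (n + 1) × Fin m => ∑ j, cv p.1 j • M p.2 j)) :=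
      Module.Finite.span_of_finite k (Set.finite_range _)
    refine Submodule.finiteDimensional_of_le (S₂ := Submodule.span k (Set.range fun p : Fin (n + 1) × Fin m =>
      ∑ j, cv p.1 j • M p.2 j)) (Submodule.span_le.mpr ?_)
    rintro _ ⟨⟨x, a⟩, rfl⟩
    have e : ev ((toPt G ≫ x) * 𝟙 G) (z a) = ∑ i, pullFn x (w i) • ∑ j, cv a j • M i j := eq_of_forall_point fun y => by
      have hb : ∀ j, pullFn (x * y) (w j) = ∑ i, pullFn x (w i) * pullFn y (M i j) := fun j => by
        have := congrArg (fun z => (Scheme.ΓSpecIso (CommRingCat.of k)).hom z) (hE _ x y j)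
        simp only [map_sum, map_mul] at this
        exact this
      rw [pullFn_translate]
      conv_lhs => rw [← hcv a]
      simp only [map_sum, map_smul, hb, smul_eq_mul, Finset.mul_sum]
      rw [Finset.sum_comm]
      exact Finset.sum_congr rfl fun i _ => Finset.sum_congr rfl fun j _ => by ring
    show ev ((toPt G ≫ x) * 𝟙 G) (z a) ∈ Submodule.span k _
    rw [e]
    exact Submodule.sum_mem _ fun i _ => Submodule.smul_mem _ _ (Submodule.subset_span ⟨(a, i), rfl⟩)
  have hWst : ∀ (x : VecGrp.pt k k ⟶ G), ∀ F ∈ W, ev ((toPt G ≫ x) * 𝟙 G) F ∈ W := by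
    intro x F hF
    induction hF using Submodule.span_induction with
    | mem F hF =>
      obtain ⟨⟨y, a⟩, rfl⟩ := hF
      exact Submodule.subset_span ⟨(y * x, a), eq_of_forall_point fun g => by
        simp only [pullFn_translate, _root_.mul_assoc]⟩
    | zero => rw [map_zero]; exact Submodule.zero_mem _
    | add x y _ _ hx hy => rw [map_add]; exact Submodule.add_mem _ hx hy
    | smul r y _ hy => rw [map_smul]; exact Submodule.smul_mem _ _ hy
  have hχW : ∀ (g : VecGrp.pt k k ⟶ G) (b : VecGrp.pt k k ⟶ B), ∀ F ∈ W, pullFn (g * (b ≫ iB)) F = pullFn b c * pullFn g F := by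
    intro g b F hF
    induction hF using Submodule.span_induction generalizing g with
    | mem F hF =>
      obtain ⟨⟨y, a⟩, rfl⟩ := hF
      simp only [pullFn_translate, ← _root_.mul_assoc]
      simp only [pullFn_apply, hc]
      exact (map_mul _ _ _).trans (_root_.mul_comm _ _)
    | zero => simp
    | add x y _ _ hx hy => rw [map_add, map_add, hx, hy, mul_add]
    | smul r y _ hy => rw [map_smul, map_smul, hy, smul_eq_mul, smul_eq_mul]; ring
  obtain ⟨N, f, φ, hspan, hne, hwt⟩ := exists_weight_family hT iT W fun t => hWst (t ≫ iT)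
  have hzW : ∀ a, z a ∈ W := fun a => Submodule.subset_span ⟨(1, a), eq_of_forall_point fun g => by
    simp only [pullFn_translate, _root_.one_mul]⟩
  refine ⟨N, f, φ, fun b => pullFn b c, hne, hwt, fun g b F hF => hχW g b F (hspan ▸ hF), fun g => ?_,
    fun x F hF => hspan.symm ▸ hWst x F (hspan ▸ hF), fun g g' h => ?_⟩
  · by_contra hall
    push_neg at hall
    have hW0 : ∀ F ∈ W, pullFn g F = 0 := by
      intro F hF
      rw [← hspan] at hF
      induction hF using Submodule.span_induction with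
      | mem F hF => obtain ⟨i, rfl⟩ := hF; exact hall i
      | zero => simp
      | add x y _ _ hx hy => rw [map_add, hx, hy, add_zero]
      | smul r y _ hy => rw [map_smul, hy, smul_zero]
    have h := congrArg (pullFn g) h1
    simp [hW0 _ (hzW _)] at h
  · obtain ⟨b, hb⟩ := (hz (VecGrp.pt k k) g g').mp fun x q => by
      apply (Scheme.ΓSpecIso (CommRingCat.of k)).commRingCatIsoToRingEquiv.injective
      rw [map_mul, map_mul]
      show pullFn g (z x) * pullFn g' (z q) = pullFn g (z q) * pullFn g' (z x)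
      obtain ⟨ax, hax⟩ := (Submodule.mem_span_range_iff_exists_fun k).mp (hspan.symm ▸ hzW x)
      obtain ⟨aq, haq⟩ := (Submodule.mem_span_range_iff_exists_fun k).mp (hspan.symm ▸ hzW q)
      simp only [← hax, ← haq, map_sum, map_smul, smul_eq_mul, Finset.sum_mul, Finset.mul_sum]
      rw [Finset.sum_comm]
      exact Finset.sum_congr rfl fun i _ => Finset.sum_congr rfl fun j _ => by linear_combination (ax i * aq j) * h i j
    exact ⟨b, by rw [← hb, mul_inv_cancel_left]⟩

variable [Smooth B.hom] [ConnectedSpace B.left]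

/-- A connected solvable subgroup has an eigenfunction in every finite-dimensional stable space of functions. -/
theorem exists_eigen_function [IsAffine B.left] (iB : B ⟶ G) [IsMonHom iB] (hsol : Red.IsSolvableGrp B)
    (W : Submodule k (Fn G)) [Module.Finite k W] (hne : W ≠ ⊥)
    (hW : ∀ x, ∀ F ∈ W, ev ((toPt G ≫ x) * 𝟙 G) F ∈ W) :
    ∃ F ∈ W, ∃ c : (VecGrp.pt k k ⟶ B) → k, F ≠ 0 ∧ ∀ b g, pullFn ((b ≫ iB) * g) F = c b * pullFn g F := by
  classical
  haveI : IsReduced G.left := GrpSchLib.isReduced_of_smooth_field G.hom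
  obtain ⟨n, hn⟩ := hsol
  let L : (VecGrp.pt k k ⟶ B) → Fn G →ₗ[k] Fn G := fun b => (ev ((toPt G ≫ (b ≫ iB)⁻¹) * 𝟙 G)).toLinearMap
  have hL : ∀ b g F, pullFn g (L b F) = pullFn ((b ≫ iB)⁻¹ * g) F := fun b g F => pullFn_translate _ g F
  let ρ : (VecGrp.pt k k ⟶ B) →* Module.End k W :=
    { toFun := fun b => (L b).restrict fun F hF => hW _ F hF
      map_one' := LinearMap.ext fun F => Subtype.ext (eq_of_forall_point fun y => by
        simp only [LinearMap.coe_restrict_apply, Module.End.one_apply, hL, MonObj.one_comp, _root_.inv_one,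
          _root_.one_mul])
      map_mul' := fun a b => LinearMap.ext fun F => Subtype.ext (eq_of_forall_point fun y => by
        simp only [LinearMap.coe_restrict_apply, Module.End.mul_apply, hL, MonObj.mul_comp, _root_.mul_inv_rev,
          _root_.mul_assoc]) }
  have hreg : (regSystem (G := B)).Reg ρ := by
    intro ψ v
    have hsp : ψ ∈ Submodule.span k (Set.range fun y : VecGrp.pt k k ⟶ G => (pullFn y).toLinearMap ∘ₗ W.subtype) := by
      rw [← Subspace.dualCoannihilator_dualAnnihilator_eq (W := Submodule.span k _), Submodule.mem_dualAnnihilator]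
      intro F hF
      rw [show F = 0 from ?_, map_zero]
      refine Subtype.ext (eq_of_forall_point fun y => ?_)
      have := (Submodule.mem_dualCoannihilator _).mp hF _ (Submodule.subset_span ⟨y, rfl⟩)
      simpa using this
    induction hsp using Submodule.span_induction with
    | mem ψ hψ =>
      obtain ⟨y, rfl⟩ := hψ
      exact ⟨ev (iB⁻¹ * (toPt B ≫ y)) v.1, fun b => by
        rw [pullFn_ev, MonObj.comp_mul, GrpObj.comp_inv, ← Category.assoc, comp_toPt, Category.id_comp]
        show pullFn y (L b v.1) = _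
        rw [hL]⟩
    | zero => exact ⟨0, fun g => by simp⟩
    | add φ ψ _ _ hφ hψ =>
      obtain ⟨a, ha⟩ := hφ
      obtain ⟨b, hb⟩ := hψ
      exact ⟨a + b, fun g => by rw [map_add, ← ha, ← hb]; rfl⟩
    | smul r φ _ hφ =>
      obtain ⟨a, ha⟩ := hφ
      exact ⟨r • a, fun g => by rw [map_smul, ← ha]; rfl⟩
  haveI : Nontrivial W := (Submodule.nontrivial_iff_ne_bot).mpr hne
  obtain ⟨F, -, hF0, hFe⟩ := LieKolchinLib.hasEigen (regSystem (G := B)) ρ hreg (hn _) 0 ⊤
    (fun _ _ _ _ => Submodule.mem_top) top_ne_bot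
  choose e he using fun b => hFe b (by simp)
  refine ⟨F.1, F.2, fun b => e b⁻¹, fun h => hF0 (Subtype.ext h), fun b g => ?_⟩
  have h := congrArg (fun v : W => pullFn g v.1) (he b⁻¹)
  have h2 : pullFn g ((ρ b⁻¹ F).1) = pullFn ((b ≫ iB) * g) F.1 := by
    show pullFn g (L b⁻¹ F.1) = _
    rw [hL, GrpObj.inv_comp, _root_.inv_inv]
  rw [← h2]
  exact h.trans (by rw [Submodule.coe_smul, map_smul, smul_eq_mul])

end Groth.Agent.GModLib
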