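import Groth.Agent.GModLib.CartanTorusDescent
import Groth.Agent.S3025

/-!
# Maximal tori of subgroups containing Cartan subgroups
-/

set_option autoImplicit false
set_option backward.isDefEq.respectTransparency false
set_option backward.isDefEq.respectTransparency.types false

universe u

open CategoryTheory Limits AlgebraicGeometry MonoidalCategory CartesianMonoidalCategory MonObj GrpObj

namespace Groth.Agent.GModLib

variable {S : Scheme.{u}}

set_option maxHeartbeats 1000000 in
/-- A smooth subgroup containing a Cartan subgroup on every fibre has a maximal torus etale locally over any base on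
which the group has one. -/
theorem exists_maxTorus_of_contains_cartan {G H : Over S} [GrpObj G] [GrpObj H] [Smooth G.hom] [QuasiCompact G.hom]
    (hconn : ∀ s : S, _root_.IsConnected (G.hom.base ⁻¹' {s})) [Smooth H.hom] (i : H ⟶ G) [IsMonHom i] [Mono i]
    (hHC : ∀ s : S, ∃ (C' : Over (Spec (CommRingCat.of (AlgebraicClosure (S.residueField s))))) (_ : GrpObj C')
      (c' : C' ⟶ Red.geomFibre s H), SGA3x.IsCartanOver _ (c' ≫ (Over.pullback (Red.geomPt s)).map i))
    {S' : Scheme.{u}} (f : S' ⟶ S) {T₀ : Over S'} [GrpObj T₀] (i₀ : T₀ ⟶ Red.bc f G) (h₀ : Red.IsMaximalTorus i₀) :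
    ∃ (S'' : Scheme.{u}) (q : S'' ⟶ S'), Etale q ∧ Surjective q ∧
      ∃ (T : Over S'') (_ : GrpObj T) (e : T ⟶ Red.bc (q ≫ f) H), Red.IsMaximalTorus e := by
  haveI : IsSeparated G.hom := (Groth.Agent.S3025.result S G hconn).1
  haveI : Smooth (Red.bc f G).hom := inferInstanceAs (Smooth (pullback.snd G.hom f))
  haveI : QuasiCompact (Red.bc f G).hom := inferInstanceAs (QuasiCompact (pullback.snd G.hom f))
  haveI : IsSeparated (Red.bc f G).hom := inferInstanceAs (IsSeparated (pullback.snd G.hom f))
  haveI : Smooth (Red.bc f H).hom := inferInstanceAs (Smooth (pullback.snd H.hom f))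
  obtain ⟨S'', q, hq, hqs, T, _, i', e, he, hi'⟩ := exists_maxTorus_in_etale i₀ h₀ ((Over.pullback f).map i)
    fun s' => by
      obtain ⟨σ, hσ⟩ := exists_geomPt_lift f s'
      obtain ⟨C', _, c', hm, hmo, T', _, t, ht, hcC⟩ := hHC (f s')
      haveI := ht.1; haveI := ht.2.1
      haveI : Smooth (Red.bc (Red.geomPt (f s')) G).hom := inferInstanceAs (Smooth (pullback.snd G.hom _))
      haveI : QuasiCompact (Red.bc (Red.geomPt (f s')) G).hom := inferInstanceAs (QuasiCompact (pullback.snd G.hom _))
      obtain ⟨tC, htC⟩ := (hcC.2.2 T' t).mpr fun X' x y => by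
        rw [← MonObj.mul_comp, ← MonObj.mul_comp, TorusBilin.comm_of_isTorus ht.2.2.1]
      let E := bcGrpIso σ (Red.geomPt (f s')) _ hσ ≪≫ (bcGrpIso (Red.geomPt s') f _ rfl).symm
      let β := E.app (Grp.mk G)
      let iG : Grp.mk H ⟶ Grp.mk G := Grp.homMk' ⟨i⟩
      have enat : (Over.pullback σ).map ((Over.pullback (Red.geomPt (f s'))).map i) ≫ β.hom.hom.hom =
          (E.app (Grp.mk H)).hom.hom.hom ≫ (Over.pullback (Red.geomPt s')).map ((Over.pullback f).map i) :=
        congrArg (fun φ => φ.hom.hom) (E.hom.naturality iG)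
      refine ⟨Red.bc σ T', inferInstance, (Over.pullback σ).map t ≫ β.hom.hom.hom,
        (Over.pullback σ).map (tC ≫ c') ≫ (E.app (Grp.mk H)).hom.hom.hom, ?_, ?_⟩
      · exact isMaximalTorus_of_isMaxTorus (isMaxTorus_of_iso (Iso.refl _) β ((Over.pullback σ).map t) _
          (Category.id_comp _) (isTorus_bc σ ht.2.2.1) (isMaxTorus_bc t (isMaxTorus_of_isMaximalTorus ht) σ))
      · rw [Category.assoc, ← enat, ← Category.assoc, ← Functor.map_comp, Category.assoc, htC]
  haveI := hq; haveI := hqs
  have hm : Mono ((Over.pullback q).map ((Over.pullback f).map i)) := inferInstance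
  haveI := hi'.1; haveI := hi'.2.1
  haveI : IsMonHom (e ≫ (Over.pullback q).map ((Over.pullback f).map i)) := he ▸ hi'.1
  haveI : Mono (e ≫ (Over.pullback q).map ((Over.pullback f).map i)) := he ▸ hi'.2.1
  haveI : Mono e := mono_of_mono e ((Over.pullback q).map ((Over.pullback f).map i))
  haveI : IsMonHom e :=
    { one_hom := by rw [← cancel_mono ((Over.pullback q).map ((Over.pullback f).map i)), Category.assoc,
        IsMonHom.one_hom (e ≫ (Over.pullback q).map ((Over.pullback f).map i)),
        IsMonHom.one_hom ((Over.pullback q).map ((Over.pullback f).map i))]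
      mul_hom := by
        rw [← cancel_mono ((Over.pullback q).map ((Over.pullback f).map i)), Category.assoc,
          IsMonHom.mul_hom (e ≫ (Over.pullback q).map ((Over.pullback f).map i)),
          Category.assoc, IsMonHom.mul_hom ((Over.pullback q).map ((Over.pullback f).map i)),
          ← Category.assoc (_ ⊗ₘ _), MonoidalCategory.tensorHom_comp_tensorHom] }
  have hmaxH : Red.IsMaximalTorus e := ⟨inferInstance, inferInstance, hi'.2.2.1, fun s T'' _ j _ _ φ hT'' hφ =>
    hi'.2.2.2 s T'' (j ≫ (Over.pullback (Red.geomPt s)).map ((Over.pullback q).map ((Over.pullback f).map i))) φ hT''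
      (by rw [← Category.assoc, hφ, ← Functor.map_comp, he])⟩
  let E := bcGrpIso q f (q ≫ f) rfl
  let βH : Red.bc q (Red.bc f H) ≅ Red.bc (q ≫ f) H :=
    ⟨(E.app (Grp.mk H)).hom.hom.hom, (E.app (Grp.mk H)).inv.hom.hom,
      congrArg (fun φ => φ.hom.hom) (E.app (Grp.mk H)).hom_inv_id, congrArg (fun φ => φ.hom.hom) (E.app (Grp.mk H)).inv_hom_id⟩
  haveI : IsMonHom βH.hom := inferInstanceAs (IsMonHom (E.app (Grp.mk H)).hom.hom.hom)
  exact ⟨S'', q, hq, hqs, T, inferInstance, e ≫ βH.hom, isMaximalTorus_of_iso βH e hmaxH⟩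

end Groth.Agent.GModLib
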