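import Groth.Agent.GModLib.InfKernel
import Groth.Agent.GrpSchLib.MonoSubgroup
import Groth.Agent.S1488
import Groth.Agent.S4599
import Mathlib.AlgebraicGeometry.Morphisms.Separated

/-!
# Torsion points and their centralizers

In a smooth separated group the points killed by an integer invertible on the base form a smooth closed subscheme,
and the centralizer of such a point is a smooth closed subgroup.
-/

universe u

open CategoryTheory CategoryTheory.Limits MonoidalCategory CartesianMonoidalCategory MonObj GrpObj AlgebraicGeometry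

namespace Groth.Agent.GModLib

open GrpSchLib.DiagActionRigid (sp spm)

set_option backward.isDefEq.respectTransparency false

variable {S : Scheme.{u}}

theorem isUnit_natCast_of_hom {A : Type u} [CommRing A] (b : Spec (CommRingCat.of A) ⟶ S) {n : ℕ}
    (hn : IsUnit (n : Γ(S, ⊤))) : IsUnit (n : A) := by
  have h := hn.map ((Scheme.ΓSpecIso (CommRingCat.of A)).hom.hom.comp b.appTop.hom)
  rwa [_root_.map_natCast] at h

variable {Z : Over S} [GrpObj Z] [Smooth Z.hom] [IsSeparated Z.hom] {n : ℕ}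

/-- The points killed by `n`. -/
theorem exists_torsion_scheme (hn : IsUnit (n : Γ(S, ⊤))) :
    ∃ (P : Over S) (p : P ⟶ Z), IsClosedImmersion p.left ∧ Smooth P.hom ∧ p ^ n = 1 ∧
      ∀ (X : Over S) (x : X ⟶ Z), x ^ n = 1 → ∃ x' : X ⟶ P, x' ≫ p = x := by
  let φ : Z ⟶ Z := 𝟙 Z ^ n
  let one : 𝟙_ (Over S) ⟶ Z := η[Z]
  have hη : one.left ≫ Z.hom = 𝟙 S := Over.w one
  haveI hcl : IsClosedImmersion one.left := by
    haveI : IsClosedImmersion (one.left ≫ Z.hom) := by rw [hη]; exact inferInstanceAs (IsClosedImmersion (𝟙 S))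
    exact IsClosedImmersion.of_comp one.left Z.hom
  haveI hfp : LocallyOfFinitePresentation one.left := by
    haveI : LocallyOfFinitePresentation (one.left ≫ Z.hom) := by
      rw [hη]; exact inferInstanceAs (LocallyOfFinitePresentation (𝟙 S))
    exact AlgSpPts.locallyOfFinitePresentation_of_comp one.left Z.hom
  let P : Over S := Over.mk (pullback.snd φ.left one.left)
  let p : P ⟶ Z := Over.homMk (pullback.fst φ.left one.left) (by
    show pullback.fst φ.left one.left ≫ Z.hom = pullback.snd φ.left one.left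
    rw [show Z.hom = φ.left ≫ Z.hom from (Over.w φ).symm, ← Category.assoc, pullback.condition, Category.assoc, hη]
    exact Category.comp_id _)
  haveI hpc : IsClosedImmersion p.left := MorphismProperty.pullback_fst (P := @IsClosedImmersion) _ _ hcl
  haveI hpf : LocallyOfFinitePresentation p.left :=
    MorphismProperty.pullback_fst (P := @LocallyOfFinitePresentation) _ _ hfp
  have hpow : ∀ (X : Over S) (x : X ⟶ Z), x ^ n = 1 ↔ x.left ≫ φ.left = X.hom ≫ one.left := fun X x => by
    have h : x ≫ φ = x ^ n := by rw [MonObj.comp_pow, Category.comp_id]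
    have h1 : (1 : X ⟶ Z) = toUnit X ≫ one := by rw [Hom.one_def]
    rw [← h, h1]
    exact ⟨fun hx => congrArg CommaMorphism.left hx, fun hx => Over.OverMorphism.ext hx⟩
  have hlift : ∀ (X : Over S) (x : X ⟶ Z), x ^ n = 1 → ∃ x' : X ⟶ P, x' ≫ p = x := fun X x hx =>
    ⟨Over.homMk (pullback.lift x.left X.hom ((hpow X x).mp hx)) (pullback.lift_snd _ _ _),
      Over.OverMorphism.ext (pullback.lift_fst _ _ _)⟩
  have hpn : p ^ n = 1 := (hpow P p).mpr pullback.condition
  refine ⟨P, p, hpc, (Groth.Agent.S1488.result P.hom).mpr ⟨by rw [← Over.w p]; infer_instance, ?_⟩, hpn, hlift⟩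
  intro A _ I hI a b hab
  let x₀ : sp b (A ⧸ I) ⟶ P := Over.homMk a hab.symm
  obtain ⟨h, hh, hhb⟩ := ((Groth.Agent.S1488.result Z.hom).mp ‹_›).2 A I hI (a ≫ p.left) b (by
    rw [Category.assoc, Over.w p]; exact hab)
  let g : sp b A ⟶ Z := Over.homMk h (by
    show h ≫ Z.hom = Spec.map (CommRingCat.ofHom (algebraMap A A)) ≫ b
    rw [show Spec.map (CommRingCat.ofHom (algebraMap A A)) = 𝟙 _ from Spec.map_id _, Category.id_comp, hhb])
  have hg : InfKernel.red b I Z g = x₀ ≫ p := Over.OverMorphism.ext hh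
  obtain ⟨g', hg', hg'n⟩ := InfKernel.exists_pow_eq_one hI (isUnit_natCast_of_hom b hn) g (by
    rw [MonoidHom.mem_ker, _root_.map_pow, hg, ← MonObj.comp_pow, hpn, MonObj.comp_one])
  obtain ⟨t, ht⟩ := hlift _ g' hg'n
  refine ⟨t.left, ?_, ?_⟩
  · rw [← cancel_mono p.left, Category.assoc]
    exact (congrArg (fun m : sp b A ⟶ Z => Spec.map (CommRingCat.ofHom (Ideal.Quotient.mk I)) ≫ m.left) ht).trans
      (show Spec.map (CommRingCat.ofHom (Ideal.Quotient.mk I)) ≫ (g').left = a ≫ p.left from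
        congrArg CommaMorphism.left (hg'.trans hg))
  · refine (Over.w t).trans ?_
    show Spec.map (CommRingCat.ofHom (algebraMap A A)) ≫ b = b
    rw [show Spec.map (CommRingCat.ofHom (algebraMap A A)) = 𝟙 _ from Spec.map_id _, Category.id_comp]

/-- The centralizer of a point of finite order invertible on the base. -/
theorem exists_centralizer_point [NeZero n] (hn : IsUnit (n : Γ(S, ⊤))) (g : 𝟙_ (Over S) ⟶ Z) (hg : g ^ n = 1) :
    ∃ (C : Over S) (_ : GrpObj C) (c : C ⟶ Z), IsMonHom c ∧ IsClosedImmersion c.left ∧ Smooth C.hom ∧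
      ∀ (X : Over S) (x : X ⟶ Z), (∃ x' : X ⟶ C, x' ≫ c = x) ↔ x * (toUnit X ≫ g) = (toUnit X ≫ g) * x := by
  let f : Z ⟶ Z ⊗ Z := lift ((toUnit Z ≫ g) * 𝟙 Z * (toUnit Z ≫ g)⁻¹) (𝟙 Z)
  let d : Z ⟶ Z ⊗ Z := lift (𝟙 Z) (𝟙 Z)
  have hd : d.left = pullback.diagonal Z.hom := by
    apply pullback.hom_ext
    · exact (congrArg CommaMorphism.left (lift_fst (𝟙 Z) (𝟙 Z))).trans (pullback.diagonal_fst _).symm
    · exact (congrArg CommaMorphism.left (lift_snd (𝟙 Z) (𝟙 Z))).trans (pullback.diagonal_snd _).symm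
  haveI : IsClosedImmersion d.left := by
    rw [hd]; exact IsSeparated.isClosedImmersion_diagonal
  haveI : LocallyOfFinitePresentation d.left := by
    rw [hd]; exact Groth.Agent.S4599.result Z.hom
  let C : Over S := Over.mk (pullback.fst f.left d.left ≫ Z.hom)
  let c : C ⟶ Z := Over.homMk (pullback.fst f.left d.left) rfl
  haveI hcc : IsClosedImmersion c.left := MorphismProperty.pullback_fst (P := @IsClosedImmersion) _ _ ‹_›
  haveI hcf : LocallyOfFinitePresentation c.left :=
    MorphismProperty.pullback_fst (P := @LocallyOfFinitePresentation) _ _ ‹_›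
  haveI : Mono c := (Over.forget S).mono_of_mono_map (inferInstanceAs (Mono c.left))
  have key : ∀ (X : Over S) (x : X ⟶ Z), (∃ x' : X ⟶ C, x' ≫ c = x) ↔
      x * (toUnit X ≫ g) = (toUnit X ≫ g) * x := by
    intro X x
    have hxf : x ≫ f = lift ((toUnit X ≫ g) * x * (toUnit X ≫ g)⁻¹) x := by
      simp [f, comp_lift, MonObj.comp_mul, GrpObj.comp_inv]
    have hxd : ∀ y : X ⟶ Z, y ≫ d = lift y y := fun y => by simp [d, comp_lift]
    constructor
    · rintro ⟨x', rfl⟩
      let y : X ⟶ Z := Over.homMk (x'.left ≫ pullback.snd f.left d.left) (by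
        rw [← Over.w d, Category.assoc, ← pullback.condition_assoc, Over.w f]
        exact Over.w x')
      have h : (x' ≫ c) ≫ f = y ≫ d := Over.OverMorphism.ext (by
        show (x'.left ≫ pullback.fst f.left d.left) ≫ f.left = (x'.left ≫ pullback.snd f.left d.left) ≫ d.left
        rw [Category.assoc, Category.assoc, pullback.condition])
      rw [hxf, hxd] at h
      have h1 := congrArg (· ≫ fst Z Z) h
      have h2 := congrArg (· ≫ snd Z Z) h
      simp only [lift_fst, lift_snd] at h1 h2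
      rw [← h2] at h1
      rwa [mul_inv_eq_iff_eq_mul, eq_comm] at h1
    · intro hx
      have e : x ≫ f = x ≫ d := by
        rw [hxf, hxd, show (toUnit X ≫ g) * x * (toUnit X ≫ g)⁻¹ = x by rw [← hx, mul_inv_cancel_right]]
      exact ⟨Over.homMk (pullback.lift x.left x.left (congrArg CommaMorphism.left e)) (by
        show pullback.lift _ _ _ ≫ pullback.fst f.left d.left ≫ Z.hom = X.hom
        rw [pullback.lift_fst_assoc, Over.w x]), Over.OverMorphism.ext (pullback.lift_fst _ _ _)⟩
  obtain ⟨η', hη'⟩ := (key _ η[Z]).mpr (by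
    rw [show η[Z] = (1 : 𝟙_ (Over S) ⟶ Z) by rw [Hom.one_def, toUnit_unique (toUnit _) (𝟙 _), Category.id_comp],
      _root_.one_mul, _root_.mul_one])
  have kp : ∀ {X : Over S} (y : X ⟶ C), Commute (y ≫ c) (toUnit X ≫ g) := fun y => (key _ _).mp ⟨y, rfl⟩
  obtain ⟨μ', hμ'⟩ := (key _ ((fst C C ≫ c) * (snd C C ≫ c))).mpr ((kp (fst C C)).mul_left (kp (snd C C))).eq
  obtain ⟨ι', hι'⟩ := (key _ c⁻¹).mpr (by
    have h := (kp (𝟙 C)).inv_left.eq
    rwa [Category.id_comp] at h)
  obtain ⟨str, hmon⟩ := GrpSchLib.exists_grpObj_of_mono c η' hη' μ' hμ' ι' hι'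
  refine ⟨C, str, c, hmon, hcc, (Groth.Agent.S1488.result C.hom).mpr ⟨by rw [← Over.w c]; infer_instance, ?_⟩, key⟩
  intro A _ I hI a b hab
  let x₀ : sp b (A ⧸ I) ⟶ C := Over.homMk a hab.symm
  obtain ⟨h, hh, hhb⟩ := ((Groth.Agent.S1488.result Z.hom).mp ‹_›).2 A I hI (a ≫ c.left) b (by
    rw [Category.assoc, Over.w c]; exact hab)
  let y : sp b A ⟶ Z := Over.homMk h (by
    show h ≫ Z.hom = Spec.map (CommRingCat.ofHom (algebraMap A A)) ≫ b
    rw [show Spec.map (CommRingCat.ofHom (algebraMap A A)) = 𝟙 _ from Spec.map_id _, Category.id_comp, hhb])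
  have hy : InfKernel.red b I Z y = x₀ ≫ c := Over.OverMorphism.ext hh
  have hga : InfKernel.red b I Z (toUnit _ ≫ g) = toUnit (sp b (A ⧸ I)) ≫ g := by
    show spm b (Ideal.Quotient.mkₐ A I) ≫ toUnit _ ≫ g = _
    rw [← Category.assoc, comp_toUnit]
  obtain ⟨y', hy', hy'g⟩ := InfKernel.exists_commute hI (isUnit_natCast_of_hom b hn) (toUnit _ ≫ g) y
    (by rw [← MonObj.comp_pow, hg, MonObj.comp_one])
    (by rw [_root_.map_mul, _root_.map_mul, hy, hga]; exact (kp x₀).eq)
  obtain ⟨t, ht⟩ := (key _ y').mpr hy'g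
  refine ⟨t.left, ?_, ?_⟩
  · rw [← cancel_mono c.left, Category.assoc]
    exact (congrArg (fun m : sp b A ⟶ Z => Spec.map (CommRingCat.ofHom (Ideal.Quotient.mk I)) ≫ m.left) ht).trans
      (show Spec.map (CommRingCat.ofHom (Ideal.Quotient.mk I)) ≫ (y').left = a ≫ c.left from
        congrArg CommaMorphism.left (hy'.trans hy))
  · refine (Over.w t).trans ?_
    show Spec.map (CommRingCat.ofHom (algebraMap A A)) ≫ b = b
    rw [show Spec.map (CommRingCat.ofHom (algebraMap A A)) = 𝟙 _ from Spec.map_id _, Category.id_comp]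

end Groth.Agent.GModLib
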