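import Groth.Agent.GModLib.TorsionStep
import Groth.Agent.GModLib.CentralizerNonAffine
import Groth.Agent.GModLib.SolvTorus
import Mathlib.Topology.NoetherianSpace

/-!
# Centralizers of tori of geometric fibres extend to smooth families
-/

set_option autoImplicit false
set_option backward.isDefEq.respectTransparency false
set_option backward.isDefEq.respectTransparency.types false

universe u

open CategoryTheory Limits AlgebraicGeometry MonoidalCategory CartesianMonoidalCategory MonObj GrpObj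

namespace Groth.Agent.GModLib

open GrpSchLib

section Field

variable {k : Type u} [Field k] [IsAlgClosed k] {H T : Over (Spec (CommRingCat.of k))} [GrpObj H] [Smooth H.hom]
  [IsSeparated H.hom] [GrpObj T]

/-- A torus is central or some torsion point of it is not. -/
theorem central_or_exists_torsion (hT : Red.IsTorus T) (i : T ⟶ H) [IsMonHom i] :
    (∀ (X : Over (Spec (CommRingCat.of k))) (x : X ⟶ H) (s : X ⟶ T), x * (s ≫ i) = (s ≫ i) * x) ∨
      ∃ (t : VecGrp.pt k k ⟶ T) (n : ℕ) (z : VecGrp.pt k k ⟶ H),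
        (n : k) ≠ 0 ∧ t ^ n = 1 ∧ ¬ Commute (t ≫ i) z := by
  rw [or_iff_not_imp_right]
  intro h
  push_neg at h
  obtain ⟨h1, h2, h3, -, -⟩ := TorusBasic.torus_props hT
  haveI := h1; haveI := h2; haveI := h3
  haveI : IsReduced T.left := GrpSchLib.isReduced_of_smooth_field T.hom
  have hpts : ∀ (z : VecGrp.pt k k ⟶ H) (s : VecGrp.pt k k ⟶ T), Commute (s ≫ i) z := by
    intro z
    let f : T ⟶ H ⊗ H := lift ((toPt T ≫ z) * i * (toPt T ≫ z)⁻¹) i
    let d : H ⟶ H ⊗ H := lift (𝟙 H) (𝟙 H)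
    haveI : IsClosedImmersion d.left := by
      have e : d.left = pullback.diagonal H.hom := by
        apply pullback.hom_ext
        · rw [pullback.diagonal_fst]
          exact congrArg CommaMorphism.left (lift_fst (𝟙 H) (𝟙 H))
        · rw [pullback.diagonal_snd]
          exact congrArg CommaMorphism.left (lift_snd (𝟙 H) (𝟙 H))
      rw [e]
      infer_instance
    have hz : ∀ s : VecGrp.pt k k ⟶ T, s ≫ toPt T ≫ z = z := fun s => by
      rw [← Category.assoc, show s ≫ toPt T = 𝟙 _ from S11188.pt_end_eq _, Category.id_comp]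
    have hiff : ∀ s : VecGrp.pt k k ⟶ T, Commute (s ≫ i) z ↔ (∃ y, y ≫ d = s ≫ f) := by
      intro s
      simp only [f, comp_lift, MonObj.comp_mul, GrpObj.comp_inv, hz, d]
      constructor
      · intro hc
        refine ⟨s ≫ i, ?_⟩
        rw [Category.comp_id, ← hc.eq, mul_inv_cancel_right]
      · rintro ⟨y, hy⟩
        have e1 := congrArg (· ≫ fst H H) hy
        have e2 := congrArg (· ≫ snd H H) hy
        simp only [lift_fst, lift_snd, Category.comp_id] at e1 e2
        rw [e2] at e1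
        exact (mul_inv_eq_iff_eq_mul.mp e1.symm).symm
    intro s
    have hu : f.left ⁻¹' Set.range d.left = Set.univ := torus_eq_univ hT
      (d.left.isClosedEmbedding.isClosed_range.preimage f.left.continuous) fun t ⟨m, hm, htm⟩ => by
      obtain ⟨n, hn, htn⟩ := exists_invertible_order hT hm htm
      obtain ⟨y, hy⟩ := (hiff t).mp (h t n z hn htn)
      exact ⟨y.left (IsLocalRing.closedPoint k), by
        rw [← Scheme.Hom.comp_apply, ← Over.comp_left, hy, Over.comp_left, Scheme.Hom.comp_apply]⟩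
    refine (hiff s).mpr (exists_lift_point d (s ≫ f) ?_)
    rw [Over.comp_left, Scheme.Hom.comp_apply]
    exact Set.eq_univ_iff_forall.mp hu _
  intro X x s
  haveI : Smooth (H ⊗ T).hom := by
    show Smooth (pullback.fst H.hom T.hom ≫ H.hom)
    infer_instance
  haveI : IsReduced (H ⊗ T).left := GrpSchLib.isReduced_of_smooth_field (H ⊗ T).hom
  have e : fst H T * (snd H T ≫ i) = (snd H T ≫ i) * fst H T := hom_ext_points_sep fun p => by
    rw [MonObj.comp_mul, MonObj.comp_mul, ← Category.assoc]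
    exact (hpts (p ≫ fst H T) (p ≫ snd H T)).eq.symm
  have e' := congrArg (lift x s ≫ ·) e
  simpa only [MonObj.comp_mul, lift_fst, lift_snd_assoc] using e'

end Field

variable {k : Type u} [Field k] [IsAlgClosed k] {Γ : Over (Spec (CommRingCat.of k))}

theorem exists_family_aux [TopologicalSpace.NoetherianSpace Γ.left] (M : TopologicalSpace.Closeds Γ.left) :
    ∀ {S : Scheme.{u}} (Z : Over S) [GrpObj Z] [Smooth Z.hom] [IsSeparated Z.hom] [QuasiCompact Z.hom]
      (a : Spec (CommRingCat.of k) ⟶ S) (j : Red.bc a Z ⟶ Γ) [IsClosedImmersion j.left],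
      Set.range j.left = (M : Set Γ.left) →
      ∀ (T : Over (Spec (CommRingCat.of k))) [GrpObj T] (i : T ⟶ Red.bc a Z) [IsMonHom i] [Mono i], Red.IsTorus T →
        ∃ (Y : Scheme.{u}) (π : Y ⟶ S) (σ : Spec (CommRingCat.of k) ⟶ Y) (hσ : σ ≫ π = a) (C : Over Y) (_ : GrpObj C)
          (c : C ⟶ Red.bc π Z), Smooth π ∧ Smooth C.hom ∧ IsMonHom c ∧ IsClosedImmersion c.left ∧
            Red.IsCentralizerOf i (fibreHom hσ c) := by
  induction M using WellFoundedLT.induction with
  | ind M ih =>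
  intro S Z _ _ _ _ a j _ hM T _ i _ _ hT
  haveI : Smooth (Red.bc a Z).hom := inferInstanceAs (Smooth (pullback.snd Z.hom a))
  haveI : IsSeparated (Red.bc a Z).hom := inferInstanceAs (IsSeparated (pullback.snd Z.hom a))
  rcases central_or_exists_torsion hT i with hc | ⟨t, n, z, hn, ht, hcomm⟩
  · have hσ : a ≫ 𝟙 S = a := Category.comp_id a
    let ι₁ : Red.bc (𝟙 S) Z ⟶ Red.bc (𝟙 S) Z := 𝟙 _
    haveI : IsClosedImmersion ι₁.left := inferInstanceAs (IsClosedImmersion (𝟙 (Red.bc (𝟙 S) Z).left))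
    haveI : Smooth (Red.bc (𝟙 S) Z).hom := inferInstanceAs (Smooth (pullback.snd Z.hom (𝟙 S)))
    refine ⟨S, 𝟙 S, a, hσ, Red.bc (𝟙 S) Z, inferInstance, ι₁, inferInstance, inferInstance, inferInstance,
      inferInstance, ?_⟩
    show Red.IsCentralizerOf i (fibreHom hσ (𝟙 (Red.bc (𝟙 S) Z)))
    rw [fibreHom_id]
    refine ⟨inferInstance, inferInstance, fun X x => ⟨fun _ X' f h => hc X' (f ≫ x) h, fun _ => ?_⟩⟩
    exact ⟨x ≫ (fibreIso hσ Z).inv, by rw [Category.assoc, Iso.inv_hom_id, Category.comp_id]⟩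
  · haveI : NeZero n := ⟨fun h => hn (by simp [h])⟩
    let one : VecGrp.pt k k ⟶ 𝟙_ (Over (Spec (CommRingCat.of k))) := toUnit _
    let pt' : 𝟙_ (Over (Spec (CommRingCat.of k))) ⟶ VecGrp.pt k k := toPt _
    have hone : one ≫ pt' = 𝟙 _ := toUnit_toPt
    let t' : 𝟙_ (Over (Spec (CommRingCat.of k))) ⟶ Red.bc a Z := pt' ≫ t ≫ i
    have ht' : t' ^ n = 1 := by
      show (pt' ≫ t ≫ i) ^ n = 1
      rw [← Category.assoc, ← MonObj.pow_comp, ← MonObj.comp_pow, ht, MonObj.comp_one, MonObj.one_comp]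
    obtain ⟨P, τ, σ₁, hσ₁, D, _, d, hτ, hDs, hDsep, hDqc, hdm, hdc, hD⟩ := exists_step t' hn ht'
    haveI := hτ; haveI := hDs; haveI := hDsep; haveI := hDqc; haveI := hdm; haveI := hdc
    let j₁ := fibreHom hσ₁ d
    haveI : IsMonHom j₁ := isMonHom_fibreHom hσ₁ d
    haveI hj₁c : IsClosedImmersion j₁.left := isClosedImmersion_fibreHom hσ₁ d
    haveI : Mono j₁ := Over.mono_of_mono_left j₁
    haveI : IsClosedImmersion (j₁ ≫ j).left := by rw [Over.comp_left]; infer_instance
    let M₁ : TopologicalSpace.Closeds Γ.left := ⟨Set.range (j₁ ≫ j).left, (j₁ ≫ j).left.isClosedEmbedding.isClosed_range⟩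
    have hlt : M₁ < M := by
      have hle : (M₁ : Set Γ.left) ⊆ M := by
        rw [← hM]
        rintro _ ⟨q, rfl⟩
        exact ⟨j₁.left q, by rw [← Scheme.Hom.comp_apply, ← Over.comp_left]⟩
      refine lt_of_le_of_ne hle fun heq => hcomm ?_
      have hz : (z ≫ j).left (IsLocalRing.closedPoint k) ∈ (M : Set Γ.left) := by
        rw [← hM, Over.comp_left, Scheme.Hom.comp_apply]
        exact ⟨_, rfl⟩
      rw [← heq] at hz
      obtain ⟨q, hq⟩ := hz
      obtain ⟨w, hw⟩ := exists_lift_point j₁ z ⟨q, j.left.isClosedEmbedding.injective (by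
        rw [← Scheme.Hom.comp_apply, ← Over.comp_left, hq, Over.comp_left, Scheme.Hom.comp_apply])⟩
      have hq' := (hD _ z).mp ⟨w, hw⟩
      rw [show toUnit (VecGrp.pt k k) ≫ t' = t ≫ i by rw [show t' = pt' ≫ t ≫ i from rfl, reassoc_of% hone]] at hq'
      exact hq'.symm
    have hcen : ∀ (X : Over (Spec (CommRingCat.of k))) (x : X ⟶ T),
        (x ≫ i) * (toUnit X ≫ t') = (toUnit X ≫ t') * (x ≫ i) := fun X x => by
      show _ * (toUnit X ≫ pt' ≫ t ≫ i) = (toUnit X ≫ pt' ≫ t ≫ i) * _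
      simp only [← Category.assoc, ← MonObj.mul_comp]
      rw [TorusBilin.comm_of_isTorus hT]
    obtain ⟨i₁, hi₁⟩ := (hD T i).mpr (by simpa using hcen T (𝟙 T))
    haveI : IsMonHom (i₁ ≫ j₁) := hi₁ ▸ ‹IsMonHom i›
    haveI : IsMonHom i₁ := isMonHom_of_comp i₁ j₁
    haveI : Mono (i₁ ≫ j₁) := hi₁ ▸ ‹Mono i›
    haveI : Mono i₁ := mono_of_mono i₁ j₁
    obtain ⟨Y, π, σ, hσ, C, _, c, hπ, hCs, hcm, hcc, hC⟩ := ih M₁ hlt D σ₁ (j₁ ≫ j) rfl T i₁ hT
    haveI := hπ; haveI := hcm; haveI := hcc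
    have hdπm : IsMonHom (fibreHom (a := π) (rfl : π ≫ τ = π ≫ τ) d) := isMonHom_fibreHom _ d
    have hdπc : IsClosedImmersion (fibreHom (a := π) (rfl : π ≫ τ = π ≫ τ) d).left := isClosedImmersion_fibreHom _ d
    have hσ' : σ ≫ π ≫ τ = a := by rw [reassoc_of% hσ, hσ₁]
    refine ⟨Y, π ≫ τ, σ, hσ', C, inferInstance, c ≫ fibreHom (rfl : π ≫ τ = π ≫ τ) d, inferInstance, hCs,
      inferInstance, ?_, ?_⟩
    · rw [Over.comp_left]; infer_instance
    rw [show fibreHom hσ' (c ≫ fibreHom (rfl : π ≫ τ = π ≫ τ) d) = fibreHom hσ c ≫ j₁ from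
      fibreHom_comp hσ₁ hσ rfl c d]
    haveI : IsMonHom (fibreHom hσ c) := hC.1
    haveI : Mono (fibreHom hσ c) := hC.2.1
    refine ⟨inferInstance, inferInstance, fun X x => ⟨?_, fun h => ?_⟩⟩
    · rintro ⟨y, rfl⟩ X' f s
      have e := congrArg (· ≫ j₁) ((hC.2.2 X (y ≫ fibreHom hσ c)).mp ⟨y, rfl⟩ X' f s)
      rw [← hi₁]
      simpa only [MonObj.mul_comp, Category.assoc] using e
    · obtain ⟨x₁, rfl⟩ := (hD X x).mpr (by
        have e := h X (𝟙 X) (toUnit X ≫ pt' ≫ t)
        simpa only [Category.id_comp, Category.assoc] using e)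
      obtain ⟨y, hy⟩ := (hC.2.2 X x₁).mpr fun X' f s => by
        rw [← cancel_mono j₁, MonObj.mul_comp, MonObj.mul_comp, Category.assoc, Category.assoc, hi₁]
        exact h X' f s
      exact ⟨y, by rw [← Category.assoc, hy]⟩

/-- The centralizer of a torus of a geometric fibre is the fibre of a smooth subgroup over a smooth base change. -/
theorem exists_family {S : Scheme.{u}} (G : Over S) [GrpObj G] [Smooth G.hom] [IsSeparated G.hom] [QuasiCompact G.hom]
    (a : Spec (CommRingCat.of k) ⟶ S) {T : Over (Spec (CommRingCat.of k))} [GrpObj T] (i : T ⟶ Red.bc a G) [IsMonHom i]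
    [Mono i] (hT : Red.IsTorus T) :
    ∃ (Y : Scheme.{u}) (π : Y ⟶ S) (σ : Spec (CommRingCat.of k) ⟶ Y) (hσ : σ ≫ π = a) (C : Over Y) (_ : GrpObj C)
      (c : C ⟶ Red.bc π G), Smooth π ∧ Smooth C.hom ∧ IsMonHom c ∧ IsClosedImmersion c.left ∧
        Red.IsCentralizerOf i (fibreHom hσ c) := by
  haveI : LocallyOfFiniteType (Red.bc a G).hom := inferInstanceAs (LocallyOfFiniteType (pullback.snd G.hom a))
  haveI : QuasiCompact (Red.bc a G).hom := inferInstanceAs (QuasiCompact (pullback.snd G.hom a))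
  haveI : IsLocallyNoetherian (Red.bc a G).left := LocallyOfFiniteType.isLocallyNoetherian (Red.bc a G).hom
  haveI : CompactSpace (Red.bc a G).left := QuasiCompact.compactSpace_of_compactSpace (Red.bc a G).hom
  haveI : IsNoetherian (Red.bc a G).left := {}
  exact exists_family_aux (Γ := Red.bc a G) ⟨Set.univ, isClosed_univ⟩ G a (𝟙 _) (Set.range_id) T i hT

end Groth.Agent.GModLib
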