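import Groth.Agent.GModLib.FibreHom
import Groth.Agent.GModLib.TorsionCentralizer
import Groth.Agent.GModLib.CentralizerBC

/-!
# Enlarging the base by a torsion point

A point of finite order prime to the characteristic of a geometric fibre extends to a smooth family, whose
centralizer is a smooth subgroup.
-/

set_option autoImplicit false
set_option backward.isDefEq.respectTransparency false
set_option backward.isDefEq.respectTransparency.types false

universe u

open CategoryTheory Limits AlgebraicGeometry MonoidalCategory CartesianMonoidalCategory MonObj GrpObj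

namespace Groth.Agent.GModLib

/-- A point of a base change as a point over the base. -/
noncomputable def thetaHom {U S : Scheme.{u}} (g : U ⟶ S) {H : Over S} [GrpObj H] (Y : Over U) :
    (Y ⟶ Red.bc g H) →* ((Over.map g).obj Y ⟶ H) :=
  MonoidHom.mk' (DSPtsLib.theta g) (DSPtsLib.theta_mul g)

theorem exists_open_isUnit {S : Scheme.{u}} {k : Type u} [Field k] (a : Spec (CommRingCat.of k) ⟶ S) (n : ℕ)
    (hn : (n : k) ≠ 0) :
    ∃ V : S.Opens, Set.range a ⊆ (V : Set S) ∧ IsUnit (n : Γ((V : Scheme.{u}), ⊤)) := by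
  refine ⟨S.basicOpen (n : Γ(S, ⊤)), ?_, ?_⟩
  · rintro _ ⟨q, rfl⟩
    show q ∈ a ⁻¹ᵁ S.basicOpen (n : Γ(S, ⊤))
    rw [Scheme.preimage_basicOpen_top, _root_.map_natCast]
    have hu : IsUnit (n : Γ(Spec (CommRingCat.of k), ⊤)) := by
      have h := (IsUnit.mk0 _ hn).map (Scheme.ΓSpecIso (CommRingCat.of k)).inv.hom
      rwa [_root_.map_natCast] at h
    rw [Scheme.basicOpen_of_isUnit _ hu]
    trivial
  · have h := RingedSpace.isUnit_res_basicOpen S.toRingedSpace (n : Γ(S, ⊤))
    have h' := h.map (S.basicOpen (n : Γ(S, ⊤))).topIso.inv.hom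
    rwa [_root_.map_natCast, _root_.map_natCast] at h'

variable {S : Scheme.{u}} {k : Type u} [Field k] {Z : Over S} [GrpObj Z] [Smooth Z.hom] [IsSeparated Z.hom]
  [QuasiCompact Z.hom] {a : Spec (CommRingCat.of k) ⟶ S}

set_option maxHeartbeats 1000000 in
/-- A torsion point of a fibre gives a smooth family of centralizers of torsion points. -/
theorem exists_step (t : 𝟙_ (Over (Spec (CommRingCat.of k))) ⟶ Red.bc a Z) {n : ℕ} [NeZero n] (hn : (n : k) ≠ 0)
    (ht : t ^ n = 1) :
    ∃ (P : Scheme.{u}) (τ : P ⟶ S) (σ : Spec (CommRingCat.of k) ⟶ P) (hσ : σ ≫ τ = a) (C : Over P) (_ : GrpObj C)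
      (d : C ⟶ Red.bc τ Z), Smooth τ ∧ Smooth C.hom ∧ IsSeparated C.hom ∧ QuasiCompact C.hom ∧ IsMonHom d ∧
        IsClosedImmersion d.left ∧
        ∀ (X : Over (Spec (CommRingCat.of k))) (x : X ⟶ Red.bc a Z),
          (∃ x' : X ⟶ Red.bc σ C, x' ≫ fibreHom hσ d = x) ↔ x * (toUnit X ≫ t) = (toUnit X ≫ t) * x := by
  obtain ⟨V, haV, hu⟩ := exists_open_isUnit a n hn
  let aV : Spec (CommRingCat.of k) ⟶ (V : Scheme.{u}) :=
    IsOpenImmersion.lift V.ι a (by rw [Scheme.Opens.range_ι]; exact haV)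
  have haV' : aV ≫ V.ι = a := IsOpenImmersion.lift_fac _ _ _
  let ZV : Over (V : Scheme.{u}) := Red.bc V.ι Z
  haveI : Smooth ZV.hom := inferInstanceAs (Smooth (pullback.snd Z.hom V.ι))
  haveI : IsSeparated ZV.hom := inferInstanceAs (IsSeparated (pullback.snd Z.hom V.ι))
  haveI : QuasiCompact ZV.hom := inferInstanceAs (QuasiCompact (pullback.snd Z.hom V.ι))
  obtain ⟨P, p, hpc, hPs, hpn, hlift⟩ := exists_torsion_scheme (Z := ZV) hu
  haveI := hPs
  -- the torsion point as a point of the family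
  let e := fibreIso (a := aV) haV' Z
  haveI : IsMonHom e.inv := inferInstanceAs (IsMonHom (fibreIso (a := aV) haV' Z).inv)
  let x₀ := DSPtsLib.theta aV (t ≫ e.inv)
  have hx₀ : x₀ ^ n = 1 := by
    show (thetaHom aV _ (t ≫ e.inv)) ^ n = 1
    rw [← _root_.map_pow, ← MonObj.pow_comp, ht, MonObj.one_comp, _root_.map_one]
  obtain ⟨x', hx'⟩ := hlift _ x₀ hx₀
  let σ : Spec (CommRingCat.of k) ⟶ P.left := x'.left
  have hσP : σ ≫ P.hom = aV := (Over.w x').trans (Category.id_comp _)
  let τ : P.left ⟶ S := P.hom ≫ V.ι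
  have hσ : σ ≫ τ = a := by
    show σ ≫ P.hom ≫ V.ι = a
    rw [reassoc_of% hσP, haV']
  -- the universal point
  let pA : (Over.map P.hom).obj (𝟙_ (Over P.left)) ⟶ P := Over.homMk (𝟙 P.left) (by
    show 𝟙 P.left ≫ P.hom = 𝟙 P.left ≫ P.hom
    rfl)
  obtain ⟨gu, hgu⟩ := (DSPtsLib.theta_bijective (H := ZV) P.hom).2 (pA ≫ p)
  have hgn : gu ^ n = 1 := by
    refine (DSPtsLib.theta_bijective (H := ZV) P.hom).1 ?_
    show thetaHom P.hom _ (gu ^ n) = thetaHom P.hom _ 1
    rw [_root_.map_pow, _root_.map_one]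
    show (DSPtsLib.theta P.hom gu) ^ n = 1
    rw [hgu, ← MonObj.comp_pow, hpn, MonObj.comp_one]
  let ZP : Over P.left := Red.bc P.hom ZV
  haveI : Smooth ZP.hom := inferInstanceAs (Smooth (pullback.snd ZV.hom P.hom))
  haveI : IsSeparated ZP.hom := inferInstanceAs (IsSeparated (pullback.snd ZV.hom P.hom))
  haveI : QuasiCompact ZP.hom := inferInstanceAs (QuasiCompact (pullback.snd ZV.hom P.hom))
  have huP : IsUnit (n : Γ(P.left, ⊤)) := by
    have h := hu.map P.hom.appTop.hom
    rwa [_root_.map_natCast] at h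
  obtain ⟨C, _, c, hcm, hcc, hCs, hC⟩ := exists_centralizer_point huP gu hgn
  haveI := hcm; haveI := hcc
  let κ : ZP ≅ Red.bc τ Z := fibreIso (a := P.hom) (rfl : P.hom ≫ V.ι = τ) Z
  haveI : IsMonHom κ.hom := inferInstanceAs (IsMonHom (fibreIso (a := P.hom) (rfl : P.hom ≫ V.ι = τ) Z).hom)
  haveI : IsIso κ.hom.left := inferInstanceAs (IsIso ((Over.forget _).map κ.hom))
  have hdc : IsClosedImmersion (c ≫ κ.hom).left := by rw [Over.comp_left]; infer_instance
  refine ⟨P.left, τ, σ, hσ, C, inferInstance, c ≫ κ.hom, inferInstance, hCs,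
    by rw [← Over.w c]; infer_instance, by rw [← Over.w c]; infer_instance, inferInstance, hdc, fun X x => ?_⟩
  -- the fibre of the centralizer
  let E : Red.bc σ ZP ≅ Red.bc a Z :=
    { hom := fibreHom hσ κ.hom
      inv := (fibreIso hσ Z).inv ≫ (Over.pullback σ).map κ.inv
      hom_inv_id := by
        rw [fibreHom_eq', Category.assoc, Iso.hom_inv_id_assoc, ← CategoryTheory.Functor.map_comp, κ.hom_inv_id,
          CategoryTheory.Functor.map_id]
      inv_hom_id := by
        rw [fibreHom_eq', Category.assoc, ← Functor.map_comp_assoc, κ.inv_hom_id, CategoryTheory.Functor.map_id,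
          Category.id_comp, Iso.inv_hom_id] }
  haveI : IsMonHom E.hom := isMonHom_fibreHom hσ κ.hom
  haveI : IsIso E.hom := E.isIso_hom
  obtain ⟨g₁, hg₁⟩ := (DSPtsLib.theta_bijective (H := ZP) σ).2
    (toUnit ((Over.map σ).obj (𝟙_ (Over (Spec (CommRingCat.of k))))) ≫ gu)
  have hg₁t : g₁ ≫ E.hom = t := by
    refine bc_hom_ext ?_
    rw [Over.comp_left, Category.assoc]
    show g₁.left ≫ (fibreHom hσ κ.hom).left ≫ _ = _
    rw [fibreHom_left_fst]
    have e1 : g₁.left ≫ pullback.fst ZP.hom σ = σ ≫ gu.left := by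
      refine (congrArg CommaMorphism.left hg₁).trans ?_
      show (𝟙 _ ≫ σ) ≫ gu.left = _
      rw [Category.id_comp]
    have e2 : gu.left ≫ pullback.fst ZV.hom P.hom = p.left :=
      (congrArg CommaMorphism.left hgu).trans (Category.id_comp p.left)
    have e3 : κ.hom.left ≫ pullback.fst Z.hom τ = pullback.fst ZV.hom P.hom ≫ pullback.fst Z.hom V.ι := by
      show (fibreIso (a := P.hom) (rfl : P.hom ≫ V.ι = τ) Z).hom.left ≫ _ = _
      rw [← fibreHom_id, fibreHom_left_fst, Over.id_left, Category.id_comp]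
    have e4 : σ ≫ p.left = t.left ≫ e.inv.left ≫ pullback.fst ZV.hom aV := by
      refine (congrArg CommaMorphism.left hx').trans ?_
      show (t ≫ e.inv).left ≫ pullback.fst ZV.hom aV = _
      rw [Over.comp_left, Category.assoc]
    have e5 : e.hom.left ≫ pullback.fst Z.hom a = pullback.fst ZV.hom aV ≫ pullback.fst Z.hom V.ι := by
      show (fibreIso (a := aV) haV' Z).hom.left ≫ _ = _
      rw [← fibreHom_id, fibreHom_left_fst, Over.id_left, Category.id_comp]
    rw [reassoc_of% e1, e3, reassoc_of% e2, reassoc_of% e4, ← e5, ← Category.assoc e.inv.left, ← Over.comp_left,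
      e.inv_hom_id, Over.id_left, Category.id_comp]
  have hEj : fibreHom hσ (c ≫ κ.hom) = (Over.pullback σ).map c ≫ E.hom := by
    show _ = _ ≫ fibreHom hσ κ.hom
    rw [fibreHom_eq', fibreHom_eq', Functor.map_comp, Category.assoc]
  obtain ⟨x₁, rfl⟩ : ∃ x₁, x₁ ≫ E.hom = x := ⟨x ≫ E.inv, by rw [Category.assoc, E.inv_hom_id, Category.comp_id]⟩
  simp only [hEj, ← Category.assoc, cancel_mono E.hom]
  rw [BC.exists_factor_iff, hC, ← hg₁t, ← Category.assoc, ← MonObj.mul_comp, ← MonObj.mul_comp, cancel_mono E.hom,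
    ← (DSPtsLib.theta_bijective (H := ZP) σ).1.eq_iff (a := x₁ * (toUnit X ≫ g₁)), DSPtsLib.theta_mul,
    DSPtsLib.theta_mul, DSPtsLib.theta_comp, hg₁, ← Category.assoc, toUnit_unique ((Over.map σ).map (toUnit X) ≫ toUnit _) (toUnit _)]

end Groth.Agent.GModLib
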