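import Groth.Agent.GrpSchLib.SubgroupEqLocus
import Groth.Agent.GrpSchLib.HomMonoLocus
import Groth.Agent.SplitTorLib.Pieces

/-!
# The kernel of a homomorphism out of a split group is locally cut out by a lattice of characters

For `φ : D(M) ⟶ G` with `G` separated and locally of finite type, and a prime `p` of an affine piece, the kernel over
`κ(p)` is `D(M/L)`. By rigidity `D(M/L)` lies in the kernel near `p`; the kernel ideal is then graded by `M/L`, so the
relations expressing that the characters in `L` are trivial at `p` can be taken inside `R[L]`, and they stay trivial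
near `p`.
-/

set_option autoImplicit false
set_option linter.style.haveILetI false
set_option backward.isDefEq.respectTransparency false
set_option backward.isDefEq.respectTransparency.types false

universe u

open CategoryTheory CategoryTheory.Limits MonoidalCategory CartesianMonoidalCategory MonObj AlgebraicGeometry
open scoped TensorProduct

namespace Groth.Agent.GModLib.TorusKernel

open DSPtsLib (CoordM spU pt)
open GrpSchLib.DiagSubgroupTrivial (chg IsSubgroup lift_chg exists_generic rel_eval exists_rel)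
open GrpSchLib.HomMonoLocus (charOf charOf_single evalChar_charOf)
open GrpSchLib.HomKernelIdeal (str evalChar content)

section Rel

variable {R : Type u} [CommRing R] {M : Type} [AddCommGroup M] {I : Ideal (MonoidAlgebra R (Multiplicative M))}

theorem map_le_ker {T B : Type u} [CommRing T] [Algebra R T] [CommRing B] [Algebra R B]
    [Algebra T B] [IsScalarTower R T B] (g : Multiplicative M →* B)
    (hg : I ≤ RingHom.ker (MonoidAlgebra.lift R B (Multiplicative M) g)) :
    I.map (chg T) ≤ RingHom.ker (MonoidAlgebra.lift T B (Multiplicative M) g) :=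
  Ideal.map_le_iff_le_comap.mpr fun b hb => by
    rw [Ideal.mem_comap, RingHom.mem_ker, lift_chg]
    exact hg hb

/-- If the diagonalisable subgroup cut out by `L` lies in the subgroup, relations may be projected onto `L`. -/
theorem coset_rel (hI : IsSubgroup I) (L : Subgroup (Multiplicative M)) [DecidablePred (· ∈ L)]
    (T : Type u) [CommRing T] [Algebra R T]
    (hA : ∀ (C : Type u) [CommRing C] [Algebra R C] [Algebra T C] [IsScalarTower R T C] (f : Multiplicative M →* C),
      (∀ m ∈ L, f m = 1) → I ≤ RingHom.ker (MonoidAlgebra.lift R C (Multiplicative M) f))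
    {B : Type u} [CommRing B] [Algebra R B] [Algebra T B] [IsScalarTower R T B] (g : Multiplicative M →* B)
    (hg : I ≤ RingHom.ker (MonoidAlgebra.lift R B (Multiplicative M) g)) (m : L) {r : T}
    {y : MonoidAlgebra T (Multiplicative M)}
    (hrel : algebraMap T _ r * (MonoidAlgebra.single (m : Multiplicative M) 1 - 1) - y ∈ I.map (chg T)) :
    r • g m = r • (1 : B) + ∑ n ∈ y.coeff.support.subtype (· ∈ L), y.coeff (n : Multiplicative M) • g n := by
  classical
  let C := Multiplicative M ⧸ L
  let A := MonoidAlgebra B C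
  haveI : IsScalarTower R T A := inferInstance
  let f : Multiplicative M →* A := (MonoidAlgebra.of B C).comp (QuotientGroup.mk' L)
  let gA : Multiplicative M →* A := ((algebraMap B A : B →+* A) : B →* A).comp g
  have hfI := hA A f (fun n hn => by
    show MonoidAlgebra.of B C (QuotientGroup.mk' L n) = 1
    rw [QuotientGroup.mk'_apply, (QuotientGroup.eq_one_iff n).mpr hn, map_one])
  have hgI : I ≤ RingHom.ker (MonoidAlgebra.lift R A (Multiplicative M) gA) := fun a ha => by
    rw [RingHom.mem_ker, show MonoidAlgebra.lift R A (Multiplicative M) gA =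
      (IsScalarTower.toAlgHom R B A).comp (MonoidAlgebra.lift R B (Multiplicative M) g) from
        MonoidAlgebra.algHom_ext (fun n => by simp [gA]) (Subsingleton.elim _ _), AlgHom.comp_apply,
      show MonoidAlgebra.lift R B (Multiplicative M) g a = 0 from hg ha, map_zero]
  let h : Multiplicative M →* A := gA * f
  have hh : ∀ n, h n = MonoidAlgebra.single (QuotientGroup.mk' L n) (g n) := fun n => by
    show algebraMap B A (g n) * MonoidAlgebra.of B C (QuotientGroup.mk' L n) = _
    rw [MonoidAlgebra.coe_algebraMap, MonoidAlgebra.of_apply, Function.comp_apply, MonoidAlgebra.single_mul_single,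
      _root_.one_mul, _root_.mul_one]
    rfl
  have e := rel_eval (I := I.map (chg T)) h
    (map_le_ker h (hI.2 A gA f h (fun n => rfl) hgI hfI)) hrel
  have e1 := e
  have hs : ∀ (t : T) (a : A), (t • a).coeff 1 = t • a.coeff 1 := fun t a => rfl
  let φ : A →+ B :=
    { toFun := fun a => a.coeff 1
      map_zero' := rfl
      map_add' := fun _ _ => rfl }
  replace e1 : φ (r • h (m : Multiplicative M)) = φ (r • 1 + ∑ n ∈ y.coeff.support, y.coeff n • h n) := congrArg φ e
  rw [map_add, map_sum] at e1
  simp only [show ∀ a : A, φ a = a.coeff 1 from fun _ => rfl, hs] at e1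
  simp only [hh, MonoidAlgebra.coeff_single, MonoidAlgebra.coeff_one_one, Finsupp.single_apply] at e1
  rw [if_pos (show QuotientGroup.mk' L (m : Multiplicative M) = 1 from (QuotientGroup.eq_one_iff _).mpr m.2)] at e1
  rw [e1]
  congr 1
  rw [Finset.sum_subtype_eq_sum_filter (f := fun n => y.coeff n • g n), Finset.sum_filter]
  refine Finset.sum_congr rfl fun n _ => ?_
  by_cases hn : n ∈ L
  · rw [if_pos hn, if_pos (show QuotientGroup.mk' L n = 1 from (QuotientGroup.eq_one_iff n).mpr hn)]
  · rw [if_neg hn, if_neg (show ¬ QuotientGroup.mk' L n = 1 from fun h => hn ((QuotientGroup.eq_one_iff n).mp h)), smul_zero]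

/-- Characters trivial on the subgroup at `p` are trivial on it near `p`. -/
theorem lattice_main (hI : IsSubgroup I) (L : Subgroup (Multiplicative M)) (hLfg : L.FG) (p : Ideal R) [p.IsPrime]
    (hp : ∀ m ∈ L, MonoidAlgebra.single m 1 - 1 ∈ I.map (chg p.ResidueField)) (e : R) (he : e ∉ p)
    (hA : ∀ (C : Type u) [CommRing C] [Algebra R C], IsUnit (algebraMap R C e) → ∀ f : Multiplicative M →* C,
      (∀ m ∈ L, f m = 1) → I ≤ RingHom.ker (MonoidAlgebra.lift R C (Multiplicative M) f)) :
    ∃ d ∉ p, ∀ (B : Type u) [CommRing B] [Algebra R B], IsUnit (algebraMap R B d) → ∀ f : Multiplicative M →* B,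
      (I ≤ RingHom.ker (MonoidAlgebra.lift R B (Multiplicative M) f) ↔ ∀ m ∈ L, f m = 1) := by
  classical
  haveI : Group.FG L := (Group.fg_iff_subgroup_fg L).mpr hLfg
  obtain ⟨G₀, hG₀⟩ := (Group.FG.out : (⊤ : Subgroup L).FG)
  have hrel : ∀ m : L, ∃ r ∉ p, ∃ y : MonoidAlgebra R (Multiplicative M),
      (∀ n, y.coeff n ∈ p) ∧ algebraMap R _ r * (MonoidAlgebra.single (m : Multiplicative M) 1 - 1) - y ∈ I := fun m =>
    exists_rel p _ (by rw [map_sub, map_one, MonoidAlgebra.mapRingHom_single, map_one]; exact hp m m.2)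
  choose r hr y hy hrel using hrel
  refine ⟨e * ∏ m ∈ G₀, ∏ E ∈ (y m).coeff.support.powerset, (r m - ∑ n ∈ E, (y m).coeff n), fun h => ?_, ?_⟩
  · rcases Ideal.IsPrime.mem_or_mem inferInstance h with h | h
    · exact he h
    obtain ⟨m, -, hm⟩ := Ideal.IsPrime.prod_mem_iff.mp h
    obtain ⟨E, -, hE⟩ := Ideal.IsPrime.prod_mem_iff.mp hm
    exact hr m (by simpa using add_mem hE (sum_mem fun n (_ : n ∈ E) => hy m n))
  intro T _ _ hd f
  rw [map_mul, IsUnit.mul_iff] at hd
  obtain ⟨hde, hd⟩ := hd
  refine ⟨fun hf m hm => ?_, hA T hde f⟩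
  -- it is enough to treat the generic point over `T`
  suffices key : MonoidAlgebra.single m 1 - 1 ∈ I.map (chg T) by
    have := map_le_ker (T := T) f hf key
    rwa [RingHom.mem_ker, map_sub, map_one, MonoidAlgebra.lift_single, one_smul, sub_eq_zero] at this
  obtain ⟨B, _, _, _, _, g, hg, hgm, ⟨ε, hε⟩, -⟩ := exists_generic hI T
  refine hgm m (GrpSchLib.DiagSubgroupTrivial.eq_one_of_local (g.comp L.subtype) G₀ hG₀ ε (fun k => hε k) ?_ ⟨m, hm⟩)
  intro q hq n hn
  let t : Ideal T := q.comap (algebraMap T B)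
  haveI : t.IsPrime := inferInstanceAs (q.comap (algebraMap T B)).IsPrime
  let K := t.ResidueField
  have hcomp : (chg (R := T) K).comp (chg (R := R) T) = chg (R := R) (M := M) K := by
    unfold chg
    rw [← MonoidAlgebra.mapRingHom_comp, ← IsScalarTower.algebraMap_eq R T K]
  have hK : MonoidAlgebra.single (n : Multiplicative M) 1 - 1 ∈ I.map (chg (R := R) (M := M) K) := by
    obtain ⟨B', _, _, _, _, g', hg', hgm', -, Δ, hΔ⟩ := exists_generic hI K
    refine hgm' _ ?_
    have hrelK : algebraMap K (MonoidAlgebra K (Multiplicative M)) (algebraMap R K (r n)) *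
        (MonoidAlgebra.single (n : Multiplicative M) 1 - 1) - chg K (y n) ∈ I.map (chg K) := by
      have := Ideal.mem_map_of_mem (chg (R := R) (M := M) K) (hrel n)
      rwa [map_sub, map_mul, map_sub, map_one, MonoidAlgebra.mapRingHom_single, map_one,
        show chg K (algebraMap R _ (r n)) = algebraMap K _ (algebraMap R K (r n)) from
          MonoidAlgebra.mapRingHom_single _ _ _] at this
    have hKe : IsUnit (algebraMap R K e) := by rw [IsScalarTower.algebraMap_apply R T K e]; exact hde.map _
    have h2 := coset_rel hI L K (fun C _ _ _ _ f hf => hA C (by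
      rw [IsScalarTower.algebraMap_apply R K C]; exact hKe.map _) f hf) g' hg' n hrelK
    refine GrpSchLib.DiagSubgroupTrivial.eq_one_of_rel (g'.comp L.subtype) Δ (fun n => hΔ n) n
      (algebraMap R K (r n)) ((chg K (y n)).coeff.support.subtype (· ∈ L)) (fun k => (chg K (y n)).coeff k) h2 ?_
    intro E hE h0
    refine Ideal.IsPrime.ne_top' (I := t) (Ideal.eq_top_of_isUnit_mem t ?_ hd)
    rw [map_prod]
    refine Ideal.prod_mem _ hn ?_
    rw [map_prod]
    refine Ideal.prod_mem _ (i := E.map (Function.Embedding.subtype _)) (Finset.mem_powerset.mpr fun a ha => ?_) ?_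
    · obtain ⟨b, hb, rfl⟩ := Finset.mem_map.mp ha
      have hb' := Finset.mem_subtype.mp (hE hb)
      rw [Finsupp.mem_support_iff, MonoidAlgebra.coeff_mapRingHom] at hb'
      rw [Finsupp.mem_support_iff]
      intro h
      exact hb' (by rw [show (y n).coeff (b : Multiplicative M) = 0 from h, map_zero])
    · rw [← Ideal.algebraMap_residueField_eq_zero, ← IsScalarTower.algebraMap_apply, map_sub, Finset.sum_map, map_sum]
      simpa [MonoidAlgebra.coeff_mapRingHom] using h0
  obtain ⟨s, hs, z, hz, hsz⟩ := exists_rel (I := I.map (chg T)) t (MonoidAlgebra.single (n : Multiplicative M) 1 - 1) (by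
    rw [Ideal.map_map, hcomp, map_sub, map_one, MonoidAlgebra.mapRingHom_single, map_one]
    exact hK)
  refine ⟨s, Finsupp.subtypeDomain (· ∈ L) z.coeff, hs, fun k => hz k, ?_⟩
  have h2 := coset_rel hI L T (fun C _ _ _ _ f hf => hA C (by
    rw [IsScalarTower.algebraMap_apply R T C]; exact hde.map _) f hf) g hg n hsz
  rw [smul_sub, show (g.comp L.subtype) n = g n from rfl, h2, add_sub_cancel_left]
  rfl

end Rel

section Piece

variable {U : Scheme.{u}} {M : Type} [AddCommGroup M] {G : Over U} [GrpObj G] [IsSeparated G.hom]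
  [LocallyOfFiniteType G.hom]

set_option maxHeartbeats 1000000 in
/-- Near every prime the kernel is cut out by a lattice of characters. -/
theorem exists_cutBy [AddGroup.FG M] (φ : Red.DS U M ⟶ G) [IsMonHom φ] {V : U.Opens} (hV : IsAffineOpen V)
    (p : Ideal Γ(U, V)) [p.IsPrime] :
    ∃ d ∉ p, ∃ L : AddSubgroup M, SplitTorLib.CutBy φ
      (Spec.map (CommRingCat.ofHom (algebraMap Γ(U, V) (Localization.Away d))) ≫ hV.fromSpec) L := by
  classical
  let R : Type u := Γ(U, V)
  let β : Spec (CommRingCat.of R) ⟶ U := hV.fromSpec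
  have hβ : ∀ r, β r ∈ V := fun r => by
    show β r ∈ (V : Set U)
    rw [← hV.range_fromSpec]; exact ⟨r, rfl⟩
  obtain ⟨Kc, k, hkc, hkfp, hk⟩ := GrpSchLib.HomKernelIdeal.exists_kernel φ
  haveI := hkc
  obtain ⟨I, -, hI⟩ := GrpSchLib.HomKernelIdeal.exists_ideal β φ k hk
  have hI' : ∀ (T : Type u) [CommRing T] [Algebra R T] (f : Multiplicative M →* T),
      pt (str β T) (charOf (R := R) f) ≫ φ = 1 ↔
        I ≤ RingHom.ker (MonoidAlgebra.lift R T (Multiplicative M) f) := fun T _ _ f => by
    rw [hI, evalChar_charOf]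
  have hsub : IsSubgroup I := by
    refine ⟨(hI' R 1).mp ?_, fun T _ _ f g h hh hf hg => (hI' T h).mp ?_⟩
    · rw [GrpSchLib.HomMonoLocus.pt_one _ _ (fun m => by rw [charOf_single]; rfl), MonObj.one_comp]
    · rw [← DSPtsLib.pt_mul _ (charOf (R := R) f) (charOf (R := R) g) _ (fun m => by
        rw [charOf_single, charOf_single, charOf_single]; exact hh m), MonObj.mul_comp, (hI' T f).mpr hf,
        (hI' T g).mpr hg, _root_.one_mul]
  -- the characters trivial on the kernel at `p`
  let K := p.ResidueField
  obtain ⟨B, _, _, _, _, g, hg, hgm, ⟨ε, -⟩, Δ, hΔ⟩ := exists_generic hsub K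
  have hB : Nontrivial B := ε.toRingHom.domain_nontrivial
  let L : Subgroup (Multiplicative M) := g.ker
  have hp : ∀ m ∈ L, MonoidAlgebra.single m 1 - 1 ∈ I.map (chg K) := fun m hm => hgm m hm
  let Lₐ : AddSubgroup M :=
    { carrier := {m | Multiplicative.ofAdd m ∈ L}
      zero_mem' := L.one_mem
      add_mem' := fun {a b} ha hb => L.mul_mem ha hb
      neg_mem' := fun {a} ha => L.inv_mem ha }
  have hLfg : L.FG := by
    haveI : Module.Finite ℤ M := Module.Finite.iff_addGroup_fg.mpr ‹_›
    haveI : IsNoetherian ℤ M := isNoetherian_of_isNoetherianRing_of_finite ℤ M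
    exact (AddSubgroup.fg_iff_mul_fg Lₐ).mp ((Submodule.fg_iff_addSubgroup_fg Lₐ.toIntSubmodule).mp (IsNoetherian.noetherian _))
  -- over `κ(p)` the diagonalisable subgroup cut out by `L` lies in the kernel
  let q : M →+ M ⧸ Lₐ := QuotientAddGroup.mk' Lₐ
  let φ' : Red.DS U (M ⧸ Lₐ) ⟶ G := Red.DSmap U q ≫ φ
  haveI := S5427.isMonHom_DSmap U q
  haveI : IsMonHom φ' := inferInstanceAs (IsMonHom (Red.DSmap U q ≫ φ))
  obtain ⟨Kc', k', hkc', hkfp', hk'⟩ := GrpSchLib.HomKernelIdeal.exists_kernel φ'
  haveI := hkc'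
  obtain ⟨I', hI'fg, hI''⟩ := GrpSchLib.HomKernelIdeal.exists_ideal β φ' k' hk'
  have hfg := GrpSchLib.HomKernelIdeal.content_fg (hI'fg (hkfp' (Or.inr ‹_›)))
  -- points of the smaller group as points of the big one
  have hpull : ∀ (T : Type u) [CommRing T] [Algebra R T] (c : CoordM.{u} (M ⧸ Lₐ) →+* T),
      pt (str β T) c ≫ φ' = 1 ↔ I ≤ RingHom.ker (MonoidAlgebra.lift R T (Multiplicative M)
        (((c : CoordM.{u} (M ⧸ Lₐ) →* T).comp (MonoidAlgebra.of _ _)).comp (AddMonoidHom.toMultiplicative q))) := by
    intro T _ _ c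
    rw [← hI', show charOf (R := R) (((c : CoordM.{u} (M ⧸ Lₐ) →* T).comp (MonoidAlgebra.of _ _)).comp
      (AddMonoidHom.toMultiplicative q)) = GrpSchLib.SubgroupFactor.pull q c from
        SplitTorLib.ringHom_ext' fun m => by rw [charOf_single, GrpSchLib.SubgroupFactor.pull_single]; rfl,
      ← SplitTorLib.pt_DSmap, Category.assoc]
  have hcont : content I' ≤ p := fun r hr => Ideal.algebraMap_residueField_eq_zero.mp (by
    refine GrpSchLib.HomKernelIdeal.content_eq_zero β φ' hI'' (T := K) ((hpull _ _).mpr fun x hx => ?_) r hr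
    rw [RingHom.mem_ker, MonoidAlgebra.lift_apply, Finsupp.sum]
    let π : Multiplicative M →* MonoidAlgebra K (Multiplicative (M ⧸ Lₐ)) :=
      (MonoidAlgebra.of K _).comp (AddMonoidHom.toMultiplicative q)
    have hπ : ∀ m, (((GrpSchLib.DiagActionRigid.univPt K (AddMonoidHom.id (M ⧸ Lₐ)) : CoordM.{u} (M ⧸ Lₐ) →+* _) :
        CoordM.{u} (M ⧸ Lₐ) →* _).comp (MonoidAlgebra.of _ _)).comp (AddMonoidHom.toMultiplicative q) m = π m := fun m => (GrpSchLib.DiagActionRigid.univPt_single K (AddMonoidHom.id (M ⧸ Lₐ))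
      (AddMonoidHom.toMultiplicative q m))
    show ∑ m ∈ x.coeff.support, x.coeff m • _ = 0
    rw [Finset.sum_congr rfl fun m _ => congrArg (x.coeff m • ·) (hπ m)]
    have h0 : MonoidAlgebra.lift R B (Multiplicative M) g x = 0 := hg hx
    rw [MonoidAlgebra.lift_apply, Finsupp.sum] at h0
    have hli := GrpSchLib.DiagSubgroupTrivial.linearIndepOn_of_comul Δ.toLinearMap (x.coeff.support.image g)
      (fun y hy => by obtain ⟨m, -, rfl⟩ := Finset.mem_image.mp hy; exact hΔ m)
      (fun y hy => by obtain ⟨m, -, rfl⟩ := Finset.mem_image.mp hy; exact (Group.isUnit m).map g) hB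
    have hsum : ∀ y ∈ x.coeff.support.image g,
        ∑ m ∈ x.coeff.support with g m = y, algebraMap R K (x.coeff m) = 0 := by
      refine linearIndepOn_finset_iff.mp hli _ ?_
      simp only [id_eq, Finset.sum_smul]
      rw [← h0, ← Finset.sum_fiberwise_of_maps_to (g := g) (fun m hm => Finset.mem_image_of_mem g hm)]
      refine Finset.sum_congr rfl fun y _ => Finset.sum_congr rfl fun m hm => ?_
      rw [(Finset.mem_filter.mp hm).2, algebraMap_smul]
    rw [← Finset.sum_fiberwise_of_maps_to (g := g) (fun m hm => Finset.mem_image_of_mem g hm)]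
    refine Finset.sum_eq_zero fun y hy => ?_
    obtain ⟨m₀, -, rfl⟩ := Finset.mem_image.mp hy
    have hπeq : ∀ m, g m = g m₀ → π m = π m₀ := by
      intro m he
      show MonoidAlgebra.of K _ _ = MonoidAlgebra.of K _ _
      congr 1
      refine congrArg Multiplicative.ofAdd ((QuotientAddGroup.eq).mpr ?_)
      show g (Multiplicative.ofAdd (-Multiplicative.toAdd m + Multiplicative.toAdd m₀)) = 1
      rw [ofAdd_add, ofAdd_neg, map_mul, ofAdd_toAdd, ofAdd_toAdd, ← he, ← map_mul, inv_mul_cancel, map_one]
    calc ∑ m ∈ x.coeff.support with g m = g m₀, x.coeff m • π m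
        = ∑ m ∈ x.coeff.support with g m = g m₀, algebraMap R K (x.coeff m) • π m₀ :=
          Finset.sum_congr rfl fun m hm => by rw [hπeq m (Finset.mem_filter.mp hm).2, algebraMap_smul]
      _ = 0 := by rw [← Finset.sum_smul, hsum _ hy, zero_smul])
  obtain ⟨e, he, hex⟩ := GrpSchLib.HomKernelIdeal.exists_notMem_mul_content β φ' hI'' hV hβ hfg hcont
  have hA : ∀ (C : Type u) [CommRing C] [Algebra R C], IsUnit (algebraMap R C e) → ∀ f : Multiplicative M →* C,
      (∀ m ∈ L, f m = 1) → I ≤ RingHom.ker (MonoidAlgebra.lift R C (Multiplicative M) f) := by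
    intro C _ _ hC f hf
    let fa : M →+ Additive C :=
      { toFun := fun m => Additive.ofMul (f (Multiplicative.ofAdd m))
        map_zero' := map_one f
        map_add' := fun a b => map_mul f _ _ }
    let fb : M ⧸ Lₐ →+ Additive C := QuotientAddGroup.lift Lₐ fa fun m hm => hf _ hm
    let f' : Multiplicative (M ⧸ Lₐ) →* C :=
      { toFun := fun m => Additive.toMul (fb (Multiplicative.toAdd m))
        map_one' := congrArg Additive.toMul (map_zero fb)
        map_mul' := fun a b => congrArg Additive.toMul (map_add fb _ _) }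
    have h1 := GrpSchLib.HomKernelIdeal.eq_one_of_content β φ' hI'' (T := C) (fun r hr =>
      hC.mul_left_cancel (by rw [← map_mul, hex r hr, map_zero, mul_zero])) (charOf (R := R) f')
    have h2 := (hpull C _).mp h1
    rwa [show (((charOf (R := R) f' : CoordM.{u} (M ⧸ Lₐ) →+* C) : CoordM.{u} (M ⧸ Lₐ) →* C).comp
      (MonoidAlgebra.of _ _)).comp (AddMonoidHom.toMultiplicative q) = f from MonoidHom.ext fun m => by
        show charOf (R := R) f' (MonoidAlgebra.single (AddMonoidHom.toMultiplicative q m) 1) = f m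
        rw [charOf_single]; rfl] at h2
  obtain ⟨d, hd, hall⟩ := lattice_main hsub L hLfg p hp e he hA
  refine ⟨d, hd, Lₐ, fun T _ _ c => ?_⟩
  letI : Algebra R T := ((algebraMap (Localization.Away d) T).comp (algebraMap R (Localization.Away d))).toAlgebra
  have hu : IsUnit (algebraMap R T d) :=
    (IsLocalization.Away.algebraMap_isUnit d).map (algebraMap (Localization.Away d) T)
  rw [show Spec.map (CommRingCat.ofHom (algebraMap (Localization.Away d) T)) ≫
      Spec.map (CommRingCat.ofHom (algebraMap R (Localization.Away d))) ≫ hV.fromSpec = str β T by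
    show _ = Spec.map (CommRingCat.ofHom ((algebraMap (Localization.Away d) T).comp
      (algebraMap R (Localization.Away d)))) ≫ hV.fromSpec
    rw [CommRingCat.ofHom_comp, Spec.map_comp, Category.assoc]]
  let f : Multiplicative M →* T := (c : CoordM.{u} M →* T).comp (MonoidAlgebra.of _ _)
  rw [show c = charOf (R := R) f from SplitTorLib.ringHom_ext' fun m => by rw [charOf_single]; rfl, hI', hall T hu f]
  refine ⟨fun h m hm => ?_, fun h m hm => ?_⟩
  · show charOf (R := R) f (MonoidAlgebra.single (Multiplicative.ofAdd m) 1) = 1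
    rw [charOf_single]; exact h _ hm
  · have := h (Multiplicative.toAdd m) hm
    rw [SplitTorLib.chr, charOf_single] at this
    exact this

end Piece

end Groth.Agent.GModLib.TorusKernel
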