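import Groth.Prelude.Def_W4bk4grossh111Obs
import Groth.Agent.GModLib.Matrix
import Groth.Agent.GrpSchLib.ReducedPoints
import Groth.Agent.GrpSchLib.SmoothReduced

/-!
# Translation invariant functions on groups over a field, read on rational points
-/

universe u

open CategoryTheory Limits AlgebraicGeometry MonoidalCategory CartesianMonoidalCategory MonObj GrpObj TensorProduct
open TopologicalSpace

set_option backward.isDefEq.respectTransparency false
set_option backward.isDefEq.respectTransparency.types false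

namespace Groth.Agent.GModLib

open GrpSchLib GrpSchLib.Kunneth

variable {k : Type u} [Field k]

/-- The functions on the base are constants. -/
theorem fn_unit_const (x : Fn (𝟙_ (Over (Spec (CommRingCat.of k))))) : ∃ r : k, algebraMap k _ r = x := by
  refine ⟨(Scheme.ΓSpecIso (CommRingCat.of k)).hom x, ?_⟩
  show (𝟙 (Spec (CommRingCat.of k)) : _ ⟶ _).appTop ((Scheme.ΓSpecIso (CommRingCat.of k)).inv _) = x
  rw [← CommRingCat.comp_apply (Scheme.ΓSpecIso (CommRingCat.of k)).hom, Iso.hom_inv_id]
  simp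

/-- Functions on a reduced scheme of finite type over an algebraically closed field are determined
by their values at rational points. -/
theorem eq_of_forall_point [IsAlgClosed k] {T : Over (Spec (CommRingCat.of k))} [LocallyOfFiniteType T.hom]
    [IsReduced T.left] {a b : Fn T} (h : ∀ p : VecGrp.pt k k ⟶ T, pullFn p a = pullFn p b) : a = b := by
  haveI : JacobsonSpace T.left := LocallyOfFiniteType.jacobsonSpace T.hom
  rw [← sub_eq_zero]
  refine eq_zero_of_basicOpen_eq_bot (a - b) ?_
  by_contra hne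
  obtain ⟨w, hw, hwc⟩ := nonempty_inter_closedPoints (Z := ((T.left.basicOpen (a - b)) : Set T.left))
    (Set.nonempty_iff_ne_empty.mpr fun e => hne (TopologicalSpace.Opens.ext e))
    (T.left.basicOpen (a - b)).isOpen.isLocallyClosed
  obtain ⟨s, hs⟩ := exists_point_of_isClosed (K := k) T hwc
  have h0 : ev s (a - b) = 0 := by
    apply (Scheme.ΓSpecIso (CommRingCat.of k)).commRingCatIsoToRingEquiv.injective
    rw [map_zero, map_sub, map_sub, sub_eq_zero]
    exact h s
  have hmem : IsLocalRing.closedPoint k ∈ s.left ⁻¹ᵁ T.left.basicOpen (a - b) := by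
    show s.left (IsLocalRing.closedPoint k) ∈ T.left.basicOpen (a - b)
    rw [hs]; exact hw
  rw [Scheme.preimage_basicOpen, show s.left.app ⊤ (a - b) = 0 from h0, Scheme.basicOpen_zero] at hmem
  exact hmem

variable {G : Over (Spec (CommRingCat.of k))} [GrpObj G] [QuasiCompact G.hom]

open GrpSchLib in
set_option maxHeartbeats 1000000 in
/-- A function, its translates, and the matrix of the translations. -/
theorem exists_matrix_vec (f : Fn G) :
    ∃ (n : ℕ) (M : Matrix (Fin n) (Fin n) (Fn G)) (w : Fin n → Fn G) (c : Fin n → k),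
      IsRepMatrix M ∧ LinearIndependent k w ∧ ∑ j, c j • w j = f ∧
      ∀ (T : Over (Spec (CommRingCat.of k))) (g h : T ⟶ G) (j : Fin n),
        ev (g * h) (w j) = ∑ i, ev g (w i) * ev h (M i j) := by
  classical
  haveI := AntiAffine.isSeparated_grp G
  haveI : QuasiCompact (G ⊗ G).hom :=
    inferInstanceAs (QuasiCompact (pullback.fst G.hom G.hom ≫ G.hom))
  haveI : IsSeparated (G ⊗ G).hom :=
    inferInstanceAs (IsSeparated (pullback.fst G.hom G.hom ≫ G.hom))
  let b := Module.Basis.ofVectorSpace k (Fn G)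
  obtain ⟨s, a, hs⟩ := exists_expand (X := G) (Y := G) b (ev (fst G G * snd G G) f)
  have hexp : ∀ (T : Over (Spec (CommRingCat.of k))) (g h : T ⟶ G),
      ev (g * h) f = ∑ l ∈ s, ev g (a l) * ev h (b l) := by
    intro T g h
    have h1 := congrArg (ev (lift g h)) hs
    rw [map_sum, ev_ev, MonObj.comp_mul, lift_fst, lift_snd] at h1
    rw [h1]
    exact Finset.sum_congr rfl fun l _ => by rw [map_mul, ev_ev, ev_ev, lift_fst, lift_snd]
  choose t c hc using fun l => exists_expand (X := G) (Y := G) b (ev (fst G G * snd G G) (b l))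
  have hexp2 : ∀ (l) (T : Over (Spec (CommRingCat.of k))) (g h : T ⟶ G),
      ev (g * h) (b l) = ∑ m ∈ t l, ev g (c l m) * ev h (b m) := by
    intro l T g h
    have h1 := congrArg (ev (lift g h)) (hc l)
    rw [map_sum, ev_ev, MonObj.comp_mul, lift_fst, lift_snd] at h1
    rw [h1]
    exact Finset.sum_congr rfl fun m _ => by rw [map_mul, ev_ev, ev_ev, lift_fst, lift_snd]
  -- coefficients of the coefficients
  have hco : ∀ m ∈ s, ev (fst G G * snd G G) (a m) =
      ∑ l ∈ s, ev (fst G G) (a l) * (if m ∈ t l then ev (snd G G) (c l m) else 0) := by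
    let p := fst (G ⊗ G) G
    let j := snd (G ⊗ G) G
    let U := s ∪ s.biUnion t
    let A : _ → Fn (G ⊗ G) := fun m => (if m ∈ s then ev (fst G G * snd G G) (a m) else 0) -
      ∑ l ∈ s, ev (fst G G) (a l) * (if m ∈ t l then ev (snd G G) (c l m) else 0)
    have hz : ∑ m ∈ U, ev p (A m) * ev j (b m) = 0 := by
      have e1 := hexp ((G ⊗ G) ⊗ G) ((p ≫ fst G G) * (p ≫ snd G G)) j
      have e2 := hexp ((G ⊗ G) ⊗ G) (p ≫ fst G G) ((p ≫ snd G G) * j)
      rw [_root_.mul_assoc, e2, ← MonObj.comp_mul] at e1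
      simp only [hexp2, Finset.mul_sum, ← ev_ev] at e1
      have e3 : ∑ l ∈ s, ∑ m ∈ t l, ev p (ev (fst G G) (a l)) * (ev p (ev (snd G G) (c l m)) * ev j (b m)) =
          ∑ m ∈ U, ev p (∑ l ∈ s, ev (fst G G) (a l) * (if m ∈ t l then ev (snd G G) (c l m) else 0)) * ev j (b m) := by
        simp only [map_sum, Finset.sum_mul]
        rw [Finset.sum_comm (s := U)]
        refine Finset.sum_congr rfl fun l hl => ?_
        refine (Finset.sum_congr rfl fun m hm => ?_).trans
          (Finset.sum_subset (fun m hm => Finset.mem_union_right _ (Finset.mem_biUnion.2 ⟨l, hl, hm⟩)) fun m _ hm => by simp [hm])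
        simp [hm, _root_.mul_assoc]
      rw [e3] at e1
      simp only [A, map_sub, sub_mul, Finset.sum_sub_distrib]
      rw [e1, sub_eq_zero]
      refine ((Finset.sum_congr rfl fun m hm => by simp [hm]).trans
        (Finset.sum_subset Finset.subset_union_left fun m _ hm => by simp [hm])).symm
    intro m hm
    have := indep b.linearIndependent U A hz m (Finset.mem_union_left _ hm)
    simp only [A, if_pos hm, sub_eq_zero] at this
    exact this
  -- the stable space
  let V : Submodule k (Fn G) := Submodule.span k (a '' (s : Set _))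
  haveI : Module.Finite k V := Module.Finite.span_of_finite k (s.finite_toSet.image a)
  let n := Module.finrank k V
  let v := Module.finBasis k V
  let w : Fin n → Fn G := fun i => (v i : Fn G)
  have hw : LinearIndependent k w := v.linearIndependent.map' V.subtype (Submodule.ker_subtype V)
  let S : Submodule k (Fn (G ⊗ G)) :=
    { carrier := {z | ∃ m : Fin n → Fn G, z = ∑ i, ev (fst G G) (w i) * ev (snd G G) (m i)}
      add_mem' := by
        rintro _ _ ⟨m, rfl⟩ ⟨m', rfl⟩
        exact ⟨m + m', by simp [mul_add, Finset.sum_add_distrib]⟩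
      zero_mem' := ⟨0, by simp⟩
      smul_mem' := by
        rintro r _ ⟨m, rfl⟩
        exact ⟨r • m, by simp [Finset.smul_sum]⟩ }
  have hVS : ∀ x ∈ V, ev (fst G G * snd G G) x ∈ S := by
    intro x hx
    induction hx using Submodule.span_induction with
    | mem x hx =>
      obtain ⟨m, hm, rfl⟩ := hx
      rw [hco m hm]
      refine S.sum_mem fun l hl => ?_
      have hal : a l ∈ V := Submodule.subset_span ⟨l, hl, rfl⟩
      have := v.sum_repr ⟨a l, hal⟩
      refine ⟨fun i => v.repr ⟨a l, hal⟩ i • (if m ∈ t l then c l m else 0), ?_⟩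
      have h2 : a l = ∑ i, v.repr ⟨a l, hal⟩ i • w i := by
        have h3 := congrArg Subtype.val this
        rw [Submodule.coe_sum] at h3
        exact h3.symm
      conv_lhs => rw [h2, map_sum, Finset.sum_mul]
      refine Finset.sum_congr rfl fun i _ => ?_
      split_ifs <;> simp
    | zero => rw [map_zero]; exact S.zero_mem
    | add x y _ _ hx hy => rw [map_add]; exact S.add_mem hx hy
    | smul r x _ hx => rw [map_smul]; exact S.smul_mem r hx
  choose M hM using fun j => hVS (w j) (v j).2
  let N : Matrix (Fin n) (Fin n) (Fn G) := fun i j => M j i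
  have hN : ∀ (T : Over (Spec (CommRingCat.of k))) (g h : T ⟶ G) (j : Fin n),
      ev (g * h) (w j) = ∑ i, ev g (w i) * ev h (N i j) := by
    intro T g h j
    have h1 := congrArg (ev (lift g h)) (hM j)
    rw [map_sum, ev_ev, MonObj.comp_mul, lift_fst, lift_snd] at h1
    rw [h1]
    exact Finset.sum_congr rfl fun l _ => by rw [map_mul, ev_ev, ev_ev, lift_fst, lift_snd]
  have hmulG : N.map (ev (fst G G * snd G G)) = N.map (ev (fst G G)) * N.map (ev (snd G G)) := by
    refine Matrix.ext fun i j => ?_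
    let g := snd (G ⊗ G) G
    let p := fst (G ⊗ G) G
    have e1 := hN ((G ⊗ G) ⊗ G) g ((p ≫ fst G G) * (p ≫ snd G G)) j
    have e2 := hN ((G ⊗ G) ⊗ G) (g * (p ≫ fst G G)) (p ≫ snd G G) j
    rw [_root_.mul_assoc, e1, ← MonObj.comp_mul] at e2
    simp only [hN, Finset.sum_mul, _root_.mul_assoc] at e2
    rw [Finset.sum_comm] at e2
    simp only [← Finset.mul_sum, ← ev_ev, ← map_mul, ← map_sum] at e2
    have key := indep (X := G ⊗ G) (Y := G) hw Finset.univ
      (fun i => ev (fst G G * snd G G) (N i j) - ∑ l, ev (fst G G) (N i l) * ev (snd G G) (N l j)) (by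
        simp only [map_sub, sub_mul, Finset.sum_sub_distrib, sub_eq_zero]
        refine (Finset.sum_congr rfl fun x _ => _root_.mul_comm _ _).trans (Eq.trans ?_ (Finset.sum_congr rfl fun x _ => _root_.mul_comm _ _))
        exact e2) i (Finset.mem_univ i)
    simpa [Matrix.mul_apply] using sub_eq_zero.1 key
  have hone0 : ∀ i j, ev (η[G]) (N i j) = if i = j then 1 else 0 := by
    have hconst : ∀ x : Fn (𝟙_ (Over (Spec (CommRingCat.of k)))), ∃ r : k, algebraMap k _ r = x := fun x => by
      refine ⟨(Scheme.ΓSpecIso (CommRingCat.of k)).hom x, ?_⟩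
      show (𝟙 (Spec (CommRingCat.of k)) : _ ⟶ _).appTop ((Scheme.ΓSpecIso (CommRingCat.of k)).inv _) = x
      rw [← CommRingCat.comp_apply (Scheme.ΓSpecIso (CommRingCat.of k)).hom, Iso.hom_inv_id]
      simp
    choose r hr using hconst
    intro i j
    have e1 := hN G (𝟙 G) (toUnit G ≫ η[G]) j
    rw [show toUnit G ≫ η[G] = (1 : G ⟶ G) from rfl, _root_.mul_one] at e1
    have e2 : ∀ i, ev (1 : G ⟶ G) (N i j) = algebraMap k (Fn G) (r (ev η[G] (N i j))) := fun i => by
      show ev (toUnit G ≫ η[G]) _ = _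
      rw [← ev_ev, ← hr (ev η[G] (N i j)), AlgHom.commutes, hr (ev η[G] (N i j))]
    simp only [e2, ev_id] at e1
    have e3 : ∑ i, (r (ev η[G] (N i j)) - if i = j then 1 else 0) • w i = 0 := by
      simp only [sub_smul, Finset.sum_sub_distrib, ite_smul, one_smul, zero_smul, Finset.sum_ite_eq', Finset.mem_univ,
        if_true, sub_eq_zero]
      refine Eq.trans ?_ e1.symm
      exact Finset.sum_congr rfl fun i _ => by rw [Algebra.smul_def, _root_.mul_comm]
    have := sub_eq_zero.1 (Fintype.linearIndependent_iff.1 hw _ e3 i)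
    rw [← hr (ev η[G] (N i j)), this]
    split_ifs <;> simp
  have hf : f ∈ V := by
    have e := hexp G (𝟙 G) (toUnit G ≫ η[G])
    rw [show toUnit G ≫ η[G] = (1 : G ⟶ G) from rfl, _root_.mul_one, ev_id] at e
    rw [e]
    refine V.sum_mem fun l hl => ?_
    obtain ⟨r, hr⟩ : ∃ r : k, algebraMap k _ r = ev (η[G] : 𝟙_ _ ⟶ G) (b l) :=
      GModLib.fn_unit_const _
    have : ev (1 : G ⟶ G) (b l) = algebraMap k (Fn G) r := by
      show ev (toUnit G ≫ η[G]) _ = _
      rw [← ev_ev, ← hr, AlgHom.commutes]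
    rw [ev_id, this, _root_.mul_comm, ← Algebra.smul_def]
    exact V.smul_mem _ (Submodule.subset_span ⟨l, hl, rfl⟩)
  refine ⟨n, N, w, fun i => v.repr ⟨f, hf⟩ i, ⟨fun T g h => ?_, fun T => Matrix.ext fun i j => ?_⟩, hw, ?_, hN⟩
  · have := congrArg (fun A : Matrix (Fin n) (Fin n) (Fn (G ⊗ G)) => A.map (ev (lift g h))) hmulG
    simp only [Matrix.map_mul, Matrix.map_map] at this
    have q : ∀ p : G ⊗ G ⟶ G, ⇑(ev (lift g h)) ∘ ⇑(ev p) = ⇑(ev (lift g h ≫ p)) := fun p => rfl
    simpa only [q, MonObj.comp_mul, lift_fst, lift_snd] using this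
  · show ev (toUnit T ≫ η[G]) (N i j) = _
    rw [← ev_ev, hone0, Matrix.one_apply]
    split_ifs <;> simp
  · have h3 := congrArg Subtype.val (v.sum_repr ⟨f, hf⟩)
    rw [Submodule.coe_sum] at h3
    exact h3

omit [QuasiCompact G.hom] in
theorem isReduced_prod_pts [IsAlgClosed k] [Smooth G.hom] {H : Over (Spec (CommRingCat.of k))} [Smooth H.hom] :
    IsReduced (G ⊗ H).left := by
  haveI : Smooth (G ⊗ H).hom := inferInstanceAs (Smooth (Limits.pullback.fst G.hom H.hom ≫ G.hom))
  exact GrpSchLib.isReduced_of_smooth_field (G ⊗ H).hom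

omit [QuasiCompact G.hom] in
/-- Invariance under right translations, read on rational points. -/
theorem isRTransInv_iff_points [IsAlgClosed k] [Smooth G.hom] {H : Over (Spec (CommRingCat.of k))} [Smooth H.hom]
    (i : H ⟶ G) (f : Fn G) :
    AGF.IsRTransInv i f ↔
      ∀ (x : VecGrp.pt k k ⟶ G) (h : VecGrp.pt k k ⟶ H), pullFn (x * (h ≫ i)) f = pullFn x f := by
  haveI := isReduced_prod_pts (G := G) (H := H)
  haveI : LocallyOfFiniteType (G ⊗ H).hom :=
    inferInstanceAs (LocallyOfFiniteType (Limits.pullback.fst G.hom H.hom ≫ G.hom))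
  constructor
  · intro hf x h
    have hf' : ev ((G ◁ i) ≫ μ[G]) f = ev (fst G H) f := hf
    have := congrArg (pullFn (lift x h)) hf'
    rwa [pullFn_ev, pullFn_ev, lift_fst, lift_whiskerLeft_assoc, ← Hom.mul_def] at this
  · intro hf
    show ev ((G ◁ i) ≫ μ[G]) f = ev (fst G H) f
    refine eq_of_forall_point fun p => ?_
    rw [pullFn_ev, pullFn_ev]
    have := hf (p ≫ fst G H) (p ≫ snd G H)
    have hp : p ≫ (G ◁ i) ≫ μ[G] = (p ≫ fst G H) * ((p ≫ snd G H) ≫ i) := by
      rw [Hom.mul_def, ← Category.assoc p]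
      congr 1
      apply CartesianMonoidalCategory.hom_ext <;> simp [-Over.comp_left]
    rwa [hp]

/-- The stabiliser of the coordinate vector of a function is the group of its periods. -/
theorem mulVec_eq_iff [IsAlgClosed k] [Smooth G.hom] {n : ℕ} {M : Matrix (Fin n) (Fin n) (Fn G)} {w : Fin n → Fn G}
    {c : Fin n → k} {f : Fn G} (hw : LinearIndependent k w) (hc : ∑ j, c j • w j = f)
    (hM : ∀ (T : Over (Spec (CommRingCat.of k))) (g h : T ⟶ G) (j : Fin n),
      ev (g * h) (w j) = ∑ i, ev g (w i) * ev h (M i j))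
    (h : VecGrp.pt k k ⟶ G) :
    (M.map (pullFn h)).mulVec c = c ↔ ∀ x : VecGrp.pt k k ⟶ G, pullFn (x * h) f = pullFn x f := by
  haveI : IsReduced G.left := GrpSchLib.isReduced_of_smooth_field G.hom
  have key : ∀ x : VecGrp.pt k k ⟶ G,
      pullFn (x * h) f = pullFn x (∑ i, (M.map (pullFn h)).mulVec c i • w i) := by
    intro x
    have e : ∀ j, pullFn (x * h) (w j) = ∑ i, pullFn x (w i) * pullFn h (M i j) := fun j => by
      have := congrArg (fun z => (Scheme.ΓSpecIso (CommRingCat.of k)).hom z) (hM _ x h j)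
      simp only [map_sum, map_mul] at this
      exact this
    rw [← hc]
    simp only [map_sum, map_smul, e, smul_eq_mul, Matrix.mulVec, dotProduct, Matrix.map_apply, Finset.mul_sum,
      Finset.sum_mul]
    rw [Finset.sum_comm]
    refine Finset.sum_congr rfl fun i _ => Finset.sum_congr rfl fun j _ => ?_
    ring
  constructor
  · intro e x
    rw [key, e, hc]
  · intro e
    have h0 : ∑ i, ((M.map (pullFn h)).mulVec c i - c i) • w i = 0 := by
      simp only [sub_smul, Finset.sum_sub_distrib, hc, sub_eq_zero]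
      exact eq_of_forall_point fun x => (key x).symm.trans (e x)
    exact funext fun i => sub_eq_zero.1 (Fintype.linearIndependent_iff.1 hw _ h0 i)

omit [QuasiCompact G.hom] in
/-- The action of a matrix module on a constant vector. -/
theorem gmod_apply {n : ℕ} {M : Matrix (Fin n) (Fin n) (Fn G)} (hM : IsRepMatrix M) (v : Fin n → k)
    (g : VecGrp.pt k k ⟶ G) :
    hM.gmod.ρ k g ((1 : k) ⊗ₜ[k] v) = (1 : k) ⊗ₜ[k] ((M.map (pullFn g)).mulVec v) := by
  show endHom hM k g ((1 : k) ⊗ₜ[k] v) = _
  have hv : ∀ v : Fin n → k, (1 : k) ⊗ₜ[k] v = ∑ j, v j • stdB k n k j := fun v => by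
    conv_lhs => rw [← (Pi.basisFun k (Fin n)).sum_repr v]
    simp [TensorProduct.tmul_sum, Algebra.TensorProduct.basis_apply, TensorProduct.tmul_smul]
  rw [hv, hv, map_sum]
  simp only [map_smul, endHom_basis, Finset.smul_sum, Matrix.mulVec, dotProduct, Matrix.map_apply, Finset.sum_smul]
  rw [Finset.sum_comm]
  refine Finset.sum_congr rfl fun i _ => Finset.sum_congr rfl fun j _ => ?_
  rw [smul_smul, _root_.mul_comm]

end Groth.Agent.GModLib
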