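import Groth.Agent.GModLib.CharTorus
import Groth.Agent.GModLib.SolvableCriterion
import Groth.Agent.GModLib.TranslatesFamily
import Mathlib.RingTheory.Polynomial.Pochhammer

/-!
# Connected solvable groups: faithful triangular representations and their unipotent points
-/

set_option autoImplicit false
set_option backward.isDefEq.respectTransparency false
set_option backward.isDefEq.respectTransparency.types false

universe u

open CategoryTheory Limits AlgebraicGeometry MonoidalCategory CartesianMonoidalCategory MonObj GrpObj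

namespace Groth.Agent.GModLib

open GrpSchLib GrpSchLib.Kunneth

variable {k : Type u} [Field k] [IsAlgClosed k] {G : Over (Spec (CommRingCat.of k))} [GrpObj G] [IsAffine G.left]
  [Smooth G.hom]

/-- A character of the function algebra is evaluation at a rational point. -/
theorem exists_point_of_algHom (χ : Fn G →ₐ[k] k) : ∃ z : VecGrp.pt k k ⟶ G, pullFn z = χ := by
  haveI : (RingHom.ker χ).IsMaximal :=
    RingHom.ker_isMaximal_of_surjective χ fun c => ⟨algebraMap k _ c, χ.commutes c⟩
  obtain ⟨z, hz⟩ := exists_point_of_isMaximal (RingHom.ker χ)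
  refine ⟨z, AlgHom.ext fun f => ?_⟩
  have h := hz (f - algebraMap k _ (χ f)) (by rw [RingHom.mem_ker, map_sub, AlgHom.commutes]; simp)
  rw [map_sub, AlgHom.commutes, sub_eq_zero] at h
  simpa using h

omit [Smooth G.hom] [IsAlgClosed k] [GrpObj G] in
theorem pullFn_injective {g h : VecGrp.pt k k ⟶ G} (e : pullFn g = pullFn h) : g = h := by
  refine LineGroups.ext_ev (AlgHom.ext fun f => ?_)
  exact (Scheme.ΓSpecIso (CommRingCat.of k)).commRingCatIsoToRingEquiv.injective (AlgHom.congr_fun e f)

/-- A representation by regular functions of a solvable connected group has an invariant flag. -/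
theorem exists_flag [ConnectedSpace G.left] {n : ℕ} (hn : derivedSeries (VecGrp.pt k k ⟶ G) n = ⊥) (d : ℕ) :
    ∀ (V : Type u) [AddCommGroup V] [Module k V] [Module.Finite k V], Module.finrank k V = d →
      ∀ ρ : (VecGrp.pt k k ⟶ G) →* Module.End k V, (regSystem (G := G)).Reg ρ →
        ∃ b : Module.Basis (Fin d) k V, ∀ g j, ρ g (b j) ∈ Submodule.span k (b '' Set.Iic j) := by
  induction d with
  | zero => exact fun V _ _ _ hd ρ _ => ⟨Module.finBasisOfFinrankEq k V hd, fun _ j => j.elim0⟩
  | succ d ih =>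
    intro V _ _ _ hd ρ hρ
    haveI : Nontrivial V := Module.nontrivial_of_finrank_pos (R := k) (by omega)
    obtain ⟨v, -, hv0, hev⟩ := LieKolchinLib.hasEigen (regSystem (G := G)) ρ hρ hn 0 ⊤
      (fun _ _ _ _ => Submodule.mem_top) top_ne_bot
    choose e he using fun g => hev g (by simp)
    obtain ⟨N, hN⟩ := Submodule.exists_isCompl (Submodule.span k {v})
    let p : V →ₗ[k] N := N.projectionOnto (Submodule.span k {v}) hN.symm
    have hpv : ∀ c : k, p (c • v) = 0 := fun c => by
      rw [Submodule.projectionOnto_apply_eq_zero_iff]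
      exact Submodule.smul_mem _ _ (Submodule.mem_span_singleton_self v)
    have hpN : ∀ w : N, p w = w := fun w => Submodule.projectionOnto_apply_left hN.symm w
    have hdec : ∀ x, ∃ c : k, x = c • v + (p x : V) := fun x => by
      have h0 : p (x - (p x : V)) = 0 := by rw [map_sub, hpN, sub_self]
      rw [Submodule.projectionOnto_apply_eq_zero_iff] at h0
      obtain ⟨c, hc⟩ := Submodule.mem_span_singleton.mp h0
      exact ⟨c, by rw [hc, sub_add_cancel]⟩
    let ρ' : (VecGrp.pt k k ⟶ G) →* Module.End k N :=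
      { toFun := fun g => p ∘ₗ ρ g ∘ₗ N.subtype
        map_one' := LinearMap.ext fun w => by simp [hpN]
        map_mul' := fun g h => LinearMap.ext fun w => by
          obtain ⟨c, hc⟩ := hdec (ρ h w)
          simp only [LinearMap.comp_apply, Submodule.subtype_apply, map_mul, Module.End.mul_apply]
          conv_lhs => rw [hc, map_add, map_smul, he g, smul_smul, map_add, hpv, zero_add] }
    have hρ' : (regSystem (G := G)).Reg ρ' := fun ψ w => hρ (ψ ∘ₗ p) w
    have hrk : Module.finrank k N = d := by
      have := Submodule.finrank_add_eq_of_isCompl hN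
      rw [finrank_span_singleton hv0, hd] at this
      omega
    obtain ⟨b', hb'⟩ := ih N hrk ρ' hρ'
    let b : Module.Basis (Fin (d + 1)) k V := Module.Basis.mkFinCons v b'
      (fun c x hx h => by
        have h1 : p (c • v + x) = 0 := by rw [h, map_zero]
        rw [map_add, hpv, zero_add, show p x = ⟨x, hx⟩ from hpN ⟨x, hx⟩] at h1
        rw [show x = 0 from congrArg Subtype.val h1, add_zero] at h
        exact (smul_eq_zero.mp h).resolve_right hv0)
      (fun z => by
        obtain ⟨c, hc⟩ := hdec z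
        exact ⟨-c, by rw [hc, neg_smul, add_comm (c • v), add_neg_cancel_right]; exact (p z).2⟩)
    have hb : (b : Fin (d + 1) → V) = Fin.cons v (fun i => (b' i : V)) := by
      rw [Module.Basis.coe_mkFinCons]; rfl
    refine ⟨b, fun g j => ?_⟩
    rcases Fin.eq_zero_or_eq_succ j with rfl | ⟨j, rfl⟩
    · rw [hb, Fin.cons_zero, he]
      exact Submodule.smul_mem _ _ (Submodule.subset_span ⟨0, Set.mem_Iic.mpr le_rfl, Fin.cons_zero _ _⟩)
    · obtain ⟨c, hc⟩ := hdec (ρ g (b' j : V))
      have e1 : b j.succ = (b' j : V) := by rw [hb, Fin.cons_succ]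
      rw [e1, hc]
      refine Submodule.add_mem _ (Submodule.smul_mem _ _ (Submodule.subset_span ⟨0, Fin.zero_le _, by rw [hb, Fin.cons_zero]⟩)) ?_
      have h1 := Submodule.apply_mem_span_image_of_mem_span N.subtype (hb' g j)
      refine Submodule.span_mono ?_ h1
      rintro _ ⟨_, ⟨i, hi, rfl⟩, rfl⟩
      exact ⟨i.succ, Fin.succ_le_succ_iff.mpr hi, by rw [hb, Fin.cons_succ]; rfl⟩

/-- A faithful triangular representation. -/
structure IsTriangular {d : ℕ} (M : Matrix (Fin d) (Fin d) (Fn G)) : Prop where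
  rep : IsRepMatrix M
  tri : ∀ i j, j < i → M i j = 0
  gen : Algebra.adjoin k (Set.range fun p : Fin d × Fin d => M p.1 p.2) = ⊤

/-- A connected solvable group has a faithful triangular representation. -/
theorem exists_triangular [ConnectedSpace G.left] (hsol : Red.IsSolvableGrp G) :
    ∃ (d : ℕ) (M : Matrix (Fin d) (Fin d) (Fn G)), IsTriangular M := by
  classical
  obtain ⟨n, hn⟩ := hsol
  haveI : IsReduced G.left := GrpSchLib.isReduced_of_smooth_field G.hom
  haveI : QuasiCompact G.hom := inferInstance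
  haveI := finiteType_fn (k := k) (G := G)
  obtain ⟨s, hs⟩ := Algebra.FiniteType.out (R := k) (A := Fn G)
  obtain ⟨d, M₀, w, c, hM₀, -, hc, hw⟩ := exists_matrix_family (G := G) (fun f : s => f.1)
  let ρ : (VecGrp.pt k k ⟶ G) →* Module.End k (Fin d → k) :=
    { toFun := fun g => Matrix.toLin' (M₀.map (pullFn g))
      map_one' := by
        rw [show M₀.map (pullFn (1 : VecGrp.pt k k ⟶ G)) = 1 from GrassAct.map_pullFn_one hM₀ (CommAlgCat.of k k),
          Matrix.toLin'_one]
        rfl
      map_mul' := fun g h => by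
        rw [show M₀.map (pullFn (g * h)) = M₀.map (pullFn g) * M₀.map (pullFn h) from
          GrassAct.map_pullFn_mul hM₀ (A := CommAlgCat.of k k) g h, Matrix.toLin'_mul]
        rfl }
  have hρ : (regSystem (G := G)).Reg ρ := fun φ v =>
    ⟨∑ i, φ (Pi.single i 1) • ∑ j, v j • M₀ i j, fun g => by
      show φ (Matrix.toLin' (M₀.map (pullFn g)) v) = _
      conv_lhs => rw [pi_eq_sum_univ' (Matrix.toLin' (M₀.map (pullFn g)) v)]
      simp only [map_sum, map_smul, Matrix.toLin'_apply, Matrix.mulVec, dotProduct, Matrix.map_apply, smul_eq_mul]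
      refine Finset.sum_congr rfl fun i _ => ?_
      rw [mul_comm]
      congr 1
      exact Finset.sum_congr rfl fun j _ => mul_comm _ _⟩
  obtain ⟨b, hb⟩ := exists_flag (hn _) d (Fin d → k) (Module.finrank_fin_fun k) ρ hρ
  obtain ⟨M, hM, hMρ⟩ := exists_isRepMatrix b ρ hρ
  refine ⟨d, M, hM, fun i j hij => eq_of_forall_point fun g => ?_, eq_top_iff.mpr ?_⟩
  · rw [map_zero, ← Matrix.map_apply (f := pullFn g), hMρ, LinearMap.toMatrix_apply]
    by_contra hne
    exact absurd (b.mem_span_image.mp (hb g j) (Finsupp.mem_support_iff.mpr hne)) (not_le.mpr hij)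
  rw [← hs]
  refine Algebra.adjoin_le fun f hf => ?_
  rw [show f = ∑ j, c ⟨f, hf⟩ j • w j from (hc ⟨f, hf⟩).symm]
  refine Subalgebra.sum_mem _ fun j _ => Subalgebra.smul_mem _ ?_ _
  -- the functions are linear in the representation
  let L : Module.End k (Fin d → k) →ₗ[k] k :=
    ∑ i, pullFn (1 : VecGrp.pt k k ⟶ G) (w i) • (LinearMap.proj i).comp (LinearMap.applyₗ (Pi.single j 1))
  let L' := L ∘ₗ (LinearMap.toMatrix b b).symm.toLinearMap
  have hwj : w j = ∑ a, ∑ a', L' (Matrix.single a a' 1) • M a a' := eq_of_forall_point fun g => by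
    have h := congrArg (Scheme.ΓSpecIso (CommRingCat.of k)).hom (hw _ 1 g j)
    rw [_root_.one_mul, map_sum] at h
    simp only [map_mul] at h
    have h' : pullFn g (w j) = ∑ i, pullFn (1 : VecGrp.pt k k ⟶ G) (w i) * pullFn g (M₀ i j) := h
    have h2 : L (ρ g) = pullFn g (w j) := by
      rw [h']
      simp only [L, LinearMap.sum_apply, LinearMap.smul_apply, LinearMap.comp_apply, LinearMap.applyₗ_apply_apply,
        LinearMap.proj_apply, smul_eq_mul]
      refine Finset.sum_congr rfl fun i _ => ?_
      congr 1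
      show Matrix.toLin' (M₀.map (pullFn g)) (Pi.single j 1) i = _
      simp
    rw [← h2, show ρ g = (LinearMap.toMatrix b b).symm (M.map (pullFn g)) by rw [hMρ, LinearEquiv.symm_apply_apply]]
    show L' (M.map (pullFn g)) = _
    conv_lhs => rw [Matrix.matrix_eq_sum_single (M.map (pullFn g))]
    simp only [map_sum, map_smul, smul_eq_mul]
    refine Finset.sum_congr rfl fun a _ => Finset.sum_congr rfl fun a' _ => ?_
    rw [show Matrix.single a a' (M.map (pullFn g) a a') = M.map (pullFn g) a a' • Matrix.single a a' (1 : k) by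
      rw [Matrix.smul_single, smul_eq_mul, _root_.mul_one], map_smul, smul_eq_mul, Matrix.map_apply, mul_comm]
  rw [hwj]
  exact Subalgebra.sum_mem _ fun a _ => Subalgebra.sum_mem _ fun a' _ =>
    Subalgebra.smul_mem _ (Algebra.subset_adjoin
      (show M a a' ∈ Set.range (fun p : Fin d × Fin d => M p.1 p.2) from ⟨(a, a'), rfl⟩)) _

/-- `A - 1` vanishes on the diagonals below the `r`-th. -/
def Lev {d : ℕ} (r : ℕ) (A : Matrix (Fin d) (Fin d) k) : Prop :=
  ∀ i j, j.val < i.val + r → (A - 1) i j = 0

section Matrices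

variable {d r : ℕ} {A B : Matrix (Fin d) (Fin d) k}

omit [IsAlgClosed k] in
theorem lev_mul_sub (hA : Lev r A) (hB : Lev r B) {i j : Fin d} (h : j.val < i.val + 2 * r) :
    (A * B - 1) i j = (A - 1) i j + (B - 1) i j := by
  have e : A * B - 1 = (A - 1) + (B - 1) + (A - 1) * (B - 1) := by noncomm_ring
  rw [e, Matrix.add_apply, Matrix.add_apply, add_eq_left, Matrix.mul_apply]
  refine Finset.sum_eq_zero fun l _ => ?_
  rcases lt_or_ge l.val (i.val + r) with h1 | h1
  · rw [hA i l h1, MulZeroClass.zero_mul]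
  · rw [hB l j (by omega), MulZeroClass.mul_zero]

omit [IsAlgClosed k] in
theorem lev_conj_sub {D E : Matrix (Fin d) (Fin d) k} (hA : Lev r A) (hED : E * D = 1)
    (hE : ∀ i j, j < i → E i j = 0) (hD : ∀ i j, j < i → D i j = 0) {i j : Fin d} (h : j.val ≤ i.val + r) :
    (E * A * D - 1) i j = E i i * (A - 1) i j * D j j := by
  have e : E * A * D - 1 = E * (A - 1) * D := by rw [Matrix.mul_sub, Matrix.sub_mul, Matrix.mul_one, hED]
  rw [e, Matrix.mul_apply, Finset.sum_eq_single j (fun m _ hm => ?_) (by simp)]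
  · congr 1
    rw [Matrix.mul_apply, Finset.sum_eq_single i (fun l _ hl => ?_) (by simp)]
    rcases lt_or_ge l i with h1 | h1
    · rw [hE i l h1, MulZeroClass.zero_mul]
    · have h2 : i.val < l.val := lt_of_le_of_ne h1 (Fin.val_injective.ne hl.symm)
      rw [hA l j (by omega), MulZeroClass.mul_zero]
  · rcases lt_or_ge j m with h1 | h1
    · rw [hD m j h1, MulZeroClass.mul_zero]
    · have h2 : m.val < j.val := lt_of_le_of_ne h1 (Fin.val_injective.ne hm)
      rw [Matrix.mul_apply, Finset.sum_eq_zero fun l _ => ?_, MulZeroClass.zero_mul]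
      rcases lt_or_ge l i with h3 | h3
      · rw [hE i l h3, MulZeroClass.zero_mul]
      · rw [hA l m (by have : i.val ≤ l.val := h3; omega), MulZeroClass.mul_zero]

end Matrices

variable {d : ℕ} {M : Matrix (Fin d) (Fin d) (Fn G)}

/-- The matrix of a rational point. -/
noncomputable def matHom (hM : IsTriangular M) : (VecGrp.pt k k ⟶ G) →* Matrix (Fin d) (Fin d) k where
  toFun g := M.map (pullFn g)
  map_one' := GrassAct.map_pullFn_one hM.rep (CommAlgCat.of k k)
  map_mul' g h := GrassAct.map_pullFn_mul hM.rep (A := CommAlgCat.of k k) g h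

theorem matHom_apply (hM : IsTriangular M) (g : VecGrp.pt k k ⟶ G) (i j : Fin d) :
    matHom hM g i j = pullFn g (M i j) := rfl

theorem matHom_injective (hM : IsTriangular M) : Function.Injective (matHom hM) := fun g h e =>
  pullFn_injective (AlgHom.ext_of_adjoin_eq_top hM.gen (by
    rintro _ ⟨p, rfl⟩
    exact congrFun (congrFun e p.1) p.2))

theorem matHom_tri (hM : IsTriangular M) (g : VecGrp.pt k k ⟶ G) (i j : Fin d) (h : j < i) :
    matHom hM g i j = 0 := by
  rw [matHom_apply, hM.tri i j h, map_zero]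

theorem isChar_diag (hM : IsTriangular M) (i : Fin d) : IsChar (M i i) := by
  refine ⟨fun g h => ?_, ?_⟩
  · simp only [← matHom_apply hM, map_mul]
    rw [Matrix.mul_apply, Finset.sum_eq_single i (fun l _ hl => ?_) (by simp)]
    rcases lt_or_ge l i with h1 | h1
    · rw [matHom_tri hM g i l h1, MulZeroClass.zero_mul]
    · rw [matHom_tri hM h l i (lt_of_le_of_ne h1 hl.symm), MulZeroClass.mul_zero]
  · rw [← matHom_apply hM, map_one, Matrix.one_apply_eq]

/-- The unipotent points. -/
def uni (hM : IsTriangular M) : Subgroup (VecGrp.pt k k ⟶ G) where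
  carrier := {g | ∀ i, matHom hM g i i = 1}
  one_mem' i := by rw [map_one, Matrix.one_apply_eq]
  mul_mem' {a b} ha hb i := by rw [matHom_apply, (isChar_diag hM i).1, ← matHom_apply hM, ← matHom_apply hM, ha, hb, _root_.mul_one]
  inv_mem' {a} ha i := by
    have h := (isChar_diag hM i).1 a⁻¹ a
    rw [inv_mul_cancel, (isChar_diag hM i).2, ← matHom_apply hM, ← matHom_apply hM a, ha, _root_.mul_one] at h
    exact h.symm

theorem mem_uni_iff (hM : IsTriangular M) (g : VecGrp.pt k k ⟶ G) :
    g ∈ uni hM ↔ ∀ i, pullFn g (M i i) = 1 := Iff.rfl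

theorem lev_one_iff (hM : IsTriangular M) (g : VecGrp.pt k k ⟶ G) :
    g ∈ uni hM ↔ Lev 1 (matHom hM g) := by
  refine ⟨fun h i j hij => ?_, fun h i => sub_eq_zero.mp ?_⟩
  · rcases lt_or_eq_of_le (Nat.lt_succ_iff.mp hij) with h1 | h1
    · rw [Matrix.sub_apply, matHom_tri hM g i j h1, Matrix.one_apply_ne (show i ≠ j from (Fin.ne_of_lt (show j < i from h1)).symm), sub_zero]
    · rw [Fin.ext h1, Matrix.sub_apply, h i, Matrix.one_apply_eq, sub_self]
  · simpa using h i i (by omega)

theorem uni_normal (hM : IsTriangular M) : (uni hM).Normal := ⟨fun a ha g i => by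
  have h := (isChar_diag hM i).1 g g⁻¹
  rw [mul_inv_cancel, (isChar_diag hM i).2, ← matHom_apply hM, ← matHom_apply hM g⁻¹] at h
  rw [matHom_apply, (isChar_diag hM i).1, (isChar_diag hM i).1, ← matHom_apply hM, ← matHom_apply hM,
    ← matHom_apply hM, ha, _root_.mul_one, ← h]⟩

/-- An unipotent element with invertible order is trivial; powers read the first nonzero diagonal. -/
theorem sub_pow {r : ℕ} (hr : 1 ≤ r) {A : Matrix (Fin d) (Fin d) k} (hA : Lev r A) (n : ℕ) :
    Lev r (A ^ n) ∧ ∀ i j : Fin d, j.val ≤ i.val + r → (A ^ n - 1) i j = (n : k) * (A - 1) i j := by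
  induction n with
  | zero => exact ⟨fun i j _ => by simp, fun i j _ => by simp⟩
  | succ n ih =>
    have e : ∀ i j : Fin d, j.val ≤ i.val + r → (A ^ (n + 1) - 1) i j = ((n + 1 : ℕ) : k) * (A - 1) i j :=
      fun i j hij => by
        rw [pow_succ, lev_mul_sub ih.1 hA (by omega), ih.2 i j hij]
        push_cast
        ring
    exact ⟨fun i j hij => by rw [e i j hij.le, hA i j hij, MulZeroClass.mul_zero], e⟩

theorem lev_of_pow (hM : IsTriangular M) {r : ℕ} (hr : 1 ≤ r) {n : ℕ} (hn : (n : k) ≠ 0)
    {v : VecGrp.pt k k ⟶ G} (hv : v ∈ uni hM) (h : Lev r (matHom hM (v ^ n))) : Lev r (matHom hM v) := by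
  obtain ⟨s, rfl⟩ := Nat.exists_eq_add_of_le hr
  clear hr
  induction s with
  | zero => exact (lev_one_iff hM v).mp hv
  | succ s ih =>
    have h1 : Lev (1 + s) (matHom hM v) := ih fun i j hij => h i j (by omega)
    intro i j hij
    have h2 := (sub_pow (by omega) h1 n).2 i j (by omega)
    rw [← map_pow, h i j hij] at h2
    exact (mul_eq_zero.mp h2.symm).resolve_left hn

theorem eq_one_of_lev (hM : IsTriangular M) {r : ℕ} (hr : d ≤ r) {v : VecGrp.pt k k ⟶ G}
    (h : Lev r (matHom hM v)) : v = 1 :=
  matHom_injective hM (by rw [map_one]; exact sub_eq_zero.mp (Matrix.ext fun i j => h i j (by omega)))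

/-- An unipotent point of order invertible in the field is trivial. -/
theorem eq_one_of_pow_eq_one (hM : IsTriangular M) {n : ℕ} (hn : (n : k) ≠ 0)
    {v : VecGrp.pt k k ⟶ G} (hv : v ∈ uni hM) (h : v ^ n = 1) : v = 1 :=
  eq_one_of_lev hM (Nat.le_succ d) (lev_of_pow hM (Nat.succ_pos d) hn hv (by rw [h, map_one]; intro i j _; simp))

/-- In characteristic zero the powers of an unipotent point extend to polynomial families. -/
theorem exists_oneParam [CharZero k] (hM : IsTriangular M) {u : VecGrp.pt k k ⟶ G} (hu : u ∈ uni hM) :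
    ∃ Θ : Fn G →ₐ[k] Polynomial k, ∀ (m : ℕ) (f : Fn G), (Θ f).eval (m : k) = pullFn (u ^ m) f := by
  classical
  let N := matHom hM u - 1
  have hN : ∀ j, ∀ a b : Fin d, b.val < a.val + j → (N ^ j) a b = 0 := by
    intro j
    induction j with
    | zero => intro a b h; rw [pow_zero, Matrix.one_apply_ne (Fin.ne_of_gt (by omega))]
    | succ j ih =>
      intro a b h
      rw [pow_succ, Matrix.mul_apply]
      refine Finset.sum_eq_zero fun l _ => ?_
      rcases lt_or_ge l.val (a.val + j) with h1 | h1
      · rw [ih a l h1, MulZeroClass.zero_mul]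
      · exact mul_eq_zero_of_right _ ((lev_one_iff hM u).mp hu l b (by omega))
  -- the entries of the powers are polynomial in the exponent
  let P : Fin d × Fin d → Polynomial k := fun e =>
    ∑ j ∈ Finset.range (d + 1), Polynomial.C (((j.factorial : k))⁻¹ * (N ^ j) e.1 e.2) * descPochhammer k j
  have hP : ∀ (m : ℕ) e, (P e).eval (m : k) = matHom hM (u ^ m) e.1 e.2 := fun m e => by
    rw [map_pow, show matHom hM u = N + 1 by simp [N], (Commute.one_right N).add_pow, Matrix.sum_apply]
    simp only [_root_.one_pow, Matrix.mul_one, P, Polynomial.eval_finset_sum, Polynomial.eval_mul, Polynomial.eval_C,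
      descPochhammer_eval_eq_descFactorial]
    have e1 : ∀ j, ((j.factorial : k))⁻¹ * (N ^ j) e.1 e.2 * (m.descFactorial j : k) =
        ((N ^ j) * (m.choose j : Matrix (Fin d) (Fin d) k)) e.1 e.2 := fun j => by
      have e2 : ((N ^ j) * (m.choose j : Matrix (Fin d) (Fin d) k)) e.1 e.2 = (m.choose j : k) * (N ^ j) e.1 e.2 := by
        rw [← (Nat.cast_commute _ (N ^ j)).eq, ← nsmul_eq_mul, Matrix.smul_apply, nsmul_eq_mul]
      rw [e2, Nat.descFactorial_eq_factorial_mul_choose, Nat.cast_mul]
      field_simp [Nat.cast_ne_zero.mpr j.factorial_ne_zero]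
    simp only [e1]
    rcases le_total (m + 1) (d + 1) with h | h
    · refine (Finset.sum_subset (Finset.range_subset_range.mpr h) fun j _ hj => ?_).symm
      rw [Nat.choose_eq_zero_of_lt (by simpa using hj), Nat.cast_zero, Matrix.mul_zero, Matrix.zero_apply]
    · refine Finset.sum_subset (Finset.range_subset_range.mpr h) fun j _ hj => ?_
      rw [show N ^ j = 0 from Matrix.ext fun a b => hN j a b (by simp at hj; omega), Matrix.zero_mul, Matrix.zero_apply]
  let φ : MvPolynomial (Fin d × Fin d) k →ₐ[k] Fn G := MvPolynomial.aeval fun e => M e.1 e.2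
  have hφ : Function.Surjective φ := (AlgHom.range_eq_top _).mp (by
    rw [← Algebra.adjoin_range_eq_range_aeval, hM.gen])
  let Ψ : MvPolynomial (Fin d × Fin d) k →ₐ[k] Polynomial k := MvPolynomial.aeval P
  have hΨ : ∀ m : ℕ, ∀ z, (Ψ z).eval (m : k) = pullFn (u ^ m) (φ z) := fun m z => by
    have : (Polynomial.aeval (R := k) (m : k)).comp Ψ = (pullFn (u ^ m)).comp φ := MvPolynomial.algHom_ext fun e => by
      simp only [AlgHom.comp_apply, Ψ, φ, MvPolynomial.aeval_X, Polynomial.coe_aeval_eq_eval]
      exact hP m e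
    simpa [Polynomial.coe_aeval_eq_eval] using AlgHom.congr_fun this z
  refine ⟨φ.liftOfSurjective hφ Ψ fun z hz => ?_, fun m f => ?_⟩
  swap
  · obtain ⟨z, rfl⟩ := hφ f
    rw [AlgHom.liftOfSurjective_apply]
    exact hΨ m z
  · refine Polynomial.eq_zero_of_infinite_isRoot _ (Set.Infinite.mono (s := Set.range ((↑) : ℕ → k)) ?_ (Set.infinite_range_of_injective Nat.cast_injective))
    rintro _ ⟨m, rfl⟩
    show (Ψ z).eval (m : k) = 0
    rw [hΨ, show φ z = 0 from hz, map_zero]

/-- Polynomials agreeing at the naturals agree everywhere. -/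
theorem eval_eq_of_nat [CharZero k] (p q : Polynomial k) (h : ∀ m : ℕ, p.eval (m : k) = q.eval (m : k)) (t : k) :
    p.eval t = q.eval t := by
  rw [Polynomial.eq_of_infinite_eval_eq p q (Set.Infinite.mono (s := Set.range ((↑) : ℕ → k))
    (fun _ ⟨m, hm⟩ => hm ▸ h m) (Set.infinite_range_of_injective Nat.cast_injective))]

/-- An unipotent point has a root of every order invertible in the field. -/
theorem exists_root (hM : IsTriangular M) {n : ℕ} (hn : (n : k) ≠ 0) {u : VecGrp.pt k k ⟶ G} (hu : u ∈ uni hM) :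
    ∃ v ∈ uni hM, v ^ n = u ∧ ∀ g, Commute g u → Commute g v := by
  classical
  obtain ⟨p, hp⟩ := CharP.exists k
  rcases Nat.eq_zero_or_pos p with rfl | hp0
  swap
  · haveI : Fact p.Prime := ⟨(CharP.char_is_prime_or_zero k p).resolve_right hp0.ne'⟩
    have hlev : ∀ m, Lev (1 + m) (matHom hM (u ^ p ^ m)) := fun m => by
      induction m with
      | zero => rw [pow_zero, pow_one]; exact (lev_one_iff hM u).mp hu
      | succ m ih =>
        intro i j hij
        rw [pow_succ, pow_mul, map_pow, (sub_pow (by omega) ih p).2 i j (by omega), CharP.cast_eq_zero,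
          MulZeroClass.zero_mul]
    have hpd : u ^ p ^ d = 1 := eq_one_of_lev hM (by omega) (hlev d)
    have hcop : (n).Coprime (p ^ d) := Nat.Coprime.pow_right _ ((Nat.Prime.coprime_iff_not_dvd Fact.out).mpr fun h =>
      hn ((CharP.cast_eq_zero_iff k p n).mpr h)).symm
    obtain ⟨a, ha⟩ : ∃ a : ℤ, u = (u ^ n) ^ a := by
      refine ⟨n.gcdA (p ^ d), ?_⟩
      have h := Nat.gcd_eq_gcd_ab n (p ^ d)
      rw [hcop] at h
      conv_lhs => rw [← zpow_one u, show (1 : ℤ) = (n : ℤ) * n.gcdA (p ^ d) + ((p ^ d : ℕ) : ℤ) * n.gcdB (p ^ d) from h,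
        zpow_add, zpow_mul, zpow_mul, zpow_natCast, zpow_natCast, hpd, one_zpow, _root_.mul_one]
    refine ⟨u ^ a, zpow_mem hu a, ?_, fun g hg => hg.zpow_right a⟩
    rw [← zpow_natCast, ← zpow_mul, mul_comm, zpow_mul, zpow_natCast, ← ha]
  haveI : CharP k 0 := hp
  haveI : CharZero k := CharP.charP_to_charZero k
  obtain ⟨Θ, hΘ⟩ := exists_oneParam hM hu
  choose W hW using fun t : k => exists_point_of_algHom ((Polynomial.aeval (R := k) t).comp Θ)
  let Q : Matrix (Fin d) (Fin d) (Polynomial k) := M.map Θ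
  have hWQ : ∀ t, matHom hM (W t) = Q.map (Polynomial.eval t) := fun t => Matrix.ext fun a b => by
    rw [matHom_apply, hW, AlgHom.comp_apply, Polynomial.coe_aeval_eq_eval]
    rfl
  have hWm : ∀ m : ℕ, W m = u ^ m := fun m => matHom_injective hM (Matrix.ext fun a b => by
    rw [hWQ, matHom_apply, Matrix.map_apply]; exact hΘ m (M a b))
  have hWn : ∀ t, W t ^ n = W ((n : k) * t) := fun t => matHom_injective hM (Matrix.ext fun a b => by
    have hQ : ∀ s, (Q ^ n).map (Polynomial.eval s) = matHom hM (W s ^ n) := fun s => by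
      rw [map_pow, show (Q ^ n).map (Polynomial.eval s) = (Polynomial.evalRingHom s).mapMatrix (Q ^ n) from rfl, map_pow,
        hWQ]
      rfl
    rw [← hQ, Matrix.map_apply, hWQ, Matrix.map_apply]
    have h := eval_eq_of_nat ((Q ^ n) a b) ((Q a b).comp (Polynomial.C (n : k) * Polynomial.X)) (fun m => by
      rw [← Matrix.map_apply (f := Polynomial.eval (m : k)), hQ, hWm, ← pow_mul, mul_comm m n, ← hWm, hWQ]
      simp) t
    rw [h]
    simp)
  have hWu : ∀ t, W t ∈ uni hM := fun t i => by
    rw [hWQ, Matrix.map_apply, eval_eq_of_nat (Q i i) 1 (fun m => by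
      rw [← Matrix.map_apply (f := Polynomial.eval (m : k)), ← hWQ, hWm, Polynomial.eval_one]; exact pow_mem hu m i) t,
      Polynomial.eval_one]
  refine ⟨W (n : k)⁻¹, hWu _, ?_, fun g hg => ?_⟩
  · rw [hWn, mul_inv_cancel₀ hn]
    simpa using hWm 1
  · refine matHom_injective hM ?_
    let D := (matHom hM g).map Polynomial.C * Q - Q * (matHom hM g).map Polynomial.C
    have hD : ∀ t, D.map (Polynomial.eval t) = matHom hM (g * W t) - matHom hM (W t * g) := fun t => by
      rw [map_mul, map_mul, hWQ]
      show (Polynomial.evalRingHom t).mapMatrix D = _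
      simp only [D, map_sub, map_mul, RingHom.mapMatrix_apply, Matrix.map_map]
      congr 2 <;> simp [Function.comp_def] <;> rfl
    refine sub_eq_zero.mp (Matrix.ext fun a b => ?_)
    rw [← hD, Matrix.map_apply, eval_eq_of_nat (D a b) 0 (fun m => by
      rw [← Matrix.map_apply (f := Polynomial.eval (m : k)), hD, hWm, (hg.pow_right m).eq, sub_self,
        Polynomial.eval_zero]; rfl), Polynomial.eval_zero]
    rfl

/-- Torsion modulo unipotent points lifts to torsion. -/
theorem exists_torsion_lift (hM : IsTriangular M) {n : ℕ} (hn : (n : k) ≠ 0) {g : VecGrp.pt k k ⟶ G}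
    (hg : g ^ n ∈ uni hM) : ∃ t, t ^ n = 1 ∧ g⁻¹ * t ∈ uni hM := by
  obtain ⟨v, hv, hvn, hc⟩ := exists_root hM hn hg
  refine ⟨g * v⁻¹, ?_, by rw [inv_mul_cancel_left]; exact inv_mem hv⟩
  rw [((hc g (Commute.self_pow g n)).inv_right).mul_pow, inv_pow, hvn, mul_inv_cancel]

/-- Torsion points congruent modulo unipotent points are conjugate. -/
theorem exists_conj (hM : IsTriangular M) {n : ℕ} (hn : (n : k) ≠ 0) {g h : VecGrp.pt k k ⟶ G} (hg : g ^ n = 1)
    (hh : h ^ n = 1) (hu : g⁻¹ * h ∈ uni hM) : ∃ x ∈ uni hM, x * h * x⁻¹ = g := by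
  have key : ∀ s : ℕ, ∃ x ∈ uni hM, Lev (1 + s) (matHom hM (g⁻¹ * (x * h * x⁻¹))) := by
    intro s
    induction s with
    | zero => exact ⟨1, one_mem _, by rw [_root_.one_mul, inv_one, _root_.mul_one]; exact (lev_one_iff hM _).mp hu⟩
    | succ s ih =>
      obtain ⟨x, hx, hc⟩ := ih
      let r := 1 + s
      let c := g⁻¹ * (x * h * x⁻¹)
      let lam : Fin d → Fin d → k := fun i j => matHom hM g⁻¹ i i * matHom hM g j j
      have hconj : ∀ a : VecGrp.pt k k ⟶ G, Lev r (matHom hM a) → ∀ i j : Fin d, j.val ≤ i.val + r →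
          (matHom hM (g⁻¹ * a * g) - 1) i j = lam i j * (matHom hM a - 1) i j := fun a ha i j hij => by
        rw [map_mul, map_mul, lev_conj_sub ha (by rw [← map_mul, inv_mul_cancel, map_one]) (matHom_tri hM _)
          (matHom_tri hM _) hij]
        ring
      have hlevconj : ∀ a : VecGrp.pt k k ⟶ G, Lev r (matHom hM a) → Lev r (matHom hM (g⁻¹ * a * g)) :=
        fun a ha i j hij => by rw [hconj a ha i j hij.le, ha i j hij, MulZeroClass.mul_zero]
      have hlevmul : ∀ a b : VecGrp.pt k k ⟶ G, Lev r (matHom hM a) → Lev r (matHom hM b) → Lev r (matHom hM (a * b)) :=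
        fun a b ha hb i j hij => by rw [map_mul, lev_mul_sub ha hb (by omega), ha i j hij, hb i j hij, add_zero]
      -- the powers of `g * c`
      let e : ℕ → (VecGrp.pt k k ⟶ G) := fun m => (g ^ m)⁻¹ * (g * c) ^ m
      have he : ∀ m, Lev r (matHom hM (e m)) ∧ ∀ i j : Fin d, j.val ≤ i.val + r →
          (matHom hM (e m) - 1) i j = (∑ l ∈ Finset.range m, lam i j ^ l) * (matHom hM c - 1) i j := by
        intro m
        induction m with
        | zero =>
          have e0 : matHom hM (e 0) - 1 = 0 := by simp [e]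
          exact ⟨fun i j _ => by rw [e0]; rfl, fun i j _ => by rw [e0]; simp⟩
        | succ m ihm =>
          have he1 : e (m + 1) = g⁻¹ * e m * g * c := by
            simp only [e, pow_succ, _root_.mul_inv_rev, _root_.mul_assoc]
          have hv : ∀ i j : Fin d, j.val ≤ i.val + r → (matHom hM (e (m + 1)) - 1) i j =
              (∑ l ∈ Finset.range (m + 1), lam i j ^ l) * (matHom hM c - 1) i j := fun i j hij => by
            rw [he1, map_mul, lev_mul_sub (hlevconj _ ihm.1) hc (by omega), hconj _ ihm.1 i j hij, ihm.2 i j hij,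
              geom_sum_succ]
            ring
          exact ⟨fun i j hij => by rw [hv i j hij.le, hc i j hij, MulZeroClass.mul_zero], hv⟩
      have hsum : ∀ i j : Fin d, j.val ≤ i.val + r →
          (∑ l ∈ Finset.range n, lam i j ^ l) * (matHom hM c - 1) i j = 0 := fun i j hij => by
        rw [← (he n).2 i j hij]
        have : e n = 1 := by
          simp only [e, c]
          rw [mul_inv_cancel_left, conj_pow, hh, hg, inv_one, _root_.one_mul, _root_.mul_one, mul_inv_cancel]
        rw [this, map_one, sub_self, Matrix.zero_apply]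
      -- their product
      let y : ℕ → (VecGrp.pt k k ⟶ G) := fun m => ((List.range m).map e).prod
      have hy : ∀ m, Lev r (matHom hM (y m)) ∧ ∀ i j : Fin d, j.val ≤ i.val + r →
          (matHom hM (y m) - 1) i j = (∑ m' ∈ Finset.range m, ∑ l ∈ Finset.range m', lam i j ^ l) * (matHom hM c - 1) i j := by
        intro m
        induction m with
        | zero =>
          have e0 : matHom hM (y 0) - 1 = 0 := by simp [y]
          exact ⟨fun i j _ => by rw [e0]; rfl, fun i j _ => by rw [e0]; simp⟩
        | succ m ihm =>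
          have hy1 : y (m + 1) = y m * e m := by simp [y, List.range_succ]
          rw [hy1]
          refine ⟨hlevmul _ _ ihm.1 (he m).1, fun i j hij => ?_⟩
          rw [map_mul, lev_mul_sub ihm.1 (he m).1 (by omega), ihm.2 i j hij, (he m).2 i j hij, Finset.sum_range_succ _ m,
            add_mul]
      have hyu : y n ∈ uni hM := (lev_one_iff hM _).mpr fun i j hij => (hy n).1 i j (by omega)
      obtain ⟨z, hz, hzn, -⟩ := exists_root hM hn hyu
      have hzl : Lev r (matHom hM z) := lev_of_pow hM (by omega) hn hz (by rw [hzn]; exact (hy n).1)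
      have hzv : ∀ i j : Fin d, j.val ≤ i.val + r → (1 - lam i j) * (matHom hM z - 1) i j = (matHom hM c - 1) i j :=
        fun i j hij => by
          refine mul_left_cancel₀ hn ?_
          have h1 := (sub_pow (by omega) hzl n).2 i j hij
          rw [← map_pow, hzn, (hy n).2 i j hij] at h1
          calc (n : k) * ((1 - lam i j) * (matHom hM z - 1) i j)
              = (1 - lam i j) * ((n : k) * (matHom hM z - 1) i j) := by ring
            _ = ((1 - lam i j) * ∑ m' ∈ Finset.range n, ∑ l ∈ Finset.range m', lam i j ^ l) * (matHom hM c - 1) i j := by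
              rw [← h1]; ring
            _ = ((n : k) - ∑ l ∈ Finset.range n, lam i j ^ l) * (matHom hM c - 1) i j := by
              congr 1
              rw [Finset.mul_sum]
              simp only [mul_neg_geom_sum, Finset.sum_sub_distrib]
              simp
            _ = (n : k) * (matHom hM c - 1) i j := by rw [sub_mul, hsum i j hij, sub_zero]
      have hzinv : ∀ i j : Fin d, j.val ≤ i.val + r → (matHom hM z⁻¹ - 1) i j = -(matHom hM z - 1) i j ∧
          Lev r (matHom hM z⁻¹) := fun i j hij => by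
        have hl : Lev r (matHom hM z⁻¹) := by
          intro a b hab
          have e0 : matHom hM z⁻¹ - 1 = -(matHom hM z⁻¹ * (matHom hM z - 1)) := by
            rw [Matrix.mul_sub, ← map_mul, inv_mul_cancel, map_one, Matrix.mul_one, neg_sub]
          rw [e0, Matrix.neg_apply, Matrix.mul_apply, neg_eq_zero]
          refine Finset.sum_eq_zero fun l _ => ?_
          rcases lt_or_ge l a with h1 | h1
          · rw [matHom_tri hM _ a l h1, MulZeroClass.zero_mul]
          · rw [hzl l b (by have : a.val ≤ l.val := h1; omega), MulZeroClass.mul_zero]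
        refine ⟨eq_neg_of_add_eq_zero_left ?_, hl⟩
        rw [← lev_mul_sub hl hzl (by omega), ← map_mul, inv_mul_cancel, map_one, sub_self, Matrix.zero_apply]
      refine ⟨z * x, mul_mem hz hx, fun i j hij => ?_⟩
      have hij' : j.val ≤ i.val + r := by omega
      have he2 : g⁻¹ * (z * x * h * (z * x)⁻¹) = (g⁻¹ * z * g) * c * z⁻¹ := by
        simp only [c]; group
      rw [he2, map_mul, lev_mul_sub (hlevmul _ _ (hlevconj _ hzl) hc) (hzinv i j hij').2 (by omega), map_mul,
        lev_mul_sub (hlevconj _ hzl) hc (by omega), hconj _ hzl i j hij', (hzinv i j hij').1, ← hzv i j hij']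
      ring
  obtain ⟨x, hx, h1⟩ := key d
  exact ⟨x, hx, inv_mul_eq_one.mp (eq_one_of_lev hM (by omega) h1) |>.symm⟩

end Groth.Agent.GModLib
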