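import Groth.Agent.GModLib.SpecialEigen
import Groth.Agent.GModLib.OrbitDegenerate
import Mathlib.LinearAlgebra.FreeModule.PID
import Mathlib.Data.Pi.Interval
import Mathlib.Algebra.Order.Group.PiLex

/-!
# Quotients on which a torus has only two fixed points

If a torus has only the fixed points `B` and `n₁ B` on the proper quotient `G / B`, then there is a function on `G`
which does not vanish at the identity and whose zeros lie in the single coset `n₁ B`.
-/

set_option autoImplicit false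
set_option backward.isDefEq.respectTransparency false
set_option backward.isDefEq.respectTransparency.types false

universe u

open CategoryTheory Limits AlgebraicGeometry MonoidalCategory CartesianMonoidalCategory MonObj GrpObj

namespace Groth.Agent.GModLib

open GrpSchLib GrpSchLib.Kunneth GrpSchLib.AffineHopf

/-- An element below all elements of a finite set is extreme. -/
theorem eq_of_prod_pow_eq {J Λ : Type*} [AddCommGroup Λ] [LinearOrder Λ] [IsOrderedAddMonoid Λ] (s : Finset J)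
    (a : J → Λ) (b : Λ) (hb : ∀ i ∈ s, b ≤ a i) (c : J → ℕ) (h : ∑ i ∈ s, c i • a i = (∑ i ∈ s, c i) • b) :
    ∀ i ∈ s, c i ≠ 0 → a i = b := by
  intro i hi hci
  have h0 : ∑ i ∈ s, c i • (a i - b) = 0 := by
    simp only [smul_sub, Finset.sum_sub_distrib, ← Finset.sum_smul, h, sub_self]
  have h1 := (Finset.sum_eq_zero_iff_of_nonneg fun i hi => nsmul_nonneg (sub_nonneg.mpr (hb i hi)) _).mp h0 i hi
  exact sub_eq_zero.mp ((nsmul_eq_zero_iff_right hci).mp h1)

variable {k : Type u} [Field k] [IsAlgClosed k] {G T : Over (Spec (CommRingCat.of k))} [GrpObj G] [GrpObj T]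

/-- A nonempty finite set of weights has two extreme weights, which agree only if all weights agree. -/
theorem exists_two_extremes (hT : Red.IsTorus T) {N : ℕ} (φ : Fin N → ((VecGrp.pt k k ⟶ T) →* k))
    (s : Finset (Fin N)) (hs : s.Nonempty) :
    ∃ lo ∈ s, ∃ hi ∈ s,
      (∀ i₀, i₀ = lo ∨ i₀ = hi → ∀ c : Fin N → ℕ, (∀ i, c i ≠ 0 → i ∈ s) →
        (∀ t, ∏ i, φ i t ^ c i = φ i₀ t ^ ∑ i, c i) → ∀ i, c i ≠ 0 → φ i = φ i₀) ∧
      (φ lo = φ hi → ∀ i ∈ s, φ i = φ lo) := by
  classical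
  let ψ : Fin N → ((VecGrp.pt k k ⟶ T) → Additive kˣ) := fun i t => Additive.ofMul ((φ i).toHomUnits t)
  have hψ : ∀ i j, ψ i = ψ j ↔ φ i = φ j := fun i j => by
    refine ⟨fun h => MonoidHom.ext fun t => ?_, fun h => by simp only [ψ, h]⟩
    exact congrArg Units.val (Additive.ofMul.injective (congrFun h t))
  let Γ : Submodule ℤ ((VecGrp.pt k k ⟶ T) → Additive kˣ) := Submodule.span ℤ (Set.range ψ)
  haveI : Module.Finite ℤ Γ := Module.Finite.span_of_finite ℤ (Set.finite_range ψ)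
  have hadd : ∀ x ∈ Γ, ∀ (t : VecGrp.pt k k ⟶ T) (n : ℕ), x (t ^ n) = n • x t := fun x hx t n => by
    induction hx using Submodule.span_induction with
    | mem x hx => obtain ⟨i, rfl⟩ := hx; simp [ψ, map_pow]
    | zero => simp
    | add x y _ _ hx hy => simp only [Pi.add_apply, hx, hy, nsmul_add]
    | smul r y _ hy => rw [Pi.smul_apply, Pi.smul_apply, hy, ← natCast_zsmul, ← natCast_zsmul, smul_smul, smul_smul, mul_comm]
  haveI : IsAddTorsionFree Γ := ⟨fun n hn a b h => Subtype.ext (funext fun t => by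
    obtain ⟨r, rfl⟩ := exists_torus_root hT (Nat.pos_of_ne_zero hn) t
    rw [hadd _ a.2, hadd _ b.2]
    exact congrFun (congrArg Subtype.val h) r)⟩
  haveI : Module.Free ℤ Γ := Module.free_of_finite_type_torsion_free'
  obtain ⟨e⟩ : Nonempty (Γ ≃ₗ[ℤ] (Fin (Module.finrank ℤ Γ) → ℤ)) := ⟨(Module.finBasis ℤ Γ).equivFun⟩
  let v : Fin N → Lex (Fin (Module.finrank ℤ Γ) → ℤ) := fun i => toLex (e ⟨ψ i, Submodule.subset_span ⟨i, rfl⟩⟩)
  have hv : ∀ i j, v i = v j ↔ φ i = φ j := fun i j => by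
    rw [← hψ]
    exact ⟨fun h => congrArg Subtype.val (e.injective (toLex.injective h)),
      fun h => congrArg toLex (congrArg e (Subtype.ext h))⟩
  obtain ⟨lo, hlo, hlo'⟩ := Finset.exists_min_image s v hs
  obtain ⟨hi, hhi, hhi'⟩ := Finset.exists_max_image s v hs
  refine ⟨lo, hlo, hi, hhi, fun i₀ hi₀ c hcs hc i hci => ?_, fun h i his => ?_⟩
  · have hc' : ∀ t, ∏ j ∈ s, φ j t ^ c j = φ i₀ t ^ ∑ j ∈ s, c j := fun t => by
      rw [Finset.prod_subset (Finset.subset_univ s) fun j _ hj => by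
        rw [show c j = 0 from by_contra fun h => hj (hcs j h)]; simp,
        Finset.sum_subset (Finset.subset_univ s) fun j _ hj => by_contra fun h => hj (hcs j h)]
      exact hc t
    have h1 : ∑ j ∈ s, c j • ψ j = (∑ j ∈ s, c j) • ψ i₀ := by
      refine funext fun t => Additive.toMul.injective (Units.ext ?_)
      rw [Finset.sum_apply, toMul_sum, Units.coe_prod]
      simp only [Pi.smul_apply, toMul_nsmul, ψ, toMul_ofMul, Units.val_pow_eq_pow_val, MonoidHom.coe_toHomUnits]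
      exact hc' t
    have h2 : ∑ j ∈ s, c j • v j = (∑ j ∈ s, c j) • v i₀ := by
      let w : Fin N → Γ := fun j => ⟨ψ j, Submodule.subset_span ⟨j, rfl⟩⟩
      have h3 : ∑ j ∈ s, c j • w j = (∑ j ∈ s, c j) • w i₀ := Subtype.ext (by simpa [w] using h1)
      have h4 := congrArg (fun x => toLex (e x)) h3
      simp only [map_sum, map_nsmul] at h4
      exact h4
    have his := hcs i hci
    refine (hv i i₀).mp ?_
    rcases hi₀ with rfl | rfl
    · exact eq_of_prod_pow_eq s v _ hlo' c h2 i his hci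
    · have h5 := eq_of_prod_pow_eq s (fun j => -v j) (-v i₀) (fun j hj => neg_le_neg (hhi' j hj)) c
        (by simp only [smul_neg, Finset.sum_neg_distrib, h2]) i his hci
      exact neg_injective h5
  · refine (hv i lo).mp (le_antisymm ?_ (hlo' i his))
    rw [(hv lo hi).mpr h]
    exact hhi' i his

variable [IsAffine G.left] [Smooth G.hom] [ConnectedSpace G.left]
  {B : Over (Spec (CommRingCat.of k))} [GrpObj B]

/-- If the torus has only two fixed points on the quotient, some function has its zeros in one coset. -/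
theorem exists_fun_zero_coset (iB : B ⟶ G) [IsMonHom iB] [IsClosedImmersion iB.left] [LocallyOfFiniteType B.hom]
    (hco : Cocompact iB) (hT : Red.IsTorus T) (iT : T ⟶ G) [IsMonHom iT]
    (hTB : ∀ t : VecGrp.pt k k ⟶ T, ∃ b : VecGrp.pt k k ⟶ B, t ≫ iT = b ≫ iB)
    (n₁ : VecGrp.pt k k ⟶ G) (hn₁ : ∀ t : VecGrp.pt k k ⟶ T, ∃ b, (t ≫ iT) * n₁ = n₁ * (b ≫ iB))
    (hne : ¬ ∃ b : VecGrp.pt k k ⟶ B, b ≫ iB = n₁)
    (hfix : ∀ M : VecGrp.pt k k ⟶ G, (∀ t : VecGrp.pt k k ⟶ T, ∃ b, (t ≫ iT) * M = M * (b ≫ iB)) →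
      (∃ b : VecGrp.pt k k ⟶ B, M = b ≫ iB) ∨ ∃ b : VecGrp.pt k k ⟶ B, M = n₁ * (b ≫ iB)) :
    ∃ F : Fn G, pullFn (1 : VecGrp.pt k k ⟶ G) F = 1 ∧ pullFn n₁ F = 0 ∧
      ∀ g : VecGrp.pt k k ⟶ G, pullFn g F = 0 → ∃ b : VecGrp.pt k k ⟶ B, g = n₁ * (b ≫ iB) := by
  classical
  obtain ⟨N, f, φ, χ, -, hwt, hχ, hnz, -, hsep⟩ := exists_semiInvariant_family iB hT iT
  have hχ' : ∀ g b i, pullFn (g * (b ≫ iB)) (f i) = χ b * pullFn g (f i) := fun g b i =>
    hχ g b _ (Submodule.subset_span ⟨i, rfl⟩)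
  have hsame : ∀ M : VecGrp.pt k k ⟶ G, (∀ t : VecGrp.pt k k ⟶ T, ∃ b, (t ≫ iT) * M = M * (b ≫ iB)) →
      ∀ i j, pullFn M (f i) ≠ 0 → pullFn M (f j) ≠ 0 → φ i = φ j := fun M hM i j hi hj => MonoidHom.ext fun t => by
    obtain ⟨b, hb⟩ := hM t
    have key : ∀ l, pullFn M (f l) ≠ 0 → φ l t = χ b := fun l hl => by
      have h := hwt t M l
      rw [hb, hχ'] at h
      exact mul_right_cancel₀ hl h.symm
    rw [key i hi, key j hj]
  have h1fix : ∀ t : VecGrp.pt k k ⟶ T, ∃ b, (t ≫ iT) * 1 = 1 * (b ≫ iB) := fun t => by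
    obtain ⟨b, hb⟩ := hTB t
    exact ⟨b, by rw [_root_.mul_one, _root_.one_mul, hb]⟩
  have hχ0 : ∀ b, χ b ≠ 0 := fun b h0 => by
    obtain ⟨i, hi⟩ := hnz (b ≫ iB)
    have h := hχ' 1 b i
    rw [_root_.one_mul, h0, MulZeroClass.zero_mul] at h
    exact hi h
  obtain ⟨i₀, hi₀⟩ := hnz 1
  obtain ⟨i, j, hij⟩ : ∃ i j, pullFn (1 : VecGrp.pt k k ⟶ G) (f i) * pullFn n₁ (f j) ≠
      pullFn (1 : VecGrp.pt k k ⟶ G) (f j) * pullFn n₁ (f i) := by
    by_contra h
    push Not at h
    obtain ⟨b, hb⟩ := hsep 1 n₁ h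
    exact hne ⟨b, by rw [← hb, _root_.one_mul]⟩
  obtain ⟨w, hw1, hwn, hwcls⟩ : ∃ w : Fin N → k, pullFn (1 : VecGrp.pt k k ⟶ G) (∑ l, w l • f l) = 1 ∧
      pullFn n₁ (∑ l, w l • f l) = 0 ∧ ∀ l, w l ≠ 0 → φ l = φ i₀ := by
    by_cases hn0 : pullFn n₁ (f i₀) = 0
    · refine ⟨Pi.single i₀ (pullFn (1 : VecGrp.pt k k ⟶ G) (f i₀))⁻¹, ?_, ?_, fun l hl => ?_⟩
      · rw [Finset.sum_eq_single i₀ (fun l _ hl => by simp [hl]) (by simp), Pi.single_eq_same, map_smul, smul_eq_mul,
          inv_mul_cancel₀ hi₀]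
      · rw [Finset.sum_eq_single i₀ (fun l _ hl => by simp [hl]) (by simp), map_smul, hn0, smul_zero]
      · by_contra h
        exact hl (Pi.single_eq_of_ne (fun e => h (by rw [e])) _)
    · let d := pullFn (1 : VecGrp.pt k k ⟶ G) (f i) * pullFn n₁ (f j) -
        pullFn (1 : VecGrp.pt k k ⟶ G) (f j) * pullFn n₁ (f i)
      have hd : d ≠ 0 := sub_ne_zero.mpr hij
      have hcls : ∀ l, pullFn (1 : VecGrp.pt k k ⟶ G) (f l) ≠ 0 ∨ pullFn n₁ (f l) ≠ 0 → φ l = φ i₀ := by
        rintro l (h | h)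
        · exact hsame 1 h1fix l i₀ h hi₀
        · exact hsame n₁ hn₁ l i₀ h hn0
      refine ⟨Pi.single i (pullFn n₁ (f j) / d) - Pi.single j (pullFn n₁ (f i) / d), ?_, ?_, fun l hl => ?_⟩
      · simp only [Pi.sub_apply, sub_smul, Finset.sum_sub_distrib, Pi.single_apply, ite_smul, zero_smul,
          Finset.sum_ite_eq', Finset.mem_univ, if_true, map_sub, map_smul, smul_eq_mul]
        rw [div_mul_eq_mul_div, div_mul_eq_mul_div, ← sub_div, div_eq_one_iff_eq hd]
        ring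
      · simp only [Pi.sub_apply, sub_smul, Finset.sum_sub_distrib, Pi.single_apply, ite_smul, zero_smul,
          Finset.sum_ite_eq', Finset.mem_univ, if_true, map_sub, map_smul, smul_eq_mul]
        ring
      · have hli : l = i ∨ l = j := by
          by_contra h
          push Not at h
          exact hl (by simp [Pi.single_eq_of_ne h.1, Pi.single_eq_of_ne h.2])
        refine hcls l ?_
        by_contra h
        push Not at h
        rcases hli with rfl | rfl
        · exact hij (by rw [h.1, h.2, MulZeroClass.zero_mul, MulZeroClass.mul_zero])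
        · exact hij (by rw [h.1, h.2, MulZeroClass.zero_mul, MulZeroClass.mul_zero])
  refine ⟨∑ l, w l • f l, hw1, hwn, fun g hg => ?_⟩
  have hF : ∀ y : VecGrp.pt k k ⟶ G, pullFn y (∑ l, w l • f l) = ∑ l, w l * pullFn y (f l) := fun y => by
    simp [map_sum, map_smul]
  let s : Finset (Fin N) := Finset.univ.filter fun l => pullFn g (f l) ≠ 0
  have hs : s.Nonempty := by
    obtain ⟨l, hl⟩ := hnz g
    exact ⟨l, by simp [s, hl]⟩
  obtain ⟨lo, hlo, hi, hhi, hext, hall⟩ := exists_two_extremes hT φ s hs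
  have key : ∀ e, e = lo ∨ e = hi → ∃ i₁, pullFn n₁ (f i₁) ≠ 0 ∧ φ i₁ = φ e ∧
      ∃ c : k, ∀ l, φ l = φ e → pullFn g (f l) = c * pullFn n₁ (f l) := by
    intro e he
    have hes : e ∈ s := by rcases he with rfl | rfl; exacts [hlo, hhi]
    obtain ⟨n, l₀, hl₀, hn1, hn2, hnfix⟩ := exists_degeneration_supp iB hco hT iT f χ hχ' hnz φ hwt e g
      (fun c hc => hext e he c fun l hl => by simp [s, hc l hl]) ⟨e, rfl, (Finset.mem_filter.mp hes).2⟩
    have hFn : pullFn n (∑ l, w l • f l) = 0 := by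
      by_cases h0 : φ e = φ i₀
      · have h := congrArg (l₀ * ·) ((hF g).symm.trans hg)
        simp only [MulZeroClass.mul_zero, Finset.mul_sum] at h
        rw [hF, ← h]
        refine Finset.sum_congr rfl fun l _ => ?_
        by_cases hwl : w l = 0
        · simp [hwl]
        · rw [hn1 l ((hwcls l hwl).trans h0.symm), mul_left_comm]
      · rw [hF]
        refine Finset.sum_eq_zero fun l _ => ?_
        by_cases hwl : w l = 0
        · simp [hwl]
        · rw [hn2 l (by rw [hwcls l hwl]; exact Ne.symm h0), MulZeroClass.mul_zero]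
    rcases hfix n hnfix with ⟨b, rfl⟩ | ⟨b, rfl⟩
    · exfalso
      have h1 : pullFn (b ≫ iB) (∑ l, w l • f l) = χ b := by
        rw [hF, ← _root_.one_mul (b ≫ iB)]
        simp only [hχ', mul_left_comm (w _), ← Finset.mul_sum]
        rw [← hF, hw1, _root_.mul_one]
      exact hχ0 b (h1.symm.trans hFn)
    · have he0 : pullFn n₁ (f e) ≠ 0 := fun h0 => by
        have h1 := hn1 e rfl
        rw [hχ', h0, MulZeroClass.mul_zero] at h1
        exact (Finset.mem_filter.mp hes).2 ((mul_eq_zero.mp h1.symm).resolve_left hl₀)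
      refine ⟨e, he0, rfl, χ b / l₀, fun l hl => ?_⟩
      have h1 := hn1 l hl
      rw [hχ'] at h1
      rw [div_mul_eq_mul_div, h1, mul_div_cancel_left₀ _ hl₀]
  obtain ⟨a, ha, hae, c, hc⟩ := key lo (Or.inl rfl)
  obtain ⟨a', ha', hae', -⟩ := key hi (Or.inr rfl)
  have hlohi : φ lo = φ hi := hae.symm.trans ((hsame n₁ hn₁ a a' ha ha').trans hae')
  obtain ⟨b, hb⟩ := hsep n₁ g fun p q => by
    have hp : ∀ r, pullFn g (f r) = c * pullFn n₁ (f r) := fun r => by
      by_cases hr : φ r = φ lo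
      · exact hc r hr
      · have h1 : pullFn g (f r) = 0 := by_contra fun h => hr (hall hlohi r (by simp [s, h]))
        have h2 : pullFn n₁ (f r) = 0 := by_contra fun h => hr ((hsame n₁ hn₁ r a h ha).trans hae)
        rw [h1, h2, MulZeroClass.mul_zero]
    rw [hp, hp]
    ring
  exact ⟨b, hb.symm⟩

end Groth.Agent.GModLib
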