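import Groth.Agent.GModLib.ReductiveCentralizer
import Groth.Agent.MultConjLib.FixedScheme

/-!
# Centralizers of tori in unipotent radicals
-/

set_option autoImplicit false
set_option backward.isDefEq.respectTransparency false
set_option backward.isDefEq.respectTransparency.types false

universe u

open CategoryTheory Limits AlgebraicGeometry MonoidalCategory CartesianMonoidalCategory MonObj GrpObj

namespace Groth.Agent.GModLib

open GrpSchLib GrpSchLib.Kunneth GrpSchLib.AffineHopf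

variable {k : Type u} [Field k]
  {G S C U V : Over (Spec (CommRingCat.of k))} [GrpObj G] [GrpObj S] [GrpObj C] [GrpObj U] [GrpObj V]

/-- The trace of a smooth normal subgroup on the centralizer of a torus is smooth. -/
theorem smooth_inter_centralizer (iS : S ⟶ G) [IsMonHom iS] (hS : Red.IsTorus S) (c : C ⟶ G)
    (hc : Red.IsCentralizerOf iS c) (uG : U ⟶ G) [Mono uG] [Smooth U.hom] [IsSeparated U.hom]
    (hn : AlgGrp.IsNormalHom uG) (v : V ⟶ C) (w : V ⟶ U) (hV : IsPullback w v uG c) : Smooth V.hom := by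
  haveI := hc.2.1
  obtain ⟨act, hact⟩ := hn (S ⊗ U) (fst S U ≫ iS) (snd S U)
  have hlift : ∀ {T : Over (Spec (CommRingCat.of k))} (s : T ⟶ S) (x : T ⟶ U),
      (lift s x ≫ act) ≫ uG = (s ≫ iS) * (x ≫ uG) * (s ≫ iS)⁻¹ := fun {T} s x => by
    rw [Category.assoc, ← hact, MonObj.comp_mul, MonObj.comp_mul, GrpObj.comp_inv, lift_fst_assoc, lift_snd_assoc]
  let a : AlgGrp.Action S U :=
    { act := act
      one_act := by
        refine (cancel_mono uG).mp ?_
        rw [Category.assoc, ← hact, MonObj.comp_mul, MonObj.comp_mul, GrpObj.comp_inv, whiskerRight_fst_assoc,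
          whiskerRight_snd_assoc, IsMonHom.one_hom, leftUnitor_hom]
        rw [show fst (𝟙_ (Over (Spec (CommRingCat.of k)))) U ≫ η[G] = (1 : _ ⟶ G) by
          rw [Hom.one_def, toUnit_unique (fst _ U) (toUnit _)]]
        rw [_root_.inv_one, _root_.mul_one, _root_.one_mul]
      mul_act := by
        refine (cancel_mono uG).mp ?_
        rw [Category.assoc, ← hact, MonObj.comp_mul, MonObj.comp_mul, GrpObj.comp_inv, whiskerRight_fst_assoc,
          whiskerRight_snd_assoc, show μ[S] ≫ iS = (fst S S ≫ iS) * (snd S S ≫ iS) by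
            rw [← MonObj.mul_comp, Hom.mul_def, lift_fst_snd, Category.id_comp]]
        simp only [Category.assoc, ← hact, MonObj.comp_mul, GrpObj.comp_inv, whiskerLeft_fst_assoc,
          whiskerLeft_snd_assoc, associator_hom_fst_assoc, associator_hom_snd_fst_assoc,
          associator_hom_snd_snd_assoc, _root_.mul_inv_rev, _root_.mul_assoc] }
  obtain ⟨Z, cz, hzc, hzs, hpts⟩ := MultConjLib.exists_fixed_smooth (RankOne.isMultTypeFT_of_isTorus hS) a
  haveI := hzs; haveI := hzc
  haveI : Mono cz := Over.mono_of_mono_left cz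
  have hfix : ∀ (T : Over (Spec (CommRingCat.of k))) (x : T ⟶ U),
      (∃ y, y ≫ cz = x) ↔ ∃ y : T ⟶ C, y ≫ c = x ≫ uG := fun T x => by
    rw [hpts, hc.2.2]
    refine forall_congr' fun T' => forall_congr' fun t => forall_congr' fun s => ?_
    show lift s (t ≫ x) ≫ act = _ ↔ _
    rw [← cancel_mono uG, hlift, mul_inv_eq_iff_eq_mul, Category.assoc]
    exact ⟨fun h => h.symm, fun h => h.symm⟩
  obtain ⟨φ, hφ⟩ := (hfix V w).mpr ⟨v, hV.w.symm⟩
  obtain ⟨y, hy⟩ := (hfix Z cz).mp ⟨𝟙 Z, Category.id_comp _⟩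
  haveI : Mono w := MorphismProperty.of_isPullback (P := MorphismProperty.monomorphisms _) hV.flip hc.2.1
  haveI : IsIso φ := ⟨hV.lift cz y hy.symm,
    (cancel_mono w).mp (by rw [Category.assoc, hV.lift_fst, hφ, Category.id_comp]),
    (cancel_mono cz).mp (by rw [Category.assoc, hφ, hV.lift_fst, Category.id_comp])⟩
  haveI : IsIso φ.left := inferInstanceAs (IsIso ((Over.forget _).map φ))
  rw [← Over.w φ]; infer_instance

variable [IsAlgClosed k]

set_option maxHeartbeats 1000000 in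
/-- The trace of a normal subgroup without subtori on the centralizer of a torus is connected. -/
theorem connected_inter_centralizer [IsAffine G.left] [Smooth G.hom] [ConnectedSpace G.left]
    (iS : S ⟶ G) [IsMonHom iS] (hS : Red.IsTorus S) (c : C ⟶ G)
    (hc : Red.IsCentralizerOf iS c) (uG : U ⟶ G) [IsMonHom uG] [IsClosedImmersion uG.left] [Smooth U.hom]
    [ConnectedSpace U.left] (hn : AlgGrp.IsNormalHom uG) (hno : Red.HasNoSubtorus k U)
    (v : V ⟶ C) [IsMonHom v] (w : V ⟶ U) [LocallyOfFiniteType V.hom] (hV : IsPullback w v uG c) :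
    ConnectedSpace V.left := by
  classical
  haveI := hc.1; haveI := hc.2.1
  haveI : Mono uG := Over.mono_of_mono_left uG
  haveI : IsAffine U.left := isAffine_of_isAffineHom uG.left
  haveI : IsReduced U.left := GrpSchLib.isReduced_of_smooth_field U.hom
  haveI : IrreducibleSpace U.left := GrpFieldLib.SmoothDense.irreducibleSpace_of_connected U.hom
  obtain ⟨q1, q2, q3, -, -⟩ := TorusBasic.torus_props hS
  haveI := q1; haveI := q2; haveI := q3
  haveI : IsReduced S.left := GrpSchLib.isReduced_of_smooth_field S.hom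
  obtain ⟨B, _, iB, hB, t, -, ht, -⟩ := exists_borel_centralizing (isSolvableGrp_of_torus hS) iS 1
    fun s => Commute.one_right _
  obtain ⟨hBm, hBcl, hBsm, hBconn, hBsol, -⟩ := id hB
  haveI := hBm; haveI := hBcl; haveI := hBsm; haveI := hBconn
  haveI : IsAffine B.left := isAffine_of_isAffineHom iB.left
  haveI : Mono iB := Over.mono_of_mono_left iB
  haveI : IsMonHom (t ≫ iB) := by rw [ht]; infer_instance
  haveI : IsMonHom t := isMonHom_of_comp t iB
  obtain ⟨f, hf⟩ := normal_noSubtorus_le_borel uG hn hno iB hB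
  haveI : IsMonHom (f ≫ iB) := by rw [hf]; infer_instance
  haveI : IsMonHom f := isMonHom_of_comp f iB
  haveI : IsClosedImmersion (f.left ≫ iB.left) := by rw [← Over.comp_left, hf]; infer_instance
  haveI : IsClosedImmersion f.left := IsClosedImmersion.of_comp f.left iB.left
  haveI : Mono f := Over.mono_of_mono_left f
  obtain ⟨d, M, hM⟩ := exists_triangular hBsol
  have hMU := isTriangular_restrict f hM
  have huU : ∀ p : VecGrp.pt k k ⟶ U, p ∈ uni hMU := mem_uni_of_hasNoSubtorus hMU hno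
  have huni : ∀ p : VecGrp.pt k k ⟶ U, p ≫ f ∈ uni hM := fun p => (mem_uni_iff_diagHom hM _).mpr (by
    rw [← diagHom_restrict f hM]
    exact (mem_uni_iff_diagHom _ _).mp (huU p))
  -- the points of U commuting with S
  let F : Set (Fn U) := Set.range fun q : (VecGrp.pt k k ⟶ S) × Fn G =>
    ev ((toPt U ≫ q.1 ≫ iS) * uG) q.2 - ev (uG * (toPt U ≫ q.1 ≫ iS)) q.2
  let H : Subgroup (VecGrp.pt k k ⟶ U) :=
    (Subgroup.centralizer (Set.range fun s : VecGrp.pt k k ⟶ S => s ≫ iS)).comap (pushPt uG)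
  have hH : ∀ p, p ∈ H ↔ ∀ s : VecGrp.pt k k ⟶ S, Commute (s ≫ iS) (p ≫ uG) := fun p => by
    rw [Subgroup.mem_comap, Subgroup.mem_centralizer_iff, Set.forall_mem_range]
    rfl
  obtain ⟨D, _, iD, hDm, hDc, hDs, hDn, hDH, -, ⟨R, hR⟩, -⟩ := exists_connected_subgroup H F fun p => by
    rw [hH, Set.forall_mem_range]
    simp only [map_sub, pullFn_ev, MonObj.comp_mul, ← Category.assoc, comp_toPt, Category.id_comp,
      sub_eq_zero, Prod.forall]
    exact ⟨fun h s f => by rw [(h s).eq], fun h s => pullFn_injective (AlgHom.ext (h s))⟩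
  haveI := hDm; haveI := hDc; haveI := hDs; haveI := hDn
  -- averaging pushes U into the centralizer
  obtain ⟨σ, n, hn0, hσn, hgen⟩ := exists_generic hS iS
  let s := σ ≫ t
  have hsn : s ^ n = 1 := by rw [← MonObj.pow_comp, hσn, MonObj.one_comp]
  have hconj : ∀ (x : VecGrp.pt k k ⟶ B) (p : VecGrp.pt k k ⟶ U),
      ∃ p' : VecGrp.pt k k ⟶ U, p' ≫ f = x * (p ≫ f) * x⁻¹ := fun x p => by
    obtain ⟨p', hp'⟩ := hn _ (x ≫ iB) p
    exact ⟨p', (cancel_mono iB).mp (by
      rw [Category.assoc, hf, ← hp', MonObj.mul_comp, MonObj.mul_comp, GrpObj.inv_comp, Category.assoc, hf])⟩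
  have havg : ∀ (m : ℕ) (p : VecGrp.pt k k ⟶ U), ∃ p' : VecGrp.pt k k ⟶ U, p' ≫ f = avg s m (p ≫ f) := fun m p => by
    induction m with
    | zero => exact ⟨1, MonObj.one_comp f⟩
    | succ m ih =>
      obtain ⟨a, ha⟩ := ih
      obtain ⟨b, hb⟩ := hconj (s ^ m) p
      exact ⟨a * b, by rw [MonObj.mul_comp, ha, hb, avg]⟩
  have havg' : ∀ (j : ℕ) (p : VecGrp.pt k k ⟶ U),
      ∃ p' : VecGrp.pt k k ⟶ U, p' ≫ f = (avg s n)^[j] (p ≫ f) := fun j p => by
    induction j with
    | zero => exact ⟨p, rfl⟩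
    | succ j ih =>
      obtain ⟨a, ha⟩ := ih
      rw [Function.iterate_succ_apply', ← ha]
      exact havg n a
  obtain ⟨Φ, hΦ⟩ := exists_avgHom s n d
  obtain ⟨Ψ, hΨ⟩ := exists_factor_of_points f (f ≫ Φ) fun p => by
    obtain ⟨p', hp'⟩ := havg' d p
    exact ⟨p', by rw [hp', ← Category.assoc, hΦ]⟩
  have hΨp : ∀ p : VecGrp.pt k k ⟶ U, (p ≫ Ψ) ≫ f = (avg s n)^[d] (p ≫ f) := fun p => by
    rw [Category.assoc, hΨ, ← Category.assoc, hΦ]
  have hΨ1 : (1 : VecGrp.pt k k ⟶ U) ≫ Ψ = 1 := (cancel_mono f).mp (by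
    rw [hΨp, MonObj.one_comp, iterate_avg_of_commute (Commute.one_right s), _root_.one_pow])
  have hΨH : ∀ p : VecGrp.pt k k ⟶ U, p ≫ Ψ ∈ H := fun p => (hH _).mpr (hgen _ (by
    have h := (iterate_avg hM hsn (huni p)).map (pushPt iB)
    simp only [pushPt_apply] at h
    rw [← hΨp, Category.assoc (p ≫ Ψ), hf, Category.assoc σ, ht] at h
    exact h))
  have hall : ∀ p ∈ H, ∃ q : VecGrp.pt k k ⟶ D, q ≫ iD = p := fun p hp => by
    have hsp : Commute s (p ≫ f) := by
      show s * (p ≫ f) = (p ≫ f) * s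
      rw [← cancel_mono iB, MonObj.mul_comp, MonObj.mul_comp, Category.assoc, ht, Category.assoc, hf]
      exact ((hH p).mp hp σ).eq
    have hnd : ((n ^ d : ℕ) : k) ≠ 0 := by rw [Nat.cast_pow]; exact pow_ne_zero _ hn0
    obtain ⟨v', -, hv', -⟩ := exists_root hMU hnd (huU p)
    obtain ⟨a, ha, han, hac⟩ := exists_root hM hnd (huni p)
    have hva : Commute a (v' ≫ f) := by
      refine (hac (v' ≫ f) ?_).symm
      rw [← hv', MonObj.pow_comp]
      exact Commute.self_pow _ _
    have hav : v' ≫ f = a := by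
      refine inv_mul_eq_one.mp (eq_one_of_pow_eq_one hM hnd (mul_mem (inv_mem (huni v')) ha) ?_)
      rw [hva.symm.inv_left.mul_pow, _root_.inv_pow, ← MonObj.pow_comp, hv', han, inv_mul_cancel]
    obtain ⟨q, hq⟩ := exists_factor_of_cosets iD R Ψ 1 hΨ1 (fun p => hR _ (hΨH p)) v'
    refine ⟨q, hq.trans ((cancel_mono f).mp ?_)⟩
    rw [hΨp, iterate_avg_of_commute (hav ▸ hac s hsp), ← MonObj.pow_comp, hv']
  -- D maps densely
  haveI : IsAffine D.left := isAffine_of_isAffineHom iD.left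
  haveI : IsReduced D.left := GrpSchLib.isReduced_of_smooth_field D.hom
  haveI : IsReduced (D ⊗ S).left := GrpSchLib.isReduced_pullback_of_perfectField D.hom S.hom
  haveI : LocallyOfFiniteType (D ⊗ S).hom :=
    inferInstanceAs (LocallyOfFiniteType (pullback.fst D.hom S.hom ≫ D.hom))
  have hkey : (fst D S ≫ iD ≫ uG) * (snd D S ≫ iS) = (snd D S ≫ iS) * (fst D S ≫ iD ≫ uG) := by
    refine hom_ext_points fun p => ?_
    simp only [MonObj.comp_mul]
    rw [← Category.assoc, ← Category.assoc (p ≫ fst D S), ← Category.assoc p (snd D S)]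
    exact ((hH _).mp (hDH (p ≫ fst D S)) (p ≫ snd D S)).eq.symm
  obtain ⟨y, hy⟩ := (hc.2.2 D (iD ≫ uG)).mpr fun X' x h => by
    have e := congrArg (lift x h ≫ ·) hkey
    simp only [MonObj.comp_mul, lift_fst_assoc, lift_snd_assoc] at e
    exact e
  let u := hV.lift iD y hy.symm
  haveI : Mono w := MorphismProperty.of_isPullback (P := MorphismProperty.monomorphisms _) hV.flip hc.2.1
  have hpts : ∀ z : VecGrp.pt k k ⟶ V, ∃ p : VecGrp.pt k k ⟶ D, p ≫ u = z := fun z => by
    obtain ⟨p, hp⟩ := hall (z ≫ w) ((hH _).mpr fun s' => by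
      have h := (hc.2.2 _ ((z ≫ v) ≫ c)).mp ⟨z ≫ v, rfl⟩ _ (𝟙 _) s'
      rw [Category.id_comp, Category.assoc z v c, ← hV.w, ← Category.assoc] at h
      exact h.symm)
    exact ⟨p, (cancel_mono w).mp (by rw [Category.assoc, hV.lift_fst, hp])⟩
  have hdense : closure (Set.range u.left) = Set.univ := by
    by_contra hne
    obtain ⟨y, hy⟩ := (Set.ne_univ_iff_exists_notMem _).mp hne
    obtain ⟨z, hz⟩ := exists_point_mem (D := V) isClosed_closure.isOpen_compl ⟨y, hy⟩
    obtain ⟨p, hp⟩ := hpts z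
    refine hz (subset_closure ⟨p.left (IsLocalRing.closedPoint k), ?_⟩)
    rw [← Scheme.Hom.comp_apply, ← Over.comp_left, hp]
  refine connectedSpace_iff_univ.mpr ⟨⟨(η[V] : _ ⟶ V).left (IsLocalRing.closedPoint k), trivial⟩, ?_⟩
  rw [← hdense]
  exact (isPreconnected_range u.left.continuous).closure

/-- The absence of subtori passes to subgroups. -/
theorem hasNoSubtorus_of_mono (w : V ⟶ U) [IsMonHom w] [Mono w] (h : Red.HasNoSubtorus k U) :
    Red.HasNoSubtorus k V := fun T _ j _ _ hT => h T (j ≫ w) hT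

end Groth.Agent.GModLib
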