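import Groth.Agent.GModLib.ReductiveCartan
import Groth.Agent.GModLib.MaxTorusGeomConv
import Groth.Prelude.Def_Par

/-!
# Unipotent radicals over an algebraically closed field
-/

set_option autoImplicit false
set_option backward.isDefEq.respectTransparency false
set_option backward.isDefEq.respectTransparency.types false

universe u

open CategoryTheory Limits AlgebraicGeometry MonoidalCategory CartesianMonoidalCategory MonObj GrpObj

namespace Groth.Agent.GModLib

open GrpSchLib GrpSchLib.Kunneth GrpSchLib.AffineHopf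

variable {k : Type u} [Field k]

/-- A scheme trivial after an isomorphism of the base is trivial. -/
theorem isTrivialGrp_of_bc {K : Type u} [Field K] (σ : Spec (CommRingCat.of K) ⟶ Spec (CommRingCat.of k)) [IsIso σ]
    (S : Over (Spec (CommRingCat.of k))) (h : Red.IsTrivialGrp (Red.bc σ S)) : Red.IsTrivialGrp S := by
  haveI : IsIso (pullback.snd S.hom σ) := h
  haveI : IsIso (pullback.fst S.hom σ ≫ S.hom) := by rw [pullback.condition]; infer_instance
  exact IsIso.of_isIso_comp_left (pullback.fst S.hom σ) S.hom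

variable [IsAlgClosed k]

/-- The absence of subtori is insensitive to an isomorphism of the base. -/
theorem hasNoSubtorus_bc_iff {K : Type u} [Field K] (σ : Spec (CommRingCat.of K) ⟶ Spec (CommRingCat.of k)) [IsIso σ]
    (U : Over (Spec (CommRingCat.of k))) [GrpObj U] :
    Red.HasNoSubtorus k U ↔ Red.HasNoSubtorus K (Red.bc σ U) := by
  constructor
  · intro h S _ j _ _ hS
    let τ := inv σ
    let α : Over.pullback σ ⋙ Over.pullback τ ≅ 𝟭 (Over (Spec (CommRingCat.of k))) :=
      (Over.pullbackComp τ σ).symm ≪≫ eqToIso (congrArg (fun e => Over.pullback e) (IsIso.inv_hom_id σ)) ≪≫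
        Over.pullbackId
    let E : (Over.pullback σ).mapGrp ⋙ (Over.pullback τ).mapGrp ≅ 𝟭 (Grp (Over (Spec (CommRingCat.of k)))) :=
      Functor.mapGrpCompIso.symm ≪≫ Functor.mapGrpNatIso α ≪≫ Functor.mapGrpIdIso
    let a : Red.bc τ (Red.bc σ U) ⟶ U := (E.hom.app (Grp.mk U)).hom.hom
    haveI : IsMonHom a := inferInstanceAs (IsMonHom (E.hom.app (Grp.mk U)).hom.hom)
    haveI : IsIso a := inferInstanceAs (IsIso ((Grp.forget _).map (E.hom.app (Grp.mk U))))
    exact isTrivialGrp_of_bc τ S (h (Red.bc τ S) ((Over.pullback τ).map j ≫ a) (isTorus_bc τ hS))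
  · intro h S _ j _ _ hS
    exact isTrivialGrp_of_bc σ S (h (Red.bc σ S) ((Over.pullback σ).map j) (isTorus_bc σ hS))

/-- The geometric fibre of a connected group is connected, and the absence of subtori is geometric. -/
theorem geomFibre_conn_noSubtorus (U : Over (Spec (CommRingCat.of k))) [GrpObj U] (s : ↥(Spec (CommRingCat.of k))) :
    (ConnectedSpace (Red.geomFibre s U).left ∧
      Red.HasNoSubtorus (AlgebraicClosure ((Spec (CommRingCat.of k)).residueField s)) (Red.geomFibre s U)) ↔
      (ConnectedSpace U.left ∧ Red.HasNoSubtorus k U) := by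
  haveI := isIso_geomPt s
  refine and_congr ?_ (hasNoSubtorus_bc_iff (Red.geomPt s) U).symm
  haveI : IsIso (pullback.fst U.hom (Red.geomPt s)) := inferInstance
  let e : (Red.geomFibre s U).left ≅ U.left := asIso (pullback.fst U.hom (Red.geomPt s))
  exact ⟨fun h => Scheme.homeoOfIso e |>.surjective.connectedSpace (Scheme.homeoOfIso e).continuous,
    fun h => Scheme.homeoOfIso e.symm |>.surjective.connectedSpace (Scheme.homeoOfIso e.symm).continuous⟩

variable {G : Over (Spec (CommRingCat.of k))} [GrpObj G] [IsAffine G.left] [Smooth G.hom] [ConnectedSpace G.left]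

/-- A connected group without subtori is solvable. -/
theorem isSolvableGrp_of_hasNoSubtorus (h : Red.HasNoSubtorus k G) : Red.IsSolvableGrp G := by
  haveI : IsReduced G.left := GrpSchLib.isReduced_of_smooth_field G.hom
  obtain ⟨T, _, iT, hT⟩ := exists_maxTorus G
  haveI := hT.1; haveI := hT.2.1
  have h1 := h T iT hT.2.2.1
  refine isSolvableGrp_centralizer iT hT (𝟙 G) ⟨inferInstance, inferInstance, fun X g => ?_⟩
  refine ⟨fun _ X' x t => ?_, fun _ => ⟨g, Category.comp_id g⟩⟩
  rw [eq_one_of_isTrivialGrp h1 t, MonObj.one_comp, _root_.mul_one, _root_.one_mul]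

/-- In a connected solvable group without subtori all points are unipotent. -/
theorem mem_uni_of_hasNoSubtorus {d : ℕ} {M : Matrix (Fin d) (Fin d) (Fn G)} (hM : IsTriangular M)
    (h : Red.HasNoSubtorus k G) (g : VecGrp.pt k k ⟶ G) : g ∈ uni hM := by
  obtain ⟨T, _, iT, hm, hcl, hT, hfull, -⟩ := exists_fullTorus hM
  haveI := hm; haveI := hcl
  haveI : Mono iT := Over.mono_of_mono_left iT
  obtain ⟨t, ht⟩ := hfull g
  rw [eq_one_of_isTrivialGrp (h T iT hT) t, MonObj.one_comp, map_one] at ht
  exact (mem_uni_iff_diagHom hM g).mpr ht.symm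

/-- Characters of a connected group without subtori are trivial. -/
theorem char_eq_one_of_hasNoSubtorus (h : Red.HasNoSubtorus k G) {ω : Fn G} (hω : IsChar ω)
    (g : VecGrp.pt k k ⟶ G) : pullFn g ω = 1 := by
  obtain ⟨d, M, hM⟩ := exists_triangular (isSolvableGrp_of_hasNoSubtorus h)
  exact char_eq_one_of_uni hM hω (mem_uni_of_hasNoSubtorus hM h g)

/-- A connected solvable group has a unipotent radical. -/
theorem exists_unipotentRadical (hsol : Red.IsSolvableGrp G) :
    ∃ (V : Over (Spec (CommRingCat.of k))) (_ : GrpObj V) (v : V ⟶ G), Par.IsUnipotentRadical v := by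
  classical
  haveI : IsAffineHom G.hom := inferInstance
  haveI : IsReduced G.left := GrpSchLib.isReduced_of_smooth_field G.hom
  obtain ⟨d, M, hM⟩ := exists_triangular hsol
  obtain ⟨V, _, v, hvm, hvc, hVs, hVn, hVuni, -, -, huniv⟩ := exists_connected_subgroup (uni hM)
    (Set.range fun j => M j j - 1) fun g => by
      rw [mem_uni_iff, Set.forall_mem_range]
      exact forall_congr' fun j => by rw [map_sub, map_one, sub_eq_zero]
  haveI := hvm; haveI := hvc; haveI := hVs; haveI := hVn
  haveI : Mono v := Over.mono_of_mono_left v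
  haveI : IsAffine V.left := isAffine_of_isAffineHom v.left
  haveI : IsReduced V.left := GrpSchLib.isReduced_of_smooth_field V.hom
  have hno : Red.HasNoSubtorus k V := by
    intro S _ j _ _ hS
    have h1 := torus_hom_eq_one_of_uni hM hS (j ≫ v) fun s => by rw [← Category.assoc]; exact hVuni _
    exact isTrivialGrp_of_id_eq_one ((cancel_mono (j ≫ v)).mp (by rw [Category.id_comp, MonObj.one_comp, h1]))
  refine ⟨V, inferInstance, v, hvm, hvc, ?_, hVs, inferInstance, fun s =>
    (geomFibre_conn_noSubtorus V s).mpr ⟨hVn, hno⟩, ?_⟩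
  · haveI : IsReduced (G ⊗ V).left := GrpSchLib.isReduced_pullback_of_perfectField G.hom V.hom
    haveI : LocallyOfFiniteType (G ⊗ V).hom :=
      inferInstanceAs (LocallyOfFiniteType (pullback.fst G.hom V.hom ≫ G.hom))
    obtain ⟨m, hm⟩ := exists_factor_of_points v (fst G V * (snd G V ≫ v) * (fst G V)⁻¹) fun p => by
      rw [MonObj.comp_mul, MonObj.comp_mul, GrpObj.comp_inv, ← Category.assoc]
      let g : 𝟙_ (Over (Spec (CommRingCat.of k))) ⟶ G := toPt _ ≫ p ≫ fst G V
      have hg : toUnit (VecGrp.pt k k) ≫ g = p ≫ fst G V := by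
        show _ ≫ toPt _ ≫ p ≫ fst G V = _
        rw [← Category.assoc, toUnit_toPt, Category.id_comp]
      obtain ⟨w, hw⟩ := huniv V (v ≫ inner g) fun q => by
        rw [← Category.assoc, comp_inner, hg]
        exact (uni_normal hM).conj_mem _ (hVuni q) _
      refine ⟨(p ≫ snd G V) ≫ w, ?_⟩
      rw [Category.assoc, hw, ← Category.assoc, comp_inner, hg]
    intro T' g n
    exact ⟨lift g n ≫ m, by
      rw [Category.assoc, hm, MonObj.comp_mul, MonObj.comp_mul, GrpObj.comp_inv, lift_fst, lift_snd_assoc]⟩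
  · intro U _ u _ hu _ hUs hUq hUf
    haveI := hu; haveI := hUs
    haveI : IsAffine U.left := isAffine_of_isAffineHom u.left
    obtain ⟨hUn, hUno⟩ := (geomFibre_conn_noSubtorus U (IsLocalRing.closedPoint k)).mp (hUf _)
    haveI := hUn
    exact huniv U u fun p => (mem_uni_iff_diagHom hM _).mpr (by
      rw [← diagHom_restrict u hM]
      exact (mem_uni_iff_diagHom _ _).mp (mem_uni_of_hasNoSubtorus (isTriangular_restrict u hM) hUno p))

/-- A normal connected subgroup without subtori lies in every Borel subgroup. -/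
theorem normal_noSubtorus_le_borel {U B : Over (Spec (CommRingCat.of k))} [GrpObj U] [GrpObj B] (u : U ⟶ G)
    [IsMonHom u] [IsClosedImmersion u.left] [Smooth U.hom] [ConnectedSpace U.left] (hn : AlgGrp.IsNormalHom u)
    (hno : Red.HasNoSubtorus k U) (iB : B ⟶ G) (hB : Red.IsBorelOver k iB) :
    ∃ f : U ⟶ B, f ≫ iB = u := by
  haveI := hB.1; haveI := hB.2.1; haveI := hB.2.2.1
  haveI : IsAffine U.left := isAffine_of_isAffineHom u.left
  haveI : IsReduced U.left := GrpSchLib.isReduced_of_smooth_field U.hom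
  obtain ⟨g, h, hh⟩ := exists_conj_factor iB (borel_cocompact iB hB) u (isSolvableGrp_of_hasNoSubtorus hno)
  obtain ⟨n', hn'⟩ := hn U (toUnit U ≫ g) (𝟙 U)
  refine ⟨n' ≫ h, ?_⟩
  have e : n' ≫ u = n' ≫ h ≫ iB ≫ inner g := by rw [← hh]
  rw [← hn', Category.id_comp, ← Category.assoc, ← Category.assoc, comp_inner] at e
  exact (mul_left_cancel (mul_right_cancel e)).symm

end Groth.Agent.GModLib
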